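import Groth.Agent.Lib.AlgSt.RepBy
import Groth.Agent.Lib.AlgSp.Rep
import Groth.Agent.Lib.SchDense.Basic
import Groth.Agent.Lib.FibCat.Yoneda
import Groth.Agent.Lib.FibCat.Fp

/-!
# Automorphisms in a stack with separated diagonal agreeing on a dense subscheme
-/

set_option backward.isDefEq.respectTransparency false
set_option backward.isDefEq.respectTransparency.types false

universe u

open CategoryTheory CategoryTheory.Limits AlgebraicGeometry Opposite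

namespace GrothLib.AlgSt

open _root_.AlgSt GrothLib.FibCat

variable {S : Scheme.{u}} {𝒳 : _root_.AlgSt.Cat S}

/-- Two sections of a separated morphism over a scheme agreeing on a dense subscheme agree. -/
theorem sections_eq_of_agree {F : AlgSp.Sp S} {U V : Over S} (π : F ⟶ (AlgSp.yon S).obj U)
    (hπ : AlgSp.IsSeparatedMor π) (j : V ⟶ U) [IsSchemeTheoreticallyDominant j.left]
    (s t : F.obj.obj (op U)) (hs : π.hom.app (op U) s = ⟨𝟙 U⟩) (ht : π.hom.app (op U) t = ⟨𝟙 U⟩)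
    (h : F.obj.map j.op s = F.obj.map j.op t) : s = t := by
  let a := (AlgSp.J S).uliftYonedaEquiv.{u + 1}.symm s
  let b := (AlgSp.J S).uliftYonedaEquiv.{u + 1}.symm t
  have ha : a ≫ π = b ≫ π := by
    apply (AlgSp.J S).uliftYonedaEquiv.{u + 1}.injective
    rw [GrothendieckTopology.uliftYonedaEquiv_comp, GrothendieckTopology.uliftYonedaEquiv_comp,
      Equiv.apply_symm_apply, Equiv.apply_symm_apply, hs, ht]
  have hj : (AlgSp.yon S).map j ≫ a = (AlgSp.yon S).map j ≫ b := by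
    apply (AlgSp.J S).uliftYonedaEquiv.{u + 1}.injective
    rw [← GrothendieckTopology.uliftYonedaEquiv_naturality, ← GrothendieckTopology.uliftYonedaEquiv_naturality,
      Equiv.apply_symm_apply, Equiv.apply_symm_apply, h]
  let g : (AlgSp.yon S).obj U ⟶ pullback π π := pullback.lift a b ha
  have hπ' : AlgSp.RepWith @IsClosedImmersion (pullback.diagonal π) := hπ
  obtain ⟨Z, fst, c, sq⟩ := GrothLib.AlgSp.exists_isPullback_of_representable hπ'.1 g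
  have : IsClosedImmersion c.left := hπ'.2 g fst c sq
  have hw : ((AlgSp.yon S).map j ≫ a) ≫ pullback.diagonal π = (AlgSp.yon S).map j ≫ g := by
    apply pullback.hom_ext
    · simp [g]
    · simp only [g, Category.assoc, pullback.diagonal_snd, pullback.lift_snd, Category.comp_id]
      exact hj
  let l := sq.lift _ _ hw
  obtain ⟨l', hl'⟩ := (AlgSp.yon S).map_surjective l
  have hl : l' ≫ c = j := (AlgSp.yon S).map_injective (by rw [Functor.map_comp, hl']; exact sq.lift_snd _ _ hw)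
  have := GrothLib.SchDense.isIso_of_factor c.left j.left l'.left (by rw [← Over.comp_left, hl])
  have : IsIso ((Over.forget S).map c) := this
  have : IsIso c := isIso_of_reflects_iso c (Over.forget S)
  have hab : a = b := by
    rw [← cancel_epi ((AlgSp.yon S).map c)]
    have h1 := congrArg (fun q => q ≫ pullback.fst π π) sq.w
    have h2 := congrArg (fun q => q ≫ pullback.snd π π) sq.w
    simp only [g, Category.assoc, pullback.diagonal_fst, pullback.diagonal_snd, pullback.lift_fst,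
      pullback.lift_snd, Category.comp_id] at h1 h2
    rw [← h1, ← h2]
  exact (AlgSp.J S).uliftYonedaEquiv.{u + 1}.symm.injective hab

/-- An object of a fibre product over a chart comes from a section of a representing sheaf. -/
theorem exists_section_of_obj {W : BasedCategory.{u, u + 1} (Over S)} {F : AlgSp.Sp S} {e : ofSp F ⥤ᵇ W}
    (he : _root_.FibCat.IsEquivOver e) {U : Over S} (O : W.obj) (hO : W.p.obj O = U) :
    ∃ (s : F.obj.obj (op U)) (i : e.obj ⟨U, s⟩ ≅ O), W.p.IsHomLift (𝟙 U) i.hom := by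
  obtain ⟨⟨V, s⟩, i, hi⟩ := IsEquivOver.essSurj he O
  subst hO
  obtain rfl : V = W.p.obj O := (e.w_obj ⟨V, s⟩).symm.trans (IsHomLift.domain_eq W.p (𝟙 (W.p.obj O)) i.hom)
  exact ⟨s, i, hi⟩

/-- Automorphisms agreeing on a dense subscheme agree, if the diagonal is separated. -/
theorem aut_eq_of_agree (hd : RepByAlgSpWith AlgSp.IsSeparatedMor (_root_.FibCat.diag (_root_.FibCat.toSelf 𝒳)))
    (h𝒳 : _root_.FibCat.IsFibGrpd 𝒳.p) {y y' : 𝒳.obj} (κ : y' ⟶ y)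
    [IsSchemeTheoreticallyDominant (𝒳.p.map κ).left] (a b : y ⟶ y) (ha : 𝒳.p.map a = 𝟙 _)
    (hb : 𝒳.p.map b = 𝟙 _) (h : κ ≫ a = κ ≫ b) : a = b := by
  have hia : 𝒳.p.IsHomLift (𝟙 (𝒳.p.obj y)) a := by rw [← ha]; exact IsHomLift.map 𝒳.p a
  have hib : 𝒳.p.IsHomLift (𝟙 (𝒳.p.obj y)) b := by rw [← hb]; exact IsHomLift.map 𝒳.p b
  obtain ⟨Y, eY, heY⟩ := Yon.exists_functor h𝒳 y (rfl : 𝒳.p.obj y = _)
  let G := BasedFunctor.comp Y (_root_.FibCat.diag (_root_.FibCat.toSelf 𝒳))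
  obtain ⟨F, e, he, hsep⟩ := hd (𝒳.p.obj y) G
  have hfull := IsEquivOver.full he
  let o : (_root_.FibCat.overCat (𝒳.p.obj y)).obj := Yon.idObj (𝒳.p.obj y)
  let D := _root_.FibCat.diag (_root_.FibCat.toSelf 𝒳)
  have h1 : 𝒳.p.map eY.hom = eqToHom (Y.w_obj o) := by
    have := heY
    simpa using IsHomLift.fac' 𝒳.p (𝟙 (𝒳.p.obj y)) eY.hom
  have hwi : ∀ (c : y ⟶ y), 𝒳.p.map c = 𝟙 _ →
      𝒳.p.map eY.hom ≫ 𝟙 _ = 𝟙 _ ≫ 𝒳.p.map (eY.hom ≫ c) := fun c hc => by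
    rw [𝒳.p.map_comp, hc, Category.comp_id, Category.id_comp]
  have := IsFibGrpd.isIso_of_isHomLift_id h𝒳 (R := 𝒳.p.obj y) a
  have := IsFibGrpd.isIso_of_isHomLift_id h𝒳 (R := 𝒳.p.obj y) b
  let Oa : (_root_.FibCat.fp G D).obj := Fp.mk (F := G) (G := D) o y
    (Fp.isoMk (a := G.obj o) (b := D.obj y) eY (eY ≪≫ asIso a) (hwi a ha)) ((Fp.isHomLift_iff _ _).2 heY)
  let Ob : (_root_.FibCat.fp G D).obj := Fp.mk (F := G) (G := D) o y
    (Fp.isoMk (a := G.obj o) (b := D.obj y) eY (eY ≪≫ asIso b) (hwi b hb)) ((Fp.isHomLift_iff _ _).2 heY)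
  obtain ⟨sa, ia, hia'⟩ := exists_section_of_obj he Oa rfl
  obtain ⟨sb, ib, hib'⟩ := exists_section_of_obj he Ob rfl
  have hG := Fp.isFibGrpd (F := G) (G := D) (GrothLib.FibCat.isFibGrpd_overCat (𝒳.p.obj y)) h𝒳
    (Fp.isFibGrpd h𝒳 h𝒳 GrothLib.FibCat.isFibGrpd_selfOver)
  obtain ⟨O', f, hf⟩ := hG.exists_lift (x := Oa) (𝒳.p.map κ)
  have hf2 : 𝒳.p.IsHomLift (𝒳.p.map κ) f.hom.snd := Fp.isHomLift_snd f _ hf
  have hf1 : (_root_.FibCat.overCat (𝒳.p.obj y)).p.IsHomLift (𝒳.p.map κ) f.hom.fst := (Fp.isHomLift_iff f _).1 hf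
  have hY : 𝒳.p.IsHomLift (𝒳.p.map κ) (Y.map f.hom.fst ≫ eY.hom) := by
    have := heY
    exact IsHomLift.comp_lift_id_right' 𝒳.p _ _ (𝒳.p.obj y) _
  obtain ⟨θ, -, hθ⟩ := IsFibGrpd.exists_iso_of_lifts h𝒳 (𝒳.p.map κ) κ (Y.map f.hom.fst ≫ eY.hom)
  have hagree : Y.map f.hom.fst ≫ eY.hom ≫ a = Y.map f.hom.fst ≫ eY.hom ≫ b := by
    rw [← Category.assoc, ← hθ, Category.assoc, h, ← Category.assoc, hθ, Category.assoc]
  have hw := Fp.w f
  let g : O' ⟶ Ob := Fp.homMk f.hom.fst f.hom.snd (by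
    refine Fp.hom_ext ?_ ?_
    · exact congrArg (fun q => q.hom.fst) hw
    · exact hagree.symm.trans (congrArg (fun q => q.hom.snd) hw))
  obtain ⟨s', i', hi'⟩ := exists_section_of_obj he O' (IsHomLift.domain_eq _ (𝒳.p.map κ) f)
  have hrestr : ∀ (s : F.obj.obj.obj (op (𝒳.p.obj y))) (O : (_root_.FibCat.fp G D).obj) (i : e.obj ⟨_, s⟩ ≅ O),
      (_root_.FibCat.fp G D).p.IsHomLift (𝟙 (𝒳.p.obj y)) i.hom → ∀ φ : O' ⟶ O,
      (_root_.FibCat.fp G D).p.IsHomLift (𝒳.p.map κ) φ → F.obj.obj.map (𝒳.p.map κ).op s = s' := by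
    intro s O i hi φ hφ
    have : (_root_.FibCat.fp G D).p.IsHomLift (𝟙 (𝒳.p.obj y)) i.inv := IsHomLift.lift_id_inv _ _ _
    have : (_root_.FibCat.fp G D).p.IsHomLift (𝒳.p.map κ) (φ ≫ i.inv) :=
      IsHomLift.comp_lift_id_right' _ _ _ (𝒳.p.obj y) _
    have : (_root_.FibCat.fp G D).p.IsHomLift (𝒳.p.map κ) (i'.hom ≫ φ ≫ i.inv) :=
      IsHomLift.comp_lift_id_left' _ (𝒳.p.obj y') i'.hom _ _
    obtain ⟨ψ, hψ⟩ := e.toFunctor.map_surjective (i'.hom ≫ φ ≫ i.inv)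
    have hl : (_root_.FibCat.fp G D).p.IsHomLift (𝒳.p.map κ) (e.map ψ) := by rwa [hψ]
    have h2 := (e.isHomLift_iff _ ψ).1 hl
    have h3 : ψ.hom = 𝒳.p.map κ :=
      (IsHomLift.fac' (ofSp F.obj).p (𝒳.p.map κ) ψ).trans ((Category.id_comp _).trans (Category.comp_id _))
    have h4 := ψ.map_sec
    rwa [h3] at h4
  have hsec : ∀ (s : F.obj.obj.obj (op (𝒳.p.obj y))) (O : (_root_.FibCat.fp G D).obj) (i : e.obj ⟨_, s⟩ ≅ O),
      (_root_.FibCat.fp G D).p.IsHomLift (𝟙 (𝒳.p.obj y)) i.hom → O.obj.fst = o →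
      (spMapOfOver (BasedFunctor.comp e (_root_.FibCat.fpFst G D))).hom.app (op (𝒳.p.obj y)) s = ⟨𝟙 _⟩ := by
    intro s O i hi hOo
    rw [spMapOfOver_app]
    refine congrArg ULift.up ?_
    have hl := (Fp.isHomLift_iff i.hom _).1 hi
    have hw' : i.hom.hom.fst.left ≫ O.obj.fst.hom = (e.obj ⟨_, s⟩).obj.fst.hom := Over.w i.hom.hom.fst
    have hlf := IsHomLift.fac' (_root_.FibCat.overCat (𝒳.p.obj y)).p (𝟙 (𝒳.p.obj y)) i.hom.hom.fst
    change eqToHom _ ≫ ((e.obj ⟨_, s⟩).obj.fst).hom = 𝟙 _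
    obtain ⟨⟨O1, O2, Oi⟩, hO⟩ := O
    obtain rfl : O1 = o := hOo
    simp only at hw' hlf
    rw [← hw', show i.hom.hom.fst.left = _ from hlf]
    simp [o, Yon.idObj]
  have e1 : sa = sb := sections_eq_of_agree _ hsep (𝒳.p.map κ) sa sb (hsec sa Oa ia hia' rfl) (hsec sb Ob ib hib' rfl)
    ((hrestr sa Oa ia hia' f hf).trans (hrestr sb Ob ib hib' g ((Fp.isHomLift_iff g _).2 hf1)).symm)
  subst e1
  have : (_root_.FibCat.fp G D).p.IsHomLift (𝟙 (𝒳.p.obj y)) ia.inv :=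
    @GrothLib.FibCat.isHomLift_id_inv _ _ _ _ (_root_.FibCat.fp G D).p (𝒳.p.obj y) _ _ ia hia'
  let φ : Oa ⟶ Ob := ia.inv ≫ ib.hom
  have hφ : (_root_.FibCat.fp G D).p.IsHomLift (𝟙 (𝒳.p.obj y)) φ :=
    @IsHomLift.comp_lift_id_left' _ _ _ _ (_root_.FibCat.fp G D).p _ _ _ (𝒳.p.obj y) ia.inv this _ _
      (𝟙 (𝒳.p.obj y)) ib.hom hib'
  have hφ1 : φ.hom.fst = 𝟙 o := by
    have := (Fp.isHomLift_iff φ _).1 hφ
    refine Over.OverMorphism.ext ?_
    exact (IsHomLift.fac' (_root_.FibCat.overCat (𝒳.p.obj y)).p (𝟙 (𝒳.p.obj y)) φ.hom.fst).trans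
      ((Category.id_comp _).trans (Category.comp_id _))
  have hwφ := Fp.w φ
  have k1 : Y.map φ.hom.fst ≫ eY.hom = eY.hom ≫ φ.hom.snd := congrArg (fun q => q.hom.fst) hwφ
  have k2 : Y.map φ.hom.fst ≫ eY.hom ≫ b = (eY.hom ≫ a) ≫ φ.hom.snd := congrArg (fun q => q.hom.snd) hwφ
  rw [hφ1] at k1 k2
  erw [Y.map_id, Category.id_comp] at k1 k2
  have hμ : φ.hom.snd = 𝟙 y := (cancel_epi eY.hom).1 (k1.symm.trans (Category.comp_id _).symm)
  rw [hμ, Category.comp_id] at k2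
  exact ((cancel_epi eY.hom).1 k2).symm

end GrothLib.AlgSt
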