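import Groth.Agent.Lib.AlgSp.Space
import Mathlib.CategoryTheory.Limits.Types.Pullbacks

/-!
# Presheaves over an algebraic space whose base changes to schemes are algebraic spaces
-/

set_option backward.isDefEq.respectTransparency false
set_option backward.isDefEq.respectTransparency.types false

universe u

open CategoryTheory CategoryTheory.Limits AlgebraicGeometry Opposite

namespace GrothLib.AlgSt

open _root_.AlgSp

variable {S : Scheme.{u}}

/-- A presheaf over a sheaf whose pullbacks along maps from schemes are sheaves is a sheaf. -/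
theorem isSheaf_of_forall_pullback {P : (Over S)ᵒᵖ ⥤ Type (u + 1)} {G : Sp S} (a : P ⟶ G.obj)
    (h : ∀ (U : Over S) (y : (yon S).obj U ⟶ G), ∃ (L : Sp S) (fst : L.obj ⟶ ((yon S).obj U).obj)
      (snd : L.obj ⟶ P), IsPullback fst snd y.hom a) : Presheaf.IsSheaf (J S) P := by
  rw [isSheaf_iff_isSheaf_of_type]
  intro U R hR x hx
  have hG := (isSheaf_iff_isSheaf_of_type _ _).1 G.property R hR
  have hGs := hG.isSeparatedFor
  have hU := ((isSheaf_iff_isSheaf_of_type _ _).1 ((yon S).obj U).property R hR).isSeparatedFor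
  let xG : Presieve.FamilyOfElements G.obj R.arrows := x.map a
  obtain ⟨y₀, hy₀, -⟩ := hG xG (hx.map a)
  let y : (yon S).obj U ⟶ G := (J S).uliftYonedaEquiv.{u + 1}.symm y₀
  have hy : ∀ {V : Over S} (f : V ⟶ U), y.hom.app (op V) ⟨f⟩ = G.obj.map f.op y₀ := fun f => rfl
  obtain ⟨L, fst, snd, sq⟩ := h U y
  have hT : ∀ T : Over S, IsPullback (fst.app (op T)) (snd.app (op T)) (y.hom.app (op T)) (a.app (op T)) :=
    fun T => Functor.map_isPullback ((CategoryTheory.evaluation _ (Type (u + 1))).obj (op T)) sq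
  have hLs := (isSheaf_iff_isSheaf_of_type _ _).1 L.property R hR
  have hl : ∀ ⦃V : Over S⦄ (f : V ⟶ U), R.arrows f → ∀ (hf : R.arrows f),
      ∃ l : L.obj.obj (op V), fst.app (op V) l = ⟨f⟩ ∧ snd.app (op V) l = x f hf := fun V f _ hf => by
    refine Types.exists_of_isPullback (hT V) ⟨f⟩ (x f hf) ?_
    rw [hy, hy₀ f hf]
    rfl
  choose l hl1 hl2 using hl
  let lF : Presieve.FamilyOfElements L.obj R.arrows := fun V f hf => l f hf hf
  have hlF : lF.Compatible := fun Y₁ Y₂ Z g₁ g₂ f₁ f₂ h₁ h₂ e => by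
    refine Types.ext_of_isPullback (hT Z) ?_ ?_
    · rw [NatTrans.naturality_apply, NatTrans.naturality_apply, hl1, hl1]
      exact congrArg ULift.up e
    · rw [NatTrans.naturality_apply, NatTrans.naturality_apply, hl2, hl2]
      exact hx g₁ g₂ h₁ h₂ e
  obtain ⟨l₀, hl₀, -⟩ := hLs lF hlF
  refine ⟨snd.app (op U) l₀, fun V f hf => ?_, fun t ht => ?_⟩
  · rw [← NatTrans.naturality_apply, hl₀ f hf]
    exact hl2 f hf hf
  · have hat : a.app (op U) t = y₀ := hGs xG _ _ (fun V f hf => by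
      rw [← NatTrans.naturality_apply, ht f hf]; rfl) hy₀
    obtain ⟨lt, hlt1, hlt2⟩ := Types.exists_of_isPullback (hT U) ⟨𝟙 U⟩ t (by
      rw [hy]; simp [hat])
    rw [← hlt2]
    congr 1
    refine hLs.isSeparatedFor lF _ _ (fun V f hf => ?_) hl₀
    refine Types.ext_of_isPullback (hT V) ?_ ?_
    · rw [NatTrans.naturality_apply, hlt1]
      exact (congrArg ULift.up (Category.comp_id f)).trans (hl1 f hf hf).symm
    · rw [NatTrans.naturality_apply, hlt2, ht f hf]
      exact (hl2 f hf hf).symm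

/-- A sheaf over an algebraic space whose pullbacks along maps from schemes are algebraic spaces
is an algebraic space. -/
theorem isAlgSpace_of_forall_pullback {Q Z : Sp S} (hZ : IsAlgSpace Z) (a : Q ⟶ Z)
    (h : ∀ (U : Over S) (g : (yon S).obj U ⟶ Z), IsAlgSpace (pullback g a)) : IsAlgSpace Q := by
  refine ⟨GrothLib.AlgSp.representable_diag_iff.2 fun T p T' q => ?_, ?_⟩
  · obtain ⟨W, w₁, w₂, hW⟩ := GrothLib.AlgSp.exists_isPullback_yon hZ.diag (p ≫ a) (q ≫ a)
    let c := (yon S).map w₁ ≫ p ≫ a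
    let s : (yon S).obj W ⟶ pullback c a := pullback.lift (𝟙 _) ((yon S).map w₁ ≫ p) (by simp [c])
    let t : (yon S).obj W ⟶ pullback c a := pullback.lift (𝟙 _) ((yon S).map w₂ ≫ q) (by simp [c, hW.w])
    obtain ⟨E, e₁, e₂, hE⟩ := GrothLib.AlgSp.exists_isPullback_yon (h W c).diag s t
    have he : (yon S).map e₁ = (yon S).map e₂ := by
      simpa [s, t] using congrArg (fun x => x ≫ pullback.fst c a) hE.w
    refine ⟨E, e₁ ≫ w₂, (yon S).map (e₁ ≫ w₁), ?_⟩
    refine GrothLib.AlgSp.isPullback_of_yon ?_ fun A u v huv => ?_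
    · have := congrArg (fun x => x ≫ pullback.snd c a) hE.w
      simp only [s, t, Category.assoc, pullback.lift_snd] at this
      rw [Functor.map_comp, Functor.map_comp, Category.assoc, Category.assoc, this, he]
    · have hu : u ≫ p ≫ a = v ≫ q ≫ a := by rw [reassoc_of% huv]
      let m := hW.lift u v hu
      have hm : m ≫ s = m ≫ t := by
        apply pullback.hom_ext
        · simp [s, t]
        · simpa [s, t, m] using huv
      refine ⟨hE.lift m m hm, ⟨by simp [m], by simp [m]⟩, fun d ⟨hd₁, hd₂⟩ => hE.hom_ext ?_ ?_⟩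
      · rw [hE.lift_fst]
        apply hW.hom_ext <;> simp only [m, hW.lift_fst, hW.lift_snd, Category.assoc]
        · rw [← Functor.map_comp]; exact hd₁
        · rw [← Functor.map_comp]; exact hd₂
      · rw [hE.lift_snd, ← he]
        apply hW.hom_ext <;> simp only [m, hW.lift_fst, hW.lift_snd, Category.assoc]
        · rw [← Functor.map_comp]; exact hd₁
        · rw [← Functor.map_comp]; exact hd₂
  · obtain ⟨U, p, pe, ps⟩ := hZ.atlas
    obtain ⟨V, r, re, rs⟩ := (h U p).atlas
    have sq : IsPullback (pullback.snd p a) (pullback.fst p a) a p := (IsPullback.of_hasPullback p a).flip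
    exact ⟨V, r ≫ pullback.snd p a,
      GrothLib.AlgSp.repWith_comp re (GrothLib.AlgSp.repWith_of_isPullback sq.flip pe),
      GrothLib.AlgSp.repWith_comp rs (GrothLib.AlgSp.repWith_of_isPullback sq.flip ps)⟩

/-- Presheaf version of `isAlgSpace_of_forall_pullback`. -/
theorem exists_space_of_forall_pullback {P : (Over S)ᵒᵖ ⥤ Type (u + 1)} {Z : Sp S} (hZ : IsAlgSpace Z)
    (a : P ⟶ Z.obj)
    (h : ∀ (U : Over S) (y : (yon S).obj U ⟶ Z), ∃ (L : Sp S) (fst : L.obj ⟶ ((yon S).obj U).obj)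
      (snd : L.obj ⟶ P), IsAlgSpace L ∧ IsPullback fst snd y.hom a) :
    ∃ hP : Presheaf.IsSheaf (J S) P, IsAlgSpace (⟨P, hP⟩ : Sp S) := by
  have hP := isSheaf_of_forall_pullback a fun U y =>
    let ⟨L, fst, snd, _, sq⟩ := h U y
    ⟨L, fst, snd, sq⟩
  let Q : Sp S := ⟨P, hP⟩
  let a' : Q ⟶ Z := ObjectProperty.homMk a
  refine ⟨hP, isAlgSpace_of_forall_pullback hZ a' fun U y => ?_⟩
  obtain ⟨L, fst, snd, hL, sq⟩ := h U y
  have sq' : IsPullback (ObjectProperty.homMk fst : L ⟶ (yon S).obj U) (ObjectProperty.homMk snd : L ⟶ Q) y a' :=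
    IsPullback.of_map (sheafToPresheaf _ _) (ObjectProperty.hom_ext _ sq.w) sq
  exact hL.of_iso sq'.isoPullback

end GrothLib.AlgSt
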