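import Groth.Agent.Lib.AlgSt.QuasiAffineDiag
import Groth.Agent.Lib.AlgSp.FppfCover
import Groth.Agent.Lib.AffDiag22.Basic
import Groth.Agent.Lib.Chev28.IrredDim
import Groth.Agent.S1607

/-!
# Affine diagonals from affine flat covers by curves
-/

set_option backward.isDefEq.respectTransparency false
set_option backward.isDefEq.respectTransparency.types false
set_option autoImplicit false

universe u

open CategoryTheory CategoryTheory.Limits AlgebraicGeometry Opposite MonoidalCategory CartesianMonoidalCategory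

namespace GrothLib.AlgSt.AffDiagFlat

open _root_.AlgSt GrothLib.FibCat GrothLib.AlgSt GrothLib.AlgSt.QA

variable {S : Scheme.{u}}

/-- Intersections of affine opens of a Noetherian scheme of dimension at most one are affine. -/
theorem isAffineHom_diagonal_of_dim_le_one {X Y : Scheme.{u}} (f : X ⟶ Y) [IsNoetherian X]
    (hdim : topologicalKrullDim X ≤ 1) : IsAffineHom (pullback.diagonal f) := by
  rw [isAffineHom_diagonal_iff]
  intro W _ V₁ _ V₂ _ h₁ _
  haveI : IsAffine V₁.toScheme := h₁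
  have hd : ∀ x : V₁.toScheme, IsNoetherianRing (V₁.toScheme.presheaf.stalk x) ∧
      ringKrullDim (V₁.toScheme.presheaf.stalk x) ≤ 1 := fun x =>
    ⟨inferInstance, by
      rw [ringKrullDim_eq_of_ringEquiv (V₁.stalkIso x).commRingCatIsoToRingEquiv]
      exact (Chev28.dim_stalk_le_dim _).trans hdim⟩
  haveI : TopologicalSpace.NoetherianSpace V₁.toScheme :=
    V₁.ι.isOpenEmbedding.isInducing.noetherianSpace
  have h := Groth.Agent.S1607.result V₁.toScheme hd (V₁.ι ⁻¹ᵁ V₂) (TopologicalSpace.NoetherianSpace.isCompact _)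
  have h' := h.image_of_isOpenImmersion V₁.ι
  rwa [Scheme.Hom.image_preimage_eq_opensRange_inf, Scheme.Opens.opensRange_ι] at h'

theorem isoInvariant_affine : IsoInvariant (AlgSp.IsAffineMor (S := S)) := fun F F' G hF hG φ _ a ha => by
  intro Z hZ g
  obtain ⟨W, i, fst, sq, hW⟩ := ha hZ g
  exact ⟨W, i, fst ≫ inv φ, sq.of_iso (Iso.refl _) (asIso φ).symm (Iso.refl _) (Iso.refl _)
    (by simp) (by simp) (by simp) (by simp), hW⟩

variable {𝒳 : _root_.AlgSt.Cat S}

/-- Points lift, after an affine faithfully flat base change, to an affine faithfully flat chart. -/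
theorem exists_flat_lift {U Z : Over S} [IsAffine Z.left] (y : _root_.FibCat.overCat Z ⥤ᵇ 𝒳)
    (u : _root_.FibCat.overCat U ⥤ᵇ 𝒳) (hua : RepByAlgSpWith AlgSp.IsAffineMor u)
    (huf : RepByAlgSpWith (AlgSp.LocP @Flat) u) (hus : RepByAlgSpWith AlgSp.IsSurjectiveMor u) :
    ∃ (W : Over S) (c : W ⟶ Z) (l : W ⟶ U), IsAffine W.left ∧ Flat c.left ∧ Surjective c.left ∧
      Nonempty (BasedFunctor.comp (GrothLib.FibCat.overMap c) y ≅ BasedFunctor.comp (GrothLib.FibCat.overMap l) u) := by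
  obtain ⟨F, e, he, ha, hsu⟩ := repByAlgSpWith_inf isoInvariant_affine hua hus Z y
  have hfl := HasRep.mem (huf Z y) isoInvariant_locP F e he
  let a := spMapOfOver (BasedFunctor.comp e (_root_.FibCat.fpFst y u))
  obtain ⟨W, i, q, sq, hW⟩ := ha (Z := Z) ‹_› (𝟙 _)
  have : IsIso q := sq.isIso_fst_of_isIso
  let L := BasedFunctor.comp (ofOverCat W) (BasedFunctor.comp (ofSpMap q) e)
  let k₁ := BasedFunctor.comp L (_root_.FibCat.fpFst y u)
  let k₂ := BasedFunctor.comp L (_root_.FibCat.fpSnd y u)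
  have hk : (AlgSp.yon S).map (sliceHom k₁) = q ≫ a := by
    rw [← spMapOfOver_overMap, ← spMapOfOver_congr (whiskerLeftIso (toOverCat W) (isoOverMap k₁))]
    refine (spMapOfOver_congr (whiskerRightIso (toOverCatCompIso W)
      (BasedFunctor.comp (ofSpMap q) (BasedFunctor.comp e (_root_.FibCat.fpFst y u))))).trans ?_
    refine (spMapOfOver_comp (ofSpMap q) (BasedFunctor.comp e (_root_.FibCat.fpFst y u))).trans ?_
    rw [spHom_ofSpMap]
  refine ⟨W, sliceHom k₁, sliceHom k₂, hW, ?_, ?_, ⟨?_⟩⟩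
  · exact GrothLib.AlgSp.locP_yon_map (P := @Flat)
      (hk ▸ isoInvariant_locP F.property (AlgSp.IsAlgSpace.yon_obj Z) q a hfl)
  · refine ⟨fun x => ?_⟩
    obtain ⟨z, hz⟩ := hsu (AlgSp.Points.schemeHomeo Z x)
    obtain ⟨v, rfl⟩ := GrothLib.AlgSp.surjective_map_of_repWith (GrothLib.AlgSp.repWith_iso (P := @Surjective) q) z
    obtain ⟨v, rfl⟩ := (AlgSp.Points.schemeHomeo W).surjective v
    rw [← AlgSp.Points.map_comp, ← hk, AlgSp.Points.map_yon_map_apply] at hz
    exact ⟨v, (AlgSp.Points.schemeHomeo Z).injective hz⟩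
  · exact (whiskerRightIso (isoOverMap k₁) y).symm ≪≫ whiskerLeftIso L (_root_.FibCat.fpIso y u) ≪≫
      whiskerRightIso (isoOverMap k₂) u

/-- The pair of the chart with itself is affine when the chart has affine diagonal over the base. -/
theorem repByAlgSpWith_fpToFp_self (h𝒳 : IsAlgStack Scheme.fppfPrecoverage 𝒳) {U : Over S}
    [IsAffineHom (pullback.diagonal U.hom)]
    (u : _root_.FibCat.overCat U ⥤ᵇ 𝒳) (hua : RepByAlgSpWith AlgSp.IsAffineMor u) :
    RepByAlgSpWith AlgSp.IsAffineMor (fpToFp u u (_root_.FibCat.toSelf 𝒳)) := by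
  let t := _root_.FibCat.toSelf 𝒳
  obtain ⟨F, e, he, ha⟩ := hua U u
  obtain ⟨hrep, ha'⟩ := GrothLib.AlgSp.isAffineMor_iff.1 ha
  obtain ⟨R, q, i, sq⟩ := GrothLib.AlgSp.exists_isPullback_of_representable hrep (𝟙 ((AlgSp.yon S).obj U))
  have : IsIso q := sq.isIso_fst_of_isIso
  have hi : IsAffineHom i.left := ha' _ _ _ sq
  let E := prodToFp (BasedFunctor.comp u t) (BasedFunctor.comp u t)
  have hE := isEquivOver_prodToFp (BasedFunctor.comp u t) (BasedFunctor.comp u t)
  obtain ⟨E', hE', ⟨η⟩, ⟨ε⟩⟩ := IsEquivOver.symm hE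
  let Ψ := BasedFunctor.comp (BasedFunctor.comp e (fpToFp u u t)) E'
  let m := spMapOfOver Ψ
  let j : BasedFunctor.comp (ofSpMap m) (BasedFunctor.comp (toOverCat (U ⊗ U)) E) ≅
      BasedFunctor.comp e (fpToFp u u t) :=
    whiskerRightIso (isoOfSpMapOfOver Ψ).symm E ≪≫ whiskerLeftIso (BasedFunctor.comp e (fpToFp u u t)) ε
  have hm : m ≫ (AlgSp.yon S).map (fst U U) = spMapOfOver (BasedFunctor.comp e (_root_.FibCat.fpFst u u)) := by
    rw [← spMapOfOver_overMap, ← spMapOfOver_ofSpMap_comp]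
    exact spMapOfOver_congr (whiskerRightIso j (_root_.FibCat.fpFst (BasedFunctor.comp u t) (BasedFunctor.comp u t)))
  obtain ⟨h, hh⟩ := (AlgSp.yon S).map_surjective (q ≫ m)
  have hfst : h ≫ fst U U = i := (AlgSp.yon S).map_injective (by
    rw [Functor.map_comp, hh, Category.assoc, hm, sq.w, Category.comp_id])
  have hha : IsAffineHom h.left := by
    haveI : MorphismProperty.HasOfPostcompProperty @IsAffineHom (MorphismProperty.diagonal @IsAffineHom) :=
      MorphismProperty.hasOfPostcompProperty_iff_le_diagonal.mpr le_rfl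
    refine MorphismProperty.of_postcomp (W := @IsAffineHom) (W' := MorphismProperty.diagonal @IsAffineHom)
      h.left (fst U U).left ?_ ?_
    · exact AffDiag22.affineDiag_of_isPullback (IsPullback.of_hasPullback U.hom U.hom).flip
    · rw [← Over.comp_left, hfst]; exact hi
  have hmem : AlgSp.RepWith @IsAffineHom m := by
    have := isoInvariant_affine (S := S) (AlgSp.IsAlgSpace.yon_obj R) (AlgSp.IsAlgSpace.yon_obj _) (inv q)
      _ (GrothLib.AlgSp.isAffineMor_iff.2 ((AlgSp.repWith_yon_map_iff _ _).2 hha))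
    rw [hh, IsIso.inv_hom_id_assoc] at this
    exact GrothLib.AlgSp.isAffineMor_iff.1 this
  rw [repByAlgSpWith_iff_of_square (f := fpToFp u u t) (f' := ofSpMap m) e
    (BasedFunctor.comp (toOverCat (U ⊗ U)) E) he (IsEquivOver.comp (isEquivOver_toOverCat _) hE) j]
  exact repByAlgSpWith_ofSpMap F.property (AlgSp.IsAlgSpace.yon_obj _) _ fun T c =>
    GrothLib.AlgSp.isAffineMor_iff.2 (GrothLib.AlgSp.repWith_of_isPullback (IsPullback.of_hasPullback c m).flip hmem)

/-- The diagonal is affine if the stack has an affine faithfully flat chart with affine diagonal over the base. -/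
theorem repByAlgSpWith_diag_affine (h𝒳 : IsAlgStack Scheme.fppfPrecoverage 𝒳) {U : Over S}
    [IsAffineHom (pullback.diagonal U.hom)]
    (u : _root_.FibCat.overCat U ⥤ᵇ 𝒳) (hua : RepByAlgSpWith AlgSp.IsAffineMor u)
    (huf : RepByAlgSpWith (AlgSp.LocP @Flat) u) (hus : RepByAlgSpWith AlgSp.IsSurjectiveMor u) :
    RepByAlgSpWith AlgSp.IsAffineMor (_root_.FibCat.diag (_root_.FibCat.toSelf 𝒳)) := by
  intro T y
  let t := _root_.FibCat.toSelf 𝒳
  obtain ⟨F, e, he⟩ := h𝒳.diag T y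
  let a := spMapOfOver (BasedFunctor.comp e (_root_.FibCat.fpFst y (_root_.FibCat.diag t)))
  refine ⟨F, e, he, GrothLib.AlgSp.isAffineMor_iff.2 (GrothLib.AlgSp.repWith_of_fpqcLoc_affine (fun _ _ k h => h)
    F.property (AlgSp.IsAlgSpace.yon_obj T) fun Z hZ g => ?_)⟩
  obtain ⟨g, rfl⟩ := (AlgSp.yon S).map_surjective g
  let y₁ := BasedFunctor.comp y (_root_.FibCat.fpFst t t)
  let y₂ := BasedFunctor.comp y (_root_.FibCat.fpSnd t t)
  obtain ⟨W₁, c₁, l₁, hW₁, hc₁, hc₁s, ⟨j₁⟩⟩ :=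
    exists_flat_lift (BasedFunctor.comp (GrothLib.FibCat.overMap g) y₁) u hua huf hus
  obtain ⟨W, c₂, l₂, hW, hc₂, hc₂s, ⟨j₂⟩⟩ :=
    exists_flat_lift (BasedFunctor.comp (GrothLib.FibCat.overMap (c₁ ≫ g)) y₂) u hua huf hus
  let c := c₂ ≫ c₁
  have hcf : Flat c.left := by rw [Over.comp_left]; infer_instance
  have hcs : Surjective c.left := by rw [Over.comp_left]; infer_instance
  refine ⟨1, fun _ => W, fun _ => c, fun _ => hW, fun _ => hcf, fun z => ⟨0, hcs.surj z⟩,
    fun _ P p₁ p₂ sq => ?_⟩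
  let d := c ≫ g
  rw [← Functor.map_comp] at sq
  let a₁ := c₂ ≫ l₁
  let k₁ : BasedFunctor.comp (GrothLib.FibCat.overMap d) y₁ ≅ BasedFunctor.comp (GrothLib.FibCat.overMap a₁) u :=
    (whiskerRightIso (overMapCompIso c g) y₁).symm ≪≫
      ((whiskerRightIso (overMapCompIso c₂ c₁) (BasedFunctor.comp (GrothLib.FibCat.overMap g) y₁)).symm ≪≫
        whiskerLeftIso (GrothLib.FibCat.overMap c₂) j₁ ≪≫ whiskerRightIso (overMapCompIso c₂ l₁) u)
  let k₂ : BasedFunctor.comp (GrothLib.FibCat.overMap d) y₂ ≅ BasedFunctor.comp (GrothLib.FibCat.overMap l₂) u :=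
    whiskerRightIso (eqToIso (congrArg GrothLib.FibCat.overMap (show d = c₂ ≫ c₁ ≫ g from Category.assoc _ _ _))) y₂ ≪≫
      (whiskerRightIso (overMapCompIso c₂ (c₁ ≫ g)) y₂).symm ≪≫ j₂
  let κ : BasedFunctor.comp (GrothLib.FibCat.overMap a₁) (BasedFunctor.comp u t) ≅
      BasedFunctor.comp (GrothLib.FibCat.overMap l₂) (BasedFunctor.comp u t) :=
    (whiskerRightIso k₁ t).symm ≪≫
      whiskerLeftIso (BasedFunctor.comp (GrothLib.FibCat.overMap d) y) (_root_.FibCat.fpIso t t) ≪≫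
      whiskerRightIso k₂ t
  let y' := _root_.FibCat.fpLift (GrothLib.FibCat.overMap a₁) (GrothLib.FibCat.overMap l₂) κ
  let yc := BasedFunctor.comp (GrothLib.FibCat.overMap d) y
  let jy : BasedFunctor.comp y' (fpPair u u t) ≅ yc :=
    natIsoOfComponents
      (fun o => Fp.isoMk (a := (fpPair u u t).obj (y'.obj o)) (b := yc.obj o)
        (((BasedNatTrans.forgetful _ _).mapIso k₁).app o).symm
        (((BasedNatTrans.forgetful _ _).mapIso k₂).app o).symm (by
          have h2 : k₂.hom.app o ≫ k₂.inv.app o = 𝟙 _ := congrArg (fun s => s.app o) k₂.hom_inv_id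
          change t.map (k₁.inv.app o) ≫ (yc.obj o).obj.iso.hom =
            (t.map (k₁.inv.app o) ≫ (yc.obj o).obj.iso.hom ≫ t.map (k₂.hom.app o)) ≫ t.map (k₂.inv.app o)
          rw [Category.assoc, Category.assoc, ← t.map_comp, h2]
          exact (congrArg (t.map (k₁.inv.app o) ≫ ·)
            ((congrArg ((yc.obj o).obj.iso.hom ≫ ·) (t.map_id _)).trans (Category.comp_id _))).symm))
      (fun o => (Fp.isHomLift_iff _ _).2
        (BasedNatTrans.isHomLift k₁.inv ((GrothLib.FibCat.overMap a₁).w_obj o).symm))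
      (fun {_ _} φ => Fp.hom_ext (k₁.inv.toNatTrans.naturality φ) (k₂.inv.toNatTrans.naturality φ))
  have hpair := (repByAlgSpWith_fpToFp_iff h𝒳.isStack.1 u u).1 (repByAlgSpWith_fpToFp_self h𝒳 u hua)
  have hrep : HasRep AlgSp.IsAffineMor (_root_.FibCat.fpFst yc (_root_.FibCat.diag t)) :=
    HasRep.of_equiv (BasedFunctor.comp (Fp.paste (_root_.FibCat.diag t) (fpPair u u t) y')
        (Fp.congr jy (Iso.refl (_root_.FibCat.diag t))))
      (IsEquivOver.comp (Fp.isEquivOver_paste (_root_.FibCat.diag t) (fpPair u u t) y')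
        (Fp.isEquivOver_congr jy (Iso.refl _))) (Iso.refl _) (hpair _ y')
  obtain ⟨ic⟩ := iso_toOverCat_overMap d
  have := IsEquivOver.full (isEquivOver_toOverCat T)
  have := IsEquivOver.faithful (isEquivOver_toOverCat T)
  let M := Fp.map (F := ofSpMap ((AlgSp.yon S).map d)) (G := ofSpMap a) (toOverCat W) e (toOverCat T) ic
    (isoOfSpMapOfOver (BasedFunctor.comp e (_root_.FibCat.fpFst y (_root_.FibCat.diag t))))
  let E := BasedFunctor.comp (spToFp sq.flip.w)
    (BasedFunctor.comp M (Fp.paste (_root_.FibCat.diag t) y (GrothLib.FibCat.overMap d)))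
  have hE : _root_.FibCat.IsEquivOver E := IsEquivOver.comp (isEquivOver_spToFp sq.flip) (IsEquivOver.comp
    (Fp.isEquivOver_map _ _ _ _ _ (isEquivOver_toOverCat W) he)
    (Fp.isEquivOver_paste (_root_.FibCat.diag t) y (GrothLib.FibCat.overMap d)))
  exact GrothLib.AlgSp.isAffineMor_iff.1 (spMapOfOver_toOverCat p₂ ▸ hrep.mem isoInvariant_affine
    ⟨P, GrothLib.AlgSp.isAlgSpace_pullback (AlgSp.IsAlgSpace.yon_obj T).diag F.property (AlgSp.IsAlgSpace.yon_obj W) sq⟩
    E hE)

end GrothLib.AlgSt.AffDiagFlat
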