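import Groth.Agent.Lib.AlgSt.RepBy
import Groth.Agent.Lib.AlgSt.SpaceLemmas
import Groth.Agent.Lib.AlgSp.Points
import Groth.Prelude.Def_AlgSpCov

/-!
# Fibre products with algebraic spaces, faithfulness, composition
-/

set_option backward.isDefEq.respectTransparency false
set_option backward.isDefEq.respectTransparency.types false

universe v₅ u₅ v₄ u₄ v₃ u₃ v₂ u₂ u

open CategoryTheory CategoryTheory.Limits AlgebraicGeometry Opposite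

namespace GrothLib.AlgSt

open _root_.AlgSt GrothLib.FibCat

variable {S : Scheme.{u}}

/-- The category of a fibre product of sheaves as a 2-fibre product. -/
def spToFp {L F G H : AlgSp.Sp S} {fst : L ⟶ F} {snd : L ⟶ G} {a : F ⟶ H} {b : G ⟶ H}
    (w : fst ≫ a = snd ≫ b) : ofSp L ⥤ᵇ _root_.FibCat.fp (ofSpMap a) (ofSpMap b) :=
  pshToFp (congrArg (fun t => t.hom) w : fst.hom ≫ a.hom = snd.hom ≫ b.hom)

theorem spToFp_fst {L F G H : AlgSp.Sp S} {fst : L ⟶ F} {snd : L ⟶ G} {a : F ⟶ H} {b : G ⟶ H}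
    (w : fst ≫ a = snd ≫ b) : BasedFunctor.comp (spToFp w) (_root_.FibCat.fpFst _ _) = ofSpMap fst := rfl

theorem isEquivOver_spToFp {L F G H : AlgSp.Sp S} {fst : L ⟶ F} {snd : L ⟶ G} {a : F ⟶ H} {b : G ⟶ H}
    (sq : IsPullback fst snd a b) : _root_.FibCat.IsEquivOver (spToFp sq.w) :=
  isEquivOver_pshToFp (sq.map (sheafToPresheaf _ _))

section Rep

variable {𝒳 : BasedCategory.{v₂, u₂} (Over S)} {𝒴 : BasedCategory.{v₃, u₃} (Over S)}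
  {𝒵 : BasedCategory.{v₄, u₄} (Over S)}

/-- Fibre products of categories representable by algebraic spaces. -/
theorem repByAlgSp_fp (h𝒳 : RepByAlgSp 𝒳) (h𝒵 : RepByAlgSp 𝒵) (h𝒴 : RepByAlgSp 𝒴)
    (f : 𝒳 ⥤ᵇ 𝒴) (g : 𝒵 ⥤ᵇ 𝒴) : RepByAlgSp (_root_.FibCat.fp g f) := by
  obtain ⟨X, eX, hX⟩ := h𝒳
  obtain ⟨Z, eZ, hZ⟩ := h𝒵
  obtain ⟨Y, eY, hY⟩ := h𝒴
  obtain ⟨eY', hY', ⟨η⟩, ⟨ε⟩⟩ := IsEquivOver.symm hY
  have := IsEquivOver.full hY
  have := IsEquivOver.faithful hY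
  let Φ := BasedFunctor.comp (BasedFunctor.comp eX f) eY'
  let Ψ := BasedFunctor.comp (BasedFunctor.comp eZ g) eY'
  let iΦ : BasedFunctor.comp eX f ≅ BasedFunctor.comp (ofSpMap (spHom Φ)) eY :=
    (whiskerLeftIso (BasedFunctor.comp eX f) ε).symm ≪≫ whiskerRightIso (isoOfSpHom Φ) eY
  let iΨ : BasedFunctor.comp eZ g ≅ BasedFunctor.comp (ofSpMap (spHom Ψ)) eY :=
    (whiskerLeftIso (BasedFunctor.comp eZ g) ε).symm ≪≫ whiskerRightIso (isoOfSpHom Ψ) eY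
  exact ⟨⟨_, GrothLib.AlgSp.isAlgSpace_pullback' Y.property Z.property X.property (spHom Ψ) (spHom Φ)⟩,
    BasedFunctor.comp (spToFp (IsPullback.of_hasPullback (spHom Ψ) (spHom Φ)).w) (Fp.map eZ eX eY iΨ iΦ),
    IsEquivOver.comp (isEquivOver_spToFp (IsPullback.of_hasPullback _ _))
      (Fp.isEquivOver_map _ _ _ _ _ hZ hX)⟩

theorem repByAlgSp1_of_repByAlgSp (h𝒳 : RepByAlgSp 𝒳) (h𝒴 : RepByAlgSp 𝒴) (f : 𝒳 ⥤ᵇ 𝒴) : RepByAlgSp1 f :=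
  fun U y => repByAlgSp_fp h𝒳 (repByAlgSp_overCat U) h𝒴 f y

/-- A functor representable by algebraic spaces is faithful. -/
theorem faithful_of_repByAlgSp1 (h𝒳 : _root_.FibCat.IsFibGrpd 𝒳.p) (h𝒴 : _root_.FibCat.IsFibGrpd 𝒴.p)
    (f : 𝒳 ⥤ᵇ 𝒴) (hf : RepByAlgSp1 f) : f.toFunctor.Faithful := by
  refine ⟨fun {a b ψ₁ ψ₂} e => ?_⟩
  have e' : f.map ψ₁ = f.map ψ₂ := e
  have he : 𝒳.p.map ψ₁ = 𝒳.p.map ψ₂ := by
    have := congrArg (fun t => eqToHom (f.w_obj a).symm ≫ 𝒴.p.map t ≫ eqToHom (f.w_obj b)) e'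
    simpa [p_map_map] using this
  let g := 𝒳.p.map ψ₂
  have hψ₂ : 𝒳.p.IsHomLift g ψ₂ := IsHomLift.map _ _
  have hψ₁ : 𝒳.p.IsHomLift (𝟙 (𝒳.p.obj a) ≫ g) ψ₁ := by
    rw [Category.id_comp]; change 𝒳.p.IsHomLift (𝒳.p.map ψ₂) ψ₁; rw [← he]; exact IsHomLift.map _ _
  obtain ⟨χ, ⟨hχ, hχψ⟩, -⟩ := IsFibGrpd.existsUnique_lift h𝒳 g (𝟙 (𝒳.p.obj a)) ψ₂ ψ₁
  have hfχ : f.map χ = 𝟙 (f.obj a) := by
    have h1 : 𝒴.p.IsHomLift g (f.map ψ₂) := inferInstance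
    have h2 : 𝒴.p.IsHomLift (𝟙 (𝒳.p.obj a) ≫ g) (f.map ψ₁) := inferInstance
    have h3 : 𝒴.p.IsHomLift (𝟙 (𝒳.p.obj a)) (f.map χ) := inferInstance
    have h4 : 𝒴.p.IsHomLift (𝟙 (𝒳.p.obj a)) (𝟙 (f.obj a)) := IsHomLift.id (f.w_obj a)
    obtain ⟨t, -, hu⟩ := IsFibGrpd.existsUnique_lift h𝒴 g (𝟙 (𝒳.p.obj a)) (f.map ψ₂) (f.map ψ₁)
    rw [hu (f.map χ) ⟨h3, by rw [← f.map_comp, hχψ]⟩, hu (𝟙 _) ⟨h4, by rw [Category.id_comp, e']⟩]
  obtain ⟨y, j, hj⟩ := Yon.exists_functor h𝒴 (f.obj a) (f.w_obj a)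
  have hs := isFibSetoid_of_repByAlgSp (hf _ y)
  let o : (_root_.FibCat.fp y f).obj := Fp.mk (Yon.idObj (𝒳.p.obj a)) a j hj
  let ω : o ⟶ o := Fp.homMk (𝟙 o.obj.fst) χ (by
    change y.map (𝟙 _) ≫ j.hom = j.hom ≫ f.map χ
    rw [hfχ, y.map_id, Category.id_comp, Category.comp_id])
  have hω : ω = 𝟙 o := IsFibSetoid.hom_ext hs rfl
  have hχ1 : χ = 𝟙 a := congrArg (fun t => t.hom.snd) hω
  rw [← hχψ, hχ1, Category.id_comp]

theorem isFibSetoid_fp (h𝒳 : _root_.FibCat.IsFibGrpd 𝒳.p) (h𝒴 : _root_.FibCat.IsFibGrpd 𝒴.p)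
    (f : 𝒳 ⥤ᵇ 𝒴) (g : 𝒵 ⥤ᵇ 𝒴) (hf : RepByAlgSp1 f) (hZ : RepByAlgSp 𝒵) :
    _root_.FibCat.IsFibSetoid (_root_.FibCat.fp g f).p := by
  have := faithful_of_repByAlgSp1 h𝒳 h𝒴 f hf
  have : (_root_.FibCat.fpFst g f).toFunctor.Faithful := Fp.faithful_fpFst
  have h𝒵 := (isFibSetoid_of_repByAlgSp hZ).1
  exact isFibSetoid_of_faithful (_root_.FibCat.fpFst g f) (Fp.isFibGrpd h𝒵 h𝒳 h𝒴) (isFibSetoid_of_repByAlgSp hZ)

end Rep

section Fp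

variable {𝒳 : BasedCategory.{v₂, u₂} (Over S)} {𝒴 : BasedCategory.{v₃, u + 1} (Over S)}
  {𝒵 : BasedCategory.{v₄, u₄} (Over S)}

/-- The fibre product of a functor representable by algebraic spaces with an algebraic space is an algebraic space. -/
theorem repByAlgSp_fp_of_repByAlgSp1 {𝒳 𝒴 𝒵 : _root_.AlgSt.Cat S}
    (h𝒳 : _root_.FibCat.IsFibGrpd 𝒳.p) (h𝒴 : _root_.FibCat.IsFibGrpd 𝒴.p)
    (f : 𝒳 ⥤ᵇ 𝒴) (g : 𝒵 ⥤ᵇ 𝒴) (hf : RepByAlgSp1 f) (hZ : RepByAlgSp 𝒵) :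
    RepByAlgSp (_root_.FibCat.fp g f) := by
  obtain ⟨P, e, he⟩ := exists_ofPsh (isFibSetoid_fp h𝒳 h𝒴 f g hf hZ)
  obtain ⟨Z, eZ, heZ⟩ := hZ
  obtain ⟨eZ', heZ', ⟨η⟩, ⟨ε⟩⟩ := IsEquivOver.symm heZ
  have := IsEquivOver.full heZ
  have := IsEquivOver.faithful heZ
  let Φ := BasedFunctor.comp (BasedFunctor.comp e (_root_.FibCat.fpFst g f)) eZ'
  let a : P ⟶ Z.obj.obj := pshHom Φ
  let iG : BasedFunctor.comp e (_root_.FibCat.fpFst g f) ≅ BasedFunctor.comp (Stk.ofPshMap a) eZ :=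
    (whiskerLeftIso (BasedFunctor.comp e (_root_.FibCat.fpFst g f)) ε).symm ≪≫
      whiskerRightIso (isoOfPshHom Φ) eZ
  obtain ⟨hP, hQ⟩ := exists_space_of_forall_pullback Z.property a fun U y => by
    let y' := BasedFunctor.comp (BasedFunctor.comp (ofOverCat U) (ofSpMap y)) eZ
    let iF : BasedFunctor.comp (toOverCat U) y' ≅ BasedFunctor.comp (ofSpMap y) eZ :=
      whiskerRightIso (toOverCatCompIso U) (BasedFunctor.comp (ofSpMap y) eZ)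
    let sq := IsPullback.of_hasPullback y.hom a
    let E := BasedFunctor.comp (pshToFp sq.w) (BasedFunctor.comp
      (Fp.map (toOverCat U) e eZ iF iG) (Fp.paste f g y'))
    have hE : _root_.FibCat.IsEquivOver E := IsEquivOver.comp (isEquivOver_pshToFp sq)
      (IsEquivOver.comp (Fp.isEquivOver_map _ _ _ _ _ (isEquivOver_toOverCat U) he) (Fp.isEquivOver_paste f g y'))
    obtain ⟨F, eF, heF⟩ := repByAlgSp_of_isEquivOver' E hE (hf U (BasedFunctor.comp y' g))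
    have := isIso_pshHom heF
    let φ := asIso (pshHom eF)
    exact ⟨F.obj, φ.hom ≫ pullback.fst _ _, φ.hom ≫ pullback.snd _ _, F.property,
      sq.of_iso φ.symm (Iso.refl _) (Iso.refl _) (Iso.refl _) (by simp) (by simp) (by simp) (by simp)⟩
  exact ⟨⟨_, hQ⟩, e, he⟩

theorem repByAlgSp1_comp {𝒳 𝒴 𝒵 : _root_.AlgSt.Cat S}
    (h𝒳 : _root_.FibCat.IsFibGrpd 𝒳.p) (h𝒴 : _root_.FibCat.IsFibGrpd 𝒴.p)
    (f : 𝒳 ⥤ᵇ 𝒴) (g : 𝒴 ⥤ᵇ 𝒵) (hf : RepByAlgSp1 f) (hg : RepByAlgSp1 g) :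
    RepByAlgSp1 (BasedFunctor.comp f g) := fun U z =>
  repByAlgSp_of_isEquivOver (Fp.pasteComp f g z) (Fp.isEquivOver_pasteComp f g z)
    (repByAlgSp_fp_of_repByAlgSp1 h𝒳 h𝒴 f (_root_.FibCat.fpSnd z g) hf (hg U z))

end Fp

section Charts

/-- An etale map from a scheme satisfies, chartwise, every property implied by etale. -/
theorem locP_of_repWith_etale {P : MorphismProperty Scheme.{u}}
    (hP : ∀ ⦃X Y : Scheme.{u}⦄ (t : X ⟶ Y), Etale t → P t) {V : Over S} {F : AlgSp.Sp S}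
    {p : (AlgSp.yon S).obj V ⟶ F} (hp : AlgSp.RepWith @Etale p) : AlgSp.LocP P p := by
  intro W V' a b h ha hb hab
  obtain ⟨a, rfl⟩ := (AlgSp.yon S).map_surjective a
  obtain ⟨R, r₁, r₂, sq⟩ := GrothLib.AlgSp.exists_isPullback_of_representable hp.1 b
  obtain ⟨r₁, rfl⟩ := (AlgSp.yon S).map_surjective r₁
  have h₂ : Etale r₂.left := hp.2 b _ r₂ sq
  have h₁ : Etale r₁.left := hb.2 p _ r₁ sq.flip
  have ha' : Etale a.left := (AlgSp.repWith_yon_map_iff _ _).1 ha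
  let m := (AlgSp.yon S).preimage (sq.lift ((AlgSp.yon S).map a) ((AlgSp.yon S).map h) hab)
  have hm₁ : m ≫ r₁ = a := (AlgSp.yon S).map_injective (by simp [m])
  have hm₂ : m ≫ r₂ = h := (AlgSp.yon S).map_injective (by simp [m])
  have : Etale (m.left ≫ r₁.left) := by rw [← Over.comp_left, hm₁]; exact ha'
  have : Etale m.left := Etale.of_comp m.left r₁.left
  apply hP
  rw [← hm₂, Over.comp_left]
  infer_instance

theorem isFppfCover_of_etale_surjective {V : Over S} {F : AlgSp.Sp S} {p : (AlgSp.yon S).obj V ⟶ F}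
    (pe : AlgSp.RepWith @Etale p) (ps : AlgSp.RepWith @Surjective p) :
    AlgSp.IsFppfCover (fun _ : PUnit.{u + 1} => (AlgSp.yon S).obj V) (fun _ => p) :=
  ⟨fun _ => ⟨locP_of_repWith_etale (P := @Flat) (fun _ _ t (h : Etale t) => (inferInstance : Flat t)) pe,
    locP_of_repWith_etale (P := @LocallyOfFinitePresentation)
      (fun _ _ t (h : Etale t) => (inferInstance : LocallyOfFinitePresentation t)) pe⟩,
    fun x => ⟨PUnit.unit, GrothLib.AlgSp.surjective_map_of_repWith ps x⟩⟩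

end Charts

section Comp

variable {P : MorphismProperty (AlgSp.Sp S)}
variable {𝒳 : BasedCategory.{v₂, u₂} (Over S)} {𝒴 : BasedCategory.{v₃, u₃} (Over S)}
  {𝒜 : BasedCategory.{v₄, u₄} (Over S)}

/-- The base changes to schemes of the map of spaces of a base change of `f` have `P`. -/
theorem pullback_mem_of_repByAlgSpWith (hP : IsoInvariant P)
    {f : 𝒳 ⥤ᵇ 𝒴} (hf : RepByAlgSpWith P f) (x : 𝒜 ⥤ᵇ 𝒴)
    (F₁ : AlgSp.Space S) (e₁ : ofSp F₁.obj ⥤ᵇ 𝒜) (he₁ : _root_.FibCat.IsEquivOver e₁)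
    (F₂ : AlgSp.Space S) (e₂ : ofSp F₂.obj ⥤ᵇ _root_.FibCat.fp x f) (he₂ : _root_.FibCat.IsEquivOver e₂)
    (b : F₂.obj ⟶ F₁.obj)
    (iG : BasedFunctor.comp e₂ (_root_.FibCat.fpFst x f) ≅ BasedFunctor.comp (ofSpMap b) e₁)
    {V : Over S} (p : (AlgSp.yon S).obj V ⟶ F₁.obj) : P (pullback.fst p b) := by
  have hL : AlgSp.IsAlgSpace (pullback p b) :=
    GrothLib.AlgSp.isAlgSpace_pullback' F₁.property (AlgSp.IsAlgSpace.yon_obj V) F₂.property p b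
  have := IsEquivOver.full he₁
  have := IsEquivOver.faithful he₁
  let y₁ := BasedFunctor.comp (BasedFunctor.comp (ofOverCat V) (ofSpMap p)) e₁
  let iF : BasedFunctor.comp (toOverCat V) y₁ ≅ BasedFunctor.comp (ofSpMap p) e₁ :=
    whiskerRightIso (toOverCatCompIso V) (BasedFunctor.comp (ofSpMap p) e₁)
  let sq := IsPullback.of_hasPullback p b
  let E := BasedFunctor.comp (spToFp sq.w) (BasedFunctor.comp
    (Fp.map (toOverCat V) e₂ e₁ iF iG) (Fp.paste f x y₁))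
  have hE : _root_.FibCat.IsEquivOver E := IsEquivOver.comp (isEquivOver_spToFp sq)
    (IsEquivOver.comp (Fp.isEquivOver_map _ _ _ _ _ (isEquivOver_toOverCat V) he₂) (Fp.isEquivOver_paste f x y₁))
  have h := HasRep.mem (hf V (BasedFunctor.comp y₁ x)) hP ⟨_, hL⟩ E hE
  exact spMapOfOver_toOverCat (pullback.fst p b) ▸ h

/-- `P` can be checked on a morphism of algebraic spaces after base change to schemes. -/
def DetectedBySchemes (P : MorphismProperty (AlgSp.Sp S)) : Prop :=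
  ∀ ⦃F₂ F₁ : AlgSp.Sp S⦄, AlgSp.IsAlgSpace F₂ → AlgSp.IsAlgSpace F₁ → ∀ (b : F₂ ⟶ F₁),
    (∀ (V : Over S) (p : (AlgSp.yon S).obj V ⟶ F₁), P (pullback.fst p b)) → P b

theorem detectedBySchemes_of_isLocalOnBase (hloc : AlgSp.IsLocalOnBase AlgSp.IsFppfCover P) :
    DetectedBySchemes P := fun F₂ F₁ h₂ h₁ b h => by
  obtain ⟨V, p, pe, ps⟩ := h₁.atlas
  exact (hloc _ _ h₁ (fun _ => AlgSp.IsAlgSpace.yon_obj V) (isFppfCover_of_etale_surjective pe ps)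
    b h₂ (fun _ => pullback p b) (fun _ => pullback.fst p b) (fun _ => pullback.snd p b)
    (fun _ => GrothLib.AlgSp.isAlgSpace_pullback' h₁ (AlgSp.IsAlgSpace.yon_obj V) h₂ p b)
    (fun _ => (IsPullback.of_hasPullback p b).flip)).2 fun _ => h V p

/-- The map of spaces of a base change of `f` to a category representable by an algebraic space has `P`,
if `P` is detected by schemes and `f` has `P`. -/
theorem mem_of_repByAlgSpWith (hdet : DetectedBySchemes P) (hP : IsoInvariant P)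
    {f : 𝒳 ⥤ᵇ 𝒴} (hf : RepByAlgSpWith P f) (x : 𝒜 ⥤ᵇ 𝒴)
    (F₁ : AlgSp.Space S) (e₁ : ofSp F₁.obj ⥤ᵇ 𝒜) (he₁ : _root_.FibCat.IsEquivOver e₁)
    (F₂ : AlgSp.Space S) (e₂ : ofSp F₂.obj ⥤ᵇ _root_.FibCat.fp x f) (he₂ : _root_.FibCat.IsEquivOver e₂)
    (b : F₂.obj ⟶ F₁.obj)
    (iG : BasedFunctor.comp e₂ (_root_.FibCat.fpFst x f) ≅ BasedFunctor.comp (ofSpMap b) e₁) : P b :=
  hdet F₂.property F₁.property b fun _ p => pullback_mem_of_repByAlgSpWith hP hf x F₁ e₁ he₁ F₂ e₂ he₂ b iG p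

/-- Composition. -/
theorem repByAlgSpWith_comp' {𝒳 𝒴 𝒵 : _root_.AlgSt.Cat S}
    (h𝒳 : _root_.FibCat.IsFibGrpd 𝒳.p) (h𝒴 : _root_.FibCat.IsFibGrpd 𝒴.p) (hP : IsoInvariant P)
    (hPc : ∀ ⦃X Y Z : AlgSp.Sp S⦄, AlgSp.IsAlgSpace X → AlgSp.IsAlgSpace Y → AlgSp.IsAlgSpace Z →
      ∀ (a : X ⟶ Y) (b : Y ⟶ Z), P a → P b → P (a ≫ b))
    (hdet : DetectedBySchemes P)
    (f : 𝒳 ⥤ᵇ 𝒴) (g : 𝒴 ⥤ᵇ 𝒵) (hf : RepByAlgSpWith P f) (hg : RepByAlgSpWith P g) :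
    RepByAlgSpWith P (BasedFunctor.comp f g) := by
  intro U z
  obtain ⟨F₁, e₁, he₁, hP₁⟩ := hg U z
  obtain ⟨F₂, e₂, he₂⟩ := repByAlgSp_fp_of_repByAlgSp1 h𝒳 h𝒴 f (_root_.FibCat.fpSnd z g)
    (repByAlgSp1_of_repByAlgSpWith hf) ⟨F₁, e₁, he₁⟩
  obtain ⟨e₁', he₁', ⟨η⟩, ⟨ε⟩⟩ := IsEquivOver.symm he₁
  let Φ := BasedFunctor.comp (BasedFunctor.comp e₂ (_root_.FibCat.fpFst (_root_.FibCat.fpSnd z g) f)) e₁'
  let iG : BasedFunctor.comp e₂ (_root_.FibCat.fpFst (_root_.FibCat.fpSnd z g) f) ≅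
      BasedFunctor.comp (ofSpMap (spHom Φ)) e₁ :=
    (whiskerLeftIso (BasedFunctor.comp e₂ (_root_.FibCat.fpFst (_root_.FibCat.fpSnd z g) f)) ε).symm ≪≫
      whiskerRightIso (isoOfSpHom Φ) e₁
  have hb : P (spHom Φ) := mem_of_repByAlgSpWith hdet hP hf _ F₁ e₁ he₁ F₂ e₂ he₂ _ iG
  refine ⟨F₂, BasedFunctor.comp e₂ (Fp.pasteComp f g z), IsEquivOver.comp he₂ (Fp.isEquivOver_pasteComp f g z), ?_⟩
  have h := hPc F₂.property F₁.property (AlgSp.IsAlgSpace.yon_obj U) _ _ hb hP₁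
  have eq : spMapOfOver (BasedFunctor.comp (BasedFunctor.comp e₂ (Fp.pasteComp f g z))
      (_root_.FibCat.fpFst z (BasedFunctor.comp f g))) =
      spHom Φ ≫ spMapOfOver (BasedFunctor.comp e₁ (_root_.FibCat.fpFst z g)) := by
    have h1 := spMapOfOver_congr (whiskerRightIso iG (_root_.FibCat.fpFst z g))
    have h2 := spMapOfOver_comp (ofSpMap (spHom Φ)) (BasedFunctor.comp e₁ (_root_.FibCat.fpFst z g))
    rw [spHom_ofSpMap] at h2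
    exact h1.trans h2
  rw [eq]
  exact h

theorem repByAlgSpWith_comp {𝒳 𝒴 𝒵 : _root_.AlgSt.Cat S}
    (h𝒳 : _root_.FibCat.IsFibGrpd 𝒳.p) (h𝒴 : _root_.FibCat.IsFibGrpd 𝒴.p) (hP : IsoInvariant P)
    (hPc : ∀ ⦃X Y Z : AlgSp.Sp S⦄, AlgSp.IsAlgSpace X → AlgSp.IsAlgSpace Y → AlgSp.IsAlgSpace Z →
      ∀ (a : X ⟶ Y) (b : Y ⟶ Z), P a → P b → P (a ≫ b))
    (hloc : AlgSp.IsLocalOnBase AlgSp.IsFppfCover P)
    (f : 𝒳 ⥤ᵇ 𝒴) (g : 𝒴 ⥤ᵇ 𝒵) (hf : RepByAlgSpWith P f) (hg : RepByAlgSpWith P g) :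
    RepByAlgSpWith P (BasedFunctor.comp f g) :=
  repByAlgSpWith_comp' h𝒳 h𝒴 hP hPc (detectedBySchemes_of_isLocalOnBase hloc) f g hf hg

end Comp

end GrothLib.AlgSt
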