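import Groth.Prelude.Def_AlgSt3
import Groth.Agent.Lib.AlgSt.FibreProduct

/-!
# Monomorphisms and immersions of algebraic stacks
-/

set_option backward.isDefEq.respectTransparency false
set_option backward.isDefEq.respectTransparency.types false

universe v₃ u₃ v₂ u₂ u

open CategoryTheory CategoryTheory.Limits AlgebraicGeometry Opposite

namespace GrothLib.AlgSt

open _root_.AlgSt GrothLib.FibCat

variable {S : Scheme.{u}}

theorem detectedBySchemes_monomorphisms :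
    DetectedBySchemes (MorphismProperty.monomorphisms (AlgSp.Sp S)) := fun F₂ F₁ _ _ b h => by
  refine GrothLib.AlgSp.mono_of_yon fun T a a' e => ?_
  have : Mono (pullback.fst (a ≫ b) b) := h T (a ≫ b)
  have h1 : pullback.lift (f := a ≫ b) (g := b) (𝟙 _) a (Category.id_comp _) =
      pullback.lift (f := a ≫ b) (g := b) (𝟙 _) a' (by rw [Category.id_comp, e]) := by
    rw [← cancel_mono (pullback.fst (a ≫ b) b), pullback.lift_fst, pullback.lift_fst]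
  have := congrArg (fun t => t ≫ pullback.snd (a ≫ b) b) h1
  simpa using this

theorem detectedBySchemes_repWith (Q : MorphismProperty Scheme.{u}) [Q.RespectsIso] :
    DetectedBySchemes (AlgSp.RepWith (S := S) Q) := fun F₂ F₁ _ _ b h => by
  refine GrothLib.AlgSp.repWith_mk fun U g => ?_
  obtain ⟨V, fst, snd, sq⟩ := GrothLib.AlgSp.exists_isPullback_of_representable (h U g).1 (𝟙 _)
  exact ⟨V, fst ≫ pullback.snd g b, snd, by
    simpa using sq.paste_horiz (IsPullback.of_hasPullback g b).flip, (h U g).2 _ _ _ sq⟩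

theorem mono_of_repWith {Q : MorphismProperty Scheme.{u}} (hQ : ∀ ⦃A B : Scheme.{u}⦄ (t : A ⟶ B), Q t → Mono t)
    {F G : AlgSp.Sp S} {a : F ⟶ G} (ha : AlgSp.RepWith Q a) : Mono a := by
  refine GrothLib.AlgSp.mono_of_yon fun T p p' e => ?_
  obtain ⟨V, fst, snd, sq⟩ := GrothLib.AlgSp.exists_isPullback_of_representable ha.1 (p ≫ a)
  have : Mono snd.left := hQ _ (ha.2 _ _ snd sq)
  let m := (AlgSp.yon S).preimage (sq.lift p (𝟙 _) (by simp))
  let m' := (AlgSp.yon S).preimage (sq.lift p' (𝟙 _) (by simp [e]))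
  have hm : m ≫ snd = 𝟙 T := (AlgSp.yon S).map_injective (by simp [m])
  have hm' : m' ≫ snd = 𝟙 T := (AlgSp.yon S).map_injective (by simp [m'])
  have hmm : m = m' := Over.OverMorphism.ext ((cancel_mono snd.left).1 (by
    rw [← Over.comp_left, ← Over.comp_left, hm, hm']))
  have h1 : (AlgSp.yon S).map m ≫ fst = p := by simp [m]
  have h2 : (AlgSp.yon S).map m' ≫ fst = p' := by simp [m']
  rw [← h1, ← h2, hmm]

theorem isMono_of_isImm {𝒳 : BasedCategory.{v₂, u₂} (Over S)} {𝒴 : BasedCategory.{v₃, u₃} (Over S)}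
    {f : 𝒳 ⥤ᵇ 𝒴} (hf : IsImm f) : IsMono f :=
  repByAlgSpWith_mono (fun _ _ _ _ _ h => mono_of_repWith (fun _ _ t (ht : IsImmersion t) => inferInstance) h) hf

theorem isoInvariant_monomorphisms : IsoInvariant (MorphismProperty.monomorphisms (AlgSp.Sp S)) :=
  fun _ _ _ _ _ φ _ a (_ : Mono a) => (inferInstance : Mono (φ ≫ a))

theorem isMono_comp {𝒳 𝒴 𝒵 : _root_.AlgSt.Cat S} (h𝒳 : _root_.FibCat.IsFibGrpd 𝒳.p)
    (h𝒴 : _root_.FibCat.IsFibGrpd 𝒴.p) (f : 𝒳 ⥤ᵇ 𝒴) (g : 𝒴 ⥤ᵇ 𝒵) (hf : IsMono f) (hg : IsMono g) :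
    IsMono (BasedFunctor.comp f g) :=
  repByAlgSpWith_comp' h𝒳 h𝒴 isoInvariant_monomorphisms
    (fun _ _ _ _ _ _ a b (_ : Mono a) (_ : Mono b) => (inferInstance : Mono (a ≫ b)))
    detectedBySchemes_monomorphisms f g hf hg

theorem repByAlgSpWith_repWith_comp (Q : MorphismProperty Scheme.{u}) [Q.RespectsIso] [Q.IsStableUnderComposition]
    {𝒳 𝒴 𝒵 : _root_.AlgSt.Cat S} (h𝒳 : _root_.FibCat.IsFibGrpd 𝒳.p) (h𝒴 : _root_.FibCat.IsFibGrpd 𝒴.p)
    (f : 𝒳 ⥤ᵇ 𝒴) (g : 𝒴 ⥤ᵇ 𝒵) (hf : RepByAlgSpWith (AlgSp.RepWith Q) f) (hg : RepByAlgSpWith (AlgSp.RepWith Q) g) :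
    RepByAlgSpWith (AlgSp.RepWith Q) (BasedFunctor.comp f g) :=
  repByAlgSpWith_comp' h𝒳 h𝒴 isoInvariant_of_respectsIso
    (fun _ _ _ _ _ _ a b ha hb => GrothLib.AlgSp.repWith_comp ha hb) (detectedBySchemes_repWith Q) f g hf hg

theorem faithful_full_of_hasRep_mono {𝒳 : BasedCategory.{v₂, u₂} (Over S)} {U : Over S}
    {π : 𝒳 ⥤ᵇ _root_.FibCat.overCat U} (h : HasRep (MorphismProperty.monomorphisms (AlgSp.Sp S)) π) :
    π.toFunctor.Full ∧ π.toFunctor.Faithful := by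
  obtain ⟨F, e, he, hm⟩ := h
  have := IsEquivOver.isEquivalence he
  let a := spMapOfOver (BasedFunctor.comp e π)
  have : Mono a := hm
  have hinj : ∀ (T : Over S) (x x' : F.obj.obj.obj (op T)), a.hom.app (op T) x = a.hom.app (op T) x' → x = x' :=
    fun T x x' e => by
      apply (AlgSp.J S).uliftYonedaEquiv.{u + 1}.symm.injective
      rw [← cancel_mono a, GrothendieckTopology.uliftYonedaEquiv_symm_naturality_right,
        GrothendieckTopology.uliftYonedaEquiv_symm_naturality_right, e]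
  have hfull : (ofSpMap a).toFunctor.Full := ⟨fun {x y} ψ => by
    have h1 : F.obj.obj.map ψ.hom.op y.sec = x.sec := hinj _ _ _ (by
      rw [NatTrans.naturality_apply]; exact ψ.map_sec)
    exact ⟨⟨ψ.hom, h1⟩, ofPsh_hom_ext rfl⟩⟩
  have hfaith : (ofSpMap a).toFunctor.Faithful :=
    ⟨fun {x y φ ψ} e => ofPsh_hom_ext (congrArg (fun t => t.hom) e :)⟩
  have := IsEquivOver.full (isEquivOver_toOverCat U)
  have := IsEquivOver.faithful (isEquivOver_toOverCat U)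
  obtain ⟨e', he', ⟨η⟩, ⟨ε⟩⟩ := IsEquivOver.symm he
  let α : BasedFunctor.comp e' (BasedFunctor.comp (ofSpMap a) (toOverCat U)) ≅ π :=
    whiskerLeftIso e' (isoOfSpMapOfOver (BasedFunctor.comp e π)).symm ≪≫ whiskerRightIso ε π
  have := IsEquivOver.full he'
  have := IsEquivOver.faithful he'
  let β : e'.toFunctor ⋙ (ofSpMap a).toFunctor ⋙ (toOverCat U).toFunctor ≅ π.toFunctor :=
    (BasedNatTrans.forgetful _ _).mapIso α
  exact ⟨Functor.Full.of_iso β, Functor.Faithful.of_iso β⟩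

/-- Monomorphisms are fully faithful. -/
theorem full_faithful_of_isMono {𝒳 : BasedCategory.{v₂, u₂} (Over S)} {𝒴 : BasedCategory.{v₃, u₃} (Over S)}
    (h𝒳 : _root_.FibCat.IsFibGrpd 𝒳.p) (h𝒴 : _root_.FibCat.IsFibGrpd 𝒴.p) (j : 𝒳 ⥤ᵇ 𝒴) (hj : IsMono j) :
    j.toFunctor.Full ∧ j.toFunctor.Faithful := by
  have := faithful_of_repByAlgSp1 h𝒳 h𝒴 j (repByAlgSp1_of_repByAlgSpWith hj)
  refine ⟨⟨fun {a b} ψ => ?_⟩, this⟩
  let g : 𝒳.p.obj a ⟶ 𝒳.p.obj b := eqToHom (j.w_obj a).symm ≫ 𝒴.p.map ψ ≫ eqToHom (j.w_obj b)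
  have hψ : 𝒴.p.IsHomLift g ψ := IsHomLift.of_fac _ _ _ (j.w_obj a) (j.w_obj b) rfl
  obtain ⟨b', φ, hφ⟩ := h𝒳.exists_lift g
  have hb' := IsHomLift.domain_eq 𝒳.p g φ
  have hψ' : 𝒴.p.IsHomLift (𝟙 (𝒳.p.obj a) ≫ g) ψ := by rw [Category.id_comp]; exact hψ
  obtain ⟨t, ⟨ht, htψ⟩, -⟩ := IsFibGrpd.existsUnique_lift h𝒴 g (𝟙 (𝒳.p.obj a)) (j.map φ) ψ
  have := IsFibGrpd.isIso_of_isHomLift_id h𝒴 (R := 𝒳.p.obj a) t
  obtain ⟨y, i, hi⟩ := Yon.exists_functor h𝒴 (j.obj a) (j.w_obj a)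
  obtain ⟨hfull, -⟩ := faithful_full_of_hasRep_mono (hj _ y)
  let oa : (_root_.FibCat.fp y j).obj := Fp.mk (Yon.idObj (𝒳.p.obj a)) a i hi
  let ob : (_root_.FibCat.fp y j).obj := Fp.mk (Yon.idObj (𝒳.p.obj a)) b' (i ≪≫ asIso t) (by
    have : 𝒴.p.IsHomLift (𝟙 (𝒳.p.obj a)) i.hom := hi
    exact inferInstanceAs (𝒴.p.IsHomLift (𝟙 (𝒳.p.obj a)) (i.hom ≫ t)))
  obtain ⟨χ, hχ⟩ := (_root_.FibCat.fpFst y j).toFunctor.map_surjective (X := oa) (Y := ob) (𝟙 (Yon.idObj (𝒳.p.obj a)))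
  have hw : y.map χ.hom.fst ≫ i.hom ≫ t = i.hom ≫ j.map χ.hom.snd := Fp.w χ
  rw [show χ.hom.fst = 𝟙 _ from hχ, y.map_id, Category.id_comp, cancel_epi] at hw
  exact ⟨χ.hom.snd ≫ φ, by change j.map (χ.hom.snd ≫ φ) = ψ; rw [j.map_comp, ← hw, htψ]⟩

end GrothLib.AlgSt
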