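import Groth.Agent.Lib.AlgSt.DiagMor
import Groth.Agent.Lib.AlgSt.Mono
import Groth.Agent.Lib.AlgSp.AffineMor

/-!
# Affine, integral and finite morphisms of algebraic stacks
-/

set_option backward.isDefEq.respectTransparency false
set_option backward.isDefEq.respectTransparency.types false

universe u

open CategoryTheory CategoryTheory.Limits AlgebraicGeometry Opposite

namespace GrothLib.AlgSt

open _root_.AlgSt GrothLib.FibCat

variable {S : Scheme.{u}}

theorem compStable_repWith (Q : MorphismProperty Scheme.{u}) [Q.RespectsIso] [Q.IsStableUnderComposition] :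
    CompStable (AlgSp.RepWith (S := S) Q) :=
  ⟨isoInvariant_of_respectsIso, fun _ _ _ _ _ _ a b ha hb => GrothLib.AlgSp.repWith_comp ha hb,
    detectedBySchemes_repWith Q⟩

theorem isAffineMor_eq : (AlgSp.IsAffineMor : MorphismProperty (AlgSp.Sp S)) = AlgSp.RepWith @IsAffineHom :=
  MorphismProperty.ext _ _ fun _ _ _ => GrothLib.AlgSp.isAffineMor_iff

theorem isIntegralMor_eq : (AlgSp.IsIntegralMor : MorphismProperty (AlgSp.Sp S)) = AlgSp.RepWith @IsIntegralHom :=
  MorphismProperty.ext _ _ fun _ _ _ => GrothLib.AlgSp.isIntegralMor_iff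

theorem isFiniteMor_eq : (AlgSp.IsFiniteMor : MorphismProperty (AlgSp.Sp S)) = AlgSp.RepWith @IsFinite :=
  MorphismProperty.ext _ _ fun _ _ _ => GrothLib.AlgSp.isFiniteMor_iff

theorem compStable_isAffineMor : CompStable (AlgSp.IsAffineMor (S := S)) :=
  isAffineMor_eq (S := S) ▸ compStable_repWith @IsAffineHom

theorem compStable_isIntegralMor : CompStable (AlgSp.IsIntegralMor (S := S)) :=
  isIntegralMor_eq (S := S) ▸ compStable_repWith @IsIntegralHom

theorem compStable_isFiniteMor : CompStable (AlgSp.IsFiniteMor (S := S)) :=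
  isFiniteMor_eq (S := S) ▸ compStable_repWith @IsFinite

end GrothLib.AlgSt
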