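import Groth.Agent.Lib.AlgSt.Graph
import Groth.Agent.Lib.AlgSp.FppfDescent

/-!
# The diagonal of a morphism of algebraic stacks is locally of finite type
-/

set_option backward.isDefEq.respectTransparency false
set_option backward.isDefEq.respectTransparency.types false

universe u

open CategoryTheory CategoryTheory.Limits AlgebraicGeometry Opposite

namespace GrothLib.AlgSt

open _root_.AlgSt GrothLib.FibCat

variable {S : Scheme.{u}} {𝒳 𝒴 : _root_.AlgSt.Cat S}

theorem compStable_locP_lft : CompStable (AlgSp.LocP (S := S) @LocallyOfFiniteType) :=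
  ⟨isoInvariant_locP,
    fun _ _ _ _ hY hZ a b ha hb => locP_comp GrothLib.AlgSp.etaleSourceDescends_lft hY hZ ha hb,
    detectedBySchemes_locP fun _ _ t (_ : Etale t) => inferInstance⟩

/-- Functors representable by algebraic spaces have diagonal locally of finite type. -/
theorem repByAlgSpWith_lft_diag_of_rep {f : 𝒳 ⥤ᵇ 𝒴} (hf : RepByAlgSp1 f) :
    RepByAlgSpWith (AlgSp.LocP @LocallyOfFiniteType) (_root_.FibCat.diag f) :=
  repByAlgSpWith_mono (fun _ _ _ _ hY h => GrothLib.AlgSp.EtLocal.locP_of_repWith GrothLib.AlgSp.EtLocal.lft hY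
    (GrothLib.AlgSp.repWith_mono h fun _ _ _ ht => ht.1.1)) (repByAlgSpWith_repWith_diag hf)

/-- Composition of maps of slices. -/
def overMapCompIso {U V W : Over S} (f : U ⟶ V) (g : V ⟶ W) :
    BasedFunctor.comp (GrothLib.FibCat.overMap f) (GrothLib.FibCat.overMap g) ≅ GrothLib.FibCat.overMap (f ≫ g) :=
  natIsoOfComponents (fun a => Over.isoMk (Iso.refl a.left) (by
      change 𝟙 _ ≫ (a.hom ≫ f ≫ g) = (a.hom ≫ f) ≫ g
      simp))
    (fun a => IsHomLift.of_fac' (_root_.FibCat.overCat W).p _ _ rfl rfl (by simp; rfl))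
    (fun {a b} φ => Over.OverMorphism.ext ((Category.comp_id φ.left).trans (Category.id_comp φ.left).symm))

/-- Points of a stack lift to a smooth chart after a smooth surjection. -/
theorem exists_lift_chart {U W : Over S} (y : _root_.FibCat.overCat U ⥤ᵇ 𝒳) (w : _root_.FibCat.overCat W ⥤ᵇ 𝒳)
    (hw : RepByAlgSpWith (AlgSp.LocP @Smooth) w) (hws : RepByAlgSpWith AlgSp.IsSurjectiveMor w) :
    ∃ (V : Over S) (c : V ⟶ U) (l : V ⟶ W), Smooth c.left ∧ Surjective c.left ∧
      Nonempty (BasedFunctor.comp (GrothLib.FibCat.overMap c) y ≅ BasedFunctor.comp (GrothLib.FibCat.overMap l) w) := by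
  obtain ⟨F, e, he, hsm, hsu⟩ := repByAlgSpWith_inf isoInvariant_locP hw hws U y
  obtain ⟨V, q, qe, qs⟩ := F.property.atlas
  let L := BasedFunctor.comp (ofOverCat V) (BasedFunctor.comp (ofSpMap q) e)
  let k₁ := BasedFunctor.comp L (_root_.FibCat.fpFst y w)
  let k₂ := BasedFunctor.comp L (_root_.FibCat.fpSnd y w)
  let a := spMapOfOver (BasedFunctor.comp e (_root_.FibCat.fpFst y w))
  have hk : (AlgSp.yon S).map (sliceHom k₁) = q ≫ a := by
    rw [← spMapOfOver_overMap, ← spMapOfOver_congr (whiskerLeftIso (toOverCat V) (isoOverMap k₁))]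
    refine (spMapOfOver_congr (whiskerRightIso (toOverCatCompIso V)
      (BasedFunctor.comp (ofSpMap q) (BasedFunctor.comp e (_root_.FibCat.fpFst y w))))).trans ?_
    refine (spMapOfOver_comp (ofSpMap q) (BasedFunctor.comp e (_root_.FibCat.fpFst y w))).trans ?_
    rw [spHom_ofSpMap]
  refine ⟨V, sliceHom k₁, sliceHom k₂, ?_, ?_, ⟨?_⟩⟩
  · exact hsm q (𝟙 _) (sliceHom k₁) qe (AlgSp.repWith_id _ U) (by rw [Category.comp_id, hk])
  · refine ⟨fun x => ?_⟩
    obtain ⟨z, hz⟩ := hsu (AlgSp.Points.schemeHomeo U x)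
    obtain ⟨v, rfl⟩ := GrothLib.AlgSp.surjective_map_of_repWith qs z
    obtain ⟨v, rfl⟩ := (AlgSp.Points.schemeHomeo V).surjective v
    rw [← AlgSp.Points.map_comp, ← hk, AlgSp.Points.map_yon_map_apply] at hz
    exact ⟨v, (AlgSp.Points.schemeHomeo U).injective hz⟩
  · exact (whiskerRightIso (isoOverMap k₁) y).symm ≪≫ whiskerLeftIso L (_root_.FibCat.fpIso y w) ≪≫
      whiskerRightIso (isoOverMap k₂) w

/-- `LocP` of a property descending along fppf covers descends along an fppf base change from a scheme. -/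
theorem locP_of_fppf_base {Q : MorphismProperty Scheme.{u}} (hQ : GrothLib.AlgSp.EtLocal Q)
    (hD : GrothLib.AlgSp.FppfDescends Q) {F : AlgSp.Sp S} (hF : AlgSp.IsAlgSpace F) {U V : Over S} (c : V ⟶ U)
    [Flat c.left] [LocallyOfFinitePresentation c.left] [Surjective c.left] (b : F ⟶ (AlgSp.yon S).obj U)
    (h : AlgSp.LocP Q (pullback.fst ((AlgSp.yon S).map c) b)) : AlgSp.LocP Q b := by
  obtain ⟨T, a, ae, as⟩ := hF.atlas
  obtain ⟨g, hg⟩ := (AlgSp.yon S).map_surjective (a ≫ b)
  have sq : IsPullback ((AlgSp.yon S).map (pullback.fst g c)) ((AlgSp.yon S).map (pullback.snd g c))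
      ((AlgSp.yon S).map g) ((AlgSp.yon S).map c) :=
    GrothLib.AlgSp.isPullback_yon (IsPullback.of_hasPullback g c)
  rw [hg] at sq
  have sqb := (IsPullback.of_hasPullback ((AlgSp.yon S).map c) b).flip
  let l : (AlgSp.yon S).obj (pullback g c) ⟶ pullback ((AlgSp.yon S).map c) b :=
    sqb.lift ((AlgSp.yon S).map (pullback.fst g c) ≫ a) ((AlgSp.yon S).map (pullback.snd g c))
      (by rw [Category.assoc]; exact sq.w)
  have sql : IsPullback ((AlgSp.yon S).map (pullback.fst g c)) l a (pullback.snd ((AlgSp.yon S).map c) b) := by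
    refine IsPullback.of_bot ?_ (sqb.lift_fst _ _ _).symm sqb
    simpa only [l, IsPullback.lift_snd] using sq
  have hl : AlgSp.RepWith @Etale l := GrothLib.AlgSp.repWith_of_isPullback sql ae
  have hs : Q (pullback.snd g c).left := h l (𝟙 _) (pullback.snd g c) hl (AlgSp.repWith_id _ V)
    (by rw [Category.comp_id]; exact sqb.lift_snd _ _ _)
  refine GrothLib.AlgSp.EtLocal.locP_of_chart hQ ae as (AlgSp.repWith_id _ U) (h := g) (by rw [Category.comp_id, hg]) ?_
  exact hD g.left c.left (pullback.fst g c).left (pullback.snd g c).left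
    (GrothLib.AlgSp.isPullback_left (IsPullback.of_hasPullback g c)) inferInstance inferInstance inferInstance hs

/-- The absolute diagonal of an algebraic stack is locally of finite type. -/
theorem repByAlgSpWith_lft_diag_toSelf (h𝒳 : IsAlgStack Scheme.fppfPrecoverage 𝒳) :
    RepByAlgSpWith (AlgSp.LocP @LocallyOfFiniteType) (_root_.FibCat.diag (_root_.FibCat.toSelf 𝒳)) := by
  obtain ⟨W, w, hw, hws⟩ := h𝒳.atlas
  let t := _root_.FibCat.toSelf 𝒳
  have hW := (isDM_of_repByAlgSp (repByAlgSp_overCat W)).1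
  have hS := (isDM_of_repByAlgSp (repByAlgSp_selfOver (S := S))).1
  have hC : RepByAlgSpWith (AlgSp.LocP @LocallyOfFiniteType) (fpToFp w w t) := by
    refine compStable_locP_lft.repByAlgSpWith_of_comp (isAlgStack_fp h𝒳.isStack h𝒳.diag hW hW w w)
      (isAlgStack_fp hS.isStack hS.diag hW hW (BasedFunctor.comp w t) (BasedFunctor.comp w t)) hW _
      (_root_.FibCat.fpFst _ _) ?_
      (repByAlgSpWith_lft_diag_of_rep (repByAlgSp1_fpFst _
        (repByAlgSp1_of_repByAlgSp (repByAlgSp_overCat W) repByAlgSp_selfOver (BasedFunctor.comp w t))))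
    exact repByAlgSpWith_mono (fun _ _ _ _ _ h => GrothLib.AlgSp.locP_mono
      (fun _ _ g (hg : Smooth g) => (inferInstance : LocallyOfFiniteType g)) h) (repByAlgSpWith_fpFst w hw)
  intro U y
  obtain ⟨F, e, he⟩ := h𝒳.diag U y
  refine ⟨F, e, he, ?_⟩
  let y₁ := BasedFunctor.comp y (_root_.FibCat.fpFst t t)
  let y₂ := BasedFunctor.comp y (_root_.FibCat.fpSnd t t)
  obtain ⟨V₁, c₁, l₁, hc₁, hc₁s, ⟨j₁⟩⟩ := exists_lift_chart y₁ w hw hws
  obtain ⟨V, c₂, l₂, hc₂, hc₂s, ⟨j₂⟩⟩ :=
    exists_lift_chart (BasedFunctor.comp (GrothLib.FibCat.overMap c₁) y₂) w hw hws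
  let c := c₂ ≫ c₁
  let k₁ : BasedFunctor.comp (GrothLib.FibCat.overMap c) y₁ ≅
      BasedFunctor.comp (GrothLib.FibCat.overMap (c₂ ≫ l₁)) w :=
    (whiskerRightIso (overMapCompIso c₂ c₁) y₁).symm ≪≫ whiskerLeftIso (GrothLib.FibCat.overMap c₂) j₁ ≪≫
      whiskerRightIso (overMapCompIso c₂ l₁) w
  let k₂ : BasedFunctor.comp (GrothLib.FibCat.overMap c) y₂ ≅ BasedFunctor.comp (GrothLib.FibCat.overMap l₂) w :=
    (whiskerRightIso (overMapCompIso c₂ c₁) y₂).symm ≪≫ j₂
  let κ : BasedFunctor.comp (GrothLib.FibCat.overMap (c₂ ≫ l₁)) (BasedFunctor.comp w t) ≅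
      BasedFunctor.comp (GrothLib.FibCat.overMap l₂) (BasedFunctor.comp w t) :=
    (whiskerRightIso k₁ t).symm ≪≫
      whiskerLeftIso (BasedFunctor.comp (GrothLib.FibCat.overMap c) y) (_root_.FibCat.fpIso t t) ≪≫
      whiskerRightIso k₂ t
  let y' := _root_.FibCat.fpLift (GrothLib.FibCat.overMap (c₂ ≫ l₁)) (GrothLib.FibCat.overMap l₂) κ
  let yc := BasedFunctor.comp (GrothLib.FibCat.overMap c) y
  let j : BasedFunctor.comp y' (fpPair w w t) ≅ yc :=
    natIsoOfComponents
      (fun x => Fp.isoMk (a := (fpPair w w t).obj (y'.obj x)) (b := yc.obj x)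
        (((BasedNatTrans.forgetful _ _).mapIso k₁).app x).symm
        (((BasedNatTrans.forgetful _ _).mapIso k₂).app x).symm (by
          have h2 : k₂.hom.app x ≫ k₂.inv.app x = 𝟙 _ := congrArg (fun s => s.app x) k₂.hom_inv_id
          change t.map (k₁.inv.app x) ≫ (yc.obj x).obj.iso.hom =
            (t.map (k₁.inv.app x) ≫ (yc.obj x).obj.iso.hom ≫ t.map (k₂.hom.app x)) ≫ t.map (k₂.inv.app x)
          rw [Category.assoc, Category.assoc, ← t.map_comp, h2]
          exact (congrArg (t.map (k₁.inv.app x) ≫ ·)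
            ((congrArg ((yc.obj x).obj.iso.hom ≫ ·) (t.map_id _)).trans (Category.comp_id _))).symm))
      (fun x => (Fp.isHomLift_iff _ _).2
        (BasedNatTrans.isHomLift k₁.inv ((GrothLib.FibCat.overMap (c₂ ≫ l₁)).w_obj x).symm))
      (fun {a b} φ => Fp.hom_ext (k₁.inv.toNatTrans.naturality φ) (k₂.inv.toNatTrans.naturality φ))
  have hR : HasRep (AlgSp.LocP @LocallyOfFiniteType) (_root_.FibCat.fpFst yc (_root_.FibCat.diag t)) := by
    have := IsEquivOver.full (IsEquivOver.refl (_root_.FibCat.fp (BasedFunctor.comp w t) (BasedFunctor.comp w t)))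
    have := IsEquivOver.faithful (IsEquivOver.refl (_root_.FibCat.fp (BasedFunctor.comp w t) (BasedFunctor.comp w t)))
    let iG : BasedFunctor.comp (fpToFpLift w w t) (_root_.FibCat.fpFst (fpPair w w t) (_root_.FibCat.diag t)) ≅
        BasedFunctor.comp (fpToFp w w t) (BasedFunctor.id _) := Iso.refl _
    let E₁ := Fp.map (F := y') (G := fpToFp w w t) (F' := y')
      (G' := _root_.FibCat.fpFst (fpPair w w t) (_root_.FibCat.diag t))
      (BasedFunctor.id _) (fpToFpLift w w t) (BasedFunctor.id _) (Iso.refl y') iG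
    exact HasRep.of_equiv (BasedFunctor.comp E₁ (BasedFunctor.comp
        (Fp.paste (_root_.FibCat.diag t) (fpPair w w t) y') (Fp.congr j (Iso.refl (_root_.FibCat.diag t)))))
      (IsEquivOver.comp (Fp.isEquivOver_map _ _ _ _ _ (IsEquivOver.refl _)
          (isEquivOver_fpToFpLift hW.isStack.1 w w t))
        (IsEquivOver.comp (Fp.isEquivOver_paste (_root_.FibCat.diag t) (fpPair w w t) y')
          (Fp.isEquivOver_congr j (Iso.refl _))))
      (Iso.refl _) (hC V y')
  let b := spMapOfOver (BasedFunctor.comp e (_root_.FibCat.fpFst y (_root_.FibCat.diag t)))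
  have : Smooth c.left := by
    have := hc₁
    have := hc₂
    rw [Over.comp_left]; infer_instance
  have : Surjective c.left := by
    have := hc₁s
    have := hc₂s
    rw [Over.comp_left]; infer_instance
  refine locP_of_fppf_base GrothLib.AlgSp.EtLocal.lft GrothLib.AlgSp.fppfDescends_lft F.property c b ?_
  obtain ⟨iF⟩ := iso_of_spMapOfOver_eq
    (Φ := BasedFunctor.comp (toOverCat V) (GrothLib.FibCat.overMap c))
    (Ψ := BasedFunctor.comp (ofSpMap ((AlgSp.yon S).map c)) (toOverCat U))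
    ((spMapOfOver_overMap c).trans (spMapOfOver_toOverCat _).symm)
  have := IsEquivOver.full (isEquivOver_toOverCat U)
  have := IsEquivOver.faithful (isEquivOver_toOverCat U)
  let iG : BasedFunctor.comp e (_root_.FibCat.fpFst y (_root_.FibCat.diag t)) ≅
      BasedFunctor.comp (ofSpMap b) (toOverCat U) :=
    isoOfSpMapOfOver (BasedFunctor.comp e (_root_.FibCat.fpFst y (_root_.FibCat.diag t)))
  let sq := IsPullback.of_hasPullback ((AlgSp.yon S).map c) b
  have hm := HasRep.mem hR isoInvariant_locP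
    ⟨_, GrothLib.AlgSp.isAlgSpace_pullback' (AlgSp.IsAlgSpace.yon_obj U) (AlgSp.IsAlgSpace.yon_obj V) F.property
      ((AlgSp.yon S).map c) b⟩
    (BasedFunctor.comp (spToFp sq.w) (BasedFunctor.comp (Fp.map (toOverCat V) e (toOverCat U) iF iG)
      (Fp.paste (_root_.FibCat.diag t) y (GrothLib.FibCat.overMap c))))
    (IsEquivOver.comp (isEquivOver_spToFp sq) (IsEquivOver.comp
      (Fp.isEquivOver_map _ _ _ _ _ (isEquivOver_toOverCat V) he)
      (Fp.isEquivOver_paste (_root_.FibCat.diag t) y (GrothLib.FibCat.overMap c))))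
  exact spMapOfOver_toOverCat (pullback.fst ((AlgSp.yon S).map c) b) ▸ hm

/-- The diagonal of a morphism of algebraic stacks is locally of finite type. -/
theorem repByAlgSpWith_lft_diag (h𝒳 : IsAlgStack Scheme.fppfPrecoverage 𝒳)
    (h𝒴 : IsAlgStack Scheme.fppfPrecoverage 𝒴) (f : 𝒳 ⥤ᵇ 𝒴) :
    RepByAlgSpWith (AlgSp.LocP @LocallyOfFiniteType) (_root_.FibCat.diag f) := by
  let t := _root_.FibCat.toSelf 𝒴
  have hS := (isDM_of_repByAlgSp (repByAlgSp_selfOver (S := S))).1
  have key : ∀ {G H : 𝒳 ⥤ᵇ _root_.FibCat.selfOver (Over S)}, G.toFunctor = H.toFunctor → G = H := by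
    rintro ⟨G, hG⟩ ⟨H, hH⟩ (rfl : G = H); rfl
  have heq : BasedFunctor.comp f t = _root_.FibCat.toSelf 𝒳 := key f.w
  have h1 : RepByAlgSpWith (AlgSp.LocP @LocallyOfFiniteType) (_root_.FibCat.diag (BasedFunctor.comp f t)) := by
    rw [heq]; exact repByAlgSpWith_lft_diag_toSelf h𝒳
  exact compStable_locP_lft.repByAlgSpWith_of_comp h𝒳 (isAlgStack_fp h𝒴.isStack h𝒴.diag h𝒳 h𝒳 f f)
    (isAlgStack_fp hS.isStack hS.diag h𝒳 h𝒳 (BasedFunctor.comp f t) (BasedFunctor.comp f t))
    (_root_.FibCat.diag f) (fpToFp f f t) (repByAlgSpWith_of_iso (diagCompIso f t).symm h1)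
    (repByAlgSpWith_lft_diag_of_rep (repByAlgSpWith_top_iff.1
      (repByAlgSpWith_fpToFp h𝒳.isStack.1 f f t (repByAlgSpWith_top_iff.2 h𝒴.diag))))

end GrothLib.AlgSt
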