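import Groth.Agent.Lib.AlgSt.DiagMor

/-!
# Properties of diagonals of functors representable by algebraic spaces, checked on algebraic spaces
-/

set_option backward.isDefEq.respectTransparency false
set_option backward.isDefEq.respectTransparency.types false

universe u

open CategoryTheory CategoryTheory.Limits AlgebraicGeometry Opposite

namespace GrothLib.AlgSt

open _root_.AlgSt GrothLib.FibCat

variable {S : Scheme.{u}} {P : MorphismProperty (AlgSp.Sp S)}

theorem spToFp_snd {L F G H : AlgSp.Sp S} {fst : L ⟶ F} {snd : L ⟶ G} {a : F ⟶ H} {b : G ⟶ H}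
    (w : fst ≫ a = snd ≫ b) : BasedFunctor.comp (spToFp w) (_root_.FibCat.fpSnd _ _) = ofSpMap snd := rfl

/-- A map of algebraic spaces with a property stable under base change has it as a functor. -/
theorem repByAlgSpWith_ofSpMap {F G : AlgSp.Sp S} (hF : AlgSp.IsAlgSpace F) (hG : AlgSp.IsAlgSpace G) (b : F ⟶ G)
    (h : ∀ (U : Over S) (c : (AlgSp.yon S).obj U ⟶ G), P (pullback.fst c b)) : RepByAlgSpWith P (ofSpMap b) := by
  intro U y
  let c := spHom (BasedFunctor.comp (toOverCat U) y)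
  let iF : BasedFunctor.comp (toOverCat U) y ≅ BasedFunctor.comp (ofSpMap c) (BasedFunctor.id (ofSp G)) :=
    isoOfSpHom (BasedFunctor.comp (toOverCat U) y)
  let iG : BasedFunctor.comp (BasedFunctor.id (ofSp F)) (ofSpMap b) ≅
      BasedFunctor.comp (ofSpMap b) (BasedFunctor.id (ofSp G)) := Iso.refl _
  have := IsEquivOver.full (IsEquivOver.refl (ofSp G))
  have := IsEquivOver.faithful (IsEquivOver.refl (ofSp G))
  let sq := IsPullback.of_hasPullback c b
  refine ⟨⟨_, GrothLib.AlgSp.isAlgSpace_pullback' hG (AlgSp.IsAlgSpace.yon_obj U) hF c b⟩,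
    BasedFunctor.comp (spToFp sq.w) (Fp.map (toOverCat U) (BasedFunctor.id _) (BasedFunctor.id (ofSp G)) iF iG),
    IsEquivOver.comp (isEquivOver_spToFp sq)
      (Fp.isEquivOver_map _ _ _ _ _ (isEquivOver_toOverCat U) (IsEquivOver.refl _)), ?_⟩
  exact (spMapOfOver_toOverCat (pullback.fst c b)).symm ▸ h U c

/-- The diagonal of a map of algebraic spaces. -/
theorem repByAlgSpWith_diag_ofSpMap_iff {F G : AlgSp.Sp S} (a : F ⟶ G) :
    RepByAlgSpWith P (_root_.FibCat.diag (ofSpMap a)) ↔ RepByAlgSpWith P (ofSpMap (pullback.diagonal a)) := by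
  let sq := IsPullback.of_hasPullback a a
  have hq := isEquivOver_spToFp sq
  obtain ⟨q', hq', ⟨η⟩, ⟨ε⟩⟩ := IsEquivOver.symm hq
  have := IsEquivOver.full hq'
  have := IsEquivOver.faithful hq'
  let Φ := BasedFunctor.comp (_root_.FibCat.diag (ofSpMap a)) q'
  let β : BasedFunctor.comp Φ (spToFp sq.w) ≅ _root_.FibCat.diag (ofSpMap a) :=
    whiskerLeftIso (_root_.FibCat.diag (ofSpMap a)) ε
  have h1 : spHom Φ ≫ pullback.fst a a = 𝟙 F := by
    have := spHom_congr (whiskerRightIso β (_root_.FibCat.fpFst _ _))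
    rw [spHom_id.symm]
    refine Eq.trans ?_ this
    exact (congrArg (spHom Φ ≫ ·) (spHom_ofSpMap _).symm).trans (spHom_comp Φ (ofSpMap (pullback.fst a a))).symm
  have h2 : spHom Φ ≫ pullback.snd a a = 𝟙 F := by
    have := spHom_congr (whiskerRightIso β (_root_.FibCat.fpSnd _ _))
    rw [spHom_id.symm]
    refine Eq.trans ?_ this
    exact (congrArg (spHom Φ ≫ ·) (spHom_ofSpMap _).symm).trans (spHom_comp Φ (ofSpMap (pullback.snd a a))).symm
  have hd : spHom Φ = pullback.diagonal a := pullback.hom_ext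
    (h1.trans (pullback.diagonal_fst a).symm) (h2.trans (pullback.diagonal_snd a).symm)
  exact (repByAlgSpWith_iff_of_square (f' := _root_.FibCat.diag (ofSpMap a))
    (f := ofSpMap (pullback.diagonal a)) (BasedFunctor.id _) q' (IsEquivOver.refl _) hq' (hd ▸ isoOfSpHom Φ)).symm

section

variable {𝒳 𝒴 : _root_.AlgSt.Cat S}

/-- Comparison of the diagonals of `π` and of a map of spaces representing it. -/
theorem repByAlgSpWith_diag_iff_of_rep {W : _root_.AlgSt.Cat S} {U : Over S} (π : W ⥤ᵇ _root_.FibCat.overCat U)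
    {F : AlgSp.Sp S} (e : ofSp F ⥤ᵇ W) (he : _root_.FibCat.IsEquivOver e) :
    RepByAlgSpWith P (_root_.FibCat.diag π) ↔
      RepByAlgSpWith P (_root_.FibCat.diag (ofSpMap (spMapOfOver (BasedFunctor.comp e π)))) := by
  let a := spMapOfOver (BasedFunctor.comp e π)
  let i : BasedFunctor.comp e π ≅ BasedFunctor.comp (ofSpMap a) (toOverCat U) :=
    isoOfSpMapOfOver (BasedFunctor.comp e π)
  have := IsEquivOver.full (isEquivOver_toOverCat U)
  have := IsEquivOver.faithful (isEquivOver_toOverCat U)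
  let M := Fp.map e e (toOverCat U) i i
  have hM : _root_.FibCat.IsEquivOver M := Fp.isEquivOver_map _ _ _ _ _ he he
  have sqi : BasedFunctor.comp (_root_.FibCat.diag (ofSpMap a)) M ≅ BasedFunctor.comp e (_root_.FibCat.diag π) :=
    natIsoOfComponents
      (fun x => Fp.isoMk (a := M.obj ((_root_.FibCat.diag (ofSpMap a)).obj x))
        (b := (_root_.FibCat.diag π).obj (e.obj x)) (Iso.refl _) (Iso.refl _) (by
          have hi : i.inv.app x ≫ i.hom.app x = 𝟙 _ := congrArg (fun t => t.app x) i.inv_hom_id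
          change π.map (𝟙 (e.obj x)) ≫ 𝟙 _ =
            (i.hom.app x ≫ (toOverCat U).map (𝟙 ((ofSpMap a).obj x)) ≫ i.inv.app x) ≫ π.map (𝟙 (e.obj x))
          have hi' : i.hom.app x ≫ i.inv.app x = 𝟙 _ := congrArg (fun t => t.app x) i.hom_inv_id
          rw [π.map_id, (toOverCat U).map_id]
          exact (Category.comp_id _).trans (((Category.comp_id _).trans
            ((congrArg (i.hom.app x ≫ ·) (Category.id_comp _)).trans hi')).symm)))
      (fun x => (Fp.isHomLift_iff _ _).2 (IsHomLift.id (e.w_obj x)))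
      (fun {x y} φ => Fp.hom_ext ((Category.comp_id _).trans (Category.id_comp _).symm)
        ((Category.comp_id _).trans (Category.id_comp _).symm))
  exact repByAlgSpWith_iff_of_square (f' := _root_.FibCat.diag (ofSpMap a)) (f := _root_.FibCat.diag π) e M he hM
    sqi

/-- A property of the diagonal of a functor can be checked on its base changes to schemes. -/
theorem repByAlgSpWith_diag_of_forall (f : 𝒳 ⥤ᵇ 𝒴)
    (h : ∀ (U : Over S) (x : _root_.FibCat.overCat U ⥤ᵇ 𝒴),
      RepByAlgSpWith P (_root_.FibCat.diag (_root_.FibCat.fpFst x f))) :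
    RepByAlgSpWith P (_root_.FibCat.diag f) := by
  intro U y
  let y₁ := BasedFunctor.comp y (_root_.FibCat.fpFst f f)
  let y₂ := BasedFunctor.comp y (_root_.FibCat.fpSnd f f)
  let x := BasedFunctor.comp y₁ f
  let π := _root_.FibCat.fpFst x f
  let s₁ : _root_.FibCat.overCat U ⥤ᵇ _root_.FibCat.fp x f :=
    _root_.FibCat.fpLift (BasedFunctor.id _) y₁ (Iso.refl _)
  let s₂ : _root_.FibCat.overCat U ⥤ᵇ _root_.FibCat.fp x f :=
    _root_.FibCat.fpLift (BasedFunctor.id _) y₂ (whiskerLeftIso y (_root_.FibCat.fpIso f f))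
  let y' : _root_.FibCat.overCat U ⥤ᵇ _root_.FibCat.fp π π := _root_.FibCat.fpLift s₁ s₂ (Iso.refl _)
  let j : BasedFunctor.comp y' (diagBcMap f x) ≅ y :=
    natIsoOfComponents
      (fun u => Fp.isoMk (a := (diagBcMap f x).obj (y'.obj u)) (b := y.obj u) (Iso.refl _) (Iso.refl _) (by
        change f.map (𝟙 _) ≫ (y.obj u).obj.iso.hom =
          (𝟙 _ ≫ x.map (𝟙 _) ≫ (y.obj u).obj.iso.hom) ≫ f.map (𝟙 _)
        rw [f.map_id, f.map_id, x.map_id, Category.comp_id, Category.id_comp]
        exact ((congrArg (𝟙 _ ≫ ·) (Category.id_comp _)).trans (Category.id_comp _)).symm))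
      (fun u => (Fp.isHomLift_iff _ _).2 (IsHomLift.id (y₁.w_obj u)))
      (fun {u v} φ => Fp.hom_ext ((Category.comp_id _).trans (Category.id_comp _).symm)
        ((Category.comp_id _).trans (Category.id_comp _).symm))
  have := IsEquivOver.full (IsEquivOver.refl (_root_.FibCat.fp π π))
  have := IsEquivOver.faithful (IsEquivOver.refl (_root_.FibCat.fp π π))
  let iG : BasedFunctor.comp (diagBcLift f x) (_root_.FibCat.fpFst (diagBcMap f x) (_root_.FibCat.diag f)) ≅
      BasedFunctor.comp (_root_.FibCat.diag π) (BasedFunctor.id _) := Iso.refl _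
  let E₁ := Fp.map (F := y') (G := _root_.FibCat.diag π) (F' := y')
    (G' := _root_.FibCat.fpFst (diagBcMap f x) (_root_.FibCat.diag f)) (BasedFunctor.id _) (diagBcLift f x) (BasedFunctor.id _) (Iso.refl y') iG
  let E₂ := Fp.paste (_root_.FibCat.diag f) (diagBcMap f x) y'
  let E₃ := Fp.congr j (Iso.refl (_root_.FibCat.diag f))
  exact HasRep.of_equiv (BasedFunctor.comp E₁ (BasedFunctor.comp E₂ E₃))
    (IsEquivOver.comp (Fp.isEquivOver_map _ _ _ _ _ (IsEquivOver.refl _) (isEquivOver_diagBcLift f x))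
      (IsEquivOver.comp (Fp.isEquivOver_paste (_root_.FibCat.diag f) (diagBcMap f x) y')
        (Fp.isEquivOver_congr j (Iso.refl _))))
    (Iso.refl _) (h U x U y')

/-- A property of the diagonal of a functor representable by algebraic spaces, from diagonals of maps of spaces. -/
theorem repByAlgSpWith_diag_of_spaces
    (hbc : ∀ ⦃X Y Y' X' : AlgSp.Sp S⦄, AlgSp.IsAlgSpace X → AlgSp.IsAlgSpace Y → AlgSp.IsAlgSpace Y' →
      AlgSp.IsAlgSpace X' → ∀ {f : X ⟶ Y} {g : Y' ⟶ Y} {f' : X' ⟶ Y'} {g' : X' ⟶ X},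
      IsPullback g' f' f g → P f → P f')
    (hdiag : ∀ ⦃X Y : AlgSp.Space S⦄ (a : X ⟶ Y), P (pullback.diagonal a.hom))
    (f : 𝒳 ⥤ᵇ 𝒴) (hf : RepByAlgSp1 f) : RepByAlgSpWith P (_root_.FibCat.diag f) :=
  repByAlgSpWith_diag_of_forall f fun U x => by
    obtain ⟨F, e, he⟩ := hf U x
    let a := spMapOfOver (BasedFunctor.comp e (_root_.FibCat.fpFst x f))
    let Y : AlgSp.Space S := ⟨_, AlgSp.IsAlgSpace.yon_obj U⟩
    have hL := GrothLib.AlgSp.isAlgSpace_pullback' Y.property F.property F.property a a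
    refine (repByAlgSpWith_diag_iff_of_rep _ e he).2 ((repByAlgSpWith_diag_ofSpMap_iff a).2
      (repByAlgSpWith_ofSpMap F.property hL _ fun V c => ?_))
    exact hbc F.property hL (AlgSp.IsAlgSpace.yon_obj V)
      (GrothLib.AlgSp.isAlgSpace_pullback' hL (AlgSp.IsAlgSpace.yon_obj V) F.property c _)
      (IsPullback.of_hasPullback c (pullback.diagonal a)).flip (hdiag (X := F) (Y := Y) (ObjectProperty.homMk a))

end

end GrothLib.AlgSt
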