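import Groth.Agent.Lib.AlgSt.LocQ

/-!
# Chartwise properties of representable morphisms, of composites and of base changes
-/

set_option backward.isDefEq.respectTransparency false
set_option backward.isDefEq.respectTransparency.types false

universe u

open CategoryTheory CategoryTheory.Limits AlgebraicGeometry Opposite

namespace GrothLib.AlgSt

open _root_.AlgSt GrothLib.FibCat

variable {S : Scheme.{u}} {P : MorphismProperty (AlgSp.Sp S)} {𝒳 𝒴 : _root_.AlgSt.Cat S} {f : 𝒳 ⥤ᵇ 𝒴}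

theorem iso_toOverCat_overMap {U V : Over S} (h : U ⟶ V) :
    Nonempty (BasedFunctor.comp (toOverCat U) (_root_.AlgSt.overMap h) ≅
      BasedFunctor.comp (ofSpMap ((AlgSp.yon S).map h)) (toOverCat V)) :=
  iso_of_spMapOfOver_eq ((spMapOfOver_overMap h).trans (spMapOfOver_toOverCat _).symm)

/-- A representable morphism with a property has it on chart squares. -/
theorem locQ_of_repByAlgSpWith (hP : AlgSp.IsSmoothLocalST P) (h𝒴 : IsAlgStack Scheme.fppfPrecoverage 𝒴)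
    (h : RepByAlgSpWith P f) : LocQ P f := by
  obtain ⟨V, y, hy, hys⟩ := h𝒴.atlas
  obtain ⟨F, e, he, hF⟩ := h V y
  exact locQ_of_spaceSquare hP F.property (AlgSp.IsAlgSpace.yon_obj V)
    (x := BasedFunctor.comp e (_root_.FibCat.fpSnd y f)) (y := BasedFunctor.comp (toOverCat V) y)
    (spMapOfOver (BasedFunctor.comp e (_root_.FibCat.fpFst y f)))
    (whiskerLeftIso e (_root_.FibCat.fpIso y f).symm ≪≫
      whiskerRightIso (isoOfSpMapOfOver (BasedFunctor.comp e (_root_.FibCat.fpFst y f))) y)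
    ((show SmoothSurj (_root_.FibCat.fpSnd y f) from
      ⟨repByAlgSpWith_fpSnd f hy, repByAlgSpWith_fpSnd f hys⟩).equiv_comp e he)
    (repByAlgSpWith_equiv_comp _ (isEquivOver_toOverCat V) hy) hF

/-- The map of spaces of the base change of a morphism with a chartwise property to a smooth chart. -/
theorem mem_rep_of_locQ (hP : AlgSp.IsSmoothLocalST P) (h𝒳 : IsAlgStack Scheme.fppfPrecoverage 𝒳)
    (h𝒴 : IsAlgStack Scheme.fppfPrecoverage 𝒴) (hq : LocQ P f) {V : Over S}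
    (y : _root_.FibCat.overCat V ⥤ᵇ 𝒴) (hy : RepByAlgSpWith (AlgSp.LocP @Smooth) y)
    (F : AlgSp.Space S) (e : ofSp F.obj ⥤ᵇ _root_.FibCat.fp y f) (he : _root_.FibCat.IsEquivOver e) :
    P (spMapOfOver (BasedFunctor.comp e (_root_.FibCat.fpFst y f))) := by
  obtain ⟨R, r, re, rs⟩ := F.property.atlas
  let b := spMapOfOver (BasedFunctor.comp e (_root_.FibCat.fpFst y f))
  obtain ⟨h, hh⟩ := (AlgSp.yon S).map_surjective (r ≫ b)
  let l := BasedFunctor.comp (BasedFunctor.comp (ofOverCat R) (ofSpMap r)) (BasedFunctor.comp e (Fp.symm y f))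
  have hl : RepByAlgSpWith (AlgSp.LocP @Smooth) l :=
    repByAlgSpWith_comp_equiv _ (IsEquivOver.comp he (Fp.isEquivOver_symm y f))
      (repByAlgSpWith_equiv_comp _ (isEquivOver_ofOverCat R)
        (repByAlgSpWith_smooth_ofSpMap (AlgSp.IsAlgSpace.yon_obj R) F.property (locP_smooth_of_etale F.property re)))
  obtain ⟨i⟩ := iso_of_spMapOfOver_eq
    (Φ := BasedFunctor.comp (ofSpMap r) (BasedFunctor.comp e (_root_.FibCat.fpFst y f)))
    (Ψ := BasedFunctor.comp (toOverCat R) (_root_.AlgSt.overMap h))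
    ((spMapOfOver_ofSpMap_comp r _).trans (hh.symm.trans (spMapOfOver_overMap h).symm))
  have hPh : P ((AlgSp.yon S).map h) := mem_of_locQ hP hq h𝒳 h𝒴 y hy l hl h
    (whiskerLeftIso (ofOverCat R) i ≪≫ whiskerRightIso (ofOverCatCompIso R) (_root_.AlgSt.overMap h))
  refine (hP.locality F.property (AlgSp.IsAlgSpace.yon_obj V) _).2 fun z => ?_
  obtain ⟨v, hv⟩ := GrothLib.AlgSp.surjective_map_of_repWith rs z
  exact ⟨_, _, r, 𝟙 _, (AlgSp.yon S).map h, v, AlgSp.IsAlgSpace.yon_obj R, AlgSp.IsAlgSpace.yon_obj V,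
    locP_smooth_of_etale F.property re, locP_smooth_id V, by rw [Category.comp_id]; exact hh.symm, hv, hPh⟩

/-- For spaces the chartwise reading gives back the property. -/
theorem mem_of_locQ_ofSpMap (hP : AlgSp.IsSmoothLocalST P) {F G : AlgSp.Sp S} (hF : AlgSp.IsAlgSpace F)
    (hG : AlgSp.IsAlgSpace G) (a : F ⟶ G) (h : LocQ P (ofSpMap a)) : P a := by
  obtain ⟨U, V, x, y, h₀, α, hx, hx', hy, hh⟩ := h
  let a' := spHom (BasedFunctor.comp (toOverCat U) x)
  let b' := spHom (BasedFunctor.comp (toOverCat V) y)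
  have ha' : AlgSp.LocP @Smooth a' := mem_of_repByAlgSpWith_ofSpMap isoInvariant_locP
    compStable_locP_smooth.detected (AlgSp.IsAlgSpace.yon_obj U) hF a'
    (repByAlgSpWith_of_iso (isoOfSpHom _) (repByAlgSpWith_equiv_comp _ (isEquivOver_toOverCat U) hx))
  have hs : AlgSp.IsSurjectiveMor a' := mem_of_repByAlgSpWith_ofSpMap isoInvariant_surjective
    detectedBySchemes_surjective (AlgSp.IsAlgSpace.yon_obj U) hF a'
    (repByAlgSpWith_of_iso (isoOfSpHom _) (repByAlgSpWith_equiv_comp _ (isEquivOver_toOverCat U) hx'))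
  have hb' : AlgSp.LocP @Smooth b' := mem_of_repByAlgSpWith_ofSpMap isoInvariant_locP
    compStable_locP_smooth.detected (AlgSp.IsAlgSpace.yon_obj V) hG b'
    (repByAlgSpWith_of_iso (isoOfSpHom _) (repByAlgSpWith_equiv_comp _ (isEquivOver_toOverCat V) hy))
  obtain ⟨i⟩ := iso_toOverCat_overMap h₀
  have e : a' ≫ a = (AlgSp.yon S).map h₀ ≫ b' := by
    have h1 := spHom_congr (whiskerLeftIso (toOverCat U) α ≪≫ whiskerRightIso i y)
    have h2 := spHom_comp (BasedFunctor.comp (toOverCat U) x) (ofSpMap a)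
    have h3 := spHom_comp (ofSpMap ((AlgSp.yon S).map h₀)) (BasedFunctor.comp (toOverCat V) y)
    rw [spHom_ofSpMap] at h2 h3
    exact h2.symm.trans (h1.trans h3)
  refine (hP.locality hF hG _).2 fun z => ?_
  obtain ⟨v, hv⟩ := hs z
  exact ⟨_, _, a', b', (AlgSp.yon S).map h₀, v, AlgSp.IsAlgSpace.yon_obj U, AlgSp.IsAlgSpace.yon_obj V, ha', hb',
    e, hv, hh⟩

theorem locQ_ofSpMap (hP : AlgSp.IsSmoothLocalST P) {F G : AlgSp.Sp S} (hF : AlgSp.IsAlgSpace F)
    (hG : AlgSp.IsAlgSpace G) {a : F ⟶ G} (h : P a) : LocQ P (ofSpMap a) :=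
  locQ_of_spaceSquare hP hF hG (x := BasedFunctor.id _) (y := BasedFunctor.id _) a (Iso.refl _)
    (SmoothSurj.isEquivOver _ (IsEquivOver.refl _)) (repByAlgSpWith_id locP_smooth_id _) h

/-- A space square gives back a scheme square and conversely. -/
theorem locQ_iff_spaceSquare (hP : AlgSp.IsSmoothLocalST P) (f : 𝒳 ⥤ᵇ 𝒴) :
    LocQ P f ↔ ∃ (U V : AlgSp.Space S) (x : ofSp U.obj ⥤ᵇ 𝒳) (y : ofSp V.obj ⥤ᵇ 𝒴) (h : U ⟶ V)
      (_ : BasedFunctor.comp x f ≅ BasedFunctor.comp (ofSpMap h.hom) y),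
      RepByAlgSpWith (AlgSp.LocP @Smooth) x ∧ RepByAlgSpWith AlgSp.IsSurjectiveMor x ∧
      RepByAlgSpWith (AlgSp.LocP @Smooth) y ∧ P h.hom := by
  constructor
  · rintro ⟨U, V, x, y, h, α, hx, hx', hy, hh⟩
    obtain ⟨i⟩ := iso_toOverCat_overMap h
    exact ⟨⟨_, AlgSp.IsAlgSpace.yon_obj U⟩, ⟨_, AlgSp.IsAlgSpace.yon_obj V⟩, BasedFunctor.comp (toOverCat U) x,
      BasedFunctor.comp (toOverCat V) y, ObjectProperty.homMk ((AlgSp.yon S).map h),
      whiskerLeftIso (toOverCat U) α ≪≫ whiskerRightIso i y,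
      repByAlgSpWith_equiv_comp _ (isEquivOver_toOverCat U) hx,
      repByAlgSpWith_equiv_comp _ (isEquivOver_toOverCat U) hx',
      repByAlgSpWith_equiv_comp _ (isEquivOver_toOverCat V) hy, hh⟩
  · rintro ⟨U, V, x, y, h, α, hx, hx', hy, hh⟩
    exact locQ_of_spaceSquare hP U.property V.property h.hom α ⟨hx, hx'⟩ hy hh

/-- For representable morphisms and properties fppf local on the base the chartwise reading agrees. -/
theorem repByAlgSpWith_of_locQ (hP : AlgSp.IsSmoothLocalST P) (hP₁ : StableSp P)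
    (hP₂ : AlgSp.IsLocalOnBase AlgSp.IsFppfCover P) (h𝒳 : IsAlgStack Scheme.fppfPrecoverage 𝒳)
    (h𝒴 : IsAlgStack Scheme.fppfPrecoverage 𝒴) (hf : RepByAlgSp1 f) (hq : LocQ P f) : RepByAlgSpWith P f := by
  intro U z
  obtain ⟨V, y, hy, hys⟩ := h𝒴.atlas
  obtain ⟨F, e, he⟩ := hf U z
  obtain ⟨G, e', he'⟩ := hf V y
  have hG := mem_rep_of_locQ hP h𝒳 h𝒴 hq y hy G e' he'
  obtain ⟨V', c, l, hc, hcs, ⟨j⟩⟩ := exists_lift_chart z y hy hys
  let a := spMapOfOver (BasedFunctor.comp e (_root_.FibCat.fpFst z f))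
  let b := spMapOfOver (BasedFunctor.comp e' (_root_.FibCat.fpFst y f))
  let cm := (AlgSp.yon S).map c
  let lm := (AlgSp.yon S).map l
  have hVa := GrothLib.AlgSp.isAlgSpace_pullback' (AlgSp.IsAlgSpace.yon_obj U) (AlgSp.IsAlgSpace.yon_obj V')
    F.property cm a
  have hVb := GrothLib.AlgSp.isAlgSpace_pullback' (AlgSp.IsAlgSpace.yon_obj V) (AlgSp.IsAlgSpace.yon_obj V')
    G.property lm b
  obtain ⟨ic⟩ := iso_toOverCat_overMap c
  obtain ⟨il⟩ := iso_toOverCat_overMap l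
  have := IsEquivOver.full (isEquivOver_toOverCat U)
  have := IsEquivOver.faithful (isEquivOver_toOverCat U)
  have := IsEquivOver.full (isEquivOver_toOverCat V)
  have := IsEquivOver.faithful (isEquivOver_toOverCat V)
  let sqa := IsPullback.of_hasPullback cm a
  let sqb := IsPullback.of_hasPullback lm b
  let Ma := Fp.map (F := ofSpMap cm) (G := ofSpMap a) (toOverCat V') e (toOverCat U) ic
    (isoOfSpMapOfOver (BasedFunctor.comp e (_root_.FibCat.fpFst z f)))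
  let Mb := Fp.map (F := ofSpMap lm) (G := ofSpMap b) (toOverCat V') e' (toOverCat V) il
    (isoOfSpMapOfOver (BasedFunctor.comp e' (_root_.FibCat.fpFst y f)))
  let Ea := BasedFunctor.comp (spToFp sqa.w) (BasedFunctor.comp Ma (Fp.paste f z (GrothLib.FibCat.overMap c)))
  let Eb := BasedFunctor.comp (spToFp sqb.w) (BasedFunctor.comp Mb (Fp.paste f y (GrothLib.FibCat.overMap l)))
  have hEa : _root_.FibCat.IsEquivOver Ea := IsEquivOver.comp (isEquivOver_spToFp sqa) (IsEquivOver.comp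
    (Fp.isEquivOver_map _ _ _ _ _ (isEquivOver_toOverCat V') he)
    (Fp.isEquivOver_paste f z (GrothLib.FibCat.overMap c)))
  have hEb : _root_.FibCat.IsEquivOver Eb := IsEquivOver.comp (isEquivOver_spToFp sqb) (IsEquivOver.comp
    (Fp.isEquivOver_map _ _ _ _ _ (isEquivOver_toOverCat V') he')
    (Fp.isEquivOver_paste f y (GrothLib.FibCat.overMap l)))
  have hPb : P (pullback.fst lm b) := hP₁ G.property (AlgSp.IsAlgSpace.yon_obj V) hVb (AlgSp.IsAlgSpace.yon_obj V')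
    b lm (pullback.fst lm b) (pullback.snd lm b) sqb.flip hG
  have hR : HasRep P (_root_.FibCat.fpFst (BasedFunctor.comp (GrothLib.FibCat.overMap l) y) f) :=
    ⟨⟨_, hVb⟩, Eb, hEb, (spMapOfOver_toOverCat (pullback.fst lm b)).symm ▸ hPb⟩
  have hR' : HasRep P (_root_.FibCat.fpFst (BasedFunctor.comp (GrothLib.FibCat.overMap c) z) f) :=
    HasRep.of_equiv (Fp.congr j.symm (Iso.refl f)) (Fp.isEquivOver_congr _ _) (Iso.refl _) hR
  have hPa : P (pullback.fst cm a) :=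
    spMapOfOver_toOverCat (pullback.fst cm a) ▸ hR'.mem (isoInvariant_of_stableSp hP₁) ⟨_, hVa⟩ Ea hEa
  have hcov : AlgSp.IsFppfCover (fun _ : PUnit.{u + 1} => (AlgSp.yon S).obj V') (fun _ => cm) := by
    refine ⟨fun _ => ⟨?_, ?_⟩, fun x => ⟨PUnit.unit, ?_⟩⟩
    · exact GrothLib.AlgSp.EtLocal.locP_of_repWith GrothLib.AlgSp.EtLocal.flat (AlgSp.IsAlgSpace.yon_obj U)
        ((AlgSp.repWith_yon_map_iff _ _).2 (inferInstance : Flat c.left))
    · exact GrothLib.AlgSp.EtLocal.locP_of_repWith GrothLib.AlgSp.EtLocal.lfp (AlgSp.IsAlgSpace.yon_obj U)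
        ((AlgSp.repWith_yon_map_iff _ _).2 (inferInstance : LocallyOfFinitePresentation c.left))
    · exact GrothLib.AlgSp.surjective_map_of_repWith ((AlgSp.repWith_yon_map_iff _ _).2 hcs) x
  exact ⟨F, e, he, (hP₂ _ _ (AlgSp.IsAlgSpace.yon_obj U) (fun _ => AlgSp.IsAlgSpace.yon_obj V') hcov
    a F.property (fun _ => pullback cm a) (fun _ => pullback.fst cm a) (fun _ => pullback.snd cm a)
    (fun _ => hVa) (fun _ => sqa.flip)).2 fun _ => hPa⟩

section CompBaseChange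

variable {𝒵 : _root_.AlgSt.Cat S} {g : 𝒴 ⥤ᵇ 𝒵}

/-- Composition. -/
theorem locQ_comp (hP : AlgSp.IsSmoothLocalST P)
    (hPc : ∀ ⦃X₁ Y₁ Z₁ : AlgSp.Sp S⦄, AlgSp.IsAlgSpace X₁ → AlgSp.IsAlgSpace Y₁ → AlgSp.IsAlgSpace Z₁ →
      ∀ (a : X₁ ⟶ Y₁) (b : Y₁ ⟶ Z₁), P a → P b → P (a ≫ b))
    (h𝒳 : _root_.FibCat.IsFibGrpd 𝒳.p) (hf : LocQ P f) (hg : LocQ P g) : LocQ P (BasedFunctor.comp f g) := by
  obtain ⟨U, V, x, y, h, α, hx, hx', hy, hh⟩ := hf
  obtain ⟨V', W, y', z, k, β, hy', hys', hz, hk⟩ := hg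
  obtain ⟨G, e, he, hsm, hsu⟩ := repByAlgSpWith_inf isoInvariant_locP hy' hys' V y
  let a := spMapOfOver (BasedFunctor.comp e (_root_.FibCat.fpFst y y'))
  let c := spMapOfOver (BasedFunctor.comp e (_root_.FibCat.fpSnd y y'))
  have hc : AlgSp.LocP @Smooth c := HasRep.mem (hy V' y') isoInvariant_locP G (BasedFunctor.comp e (Fp.symm y y'))
    (IsEquivOver.comp he (Fp.isEquivOver_symm y y'))
  let hm := (AlgSp.yon S).map h
  let km := (AlgSp.yon S).map k
  have sq := IsPullback.of_hasPullback hm a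
  have hT := GrothLib.AlgSp.isAlgSpace_pullback' (AlgSp.IsAlgSpace.yon_obj V) (AlgSp.IsAlgSpace.yon_obj U)
    G.property hm a
  have hP₁ : P (pullback.snd hm a) := hP.baseChange (AlgSp.IsAlgSpace.yon_obj U) (AlgSp.IsAlgSpace.yon_obj V) hT
    G.property hm a (pullback.snd hm a) (pullback.fst hm a) sq hsm hh
  have hP₂ : P (c ≫ km) :=
    hP.precomp G.property (AlgSp.IsAlgSpace.yon_obj V') (AlgSp.IsAlgSpace.yon_obj W) c km hc hk
  have hP₃ : P (pullback.snd hm a ≫ c ≫ km) := hPc hT G.property (AlgSp.IsAlgSpace.yon_obj W) _ _ hP₁ hP₂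
  have hfst : SmoothSurj (ofSpMap (pullback.fst hm a)) := by
    refine smoothSurj_ofSpMap hT (AlgSp.IsAlgSpace.yon_obj U) (GrothLib.AlgSp.EtLocal.locP_of_isPullback
      GrothLib.AlgSp.EtLocal.smooth G.property (AlgSp.IsAlgSpace.yon_obj V) (AlgSp.IsAlgSpace.yon_obj U) sq.flip hsm)
      fun u => ?_
    obtain ⟨v, hv⟩ := hsu (AlgSp.Points.map hm u)
    obtain ⟨p, hp, -⟩ := GrothLib.AlgSp.exists_of_isPullback sq hv.symm
    exact ⟨p, hp⟩
  have hxU : SmoothSurj (BasedFunctor.comp (toOverCat U) x) :=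
    (show SmoothSurj x from ⟨hx, hx'⟩).equiv_comp _ (isEquivOver_toOverCat U)
  let T := pullback hm a
  obtain ⟨i₁⟩ := iso_of_spMapOfOver_eq
    (Φ := BasedFunctor.comp (BasedFunctor.comp (ofSpMap (pullback.fst hm a)) (toOverCat U)) (_root_.AlgSt.overMap h))
    (Ψ := BasedFunctor.comp (ofSpMap (pullback.snd hm a)) (BasedFunctor.comp e (_root_.FibCat.fpFst y y')))
    (by rw [spMapOfOver_comp_overMap, spMapOfOver_toOverCat, spMapOfOver_ofSpMap_comp]; exact sq.w)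
  obtain ⟨i₂⟩ := iso_of_spMapOfOver_eq
    (Φ := BasedFunctor.comp (BasedFunctor.comp (ofSpMap (pullback.snd hm a))
      (BasedFunctor.comp e (_root_.FibCat.fpSnd y y'))) (_root_.AlgSt.overMap k))
    (Ψ := BasedFunctor.comp (ofSpMap (pullback.snd hm a ≫ c ≫ km)) (toOverCat W))
    (by rw [spMapOfOver_comp_overMap, spMapOfOver_toOverCat, spMapOfOver_ofSpMap_comp, Category.assoc])
  exact locQ_of_spaceSquare hP hT (AlgSp.IsAlgSpace.yon_obj W)
    (x := BasedFunctor.comp (ofSpMap (pullback.fst hm a)) (BasedFunctor.comp (toOverCat U) x))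
    (y := BasedFunctor.comp (toOverCat W) z) (pullback.snd hm a ≫ c ≫ km)
    (whiskerLeftIso (BasedFunctor.comp (ofSpMap (pullback.fst hm a)) (toOverCat U)) (whiskerRightIso α g) ≪≫
      whiskerRightIso i₁ (BasedFunctor.comp y g) ≪≫
      whiskerLeftIso (ofSpMap (pullback.snd hm a)) (whiskerLeftIso e (whiskerRightIso (_root_.FibCat.fpIso y y') g)) ≪≫
      whiskerLeftIso (BasedFunctor.comp (ofSpMap (pullback.snd hm a))
        (BasedFunctor.comp e (_root_.FibCat.fpSnd y y'))) β ≪≫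
      whiskerRightIso i₂ z)
    (hfst.comp (isFibGrpd_ofSp _) (isFibGrpd_ofSp _) hxU)
    (repByAlgSpWith_equiv_comp _ (isEquivOver_toOverCat W) hz) hP₃

variable {𝒴' : _root_.AlgSt.Cat S}

/-- Base change. -/
theorem locQ_fpFst (hP : AlgSp.IsSmoothLocalST P) (hPb : StableSp P)
    (h𝒳 : _root_.FibCat.IsFibGrpd 𝒳.p) (h𝒴 : _root_.FibCat.IsFibGrpd 𝒴.p)
    (h𝒴' : IsAlgStack Scheme.fppfPrecoverage 𝒴') (g : 𝒴' ⥤ᵇ 𝒴) (hq : LocQ P f) :
    LocQ P (_root_.FibCat.fpFst g f) := by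
  obtain ⟨U, V, x, y, h, α, hx, hx', hy, hh⟩ := hq
  obtain ⟨W, w, hw, hws⟩ := h𝒴'.atlas
  obtain ⟨G, e, he⟩ := repByAlgSp1_of_repByAlgSpWith hy W (BasedFunctor.comp w g)
  let a₁ := spMapOfOver (BasedFunctor.comp e (_root_.FibCat.fpFst (BasedFunctor.comp w g) y))
  have ha₁ : AlgSp.LocP @Smooth a₁ := HasRep.mem (hy W (BasedFunctor.comp w g)) isoInvariant_locP G e he
  let Q := BasedFunctor.comp e (leftMap w g y)
  have hQ : SmoothSurj Q := ((show SmoothSurj w from ⟨hw, hws⟩).leftMap g y).equiv_comp e he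
  obtain ⟨x₁, hx₁, ⟨j⟩⟩ := exists_chart_baseChange h𝒴 h𝒴'.isStack.1 h𝒳 f g x y h α ⟨hx, hx'⟩ Q hQ
  let b := spMapOfOver (BasedFunctor.comp Q (_root_.FibCat.fpSnd g y))
  let hm := (AlgSp.yon S).map h
  have hT := GrothLib.AlgSp.isAlgSpace_pullback' (AlgSp.IsAlgSpace.yon_obj V) G.property
    (AlgSp.IsAlgSpace.yon_obj U) b hm
  have hP₁ : P (pullback.fst b hm) := hPb (AlgSp.IsAlgSpace.yon_obj U) (AlgSp.IsAlgSpace.yon_obj V) hT G.property hm b
    (pullback.fst b hm) (pullback.snd b hm) (IsPullback.of_hasPullback b hm).flip hh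
  exact locQ_of_spaceSquare hP hT G.property (x := x₁)
    (y := BasedFunctor.comp (ofSpMap a₁) (BasedFunctor.comp (toOverCat W) w)) (pullback.fst b hm)
    (j ≪≫ whiskerLeftIso (ofSpMap (pullback.fst b hm))
      (whiskerRightIso (isoOfSpMapOfOver (BasedFunctor.comp e (_root_.FibCat.fpFst (BasedFunctor.comp w g) y))) w))
    hx₁
    (repByAlgSpWith_smooth_comp (isFibGrpd_ofSp _) (isFibGrpd_ofSp _) _ _
      (repByAlgSpWith_smooth_ofSpMap G.property (AlgSp.IsAlgSpace.yon_obj W) ha₁)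
      (repByAlgSpWith_equiv_comp _ (isEquivOver_toOverCat W) hw)) hP₁

end CompBaseChange

end GrothLib.AlgSt
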