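import Groth.Agent.Lib.AlgSt.DiagMor
import Groth.Agent.Lib.AlgSt.DiagSpaces

/-!
# Diagonals of morphisms of categories fibred in groupoids: locality, composition, cancellation
-/

set_option backward.isDefEq.respectTransparency false
set_option backward.isDefEq.respectTransparency.types false

universe u

open CategoryTheory CategoryTheory.Limits AlgebraicGeometry Opposite

namespace GrothLib.AlgSt

open _root_.AlgSt GrothLib.FibCat

variable {S : Scheme.{u}} {P : MorphismProperty (AlgSp.Sp S)}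

theorem isEtaleMor_of_repWith {F G : AlgSp.Sp S} {f : F ⟶ G} (hf : AlgSp.RepWith @Etale f) :
    AlgSp.IsEtaleMor f := fun _ _ hφ => GrothLib.AlgSp.repWith_comp hφ hf

theorem isEtCover_of_etale_surjective {V : Over S} {F : AlgSp.Sp S} {p : (AlgSp.yon S).obj V ⟶ F}
    (pe : AlgSp.RepWith @Etale p) (ps : AlgSp.RepWith @Surjective p) :
    AlgSp.IsEtCover (fun _ : PUnit.{u + 1} => (AlgSp.yon S).obj V) (fun _ => p) :=
  ⟨fun _ => isEtaleMor_of_repWith pe,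
    fun x => ⟨PUnit.unit, GrothLib.AlgSp.surjective_map_of_repWith ps x⟩⟩

theorem detectedBySchemes_of_isLocalOnBase_etale (hloc : AlgSp.IsLocalOnBase AlgSp.IsEtCover P) :
    DetectedBySchemes P := fun F₂ F₁ h₂ h₁ b h => by
  obtain ⟨V, p, pe, ps⟩ := h₁.atlas
  exact (hloc _ _ h₁ (fun _ => AlgSp.IsAlgSpace.yon_obj V) (isEtCover_of_etale_surjective pe ps)
    b h₂ (fun _ => pullback p b) (fun _ => pullback.fst p b) (fun _ => pullback.snd p b)
    (fun _ => GrothLib.AlgSp.isAlgSpace_pullback' h₁ (AlgSp.IsAlgSpace.yon_obj V) h₂ p b)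
    (fun _ => (IsPullback.of_hasPullback p b).flip)).2 fun _ => h V p

/-- A property stable under composition and local on the base for etale coverings passes to composites. -/
theorem repByAlgSpWith_comp_etale (hPb : StableSp P)
    (hPc : ∀ ⦃X Y Z : AlgSp.Sp S⦄, AlgSp.IsAlgSpace X → AlgSp.IsAlgSpace Y → AlgSp.IsAlgSpace Z →
      ∀ (a : X ⟶ Y) (b : Y ⟶ Z), P a → P b → P (a ≫ b))
    (hloc : AlgSp.IsLocalOnBase AlgSp.IsEtCover P) {𝒳 𝒴 𝒵 : _root_.AlgSt.Cat S}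
    (h𝒳 : _root_.FibCat.IsFibGrpd 𝒳.p) (h𝒴 : _root_.FibCat.IsFibGrpd 𝒴.p)
    (f : 𝒳 ⥤ᵇ 𝒴) (g : 𝒴 ⥤ᵇ 𝒵) (hf : RepByAlgSpWith P f) (hg : RepByAlgSpWith P g) :
    RepByAlgSpWith P (BasedFunctor.comp f g) :=
  repByAlgSpWith_comp' h𝒳 h𝒴 (isoInvariant_of_stableSp hPb) hPc
    (detectedBySchemes_of_isLocalOnBase_etale hloc) f g hf hg

theorem repByAlgSpWith_diag_comp_etale (hPb : StableSp P)
    (hPc : ∀ ⦃X Y Z : AlgSp.Sp S⦄, AlgSp.IsAlgSpace X → AlgSp.IsAlgSpace Y → AlgSp.IsAlgSpace Z →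
      ∀ (a : X ⟶ Y) (b : Y ⟶ Z), P a → P b → P (a ≫ b))
    (hloc : AlgSp.IsLocalOnBase AlgSp.IsEtCover P) {𝒳 𝒴 𝒵 : _root_.AlgSt.Cat S}
    (h𝒳 : _root_.FibCat.IsFibGrpd 𝒳.p) (h𝒴 : _root_.FibCat.IsFibGrpd 𝒴.p)
    (f : 𝒳 ⥤ᵇ 𝒴) (g : 𝒴 ⥤ᵇ 𝒵) (hf : RepByAlgSpWith P (_root_.FibCat.diag f))
    (hg : RepByAlgSpWith P (_root_.FibCat.diag g)) :
    RepByAlgSpWith P (_root_.FibCat.diag (BasedFunctor.comp f g)) :=
  repByAlgSpWith_of_iso (diagCompIso f g) (repByAlgSpWith_comp_etale hPb hPc hloc h𝒳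
    (Fp.isFibGrpd h𝒳 h𝒳 h𝒴) _ _ hf (repByAlgSpWith_fpToFp h𝒳 f f g hg))

/-- Cancellation: if `a ≫ b` and `b` have `P`, so does `a`, for `P` stable under base change with cancellation. -/
theorem repByAlgSpWith_of_comp_cancel (hPb : StableSp P)
    (hcancel : ∀ ⦃X Y Z : AlgSp.Sp S⦄, AlgSp.IsAlgSpace X → AlgSp.IsAlgSpace Y → AlgSp.IsAlgSpace Z →
      ∀ (a : X ⟶ Y) (b : Y ⟶ Z), P b → P (a ≫ b) → P a)
    {𝒳 𝒴 𝒵 : _root_.AlgSt.Cat S} (a : 𝒳 ⥤ᵇ 𝒴) (b : 𝒴 ⥤ᵇ 𝒵)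
    (hb : RepByAlgSpWith P b) (hab : RepByAlgSpWith P (BasedFunctor.comp a b)) : RepByAlgSpWith P a := by
  intro U y
  have hP := isoInvariant_of_stableSp hPb
  let z := BasedFunctor.comp y b
  let s : _root_.FibCat.overCat U ⥤ᵇ _root_.FibCat.fp z b :=
    _root_.FibCat.fpLift (BasedFunctor.id _) y (Iso.refl _)
  let π := _root_.FibCat.fpFst (_root_.FibCat.fpSnd z b) a
  obtain ⟨F₁, e₁, he₁, hP₁⟩ := hb U z
  have hK : RepByAlgSp (_root_.FibCat.fp (_root_.FibCat.fpSnd z b) a) :=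
    repByAlgSp_of_isEquivOver' (Fp.pasteComp a b z) (Fp.isEquivOver_pasteComp a b z) (HasRep.repByAlgSp (hab U z))
  obtain ⟨F₂, e₂, he₂⟩ := hK
  obtain ⟨e₁', he₁', ⟨η⟩, ⟨ε⟩⟩ := IsEquivOver.symm he₁
  let Φ := BasedFunctor.comp (BasedFunctor.comp e₂ π) e₁'
  let iG : BasedFunctor.comp e₂ π ≅ BasedFunctor.comp (ofSpMap (spHom Φ)) e₁ :=
    (whiskerLeftIso (BasedFunctor.comp e₂ π) ε).symm ≪≫ whiskerRightIso (isoOfSpHom Φ) e₁
  have hq : P (spHom Φ) := by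
    have h₂ := HasRep.mem (hab U z) hP F₂ (BasedFunctor.comp e₂ (Fp.pasteComp a b z))
      (IsEquivOver.comp he₂ (Fp.isEquivOver_pasteComp a b z))
    have eq : spMapOfOver (BasedFunctor.comp (BasedFunctor.comp e₂ (Fp.pasteComp a b z))
        (_root_.FibCat.fpFst z (BasedFunctor.comp a b))) =
        spHom Φ ≫ spMapOfOver (BasedFunctor.comp e₁ (_root_.FibCat.fpFst z b)) := by
      have h1 := spMapOfOver_congr (whiskerRightIso iG (_root_.FibCat.fpFst z b))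
      have h2 := spMapOfOver_comp (ofSpMap (spHom Φ)) (BasedFunctor.comp e₁ (_root_.FibCat.fpFst z b))
      rw [spHom_ofSpMap] at h2
      exact h1.trans h2
    rw [eq] at h₂
    exact hcancel F₂.property F₁.property (AlgSp.IsAlgSpace.yon_obj U) _ _ hP₁ h₂
  have hπ : RepByAlgSpWith P π :=
    (repByAlgSpWith_iff_of_square (f := π) (f' := ofSpMap (spHom Φ)) e₂ e₁ he₂ he₁ iG.symm).2
      (repByAlgSpWith_ofSpMap F₂.property F₁.property _ fun V c =>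
        hPb F₂.property F₁.property (GrothLib.AlgSp.isAlgSpace_pullback' F₁.property
          (AlgSp.IsAlgSpace.yon_obj V) F₂.property c (spHom Φ)) (AlgSp.IsAlgSpace.yon_obj V) _ c _ _
          (IsPullback.of_hasPullback c (spHom Φ)).flip hq)
  exact HasRep.of_equiv (Fp.paste a (_root_.FibCat.fpSnd z b) s)
    (Fp.isEquivOver_paste a (_root_.FibCat.fpSnd z b) s) (Iso.refl _) (hπ U s)

theorem repByAlgSpWith_diag_of_diag_comp_cancel (hPb : StableSp P)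
    (hcancel : ∀ ⦃X Y Z : AlgSp.Sp S⦄, AlgSp.IsAlgSpace X → AlgSp.IsAlgSpace Y → AlgSp.IsAlgSpace Z →
      ∀ (a : X ⟶ Y) (b : Y ⟶ Z), P b → P (a ≫ b) → P a)
    {𝒳 𝒴 𝒵 : _root_.AlgSt.Cat S} (h𝒳 : _root_.FibCat.IsFibGrpd 𝒳.p) (f : 𝒳 ⥤ᵇ 𝒴) (g : 𝒴 ⥤ᵇ 𝒵)
    (hg : RepByAlgSpWith P (_root_.FibCat.diag g))
    (hfg : RepByAlgSpWith P (_root_.FibCat.diag (BasedFunctor.comp f g))) :
    RepByAlgSpWith P (_root_.FibCat.diag f) :=
  repByAlgSpWith_of_comp_cancel hPb hcancel _ (fpToFp f f g) (repByAlgSpWith_fpToFp h𝒳 f f g hg)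
    (repByAlgSpWith_of_iso (diagCompIso f g).symm hfg)

theorem aux_id_comp {C : Type*} [Category C] {A B : C} {a c d : A ⟶ A} {b : B ⟶ B} (ι : A ⟶ B) (ha : a = 𝟙 A)
    (hc : c = 𝟙 A) (hd : d = 𝟙 A) (hb : b = 𝟙 B) : a ≫ ι = (c ≫ d ≫ ι) ≫ b := by
  subst ha hc hd hb; simp

section Point

variable {𝒳 𝒴 : _root_.AlgSt.Cat S} {f : 𝒳 ⥤ᵇ 𝒴} {U : Over S}

/-- The point of the base given by a point of `𝒳 ×_𝒴 𝒳`. -/
def diagBcPoint_y (G : _root_.FibCat.overCat U ⥤ᵇ _root_.FibCat.fp f f) : _root_.FibCat.overCat U ⥤ᵇ 𝒴 :=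
  BasedFunctor.comp (BasedFunctor.comp G (_root_.FibCat.fpFst f f)) f

/-- A point of `𝒳 ×_𝒴 𝒳` lifts to the base change to its image. -/
def diagBcPoint (G : _root_.FibCat.overCat U ⥤ᵇ _root_.FibCat.fp f f) :
    _root_.FibCat.overCat U ⥤ᵇ
      _root_.FibCat.fp (_root_.FibCat.fpFst (diagBcPoint_y G) f) (_root_.FibCat.fpFst (diagBcPoint_y G) f) :=
  _root_.FibCat.fpLift
    (_root_.FibCat.fpLift (F := diagBcPoint_y G) (G := f) (BasedFunctor.id _)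
      (BasedFunctor.comp G (_root_.FibCat.fpFst f f)) (Iso.refl _))
    (_root_.FibCat.fpLift (F := diagBcPoint_y G) (G := f) (BasedFunctor.id _)
      (BasedFunctor.comp G (_root_.FibCat.fpSnd f f)) (whiskerLeftIso G (_root_.FibCat.fpIso f f)))
    (Iso.refl _)

/-- The lift maps to the given point. -/
def diagBcPointIso (G : _root_.FibCat.overCat U ⥤ᵇ _root_.FibCat.fp f f) :
    BasedFunctor.comp (diagBcPoint G) (diagBcMap f (diagBcPoint_y G)) ≅ G :=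
  natIsoOfComponents
    (fun T => Fp.isoMk (a := (diagBcMap f (diagBcPoint_y G)).obj ((diagBcPoint G).obj T)) (b := G.obj T)
      (Iso.refl _) (Iso.refl _)
      (aux_id_comp (G.obj T).obj.iso.hom (f.map_id ((G.obj T).obj.fst)) rfl ((diagBcPoint_y G).map_id T)
        (f.map_id ((G.obj T).obj.snd))))
    (fun T => (Fp.isHomLift_iff _ _).2
      (IsHomLift.id ((BasedFunctor.comp G (_root_.FibCat.fpFst f f)).w_obj T)))
    (fun {a b} φ => Fp.hom_ext ((Category.comp_id _).trans (Category.id_comp _).symm)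
      ((Category.comp_id _).trans (Category.id_comp _).symm))

theorem repByAlgSpWith_fpFst_diagBcMap (f : 𝒳 ⥤ᵇ 𝒴) {𝒴' : _root_.AlgSt.Cat S} (y : 𝒴' ⥤ᵇ 𝒴)
    (h : RepByAlgSpWith P (_root_.FibCat.diag (_root_.FibCat.fpFst y f))) :
    RepByAlgSpWith P (_root_.FibCat.fpFst (diagBcMap f y) (_root_.FibCat.diag f)) :=
  (repByAlgSpWith_iff_of_square (f := _root_.FibCat.fpFst (diagBcMap f y) (_root_.FibCat.diag f))
    (f' := _root_.FibCat.diag (_root_.FibCat.fpFst y f))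
    (diagBcLift f y) (BasedFunctor.id (_root_.FibCat.fp (_root_.FibCat.fpFst y f) (_root_.FibCat.fpFst y f)))
    (isEquivOver_diagBcLift f y)
    (IsEquivOver.refl (_root_.FibCat.fp (_root_.FibCat.fpFst y f) (_root_.FibCat.fpFst y f))) (Iso.refl _)).2 h

end Point

section General

variable {𝒜 ℬ 𝒞 : _root_.AlgSt.Cat S}

/-- A base change having the property gives the property at the points factoring through it. -/
theorem hasRep_of_fpFst_iso (Δ : 𝒜 ⥤ᵇ 𝒞) (M : ℬ ⥤ᵇ 𝒞) {U : Over S} (G : _root_.FibCat.overCat U ⥤ᵇ 𝒞)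
    (G' : _root_.FibCat.overCat U ⥤ᵇ ℬ) (e : BasedFunctor.comp G' M ≅ G)
    (h : RepByAlgSpWith P (_root_.FibCat.fpFst M Δ)) : HasRep P (_root_.FibCat.fpFst G Δ) := by
  have h₂ : HasRep P (_root_.FibCat.fpFst (BasedFunctor.comp G' M) Δ) :=
    HasRep.of_equiv (Fp.paste Δ M G') (Fp.isEquivOver_paste Δ M G') (Iso.refl _) (h U G')
  exact HasRep.of_equiv (Fp.congr e (Iso.refl Δ)) (Fp.isEquivOver_congr _ _) (Iso.refl _) h₂

end General


/-- The property of the diagonal can be checked after base change to schemes. -/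
theorem repByAlgSpWith_diag_of_forall_fpFst {𝒳 𝒴 : _root_.AlgSt.Cat S} (f : 𝒳 ⥤ᵇ 𝒴)
    (h : ∀ (T : Over S) (y : _root_.FibCat.overCat T ⥤ᵇ 𝒴),
      RepByAlgSpWith P (_root_.FibCat.diag (_root_.FibCat.fpFst y f))) :
    RepByAlgSpWith P (_root_.FibCat.diag f) := fun U G =>
  hasRep_of_fpFst_iso _ (diagBcMap f (diagBcPoint_y G)) G (diagBcPoint G) (diagBcPointIso G)
    (repByAlgSpWith_fpFst_diagBcMap f (diagBcPoint_y G) (h U (diagBcPoint_y G)))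

end GrothLib.AlgSt
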