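import Groth.Agent.Lib.AlgSt.DiagLFT
import Groth.Agent.Lib.AlgSt.EtaleDiag
import Groth.Agent.Lib.AlgSp.UnramMono

/-!
# The diagonal of a Deligne–Mumford stack is unramified
-/

set_option backward.isDefEq.respectTransparency false
set_option backward.isDefEq.respectTransparency.types false

universe u

open CategoryTheory CategoryTheory.Limits AlgebraicGeometry Opposite

namespace GrothLib.AlgSt

open _root_.AlgSt GrothLib.FibCat

variable {S : Scheme.{u}} {𝒳 𝒴 : _root_.AlgSt.Cat S}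

/-- Unramified morphisms of schemes. -/
abbrev UnrP : MorphismProperty Scheme.{u} := @LocallyOfFiniteType ⊓ @FormallyUnramified

theorem locP_smooth_of_isEtaleMor {X Y : AlgSp.Sp S} {f : X ⟶ Y} (_ : AlgSp.IsAlgSpace X) (hY : AlgSp.IsAlgSpace Y)
    (h : AlgSp.IsEtaleMor f) : AlgSp.LocP @Smooth f :=
  GrothLib.AlgSp.locP_mono (P := @Etale) (Q := @Smooth)
    (fun _ _ c (_ : Etale c) => inferInstance) (GrothLib.AlgSp.locP_of_isEtaleMor hY h)

theorem locP_unramified_of_isEtaleMor {X Y : AlgSp.Sp S} {f : X ⟶ Y} (_ : AlgSp.IsAlgSpace X) (hY : AlgSp.IsAlgSpace Y)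
    (h : AlgSp.IsEtaleMor f) : AlgSp.LocP UnrP f :=
  GrothLib.AlgSp.locP_mono (P := @Etale) (Q := UnrP)
    (fun _ _ c (_ : Etale c) => ⟨inferInstance, inferInstance⟩) (GrothLib.AlgSp.locP_of_isEtaleMor hY h)

/-- Functors representable by algebraic spaces have unramified diagonal. -/
theorem repByAlgSpWith_unramified_diag_of_rep {f : 𝒳 ⥤ᵇ 𝒴} (hf : RepByAlgSp1 f) :
    RepByAlgSpWith (AlgSp.LocP UnrP) (_root_.FibCat.diag f) :=
  repByAlgSpWith_mono (fun _ _ a _ hY h => GrothLib.AlgSp.EtLocal.locP_of_repWith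
    (GrothLib.AlgSp.EtLocal.lft.inf GrothLib.AlgSp.EtLocal.formallyUnramified) hY
    (GrothLib.AlgSp.repWith_mono h fun _ _ g ⟨⟨(h1 : LocallyOfFiniteType g), (h2 : Mono g)⟩, _⟩ =>
      have : IsIso (pullback.diagonal g) := (pullback.isIso_diagonal_iff g).2 h2
      ⟨h1, inferInstance⟩)) (repByAlgSpWith_repWith_diag hf)

/-- The absolute diagonal of an algebraic stack is unramified, for a Deligne–Mumford stack. -/
theorem repByAlgSpWith_unramified_diag_toSelf (hDM : IsDM Scheme.fppfPrecoverage 𝒳) :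
    RepByAlgSpWith (AlgSp.LocP UnrP) (_root_.FibCat.diag (_root_.FibCat.toSelf 𝒳)) := by
  have h𝒳 := hDM.1
  obtain ⟨W, w, hwe, hws⟩ := hDM.2
  have hw : RepByAlgSpWith (AlgSp.LocP @Smooth) w := repByAlgSpWith_mono (fun _ _ _ hX hY h =>
    locP_smooth_of_isEtaleMor hX hY h) hwe
  let t := _root_.FibCat.toSelf 𝒳
  have hW := (isDM_of_repByAlgSp (repByAlgSp_overCat W)).1
  have hS := (isDM_of_repByAlgSp (repByAlgSp_selfOver (S := S))).1
  have hC : RepByAlgSpWith (AlgSp.LocP UnrP) (fpToFp w w t) := by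
    refine compStable_locP_unramified.repByAlgSpWith_of_comp (isAlgStack_fp h𝒳.isStack h𝒳.diag hW hW w w)
      (isAlgStack_fp hS.isStack hS.diag hW hW (BasedFunctor.comp w t) (BasedFunctor.comp w t)) hW _
      (_root_.FibCat.fpFst _ _) ?_
      (repByAlgSpWith_unramified_diag_of_rep (repByAlgSp1_fpFst _
        (repByAlgSp1_of_repByAlgSp (repByAlgSp_overCat W) repByAlgSp_selfOver (BasedFunctor.comp w t))))
    exact repByAlgSpWith_mono (fun _ _ _ hX hY h => locP_unramified_of_isEtaleMor hX hY h) (repByAlgSpWith_fpFst w hwe)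
  intro U y
  obtain ⟨F, e, he⟩ := h𝒳.diag U y
  refine ⟨F, e, he, ?_⟩
  let y₁ := BasedFunctor.comp y (_root_.FibCat.fpFst t t)
  let y₂ := BasedFunctor.comp y (_root_.FibCat.fpSnd t t)
  obtain ⟨V₁, c₁, l₁, hc₁, hc₁s, ⟨j₁⟩⟩ := exists_lift_chart y₁ w hw hws
  obtain ⟨V, c₂, l₂, hc₂, hc₂s, ⟨j₂⟩⟩ :=
    exists_lift_chart (BasedFunctor.comp (GrothLib.FibCat.overMap c₁) y₂) w hw hws
  let c := c₂ ≫ c₁
  let k₁ : BasedFunctor.comp (GrothLib.FibCat.overMap c) y₁ ≅
      BasedFunctor.comp (GrothLib.FibCat.overMap (c₂ ≫ l₁)) w :=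
    (whiskerRightIso (overMapCompIso c₂ c₁) y₁).symm ≪≫ whiskerLeftIso (GrothLib.FibCat.overMap c₂) j₁ ≪≫
      whiskerRightIso (overMapCompIso c₂ l₁) w
  let k₂ : BasedFunctor.comp (GrothLib.FibCat.overMap c) y₂ ≅ BasedFunctor.comp (GrothLib.FibCat.overMap l₂) w :=
    (whiskerRightIso (overMapCompIso c₂ c₁) y₂).symm ≪≫ j₂
  let κ : BasedFunctor.comp (GrothLib.FibCat.overMap (c₂ ≫ l₁)) (BasedFunctor.comp w t) ≅
      BasedFunctor.comp (GrothLib.FibCat.overMap l₂) (BasedFunctor.comp w t) :=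
    (whiskerRightIso k₁ t).symm ≪≫
      whiskerLeftIso (BasedFunctor.comp (GrothLib.FibCat.overMap c) y) (_root_.FibCat.fpIso t t) ≪≫
      whiskerRightIso k₂ t
  let y' := _root_.FibCat.fpLift (GrothLib.FibCat.overMap (c₂ ≫ l₁)) (GrothLib.FibCat.overMap l₂) κ
  let yc := BasedFunctor.comp (GrothLib.FibCat.overMap c) y
  let j : BasedFunctor.comp y' (fpPair w w t) ≅ yc :=
    natIsoOfComponents
      (fun x => Fp.isoMk (a := (fpPair w w t).obj (y'.obj x)) (b := yc.obj x)
        (((BasedNatTrans.forgetful _ _).mapIso k₁).app x).symm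
        (((BasedNatTrans.forgetful _ _).mapIso k₂).app x).symm (by
          have h2 : k₂.hom.app x ≫ k₂.inv.app x = 𝟙 _ := congrArg (fun s => s.app x) k₂.hom_inv_id
          change t.map (k₁.inv.app x) ≫ (yc.obj x).obj.iso.hom =
            (t.map (k₁.inv.app x) ≫ (yc.obj x).obj.iso.hom ≫ t.map (k₂.hom.app x)) ≫ t.map (k₂.inv.app x)
          rw [Category.assoc, Category.assoc, ← t.map_comp, h2]
          exact (congrArg (t.map (k₁.inv.app x) ≫ ·)
            ((congrArg ((yc.obj x).obj.iso.hom ≫ ·) (t.map_id _)).trans (Category.comp_id _))).symm))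
      (fun x => (Fp.isHomLift_iff _ _).2
        (BasedNatTrans.isHomLift k₁.inv ((GrothLib.FibCat.overMap (c₂ ≫ l₁)).w_obj x).symm))
      (fun {a b} φ => Fp.hom_ext (k₁.inv.toNatTrans.naturality φ) (k₂.inv.toNatTrans.naturality φ))
  have hR : HasRep (AlgSp.LocP UnrP) (_root_.FibCat.fpFst yc (_root_.FibCat.diag t)) := by
    have := IsEquivOver.full (IsEquivOver.refl (_root_.FibCat.fp (BasedFunctor.comp w t) (BasedFunctor.comp w t)))
    have := IsEquivOver.faithful (IsEquivOver.refl (_root_.FibCat.fp (BasedFunctor.comp w t) (BasedFunctor.comp w t)))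
    let iG : BasedFunctor.comp (fpToFpLift w w t) (_root_.FibCat.fpFst (fpPair w w t) (_root_.FibCat.diag t)) ≅
        BasedFunctor.comp (fpToFp w w t) (BasedFunctor.id _) := Iso.refl _
    let E₁ := Fp.map (F := y') (G := fpToFp w w t) (F' := y')
      (G' := _root_.FibCat.fpFst (fpPair w w t) (_root_.FibCat.diag t))
      (BasedFunctor.id _) (fpToFpLift w w t) (BasedFunctor.id _) (Iso.refl y') iG
    exact HasRep.of_equiv (BasedFunctor.comp E₁ (BasedFunctor.comp
        (Fp.paste (_root_.FibCat.diag t) (fpPair w w t) y') (Fp.congr j (Iso.refl (_root_.FibCat.diag t)))))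
      (IsEquivOver.comp (Fp.isEquivOver_map _ _ _ _ _ (IsEquivOver.refl _)
          (isEquivOver_fpToFpLift hW.isStack.1 w w t))
        (IsEquivOver.comp (Fp.isEquivOver_paste (_root_.FibCat.diag t) (fpPair w w t) y')
          (Fp.isEquivOver_congr j (Iso.refl _))))
      (Iso.refl _) (hC V y')
  let b := spMapOfOver (BasedFunctor.comp e (_root_.FibCat.fpFst y (_root_.FibCat.diag t)))
  have : Smooth c.left := by
    have := hc₁
    have := hc₂
    rw [Over.comp_left]; infer_instance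
  have : Surjective c.left := by
    have := hc₁s
    have := hc₂s
    rw [Over.comp_left]; infer_instance
  refine locP_of_fppf_base (GrothLib.AlgSp.EtLocal.lft.inf GrothLib.AlgSp.EtLocal.formallyUnramified)
    (GrothLib.AlgSp.fppfDescends_lft.inf GrothLib.AlgSp.fppfDescends_formallyUnramified) F.property c b ?_
  obtain ⟨iF⟩ := iso_of_spMapOfOver_eq
    (Φ := BasedFunctor.comp (toOverCat V) (GrothLib.FibCat.overMap c))
    (Ψ := BasedFunctor.comp (ofSpMap ((AlgSp.yon S).map c)) (toOverCat U))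
    ((spMapOfOver_overMap c).trans (spMapOfOver_toOverCat _).symm)
  have := IsEquivOver.full (isEquivOver_toOverCat U)
  have := IsEquivOver.faithful (isEquivOver_toOverCat U)
  let iG : BasedFunctor.comp e (_root_.FibCat.fpFst y (_root_.FibCat.diag t)) ≅
      BasedFunctor.comp (ofSpMap b) (toOverCat U) :=
    isoOfSpMapOfOver (BasedFunctor.comp e (_root_.FibCat.fpFst y (_root_.FibCat.diag t)))
  let sq := IsPullback.of_hasPullback ((AlgSp.yon S).map c) b
  have hm := HasRep.mem hR isoInvariant_locP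
    ⟨_, GrothLib.AlgSp.isAlgSpace_pullback' (AlgSp.IsAlgSpace.yon_obj U) (AlgSp.IsAlgSpace.yon_obj V) F.property
      ((AlgSp.yon S).map c) b⟩
    (BasedFunctor.comp (spToFp sq.w) (BasedFunctor.comp (Fp.map (toOverCat V) e (toOverCat U) iF iG)
      (Fp.paste (_root_.FibCat.diag t) y (GrothLib.FibCat.overMap c))))
    (IsEquivOver.comp (isEquivOver_spToFp sq) (IsEquivOver.comp
      (Fp.isEquivOver_map _ _ _ _ _ (isEquivOver_toOverCat V) he)
      (Fp.isEquivOver_paste (_root_.FibCat.diag t) y (GrothLib.FibCat.overMap c))))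
  exact spMapOfOver_toOverCat (pullback.fst ((AlgSp.yon S).map c) b) ▸ hm

/-- The diagonal of a morphism of algebraic stacks is unramified if the source is Deligne–Mumford. -/
theorem repByAlgSpWith_unramified_diag (hDM : IsDM Scheme.fppfPrecoverage 𝒳)
    (h𝒴 : IsAlgStack Scheme.fppfPrecoverage 𝒴) (f : 𝒳 ⥤ᵇ 𝒴) :
    RepByAlgSpWith (AlgSp.LocP UnrP) (_root_.FibCat.diag f) := by
  have h𝒳 := hDM.1
  let t := _root_.FibCat.toSelf 𝒴
  have hS := (isDM_of_repByAlgSp (repByAlgSp_selfOver (S := S))).1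
  have key : ∀ {G H : 𝒳 ⥤ᵇ _root_.FibCat.selfOver (Over S)}, G.toFunctor = H.toFunctor → G = H := by
    rintro ⟨G, hG⟩ ⟨H, hH⟩ (rfl : G = H); rfl
  have heq : BasedFunctor.comp f t = _root_.FibCat.toSelf 𝒳 := key f.w
  have h1 : RepByAlgSpWith (AlgSp.LocP UnrP) (_root_.FibCat.diag (BasedFunctor.comp f t)) := by
    rw [heq]; exact repByAlgSpWith_unramified_diag_toSelf hDM
  exact compStable_locP_unramified.repByAlgSpWith_of_comp h𝒳 (isAlgStack_fp h𝒴.isStack h𝒴.diag h𝒳 h𝒳 f f)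
    (isAlgStack_fp hS.isStack hS.diag h𝒳 h𝒳 (BasedFunctor.comp f t) (BasedFunctor.comp f t))
    (_root_.FibCat.diag f) (fpToFp f f t) (repByAlgSpWith_of_iso (diagCompIso f t).symm h1)
    (repByAlgSpWith_unramified_diag_of_rep (repByAlgSpWith_top_iff.1
      (repByAlgSpWith_fpToFp h𝒳.isStack.1 f f t (repByAlgSpWith_top_iff.2 h𝒴.diag))))

end GrothLib.AlgSt
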