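import Groth.Agent.Lib.AlgSp.Descent
import Groth.Agent.Lib.Stk.Descent
import Groth.Agent.Lib.FibCat.FibGrpd
import Groth.Prelude.Def_AlgSt2

/-!
# Gluing morphisms of a stack on Zariski covers
-/

set_option backward.isDefEq.respectTransparency false
set_option backward.isDefEq.respectTransparency.types false

universe u

open CategoryTheory CategoryTheory.Limits AlgebraicGeometry Opposite

namespace GrothLib.AlgSt

open _root_.AlgSt GrothLib.FibCat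

variable {S : Scheme.{u}} {𝒳 : _root_.AlgSt.Cat S}

theorem resSieve_ff (h : _root_.Stk.IsStack (AlgSp.J S) 𝒳) {U : Over S} {R : Sieve U} (hR : R ∈ AlgSp.J S U) :
    (_root_.Stk.resSieve R 𝒳).Full ∧ (_root_.Stk.resSieve R 𝒳).Faithful := by
  have := h.2 R hR
  unfold _root_.Stk.IsStackFor at this
  exact ⟨inferInstance, inferInstance⟩

/-- Over an empty scheme parallel morphisms agree. -/
theorem hom_eq_of_isEmpty (h : _root_.Stk.IsStack (AlgSp.J S) 𝒳) {a b : 𝒳.obj} [IsEmpty ↥(𝒳.p.obj a).left]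
    (φ ψ : a ⟶ b) (hp : 𝒳.p.map φ = 𝒳.p.map ψ) : φ = ψ :=
  GrothLib.Stk.Descent.hom_ext h.1 (resSieve_ff h (GrothLib.AlgSp.bot_mem_of_isEmpty _)).2 φ ψ hp
    fun _ hκ => hκ.elim

/-- The cover of a scheme by a family of opens. -/
theorem ofArrows_two_mem {T : Over S} {I : Type u} (V : I → Over S) (c : ∀ i, V i ⟶ T)
    (ho : ∀ i, IsOpenImmersion (c i).left) (hs : ∀ x : ↥T.left, ∃ i y, (c i).left y = x) :
    Sieve.ofArrows V c ∈ AlgSp.J S T :=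
  GrothLib.AlgSp.ofArrows_mem V c (fun i => have := ho i; inferInstance) (fun i => have := ho i; inferInstance) hs

/-- Morphisms out of disjoint opens covering the source glue. -/
theorem exists_hom_of_disjoint (h : _root_.Stk.IsStack (AlgSp.J S) 𝒳) {I : Type u} {a b : 𝒳.obj}
    (χ : 𝒳.p.obj a ⟶ 𝒳.p.obj b) (a' : I → 𝒳.obj) (κ : ∀ i, a' i ⟶ a) (n : ∀ i, a' i ⟶ b)
    (ho : ∀ i, IsOpenImmersion (𝒳.p.map (κ i)).left)
    (hs : ∀ x : ↥(𝒳.p.obj a).left, ∃ i y, (𝒳.p.map (κ i)).left y = x)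
    (hd : ∀ i j, i ≠ j → ∀ y z, (𝒳.p.map (κ i)).left y ≠ (𝒳.p.map (κ j)).left z)
    (hn : ∀ i, 𝒳.p.map (n i) = 𝒳.p.map (κ i) ≫ χ) :
    ∃ α : a ⟶ b, 𝒳.p.map α = χ ∧ ∀ i, κ i ≫ α = n i := by
  have hG := h.1
  let R : Sieve (𝒳.p.obj a) := Sieve.ofArrows (fun i => 𝒳.p.obj (a' i)) (fun i => 𝒳.p.map (κ i))
  have hR : R ∈ AlgSp.J S (𝒳.p.obj a) := ofArrows_two_mem _ _ ho hs
  have hex : ∀ {a'' : 𝒳.obj} (k : a'' ⟶ a), R (𝒳.p.map k) → ∃ i, ∃ m : a'' ⟶ a' i, m ≫ κ i = k := by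
    rintro a'' k ⟨W, g, _, ⟨i⟩, hg⟩
    obtain ⟨m, ⟨-, hm⟩, -⟩ := IsFibGrpd.existsUnique_fac hG (κ i) k g hg
    exact ⟨i, m, hm⟩
  choose idx m hm using @hex
  have hindep : ∀ {a'' : 𝒳.obj} (i j : I) (mi : a'' ⟶ a' i) (mj : a'' ⟶ a' j),
      mi ≫ κ i = mj ≫ κ j → mi ≫ n i = mj ≫ n j := by
    intro a'' i j mi mj e
    have hp : 𝒳.p.map (mi ≫ n i) = 𝒳.p.map (mj ≫ n j) := by
      rw [𝒳.p.map_comp, 𝒳.p.map_comp, hn, hn, ← 𝒳.p.map_comp_assoc, e, 𝒳.p.map_comp_assoc]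
    by_cases hij : i = j
    · subst hij
      have hmi : mi = mj := by
        refine IsFibGrpd.hom_ext' hG (κ i) ?_ e
        have e' : 𝒳.p.map mi ≫ 𝒳.p.map (κ i) = 𝒳.p.map mj ≫ 𝒳.p.map (κ i) := by
          rw [← 𝒳.p.map_comp, e, 𝒳.p.map_comp]
        have := ho i
        exact Over.OverMorphism.ext ((cancel_mono (𝒳.p.map (κ i)).left).1 congr($(e').left))
      rw [hmi]
    · have : IsEmpty ↥(𝒳.p.obj a'').left := ⟨fun w => hd i j hij ((𝒳.p.map mi).left w) ((𝒳.p.map mj).left w) (by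
        have e' := congrArg 𝒳.p.map e
        rw [𝒳.p.map_comp, 𝒳.p.map_comp] at e'
        have e'' := congr(($(e').left) w)
        simpa using e'')⟩
      exact hom_eq_of_isEmpty h _ _ hp
  obtain ⟨α, hα, hα'⟩ := GrothLib.Stk.Descent.exists_hom hG (resSieve_ff h hR).1 (χ := χ)
    { n := fun k hk => m k hk ≫ n _
      map_n := fun k hk => by rw [𝒳.p.map_comp, hn, ← 𝒳.p.map_comp_assoc, hm]
      comp := fun l k hk h' => by
        rw [← Category.assoc]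
        exact hindep _ _ _ _ (by rw [Category.assoc, hm, hm]) }
  refine ⟨α, hα, fun i => ?_⟩
  have hi : R (𝒳.p.map (κ i)) := Sieve.ofArrows_mk _ _ i
  rw [hα' (κ i) hi]
  exact (hindep _ i _ (𝟙 _) ((hm (κ i) hi).trans (Category.id_comp _).symm)).trans (Category.id_comp _)

/-- Gluing, with the cover given in the base. -/
theorem exists_hom_of_disjoint' (h : _root_.Stk.IsStack (AlgSp.J S) 𝒳) {I : Type u} {a b : 𝒳.obj} {W : Over S}
    (hW : 𝒳.p.obj a = W) (χ : 𝒳.p.obj a ⟶ 𝒳.p.obj b) {U : I → Over S} (f : ∀ i, U i ⟶ W)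
    (a' : I → 𝒳.obj) (κ : ∀ i, a' i ⟶ a) (hκ : ∀ i, 𝒳.p.IsHomLift (f i) (κ i))
    (n : ∀ i, a' i ⟶ b) (ho : ∀ i, IsOpenImmersion (f i).left) (hs : ∀ x : ↥W.left, ∃ i y, (f i).left y = x)
    (hd : ∀ i j, i ≠ j → ∀ y z, (f i).left y ≠ (f j).left z)
    (hn : ∀ i, 𝒳.p.map (n i) = 𝒳.p.map (κ i) ≫ χ) :
    ∃ α : a ⟶ b, 𝒳.p.map α = χ ∧ ∀ i, κ i ≫ α = n i := by
  subst hW
  obtain rfl : U = fun i => 𝒳.p.obj (a' i) :=
    funext fun i => (have := hκ i; (IsHomLift.domain_eq 𝒳.p (f i) (κ i)).symm)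
  obtain rfl : f = fun i => 𝒳.p.map (κ i) :=
    funext fun i => (have := hκ i; IsHomLift.eq_of_isHomLift 𝒳.p (f i) (κ i))
  exact exists_hom_of_disjoint h χ a' κ n ho hs hd hn

end GrothLib.AlgSt
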