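import Groth.Agent.Lib.AlgSt.Topology
import Groth.Prelude.Def_W4c2isonaturalstkIso

/-!
# Points and isomorphism classes
-/

set_option backward.isDefEq.respectTransparency false
set_option backward.isDefEq.respectTransparency.types false

universe u

open CategoryTheory CategoryTheory.Limits AlgebraicGeometry Opposite Topology

namespace GrothLib.AlgSt

open _root_.AlgSt GrothLib.FibCat _root_.IsoNat

variable {S : Scheme.{u}} {𝒳 𝒴 𝒳' 𝒴' : _root_.AlgSt.Cat S}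

/-- A morphism in a fibre, from an equality of classes. -/
theorem hom_of_cls_eq {T : Over S} {x y : 𝒳.p.Fiber T} (h : cls x = cls y) : Nonempty (x.1 ⟶ y.1) :=
  (Quotient.exact h).elim fun e => ⟨Functor.Fiber.fiberInclusion.map e.hom⟩

theorem exists_cls_hom (φ : FIso 𝒳 𝒴) {T' T : Over S} {g : T' ⟶ T} {x' : 𝒳.p.Fiber T'} {x : 𝒳.p.Fiber T}
    (a : x'.1 ⟶ x.1) (ha : 𝒳.p.IsHomLift g a) {y' : 𝒴.p.Fiber T'} {y : 𝒴.p.Fiber T}
    (hy' : φ.toEquiv T' (cls x') = cls y') (hy : φ.toEquiv T (cls x) = cls y) : Nonempty (y'.1 ⟶ y.1) := by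
  obtain ⟨w', w, b, -, e', e⟩ := φ.natural g x' x a ha
  obtain ⟨i⟩ := hom_of_cls_eq (hy'.symm.trans e')
  obtain ⟨j⟩ := hom_of_cls_eq (e.symm.trans hy)
  exact ⟨i ≫ b ≫ j⟩

/-- The inverse of an isomorphism of presheaves of isomorphism classes. -/
theorem exists_fiso_symm (h𝒳 : _root_.FibCat.IsFibGrpd 𝒳.p) (h𝒴 : _root_.FibCat.IsFibGrpd 𝒴.p) (φ : FIso 𝒳 𝒴) :
    ∃ ψ : FIso 𝒴 𝒳, ∀ T, ψ.toEquiv T = (φ.toEquiv T).symm := by
  refine ⟨⟨fun T => (φ.toEquiv T).symm, fun {T' T} g y' y b hb => ?_⟩, fun T => rfl⟩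
  obtain ⟨x, hx⟩ : ∃ x, cls x = (φ.toEquiv T).symm (cls y) := Quotient.exists_rep _
  obtain ⟨x₁, a, ha⟩ := IsFibGrpd.exists_lift_of_eq h𝒳 x.2 g
  let x' : 𝒳.p.Fiber T' := ⟨x₁, IsHomLift.domain_eq 𝒳.p g a⟩
  obtain ⟨w', w, c, hc, e', e⟩ := φ.natural g x' x a ha
  rw [hx, Equiv.apply_symm_apply] at e
  obtain ⟨j⟩ := Quotient.exact e.symm
  have : 𝒴.p.IsHomLift (𝟙 T) (Functor.Fiber.fiberInclusion.map j.hom) := inferInstance
  have := hc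
  have h1 : 𝒴.p.IsHomLift g (c ≫ Functor.Fiber.fiberInclusion.map j.hom) := inferInstance
  obtain ⟨i, hi, -⟩ := @IsFibGrpd.exists_iso_of_lifts _ _ _ _ _ h𝒴 _ _ g _ _ _ b
    (c ≫ Functor.Fiber.fiberInclusion.map j.hom) hb h1
  refine ⟨x', x, a, ha, ?_, hx.symm⟩
  rw [Equiv.symm_apply_eq, e']
  have := hi
  have : 𝒴.p.IsHomLift (𝟙 T') i.inv := IsHomLift.lift_id_inv _ _ _
  exact (Quotient.sound (s := isIsomorphicSetoid (𝒴.p.Fiber T'))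
    ⟨⟨Functor.Fiber.homMk 𝒴.p T' i.hom, Functor.Fiber.homMk 𝒴.p T' i.inv,
      Functor.Fiber.hom_ext (i.hom_inv_id), Functor.Fiber.hom_ext (i.inv_hom_id)⟩⟩).symm

/-- The class of a field-valued point. -/
noncomputable def fptCls (p : FPt 𝒳) : IsoCl 𝒳 (Over.mk p.str) := cls ⟨p.obj, p.lies⟩

theorem exists_fpt_cls {K : Type u} [Field K] (s : Spec (CommRingCat.of K) ⟶ S) (c : IsoCl 𝒳 (Over.mk s)) :
    ∃ x : 𝒳.p.Fiber (Over.mk s), cls x = c := Quotient.exists_rep c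

/-- The transported field-valued point. -/
noncomputable def fptMap (φ : FIso 𝒳 𝒴) (p : FPt 𝒳) : FPt 𝒴 :=
  { K := p.K
    str := p.str
    obj := (Classical.choose (exists_fpt_cls p.str (φ.toEquiv _ (fptCls p)))).1
    lies := (Classical.choose (exists_fpt_cls p.str (φ.toEquiv _ (fptCls p)))).2 }

theorem fptCls_fptMap (φ : FIso 𝒳 𝒴) (p : FPt 𝒳) : fptCls (fptMap φ p) = φ.toEquiv _ (fptCls p) :=
  Classical.choose_spec (exists_fpt_cls p.str (φ.toEquiv _ (fptCls p)))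

theorem hom_fptMap (φ : FIso 𝒳 𝒴) {r p : FPt 𝒳} (a : r.obj ⟶ p.obj) :
    Nonempty ((fptMap φ r).obj ⟶ (fptMap φ p).obj) :=
  exists_cls_hom φ (x' := ⟨r.obj, r.lies⟩) (x := ⟨p.obj, p.lies⟩) a (isHomLift_fptBase a)
    (fptCls_fptMap φ r).symm (fptCls_fptMap φ p).symm

theorem fptMap_rel (φ : FIso 𝒳 𝒴) {p q : FPt 𝒳} (h : FPt.Rel p q) : FPt.Rel (fptMap φ p) (fptMap φ q) := by
  obtain ⟨r, a, b, -⟩ := h
  exact ⟨fptMap φ r, (hom_fptMap φ a).some, (hom_fptMap φ b).some, trivial⟩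

/-- The map on points of an isomorphism of presheaves of isomorphism classes. -/
noncomputable def ptMap (φ : FIso 𝒳 𝒴) : Points 𝒳 → Points 𝒴 :=
  Quot.lift (fun p => Points.mk (fptMap φ p)) fun _ _ h => Points.sound (fptMap_rel φ h)

theorem ptMap_eq (φ : FIso 𝒳 𝒴) (p : FPt 𝒳) (y : 𝒴.p.Fiber (Over.mk p.str))
    (h : φ.toEquiv _ (fptCls p) = cls y) : ptMap φ (Points.mk p) = Points.mk ⟨p.K, p.str, y.1, y.2⟩ :=
  Points.sound (rel_of_hom (r := fptMap φ p) (p := ⟨p.K, p.str, y.1, y.2⟩)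
    (hom_of_cls_eq (x := ⟨(fptMap φ p).obj, (fptMap φ p).lies⟩) (y := y) ((fptCls_fptMap φ p).trans h)).some)

theorem ptMap_ptMap (φ : FIso 𝒳 𝒴) (ψ : FIso 𝒴 𝒳) (h : ∀ T c, ψ.toEquiv T (φ.toEquiv T c) = c) (p : Points 𝒳) :
    ptMap ψ (ptMap φ p) = p := by
  obtain ⟨p, rfl⟩ := Points.mk_surjective p
  exact ptMap_eq ψ (fptMap φ p) ⟨p.obj, p.lies⟩
    ((congrArg (ψ.toEquiv _) (fptCls_fptMap φ p)).trans (h _ _))

theorem ptMap_bijective (h𝒳 : _root_.FibCat.IsFibGrpd 𝒳.p) (h𝒴 : _root_.FibCat.IsFibGrpd 𝒴.p) (φ : FIso 𝒳 𝒴) :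
    Function.Bijective (ptMap φ) := by
  obtain ⟨ψ, hψ⟩ := exists_fiso_symm h𝒳 h𝒴 φ
  exact Function.bijective_iff_has_inverse.2 ⟨ptMap ψ, ptMap_ptMap φ ψ fun T c => by simp [hψ],
    ptMap_ptMap ψ φ fun T c => by simp [hψ]⟩

theorem ptMap_comm {f : 𝒳 ⥤ᵇ 𝒴} {f' : 𝒳' ⥤ᵇ 𝒴'} (φ : FIsoSq f f') (p : Points 𝒳) :
    ptMap φ.tgt (Points.map f p) = Points.map f' (ptMap φ.src p) := by
  obtain ⟨p, rfl⟩ := Points.mk_surjective p
  refine ptMap_eq φ.tgt (p.map f) ((fibFun f' _).obj ⟨(fptMap φ.src p).obj, (fptMap φ.src p).lies⟩) ?_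
  refine (φ.comm (Over.mk p.str) (fptCls p)).trans ?_
  rw [← fptCls_fptMap φ.src p]
  rfl

/-- Surjectivity is read on presheaves of isomorphism classes. -/
theorem isSurjective_of_fIsoSq (h𝒴 : _root_.FibCat.IsFibGrpd 𝒴.p) (h𝒴' : _root_.FibCat.IsFibGrpd 𝒴'.p)
    {f : 𝒳 ⥤ᵇ 𝒴} {f' : 𝒳' ⥤ᵇ 𝒴'} (φ : FIsoSq f f') (hf : IsSurjective f) : IsSurjective f' := fun y => by
  obtain ⟨z, rfl⟩ := (ptMap_bijective h𝒴 h𝒴' φ.tgt).2 y
  obtain ⟨x, rfl⟩ := hf z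
  exact ⟨ptMap φ.src x, (ptMap_comm φ x).symm⟩

theorem continuous_ptMap (h𝒳 : IsAlgStack Scheme.fppfPrecoverage 𝒳)
    (h𝒴 : IsAlgStack Scheme.fppfPrecoverage 𝒴) (φ : FIso 𝒳 𝒴) : Continuous (ptMap φ) := by
  obtain ⟨U, x, hs, hj⟩ := h𝒳.atlas
  rw [(isOpenQuotientMap_ofChart h𝒳.isStack.1 hs hj).isQuotientMap.continuous_iff]
  obtain ⟨η, hη⟩ : ∃ η, cls η = φ.toEquiv U (objCls x) := Quotient.exists_rep _
  obtain ⟨y, ey, hey⟩ := Yon.exists_functor h𝒴.isStack.1 η.1 η.2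
  have : (ptMap φ ∘ Points.ofChart x) = Points.ofChart y := funext fun t => by
    let g : Over.mk (U.left.fromSpecResidueField t ≫ U.hom) ⟶ U := Over.homMk (U.left.fromSpecResidueField t) rfl
    let a : Over.mk g ⟶ Yon.idObj U := Yon.toId (Over.mk g)
    have ha : (_root_.FibCat.overCat U).p.IsHomLift g a := Yon.toId_lift (Over.mk g)
    obtain ⟨w', w, b, hb, e', e⟩ := φ.natural g ⟨x.obj (Over.mk g), x.w_obj _⟩
      ⟨x.obj (Yon.idObj U), x.w_obj _⟩ (x.map a) inferInstance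
    refine (ptMap_eq φ (⟨_, _, x.obj (Over.mk g), x.w_obj _⟩ : FPt 𝒳) w' e').trans ?_
    obtain ⟨jj⟩ := Quotient.exact (e.symm.trans hη.symm)
    let j : w.1 ⟶ η.1 := Functor.Fiber.fiberInclusion.map jj.hom
    have hjl : 𝒴.p.IsHomLift (𝟙 U) j := inferInstance
    exact Points.sound ⟨⟨_, _, w'.1, w'.2⟩, 𝟙 _, by
      have hy1 : 𝒴.p.IsHomLift g (y.map a) := inferInstance
      have := IsFibGrpd.isStronglyCartesian' h𝒴.isStack.1 g (y.map a)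
      have : 𝒴.p.IsHomLift (𝟙 U) ey.hom := hey
      have hey' : 𝒴.p.IsHomLift (𝟙 U) ey.inv := IsHomLift.lift_id_inv _ _ _
      have := hb
      have hcomp : 𝒴.p.IsHomLift g (b ≫ j ≫ ey.inv) := inferInstance
      exact (@IsFibGrpd.exists_iso_of_lifts _ _ _ _ _ h𝒴.isStack.1 _ _ g _ _ _ (y.map a)
        (b ≫ j ≫ ey.inv) hy1 hcomp).choose.hom, trivial⟩
  rw [this]
  exact continuous_ofChart h𝒴.isStack.1 h𝒴.atlas y

/-- Quasi-compactness is read on presheaves of isomorphism classes. -/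
theorem isQuasiCompact_of_fIso (h𝒳 : IsAlgStack Scheme.fppfPrecoverage 𝒳)
    (h𝒴 : IsAlgStack Scheme.fppfPrecoverage 𝒴) (φ : FIso 𝒳 𝒴) (h : IsQuasiCompact 𝒳) : IsQuasiCompact 𝒴 := by
  have := compactSpace_points_of_isQuasiCompact h𝒳.isStack.1 h
  exact isQuasiCompact_of_compactSpace h𝒴 (Function.Surjective.compactSpace (continuous_ptMap h𝒳 h𝒴 φ)
    (ptMap_bijective h𝒳.isStack.1 h𝒴.isStack.1 φ).2)

end GrothLib.AlgSt
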