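import Groth.Prelude.Def_AlgSt2
import Groth.Agent.Lib.FibCat.Setoid
import Groth.Agent.Lib.FibCat.SliceRepr

/-!
# The category over `(Sch/S)` of a sheaf
-/

set_option backward.isDefEq.respectTransparency false
set_option backward.isDefEq.respectTransparency.types false

universe v' w' v w u

open CategoryTheory CategoryTheory.Limits AlgebraicGeometry Opposite

namespace GrothLib.AlgSt

open _root_.AlgSt GrothLib.FibCat

variable {S : Scheme.{u}} {F G H : AlgSp.Sp S}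

theorem isFibSet_ofSp (F : AlgSp.Sp S) : _root_.FibCat.IsFibSet (ofSp F).p := isFibSet_ofPsh F.obj

theorem isFibSetoid_ofSp (F : AlgSp.Sp S) : _root_.FibCat.IsFibSetoid (ofSp F).p := isFibSetoid_ofPsh F.obj

theorem isFibGrpd_ofSp (F : AlgSp.Sp S) : _root_.FibCat.IsFibGrpd (ofSp F).p := Stk.isFibGrpd_ofPsh F.obj

/-- The map of sheaves of a functor over `(Sch/S)`. -/
def spHom (Φ : ofSp F ⥤ᵇ ofSp G) : F ⟶ G := ObjectProperty.homMk (pshHom Φ)

theorem spHom_congr {Φ Ψ : ofSp F ⥤ᵇ ofSp G} (α : Φ ≅ Ψ) : spHom Φ = spHom Ψ :=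
  ObjectProperty.hom_ext _ (pshHom_congr α)

theorem spHom_ofSpMap (a : F ⟶ G) : spHom (ofSpMap a) = a := ObjectProperty.hom_ext _ (pshHom_ofPshMap a.hom)

theorem spHom_comp (Φ : ofSp F ⥤ᵇ ofSp G) (Ψ : ofSp G ⥤ᵇ ofSp H) :
    spHom (BasedFunctor.comp Φ Ψ) = spHom Φ ≫ spHom Ψ := ObjectProperty.hom_ext _ (pshHom_comp Φ Ψ)

theorem spHom_id : spHom (BasedFunctor.id (ofSp F)) = 𝟙 F := ObjectProperty.hom_ext _ pshHom_id

/-- Every functor over `(Sch/S)` between categories of sheaves comes from a map of sheaves. -/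
def isoOfSpHom (Φ : ofSp F ⥤ᵇ ofSp G) : Φ ≅ ofSpMap (spHom Φ) := isoOfPshHom Φ

theorem iso_of_spHom_eq {Φ Ψ : ofSp F ⥤ᵇ ofSp G} (h : spHom Φ = spHom Ψ) : Nonempty (Φ ≅ Ψ) :=
  iso_of_pshHom_eq (congrArg (fun a => a.hom) h)

theorem isIso_spHom {Φ : ofSp F ⥤ᵇ ofSp G} (h : _root_.FibCat.IsEquivOver Φ) : IsIso (spHom Φ) := by
  have : IsIso ((sheafToPresheaf _ _).map (spHom Φ)) := isIso_pshHom h
  exact isIso_of_reflects_iso (spHom Φ) (sheafToPresheaf _ _)

theorem isEquivOver_ofSpMap (a : F ⟶ G) [IsIso a] : _root_.FibCat.IsEquivOver (ofSpMap a) :=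
  have : IsIso a.hom := inferInstanceAs (IsIso ((sheafToPresheaf _ _).map a))
  isEquivOver_ofPshMap a.hom

variable {U V : Over S}

theorem isEquivOver_toOverCat (U : Over S) : _root_.FibCat.IsEquivOver (toOverCat U) := by
  refine ⟨ofOverCat U, ⟨natIsoOfComponents (fun a => Iso.refl a) (fun a => IsHomLift.id rfl) ?_⟩,
    ⟨natIsoOfComponents (fun a => Iso.refl a) (fun a => IsHomLift.id rfl) ?_⟩⟩ <;>
  · intro a b f
    exact (Category.comp_id _).trans (Category.id_comp _).symm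

theorem isEquivOver_ofOverCat (U : Over S) : _root_.FibCat.IsEquivOver (ofOverCat U) := by
  refine ⟨toOverCat U, ⟨natIsoOfComponents (fun a => Iso.refl a) (fun a => IsHomLift.id rfl) ?_⟩,
    ⟨natIsoOfComponents (fun a => Iso.refl a) (fun a => IsHomLift.id rfl) ?_⟩⟩ <;>
  · intro a b f
    exact (Category.comp_id _).trans (Category.id_comp _).symm

/-- `toOverCat` followed by `ofOverCat` is the identity. -/
def toOverCatCompIso (U : Over S) : BasedFunctor.comp (toOverCat U) (ofOverCat U) ≅ BasedFunctor.id (ofSch U) :=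
  natIsoOfComponents (fun a => Iso.refl a) (fun a => IsHomLift.id rfl)
    fun f => (Category.comp_id _).trans (Category.id_comp _).symm

/-- `ofOverCat` followed by `toOverCat` is the identity. -/
def ofOverCatCompIso (U : Over S) :
    BasedFunctor.comp (ofOverCat U) (toOverCat U) ≅ BasedFunctor.id (_root_.FibCat.overCat U) :=
  natIsoOfComponents (fun a => Iso.refl a) (fun a => IsHomLift.id rfl)
    fun f => (Category.comp_id _).trans (Category.id_comp _).symm

theorem spMapOfOver_eq (Φ : ofSp F ⥤ᵇ _root_.FibCat.overCat U) :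
    spMapOfOver Φ = spHom (BasedFunctor.comp Φ (ofOverCat U)) := rfl

theorem spMapOfOver_congr {Φ Ψ : ofSp F ⥤ᵇ _root_.FibCat.overCat U} (α : Φ ≅ Ψ) :
    spMapOfOver Φ = spMapOfOver Ψ := by
  rw [spMapOfOver_eq, spMapOfOver_eq]
  exact spHom_congr (whiskerRightIso α _)

theorem spMapOfOver_comp (Ψ : ofSp F ⥤ᵇ ofSp G) (Φ : ofSp G ⥤ᵇ _root_.FibCat.overCat U) :
    spMapOfOver (BasedFunctor.comp Ψ Φ) = spHom Ψ ≫ spMapOfOver Φ :=
  spHom_comp Ψ (BasedFunctor.comp Φ (ofOverCat U))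

theorem spMapOfOver_toOverCat (a : F ⟶ (AlgSp.yon S).obj U) :
    spMapOfOver (BasedFunctor.comp (ofSpMap a) (toOverCat U)) = a := by
  rw [spMapOfOver_eq]
  exact (spHom_congr (whiskerLeftIso (ofSpMap a) (toOverCatCompIso U))).trans (spHom_ofSpMap a)

/-- A functor to a slice is determined by its map of sheaves. -/
def isoOfSpMapOfOver (Φ : ofSp F ⥤ᵇ _root_.FibCat.overCat U) :
    Φ ≅ BasedFunctor.comp (ofSpMap (spMapOfOver Φ)) (toOverCat U) :=
  (whiskerLeftIso Φ (ofOverCatCompIso U)).symm ≪≫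
    whiskerRightIso (isoOfSpHom (BasedFunctor.comp Φ (ofOverCat U))) (toOverCat U)

theorem iso_of_spMapOfOver_eq {Φ Ψ : ofSp F ⥤ᵇ _root_.FibCat.overCat U} (h : spMapOfOver Φ = spMapOfOver Ψ) :
    Nonempty (Φ ≅ Ψ) :=
  ⟨isoOfSpMapOfOver Φ ≪≫ eqToIso (by rw [h]) ≪≫ (isoOfSpMapOfOver Ψ).symm⟩

/-- The map of schemes induced by a functor of slices, as a map of sheaves. -/
theorem spMapOfOver_overMap (h : U ⟶ V) :
    spMapOfOver (BasedFunctor.comp (toOverCat U) (GrothLib.FibCat.overMap h)) = (AlgSp.yon S).map h := by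
  ext T ⟨g⟩
  exact congrArg ULift.up (Category.id_comp _)

end GrothLib.AlgSt
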