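import Groth.Agent.Lib.AlgSt.GerbeModuli
import Groth.Agent.Lib.AlgSt.IsoNat.Lfp
import Groth.Agent.Lib.AlgSp.FormalLift
import Groth.Agent.Lib.AlgSp.LocP
import Groth.Agent.Lib.SpQuot.CatModuli

/-!
# Categorical moduli spaces are detected on affine étale pieces of the target
-/

set_option backward.isDefEq.respectTransparency false
set_option backward.isDefEq.respectTransparency.types false

universe u

open CategoryTheory CategoryTheory.Limits AlgebraicGeometry Opposite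

namespace GrothLib.AlgSt.CatLocal

open _root_.AlgSt GrothLib.FibCat GrothLib.AlgSt

variable {S : Scheme.{u}}

/-- Restriction of sections along an etale surjection is injective. -/
theorem hom_ext_etale {N : AlgSp.Sp S} {T V : Over S} (b : V ⟶ T) [Etale b.left] [Surjective b.left]
    {m m' : (AlgSp.yon S).obj T ⟶ N} (h : (AlgSp.yon S).map b ≫ m = (AlgSp.yon S).map b ≫ m') : m = m' := by
  obtain ⟨l, -, hu⟩ := GrothLib.AlgSp.exists_hom_of_cover (F := N) (T := T) (ι := PUnit.{u + 1}) (fun _ => V)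
    (fun _ => b) (fun _ => inferInstance) (fun _ => inferInstance)
    (fun x => ⟨⟨⟩, b.left.surjective x⟩) (fun _ => (AlgSp.yon S).map b ≫ m) (fun i j Z gi gj e => by
      rw [← Functor.map_comp_assoc, ← Functor.map_comp_assoc, e])
  exact (hu m fun _ => rfl).trans (hu m' fun _ => h.symm).symm

/-- A compatible map on an etale atlas descends uniquely. -/
theorem existsUnique_desc {M N : AlgSp.Sp S} {U : Over S} (q : (AlgSp.yon S).obj U ⟶ M)
    (qe : AlgSp.RepWith @Etale q) (qs : AlgSp.RepWith @Surjective q) (k : (AlgSp.yon S).obj U ⟶ N)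
    (hk : ∀ (Z : Over S) (g g' : Z ⟶ U), (AlgSp.yon S).map g ≫ q = (AlgSp.yon S).map g' ≫ q →
      (AlgSp.yon S).map g ≫ k = (AlgSp.yon S).map g' ≫ k) :
    ∃! g : M ⟶ N, q ≫ g = k := by
  have h1 : ∀ (T : Over S) (m : (AlgSp.yon S).obj T ⟶ M), ∃ n : (AlgSp.yon S).obj T ⟶ N,
      ∀ (Z : Over S) (z : Z ⟶ T) (l : Z ⟶ U), (AlgSp.yon S).map z ≫ m = (AlgSp.yon S).map l ≫ q →
        (AlgSp.yon S).map z ≫ n = (AlgSp.yon S).map l ≫ k := fun T m => by
    obtain ⟨V, b, a, sq⟩ := qe.1 m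
    obtain ⟨a, rfl⟩ := (AlgSp.yon S).map_surjective a
    have : Etale b.left := qe.2 m _ _ sq
    have : Surjective b.left := qs.2 m _ _ sq
    obtain ⟨n, hn, -⟩ := GrothLib.AlgSp.exists_hom_of_cover (F := N) (T := T) (ι := PUnit.{u + 1}) (fun _ => V)
      (fun _ => b) (fun _ => inferInstance) (fun _ => inferInstance) (fun x => ⟨⟨⟩, b.left.surjective x⟩)
      (fun _ => (AlgSp.yon S).map a ≫ k) (fun i j Z gi gj e => by
        rw [← Functor.map_comp_assoc, ← Functor.map_comp_assoc]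
        refine hk _ _ _ ?_
        rw [Functor.map_comp, Functor.map_comp, Category.assoc, Category.assoc, sq.w, ← Functor.map_comp_assoc,
          ← Functor.map_comp_assoc, e])
    refine ⟨n, fun Z z l h => ?_⟩
    let p := pullback.fst z b
    have sqp := GrothLib.AlgSp.isPullback_left (IsPullback.of_hasPullback z b)
    have : Etale p.left := MorphismProperty.of_isPullback sqp.flip ‹Etale b.left›
    have : Surjective p.left := MorphismProperty.of_isPullback sqp.flip ‹Surjective b.left›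
    refine hom_ext_etale p ?_
    rw [← Functor.map_comp_assoc, pullback.condition, Functor.map_comp_assoc, hn ⟨⟩, ← Functor.map_comp_assoc,
      ← Functor.map_comp_assoc]
    refine hk _ _ _ ?_
    rw [Functor.map_comp, Functor.map_comp, Category.assoc, Category.assoc, sq.w, ← h,
      ← Functor.map_comp_assoc, ← Functor.map_comp_assoc, pullback.condition]
  choose n hn using h1
  obtain ⟨g, hg⟩ := GrothLib.IsoNat.exists_spHom n fun T' T c m => by
    obtain ⟨V, b, a, sq⟩ := qe.1 ((AlgSp.yon S).map c ≫ m)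
    obtain ⟨a, rfl⟩ := (AlgSp.yon S).map_surjective a
    have : Etale b.left := qe.2 _ _ _ sq
    have : Surjective b.left := qs.2 _ _ _ sq
    refine hom_ext_etale b ?_
    rw [hn T' _ V b a sq.w.symm, ← Functor.map_comp_assoc]
    exact hn T m V (b ≫ c) a (by rw [Functor.map_comp, Category.assoc]; exact sq.w.symm)
  have hq : q ≫ g = k := by
    rw [hg]
    have := hn U q U (𝟙 U) (𝟙 U) rfl
    simpa using this
  refine ⟨g, hq, fun g' hg' => ?_⟩
  refine ObjectProperty.hom_ext _ ?_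
  ext T x
  obtain ⟨m, rfl⟩ := (AlgSp.J S).uliftYonedaEquiv.{u + 1}.surjective x
  obtain ⟨V, b, a, sq⟩ := qe.1 m
  obtain ⟨a, rfl⟩ := (AlgSp.yon S).map_surjective a
  have : Etale b.left := qe.2 _ _ _ sq
  have : Surjective b.left := qs.2 _ _ _ sq
  have e : m ≫ g' = m ≫ g := hom_ext_etale b (by
    rw [← Category.assoc, ← Category.assoc, ← sq.w, Category.assoc, Category.assoc]
    exact congrArg _ (hg'.trans hq.symm))
  have e' := congrArg (AlgSp.J S).uliftYonedaEquiv.{u + 1} e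
  rw [GrothendieckTopology.uliftYonedaEquiv_comp, GrothendieckTopology.uliftYonedaEquiv_comp] at e'
  exact e'

variable {𝒳 : _root_.AlgSt.Cat S} {M N : AlgSp.Sp S}

/-- The section of an object, as a map from the base. -/
noncomputable def sm (π : 𝒳 ⥤ᵇ ofSp M) {T : Over S} (x : 𝒳.p.Fiber T) : (AlgSp.yon S).obj T ⟶ M :=
  (AlgSp.J S).uliftYonedaEquiv.{u + 1}.symm (fibSec π x)

theorem sm_comp_ofSpMap (π : 𝒳 ⥤ᵇ ofSp M) (a : M ⟶ N) {T : Over S} (x : 𝒳.p.Fiber T) :
    sm (BasedFunctor.comp π (ofSpMap a)) x = sm π x ≫ a := by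
  apply (AlgSp.J S).uliftYonedaEquiv.{u + 1}.injective
  rw [GrothendieckTopology.uliftYonedaEquiv_comp, sm, sm, Equiv.apply_symm_apply, Equiv.apply_symm_apply]
  exact (NatTrans.naturality_apply a.hom _ _).symm

theorem sec_map_of_hom {T' T : Over S} {c d : (ofSp M).obj} (ec : c.base = T') (ed : d.base = T) (f : c ⟶ d)
    (g : T' ⟶ T) (hf : f.hom = eqToHom ec ≫ g ≫ eqToHom ed.symm) :
    M.obj.map g.op (M.obj.map (eqToHom ed.symm).op d.sec) = M.obj.map (eqToHom ec.symm).op c.sec := by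
  obtain ⟨A, sa⟩ := c
  obtain ⟨B, sb⟩ := d
  subst ec
  cases ed
  obtain ⟨fh, fs⟩ := f
  simp only [eqToHom_refl, Category.id_comp, Category.comp_id] at hf
  subst hf
  simp at fs ⊢
  exact fs

theorem sm_of_hom (π : 𝒳 ⥤ᵇ ofSp M) {T' T : Over S} (y : 𝒳.p.Fiber T') (x : 𝒳.p.Fiber T) (b : T' ⟶ T)
    (κ : y.1 ⟶ x.1) [𝒳.p.IsHomLift b κ] : (AlgSp.yon S).map b ≫ sm π x = sm π y := by
  apply (AlgSp.J S).uliftYonedaEquiv.{u + 1}.injective
  rw [sm, sm, ← GrothendieckTopology.uliftYonedaEquiv_naturality, Equiv.apply_symm_apply, Equiv.apply_symm_apply]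
  exact sec_map_of_hom ((π.w_obj y.1).trans y.2) ((π.w_obj x.1).trans x.2) (π.map κ) b
    (have : (ofSp M).p.IsHomLift b (π.map κ) := BasedFunctor.preserves_isHomLift π b κ
     IsHomLift.fac' (ofSp M).p b (π.map κ))

theorem exists_iso_of_sec {T : Over S} {c d : (ofSp M).obj} (ec : c.base = T) (ed : d.base = T)
    (h : M.obj.map (eqToHom ec.symm).op c.sec = M.obj.map (eqToHom ed.symm).op d.sec) :
    ∃ i : c ≅ d, (ofSp M).p.IsHomLift (𝟙 T) i.hom := by
  obtain ⟨A, sa⟩ := c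
  obtain ⟨B, sb⟩ := d
  subst ec
  cases ed
  have : sa = sb := by simpa using h
  subst this
  exact ⟨Iso.refl _, IsHomLift.id rfl⟩

theorem eq_of_sm {F F' : 𝒳 ⥤ᵇ ofSp M} (h : ∀ o : 𝒳.obj, sm F (⟨o, rfl⟩ : 𝒳.p.Fiber _) = sm F' ⟨o, rfl⟩) :
    F = F' := by
  refine GrothLib.SpQuot.basedFunctor_ext_ofSp fun a => ?_
  have h' : fibSec F (⟨a, rfl⟩ : 𝒳.p.Fiber _) = fibSec F' ⟨a, rfl⟩ :=
    (AlgSp.J S).uliftYonedaEquiv.{u + 1}.symm.injective (h a)
  have key : ∀ {T : Over S} {c d : (ofSp M).obj} (ec : c.base = T) (ed : d.base = T),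
      M.obj.map (eqToHom ec.symm).op c.sec = M.obj.map (eqToHom ed.symm).op d.sec →
      c.base = d.base ∧ HEq c.sec d.sec := by
    rintro T ⟨A, sa⟩ ⟨B, sb⟩ (rfl : A = T) (rfl : B = A) e
    exact ⟨rfl, heq_of_eq (by simpa using e)⟩
  exact key ((F.w_obj a).trans rfl) ((F'.w_obj a).trans rfl) h'

theorem eq_of_sm_fst {g : N ⟶ M} (π : 𝒳 ⥤ᵇ ofSp M)
    (o : (_root_.FibCat.fp (ofSpMap g) π).obj) (l : (AlgSp.yon S).obj o.obj.fst.base ⟶ N)
    (hl : o.obj.fst.sec = (AlgSp.J S).uliftYonedaEquiv.{u + 1} l) :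
    sm (_root_.FibCat.fpFst (ofSpMap g) π) (⟨o, rfl⟩ : (_root_.FibCat.fp (ofSpMap g) π).p.Fiber o.obj.fst.base) = l := by
  rw [sm, Equiv.symm_apply_eq, ← hl]
  change N.obj.map (eqToHom _).op o.obj.fst.sec = _
  simp

/-- The comparison of two base changes along a map over the target. -/
def fpChange {Y' Y'' : AlgSp.Sp S} {g' : Y' ⟶ M} {g'' : Y'' ⟶ M} (π : 𝒳 ⥤ᵇ ofSp M) (u : Y'' ⟶ Y')
    (h : u ≫ g' = g'') : _root_.FibCat.fp (ofSpMap g'') π ⥤ᵇ _root_.FibCat.fp (ofSpMap g') π :=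
  _root_.FibCat.fpLift (BasedFunctor.comp (_root_.FibCat.fpFst (ofSpMap g'') π) (ofSpMap u))
    (_root_.FibCat.fpSnd (ofSpMap g'') π)
    (eqToIso (show BasedFunctor.comp (BasedFunctor.comp (_root_.FibCat.fpFst (ofSpMap g'') π) (ofSpMap u)) (ofSpMap g') =
        BasedFunctor.comp (_root_.FibCat.fpFst (ofSpMap g'') π) (ofSpMap g'') by
      rw [← h, ← GrothLib.SpQuot.comp_ofSpMap]
      rfl) ≪≫ _root_.FibCat.fpIso (ofSpMap g'') π)

/-- A map to an algebraic space is a categorical moduli space if its base changes to affine schemes etale over the space are. -/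
theorem isCatModuli_of_etale_affine (hG : _root_.FibCat.IsFibGrpd 𝒳.p) (hM : AlgSp.IsAlgSpace M) (π : 𝒳 ⥤ᵇ ofSp M)
    (H : ∀ (Y' : Over S), IsAffine Y'.left → ∀ g : (AlgSp.yon S).obj Y' ⟶ M, AlgSp.RepWith @Etale g →
      IsCatModuli (_root_.FibCat.fpFst (ofSpMap g) π)) :
    IsCatModuli π := by
  refine ⟨hM, fun N hN φ => ?_⟩
  obtain ⟨U, q, qe, qs⟩ := hM.atlas
  -- the factorisations on affine etale pieces
  have hex : ∀ (Y' : Over S) (hY : IsAffine Y'.left) (g : (AlgSp.yon S).obj Y' ⟶ M) (hg : AlgSp.RepWith @Etale g),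
      ∃! k : (AlgSp.yon S).obj Y' ⟶ N, BasedFunctor.comp (_root_.FibCat.fpFst (ofSpMap g) π) (ofSpMap k) =
        BasedFunctor.comp (_root_.FibCat.fpSnd (ofSpMap g) π) φ := fun Y' hY g hg => by
    obtain ⟨k, hk, hu⟩ := (H Y' hY g hg).2 N hN (BasedFunctor.comp (_root_.FibCat.fpSnd (ofSpMap g) π) φ)
    exact ⟨k, GrothLib.SpQuot.eq_of_iso_ofSp hk.some, fun k' hk' => hu k' ⟨eqToIso hk'⟩⟩
  have hnat : ∀ (Y' Y'' : Over S) (hY' : IsAffine Y'.left) (hY'' : IsAffine Y''.left)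
      (g' : (AlgSp.yon S).obj Y' ⟶ M) (hg' : AlgSp.RepWith @Etale g') (g'' : (AlgSp.yon S).obj Y'' ⟶ M)
      (hg'' : AlgSp.RepWith @Etale g'') (v : Y'' ⟶ Y') (hv : (AlgSp.yon S).map v ≫ g' = g''),
      (AlgSp.yon S).map v ≫ (hex Y' hY' g' hg').exists.choose = (hex Y'' hY'' g'' hg'').exists.choose := by
    intro Y' Y'' hY' hY'' g' hg' g'' hg'' v hv
    refine (hex Y'' hY'' g'' hg'').unique ?_ (hex Y'' hY'' g'' hg'').exists.choose_spec
    rw [← GrothLib.SpQuot.comp_ofSpMap]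
    exact congrArg (BasedFunctor.comp (fpChange π ((AlgSp.yon S).map v) hv)) (hex Y' hY' g' hg').exists.choose_spec
  let I := U.left.affineOpens
  let Y : I → Over S := fun A => Over.mk (A.1.ι ≫ U.hom)
  let j : ∀ A : I, Y A ⟶ U := fun A => Over.homMk A.1.ι rfl
  have hY : ∀ A : I, IsAffine (Y A).left := fun A => A.2
  have hg : ∀ A : I, AlgSp.RepWith @Etale ((AlgSp.yon S).map (j A) ≫ q) := fun A =>
    GrothLib.AlgSp.repWith_comp ((AlgSp.repWith_yon_map_iff _ _).2 (inferInstanceAs (Etale A.1.ι))) qe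
  let kA : ∀ A : I, (AlgSp.yon S).obj (Y A) ⟶ N := fun A => (hex (Y A) (hY A) _ (hg A)).exists.choose
  have hlift : ∀ {W : Over S} (g : W ⟶ U) (A : I), Set.range g.left ⊆ A.1 → ∃ l : W ⟶ Y A, l ≫ j A = g :=
    fun {W} g A h => by
    have h' : Set.range g.left ⊆ Set.range A.1.ι := by rwa [Scheme.Opens.range_ι]
    refine ⟨Over.homMk (IsOpenImmersion.lift A.1.ι g.left h') ?_, Over.OverMorphism.ext (IsOpenImmersion.lift_fac _ _ _)⟩
    change IsOpenImmersion.lift A.1.ι g.left h' ≫ A.1.ι ≫ U.hom = W.hom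
    rw [IsOpenImmersion.lift_fac_assoc]
    exact Over.w g
  -- agreement on overlaps
  have hcompat : ∀ (A B : I) (Z : Over S) (a : Z ⟶ Y A) (b : Z ⟶ Y B),
      (AlgSp.yon S).map (a ≫ j A) ≫ q = (AlgSp.yon S).map (b ≫ j B) ≫ q →
      (AlgSp.yon S).map a ≫ kA A = (AlgSp.yon S).map b ≫ kA B := by
    intro A B Z a b h
    obtain ⟨P, p₂, p₁, sq⟩ := (hg A).1 ((AlgSp.yon S).map (j B) ≫ q)
    obtain ⟨p₁, rfl⟩ := (AlgSp.yon S).map_surjective p₁
    have hp₂ : Etale p₂.left := (hg A).2 _ _ _ sq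
    let w : Z ⟶ P := (AlgSp.yon S).preimage (sq.lift ((AlgSp.yon S).map a) ((AlgSp.yon S).map b)
      (by rw [← Functor.map_comp_assoc, ← Functor.map_comp_assoc]; exact h))
    have hw₁ : w ≫ p₁ = a := (AlgSp.yon S).map_injective (by
      rw [Functor.map_comp, Functor.map_preimage, IsPullback.lift_fst])
    have hw₂ : w ≫ p₂ = b := (AlgSp.yon S).map_injective (by
      rw [Functor.map_comp, Functor.map_preimage, IsPullback.lift_snd])
    have e : (AlgSp.yon S).map p₁ ≫ kA A = (AlgSp.yon S).map p₂ ≫ kA B := by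
      let O : ∀ C : P.left.affineOpens, Over S := fun C => Over.mk (C.1.ι ≫ P.hom)
      let i : ∀ C : P.left.affineOpens, O C ⟶ P := fun C => Over.homMk C.1.ι rfl
      have hi : ∀ C, IsOpenImmersion (i C).left := fun C => inferInstanceAs (IsOpenImmersion C.1.ι)
      obtain ⟨_, -, hu⟩ := GrothLib.AlgSp.exists_hom_of_cover (F := N) (T := P) O i
        (fun C => have := hi C; inferInstance) (fun C => have := hi C; inferInstance)
        (fun x => by
          obtain ⟨C, hC, hx, -⟩ := exists_isAffineOpen_mem_and_subset (x := x) (U := (⊤ : P.left.Opens)) trivial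
          exact ⟨⟨C, hC⟩, ⟨x, hx⟩, rfl⟩)
        (fun C => (AlgSp.yon S).map (i C) ≫ (AlgSp.yon S).map p₁ ≫ kA A) (fun C D Z' c d hcd => by
          rw [← Functor.map_comp_assoc, hcd, Functor.map_comp_assoc])
      refine (hu _ fun C => rfl).trans (hu _ fun C => ?_).symm
      have hC : IsAffine (O C).left := C.2
      let g'' := (AlgSp.yon S).map (i C ≫ p₂) ≫ (AlgSp.yon S).map (j B) ≫ q
      have hip : Etale (i C ≫ p₂).left :=
        MorphismProperty.comp_mem @Etale (i C).left p₂.left (inferInstanceAs (Etale C.1.ι)) hp₂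
      have hg'' : AlgSp.RepWith @Etale g'' := GrothLib.AlgSp.repWith_comp
        ((AlgSp.repWith_yon_map_iff (P := @Etale) (i C ≫ p₂)).2 hip) (hg B)
      rw [← Functor.map_comp_assoc, ← Functor.map_comp_assoc, hnat _ _ (hY B) hC _ (hg B) g'' hg'' (i C ≫ p₂) rfl,
        hnat _ _ (hY A) hC _ (hg A) g'' hg'' (i C ≫ p₁)
          (by rw [Functor.map_comp, Category.assoc, sq.w, ← Functor.map_comp_assoc])]
    rw [← hw₁, ← hw₂, Functor.map_comp_assoc, Functor.map_comp_assoc, e]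
  have hcov : ∀ x : ↥U.left, ∃ (A : I) (y : ↥(Y A).left), (j A).left y = x := fun x => by
    obtain ⟨C, hC, hx, -⟩ := exists_isAffineOpen_mem_and_subset (x := x) (U := (⊤ : U.left.Opens)) trivial
    exact ⟨⟨C, hC⟩, ⟨x, hx⟩, rfl⟩
  have hjf : ∀ A : I, IsOpenImmersion (j A).left := fun A => inferInstanceAs (IsOpenImmersion A.1.ι)
  obtain ⟨k, hk, hku⟩ := GrothLib.AlgSp.exists_hom_of_cover (F := N) (T := U) Y j
    (fun A => have := hjf A; inferInstance) (fun A => have := hjf A; inferInstance) hcov kA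
    (fun A B Z a b h => hcompat A B Z a b (by rw [h]))
  obtain ⟨g, hg', hgu⟩ := existsUnique_desc q qe qs k fun Z a b h => by
    let O : ∀ _ : {C : Z.left.affineOpens × I × I // Set.range (C.1.1.ι ≫ a.left) ⊆ C.2.1.1 ∧
        Set.range (C.1.1.ι ≫ b.left) ⊆ C.2.2.1}, Over S := fun C => Over.mk (C.1.1.1.ι ≫ Z.hom)
    let i : ∀ C, O C ⟶ Z := fun C => Over.homMk C.1.1.1.ι rfl
    have hi : ∀ C, IsOpenImmersion (i C).left := fun C => inferInstanceAs (IsOpenImmersion C.1.1.1.ι)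
    obtain ⟨_, -, hu⟩ := GrothLib.AlgSp.exists_hom_of_cover (F := N) (T := Z) O i
      (fun C => have := hi C; inferInstance) (fun C => have := hi C; inferInstance)
      (fun x => by
        obtain ⟨A, y, hy⟩ := hcov (a.left x)
        obtain ⟨B, y', hy'⟩ := hcov (b.left x)
        obtain ⟨C, hC, hx, hsub⟩ := exists_isAffineOpen_mem_and_subset (x := x)
          (U := a.left ⁻¹ᵁ A.1 ⊓ b.left ⁻¹ᵁ B.1) ⟨by show a.left x ∈ A.1; rw [← hy]; exact y.2,
            by show b.left x ∈ B.1; rw [← hy']; exact y'.2⟩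
        refine ⟨⟨(⟨C, hC⟩, A, B), ?_, ?_⟩, ⟨x, hx⟩, rfl⟩
        · rintro _ ⟨z, rfl⟩; exact (hsub z.2).1
        · rintro _ ⟨z, rfl⟩; exact (hsub z.2).2)
      (fun C => (AlgSp.yon S).map (i C) ≫ (AlgSp.yon S).map a ≫ k) (fun C D Z' c d hcd => by
        rw [← Functor.map_comp_assoc, hcd, Functor.map_comp_assoc])
    refine (hu _ fun C => rfl).trans (hu _ fun C => ?_).symm
    obtain ⟨la, hla⟩ := hlift (i C ≫ a) C.1.2.1 C.2.1
    obtain ⟨lb, hlb⟩ := hlift (i C ≫ b) C.1.2.2 C.2.2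
    rw [← Functor.map_comp_assoc, ← Functor.map_comp_assoc, ← hla, ← hlb, Functor.map_comp_assoc,
      Functor.map_comp_assoc, hk, hk]
    refine (hcompat _ _ _ la lb ?_).symm
    rw [hla, hlb, Functor.map_comp, Functor.map_comp, Category.assoc, Category.assoc, h]
  have hgA : ∀ A : I, ((AlgSp.yon S).map (j A) ≫ q) ≫ g = kA A := fun A => by rw [Category.assoc, hg', hk]
  refine ⟨g, ⟨eqToIso (eq_of_sm fun o => ?_)⟩, fun g' hg'' => ?_⟩
  · -- the factorisation holds on each object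
    let x : 𝒳.p.Fiber (𝒳.p.obj o) := ⟨o, rfl⟩
    change sm (BasedFunctor.comp π (ofSpMap g)) x = sm φ x
    obtain ⟨V, b, a, sq⟩ := qe.1 (sm π x)
    obtain ⟨a, rfl⟩ := (AlgSp.yon S).map_surjective a
    have : Etale b.left := qe.2 _ _ _ sq
    have : Surjective b.left := qs.2 _ _ _ sq
    refine hom_ext_etale b ?_
    let O : ∀ _ : {C : V.left.affineOpens × I // Set.range (C.1.1.ι ≫ a.left) ⊆ C.2.1}, Over S :=
      fun C => Over.mk (C.1.1.1.ι ≫ V.hom)
    let i : ∀ C, O C ⟶ V := fun C => Over.homMk C.1.1.1.ι rfl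
    have hi : ∀ C, IsOpenImmersion (i C).left := fun C => inferInstanceAs (IsOpenImmersion C.1.1.1.ι)
    obtain ⟨_, -, hu⟩ := GrothLib.AlgSp.exists_hom_of_cover (F := N) (T := V) O i
      (fun C => have := hi C; inferInstance) (fun C => have := hi C; inferInstance)
      (fun t => by
        obtain ⟨A, y, hy⟩ := hcov (a.left t)
        obtain ⟨C, hC, hx, hsub⟩ := exists_isAffineOpen_mem_and_subset (x := t) (U := a.left ⁻¹ᵁ A.1)
          (by show a.left t ∈ A.1; rw [← hy]; exact y.2)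
        refine ⟨⟨(⟨C, hC⟩, A), ?_⟩, ⟨t, hx⟩, rfl⟩
        rintro _ ⟨z, rfl⟩; exact hsub z.2)
      (fun C => (AlgSp.yon S).map (i C) ≫ (AlgSp.yon S).map b ≫ sm φ x) (fun C D Z' c d hcd => by
        rw [← Functor.map_comp_assoc, hcd, Functor.map_comp_assoc])
    refine (hu _ fun C => ?_).trans (hu _ fun C => rfl).symm
    obtain ⟨lA, hlA⟩ := hlift (i C ≫ a) C.1.2 C.2
    obtain ⟨oW, κ, hκ⟩ := IsFibGrpd.exists_lift_of_eq hG (x := o) rfl (i C ≫ b)
    have hoW : 𝒳.p.obj oW = O C := IsHomLift.domain_eq 𝒳.p (i C ≫ b) κ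
    let xW : 𝒳.p.Fiber (O C) := ⟨oW, hoW⟩
    let gA := (AlgSp.yon S).map (j C.1.2) ≫ q
    have hsec : (AlgSp.yon S).map lA ≫ gA = sm π xW := by
      rw [← sm_of_hom π xW x (i C ≫ b) κ]
      simp only [gA]
      rw [← Category.assoc, ← Functor.map_comp, hlA, Functor.map_comp, Functor.map_comp, Category.assoc, Category.assoc,
        sq.w]
    let s₁ : (ofSp ((AlgSp.yon S).obj (Y C.1.2))).obj :=
      ⟨O C, (AlgSp.J S).uliftYonedaEquiv.{u + 1} ((AlgSp.yon S).map lA)⟩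
    obtain ⟨θ, hθ⟩ := exists_iso_of_sec (M := M) (T := O C) (c := (ofSpMap gA).obj s₁) (d := π.obj oW) rfl
      ((π.w_obj oW).trans hoW) (by
        have e := congrArg (AlgSp.J S).uliftYonedaEquiv.{u + 1} hsec
        rw [sm, Equiv.apply_symm_apply, GrothendieckTopology.uliftYonedaEquiv_comp] at e
        refine Eq.trans ?_ e
        change M.obj.map (eqToHom rfl).op _ = _
        simp
        rfl)
    let η := Fp.mk (F := ofSpMap gA) (G := π) s₁ oW θ hθ
    have h1 := congrArg (fun F => sm F (⟨η, rfl⟩ : (_root_.FibCat.fp (ofSpMap gA) π).p.Fiber (O C)))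
      (hex (Y C.1.2) (hY C.1.2) gA (hg C.1.2)).exists.choose_spec
    simp only [sm_comp_ofSpMap] at h1
    rw [eq_of_sm_fst π η ((AlgSp.yon S).map lA) rfl] at h1
    have h2 : sm (BasedFunctor.comp (_root_.FibCat.fpSnd (ofSpMap gA) π) φ)
        (⟨η, rfl⟩ : (_root_.FibCat.fp (ofSpMap gA) π).p.Fiber (O C)) = sm φ xW := rfl
    rw [h2] at h1
    rw [← Functor.map_comp_assoc, ← Functor.map_comp_assoc, sm_comp_ofSpMap, ← Category.assoc,
      sm_of_hom π xW x (i C ≫ b) κ, sm_of_hom φ xW x (i C ≫ b) κ, ← h1, ← hsec, Category.assoc]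
    exact congrArg _ (hgA C.1.2)
  · have hφ := GrothLib.SpQuot.eq_of_iso_ofSp hg''.some
    refine hgu g' (hku _ fun A => ?_)
    refine (hex (Y A) (hY A) _ (hg A)).unique ?_ (hex (Y A) (hY A) _ (hg A)).exists.choose_spec
    rw [← Category.assoc, ← hφ, ← GrothLib.SpQuot.comp_ofSpMap]
    exact congrArg (fun F => BasedFunctor.comp F (ofSpMap g'))
      (GrothLib.SpQuot.eq_of_iso_ofSp (_root_.FibCat.fpIso (ofSpMap ((AlgSp.yon S).map (j A) ≫ q)) π))

/-- Categorical moduli spaces transported along an equivalence. -/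
theorem isCatModuli_of_equiv {𝒳' : _root_.AlgSt.Cat S} (E : 𝒳' ⥤ᵇ 𝒳) (hE : _root_.FibCat.IsEquivOver E)
    {π : 𝒳 ⥤ᵇ ofSp M} {π' : 𝒳' ⥤ᵇ ofSp M} (h : BasedFunctor.comp E π = π') (hπ : IsCatModuli π) :
    IsCatModuli π' := by
  obtain ⟨E', -, ⟨η⟩, ⟨ε⟩⟩ := IsEquivOver.symm hE
  refine ⟨hπ.1, fun N hN φ => ?_⟩
  obtain ⟨g, ⟨i⟩, hu⟩ := hπ.2 N hN (BasedFunctor.comp E' φ)
  refine ⟨g, ⟨eqToIso (congrArg (fun F => BasedFunctor.comp F (ofSpMap g)) h.symm) ≪≫
    whiskerLeftIso E i ≪≫ whiskerRightIso η φ⟩, fun g' ⟨i'⟩ => hu g' ⟨?_⟩⟩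
  exact (whiskerRightIso ε (BasedFunctor.comp π (ofSpMap g'))).symm ≪≫
    whiskerLeftIso E' (eqToIso (congrArg (fun F => BasedFunctor.comp F (ofSpMap g')) h) ≪≫ i')

end GrothLib.AlgSt.CatLocal
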