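import Groth.Agent.Lib.AlgSt.FibreProduct
import Groth.Agent.Lib.FibCat.DiagRepr

/-!
# The diagonal and representability by algebraic spaces
-/

set_option backward.isDefEq.respectTransparency false
set_option backward.isDefEq.respectTransparency.types false

universe v₂ u₂ u

open CategoryTheory CategoryTheory.Limits AlgebraicGeometry Opposite

namespace GrothLib.AlgSt

open _root_.AlgSt GrothLib.FibCat

variable {S : Scheme.{u}} {𝒳 : BasedCategory.{v₂, u₂} (Over S)}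

theorem repByAlgSp1_of_diag (h : RepByAlgSp1 (_root_.FibCat.diag (_root_.FibCat.toSelf 𝒳)))
    (h𝒳 : _root_.FibCat.IsFibGrpd 𝒳.p) {U : Over S} (G : _root_.FibCat.overCat U ⥤ᵇ 𝒳) : RepByAlgSp1 G :=
  fun _ y =>
  let ⟨W, w, E, hE⟩ := exists_isEquivOver_fp_diag h𝒳 G y
  repByAlgSp_of_isEquivOver E hE (h W w)

theorem repByAlgSp1_diag_of (h : ∀ (U : Over S) (G : _root_.FibCat.overCat U ⥤ᵇ 𝒳), RepByAlgSp1 G)
    (h𝒳 : _root_.FibCat.IsFibGrpd 𝒳.p) : RepByAlgSp1 (_root_.FibCat.diag (_root_.FibCat.toSelf 𝒳)) := by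
  intro U w
  let y₁ := BasedFunctor.comp w (_root_.FibCat.fpFst _ _)
  let y₂ := BasedFunctor.comp w (_root_.FibCat.fpSnd _ _)
  obtain ⟨K, eK, hK⟩ := h U y₂ U y₁
  obtain ⟨eK', hK', ⟨η⟩, ⟨ε⟩⟩ := IsEquivOver.symm hK
  let p₁ := BasedFunctor.comp eK (_root_.FibCat.fpFst y₁ y₂)
  let p₂ := BasedFunctor.comp eK (_root_.FibCat.fpSnd y₁ y₂)
  let f₁ := spMapOfOver p₁
  let f₂ := spMapOfOver p₂
  let m := pullback.fst (prod.lift f₁ f₂) (Limits.diag ((AlgSp.yon S).obj U))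
  let L := pullback (prod.lift f₁ f₂) (Limits.diag ((AlgSp.yon S).obj U))
  have hL : AlgSp.IsAlgSpace L := GrothLib.AlgSp.isAlgSpace_pullback'
    (GrothLib.AlgSp.isAlgSpace_prod (AlgSp.IsAlgSpace.yon_obj U) (AlgSp.IsAlgSpace.yon_obj U))
    K.property (AlgSp.IsAlgSpace.yon_obj U) _ _
  have hme : m ≫ f₁ = m ≫ f₂ := by
    have := pullback.condition (f := prod.lift f₁ f₂) (g := Limits.diag ((AlgSp.yon S).obj U))
    have e1 := congrArg (fun t => t ≫ prod.fst) this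
    have e2 := congrArg (fun t => t ≫ prod.snd) this
    simp only [Category.assoc, prod.lift_fst, prod.lift_snd, Category.comp_id] at e1 e2
    exact e1.trans e2.symm
  have hinj : ∀ T, Function.Injective (m.hom.app T) := fun T x y e => by
    apply (AlgSp.J S).uliftYonedaEquiv.{u + 1}.symm.injective
    rw [← cancel_mono m, GrothendieckTopology.uliftYonedaEquiv_symm_naturality_right,
      GrothendieckTopology.uliftYonedaEquiv_symm_naturality_right, e]
  have hrange : ∀ (T : Over S) (k : K.obj.obj.obj (op T)),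
      f₁.hom.app (op T) k = f₂.hom.app (op T) k → ∃ l, m.hom.app (op T) l = k := fun T k e => by
    let κ : (AlgSp.yon S).obj T ⟶ K.obj := (AlgSp.J S).uliftYonedaEquiv.{u + 1}.symm k
    have hκ : κ ≫ f₁ = κ ≫ f₂ := by
      rw [GrothendieckTopology.uliftYonedaEquiv_symm_naturality_right,
        GrothendieckTopology.uliftYonedaEquiv_symm_naturality_right, e]
    refine ⟨(AlgSp.J S).uliftYonedaEquiv.{u + 1}
      (pullback.lift κ (κ ≫ f₁) (by apply prod.hom_ext <;> simp [hκ]) : (AlgSp.yon S).obj T ⟶ L), ?_⟩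
    rw [← GrothendieckTopology.uliftYonedaEquiv_comp, pullback.lift_fst, Equiv.apply_symm_apply]
  have := faithful_pairToFp w
  have hfull : (pairToFp w).toFunctor.Full := ⟨fun {a b} ψ => by
    refine exists_map_pairToFp w ψ (IsFibSetoid.hom_ext (isFibSetoid_overCat U) ?_)
    have h3 := IsHomLift.fac' (_root_.FibCat.overCat U).p ((_root_.FibCat.fp y₁ y₂).p.map ψ) ψ.hom.snd
    exact ((h3.trans (by erw [eqToHom_refl, eqToHom_refl, Category.id_comp, Category.comp_id]; rfl))).symm⟩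
  have := IsEquivOver.full hK'
  have := IsEquivOver.faithful hK'
  let H := BasedFunctor.comp (pairToFp w) eK'
  have : H.toFunctor.Full := inferInstanceAs ((pairToFp w).toFunctor ⋙ eK'.toFunctor).Full
  have : H.toFunctor.Faithful := inferInstanceAs ((pairToFp w).toFunctor ⋙ eK'.toFunctor).Faithful
  suffices key : ∃ Φ : _root_.FibCat.fp w (_root_.FibCat.diag (_root_.FibCat.toSelf 𝒳)) ⥤ᵇ ofSp L,
      _root_.FibCat.IsEquivOver Φ by
    obtain ⟨Φ, hΦ⟩ := key
    exact repByAlgSp_of_isEquivOver' Φ hΦ (repByAlgSp_ofSp hL)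
  refine exists_equiv_of_image m.hom hinj H (fun x => hrange _ _ (congrArg ULift.up ?_)) (fun T l => ?_)
  · change structHom p₁ (H.obj x) = structHom p₂ (H.obj x)
    let φ := (isoApp ε ((pairToFp w).obj x)).hom
    have e1 := structHom_w (_root_.FibCat.fpFst y₁ y₂) φ
    have e2 := structHom_w (_root_.FibCat.fpSnd y₁ y₂) φ
    have e0 : structHom (_root_.FibCat.fpFst y₁ y₂) ((pairToFp w).obj x) =
        structHom (_root_.FibCat.fpSnd y₁ y₂) ((pairToFp w).obj x) := rfl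
    have e3 : structHom (_root_.FibCat.fpFst y₁ y₂) (eK.obj (H.obj x)) =
        structHom (_root_.FibCat.fpSnd y₁ y₂) (eK.obj (H.obj x)) :=
      e1.symm.trans ((congrArg (fun t => (_root_.FibCat.fp y₁ y₂).p.map φ ≫ t) e0).trans e2)
    have c1 : structHom p₁ (H.obj x) =
        eqToHom (eK.w_obj (H.obj x)).symm ≫ structHom (_root_.FibCat.fpFst y₁ y₂) (eK.obj (H.obj x)) := by
      change eqToHom _ ≫ _ = eqToHom _ ≫ eqToHom _ ≫ _
      rw [eqToHom_trans_assoc]
      rfl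
    have c2 : structHom p₂ (H.obj x) =
        eqToHom (eK.w_obj (H.obj x)).symm ≫ structHom (_root_.FibCat.fpSnd y₁ y₂) (eK.obj (H.obj x)) := by
      change eqToHom _ ≫ _ = eqToHom _ ≫ eqToHom _ ≫ _
      rw [eqToHom_trans_assoc]
      rfl
    rw [c1, c2, e3]
  · let z : (ofSp K.obj).obj := ⟨T, m.hom.app (op T) l⟩
    have hz : structHom p₁ z = structHom p₂ z :=
      congrArg ULift.down (congrArg (fun t => t.hom.app (op T) l) hme)
    obtain ⟨j, hj⟩ := exists_iso_of_structHom_eq z hz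
    let o := eK.obj z
    let a : (_root_.FibCat.overCat U).obj := o.obj.fst
    have ho : a.left = T := eK.w_obj z
    let i : y₁.obj a ≅ y₂.obj a := o.obj.iso ≪≫ y₂.toFunctor.mapIso j.symm
    have hi : 𝒳.p.IsHomLift (𝟙 a.left) i.hom := by
      have : 𝒳.p.IsHomLift (𝟙 a.left) o.obj.iso.hom := Fp.iso_lift o
      have hj' : (_root_.FibCat.overCat U).p.IsHomLift (𝟙 T) j.hom := hj
      have := isHomLift_id_inv (_root_.FibCat.overCat U).p (R := T) j
      have : (_root_.FibCat.overCat U).p.IsHomLift (𝟙 a.left) j.inv :=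
        isHomLift_id_of_eq (_root_.FibCat.overCat U).p (R := T) j.inv (Or.inr rfl)
      exact inferInstanceAs (𝒳.p.IsHomLift (𝟙 a.left) (o.obj.iso.hom ≫ y₂.map j.inv))
    have hi' : 𝒳.p.IsHomLift (𝟙 (𝒳.p.obj (w.obj a).obj.fst)) i.hom :=
      isHomLift_id_domain 𝒳.p (R := a.left) i.hom
    obtain ⟨x, e, he⟩ := exists_obj_pairToFp w h𝒳 a i hi (selfOver_hom_ext _ _ (Fp.iso_lift (w.obj a))
      (BasedFunctor.preserves_isHomLift (_root_.FibCat.toSelf 𝒳) (𝟙 (𝒳.p.obj (w.obj a).obj.fst)) i.hom))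
    let e₂ : Fp.mk a a i hi ≅ o := Fp.isoMk (Iso.refl a) j (by
      change y₁.map (𝟙 a) ≫ o.obj.iso.hom = (o.obj.iso.hom ≫ y₂.map j.inv) ≫ y₂.map j.hom
      have e : y₂.map j.inv ≫ y₂.map j.hom = 𝟙 _ :=
        (y₂.map_comp _ _).symm.trans ((congrArg y₂.map j.inv_hom_id).trans (y₂.map_id _))
      rw [Category.assoc, e, y₁.map_id, Category.id_comp]
      exact (Category.comp_id _).symm)
    refine ⟨x, eK'.toFunctor.mapIso (e ≪≫ e₂) ≪≫ isoApp η z, ?_⟩
    have h1 : (_root_.FibCat.fp y₁ y₂).p.IsHomLift (𝟙 a.left) e₂.hom := (Fp.isHomLift_iff _ _).2 (IsHomLift.id rfl)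
    have h2 : (_root_.FibCat.fp y₁ y₂).p.IsHomLift (𝟙 a.left) e.hom := he
    have h3 : (_root_.FibCat.fp y₁ y₂).p.IsHomLift (𝟙 T) (e.hom ≫ e₂.hom) := by rw [← ho]; infer_instance
    have h4 := isHomLift_isoApp η (x := z) (U := T) rfl
    have h5 : (ofSp K.obj).p.IsHomLift (𝟙 T) (eK'.map (e.hom ≫ e₂.hom)) :=
      BasedFunctor.preserves_isHomLift eK' (𝟙 T) (e.hom ≫ e₂.hom)
    have h6 := @IsHomLift.comp _ _ _ _ (Stk.EltObj.forget K.obj.obj) _ _ _ _ _ _ (𝟙 T) (𝟙 T)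
      (eK'.map (e.hom ≫ e₂.hom)) (isoApp η z).hom h5 h4
    rw [Category.comp_id] at h6
    exact h6

theorem repByAlgSp1_diag_iff (h𝒳 : _root_.FibCat.IsFibGrpd 𝒳.p) :
    RepByAlgSp1 (_root_.FibCat.diag (_root_.FibCat.toSelf 𝒳)) ↔
      ∀ (U : Over S) (G : _root_.FibCat.overCat U ⥤ᵇ 𝒳), RepByAlgSp1 G :=
  ⟨fun h _ G => repByAlgSp1_of_diag h h𝒳 G, fun h => repByAlgSp1_diag_of h h𝒳⟩

end GrothLib.AlgSt
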