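import Groth.Agent.Lib.AlgSt.FpStack

/-!
# The diagonal of a morphism of algebraic stacks
-/

set_option backward.isDefEq.respectTransparency false
set_option backward.isDefEq.respectTransparency.types false

universe u

open CategoryTheory CategoryTheory.Limits AlgebraicGeometry Opposite

namespace GrothLib.AlgSt

open _root_.AlgSt GrothLib.FibCat

variable {S : Scheme.{u}} {𝒳 𝒴 𝒵 : _root_.AlgSt.Cat S}

/-- Cancellation: a morphism into an algebraic stack is representable by algebraic spaces if some composite is. -/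
theorem repByAlgSp1_of_comp (h𝒴 : IsAlgStack Scheme.fppfPrecoverage 𝒴) (h𝒵 : IsAlgStack Scheme.fppfPrecoverage 𝒵)
    (f : 𝒳 ⥤ᵇ 𝒴) (g : 𝒴 ⥤ᵇ 𝒵) (h : RepByAlgSp1 (BasedFunctor.comp f g)) : RepByAlgSp1 f := by
  intro U y
  let z := BasedFunctor.comp y g
  let s : _root_.FibCat.overCat U ⥤ᵇ _root_.FibCat.fp z g :=
    _root_.FibCat.fpLift (BasedFunctor.id _) y (Iso.refl _)
  let q := _root_.FibCat.fpFst (_root_.FibCat.fpSnd z g) f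
  have hP := isAlgStack_fp h𝒵.isStack h𝒵.diag (isDM_of_repByAlgSp (repByAlgSp_overCat U)).1 h𝒴 z g
  have hs : RepByAlgSp1 s := repByAlgSp1_of_diag hP.diag hP.isStack.1 s
  have hK : RepByAlgSp (_root_.FibCat.fp (_root_.FibCat.fpSnd z g) f) :=
    repByAlgSp_of_isEquivOver' (Fp.pasteComp f g z) (Fp.isEquivOver_pasteComp f g z) (h U z)
  have hfp : RepByAlgSp (_root_.FibCat.fp q s) :=
    repByAlgSp_fp_of_repByAlgSp1 (isFibGrpd_overCat U) hP.isStack.1 s q hs hK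
  exact repByAlgSp_of_isEquivOver (BasedFunctor.comp (Fp.symm q s) (Fp.paste f (_root_.FibCat.fpSnd z g) s))
    (IsEquivOver.comp (Fp.isEquivOver_symm q s) (Fp.isEquivOver_paste f (_root_.FibCat.fpSnd z g) s)) hfp

/-- The first projection composed with the diagonal is the identity. -/
theorem diag_comp_fpFst (f : 𝒳 ⥤ᵇ 𝒴) :
    BasedFunctor.comp (_root_.FibCat.diag f) (_root_.FibCat.fpFst f f) = BasedFunctor.id 𝒳 := rfl

/-- The diagonal of a morphism of algebraic stacks is representable by algebraic spaces. -/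
theorem repByAlgSp1_diag (h𝒳 : IsAlgStack Scheme.fppfPrecoverage 𝒳) (h𝒴 : IsAlgStack Scheme.fppfPrecoverage 𝒴)
    (f : 𝒳 ⥤ᵇ 𝒴) : RepByAlgSp1 (_root_.FibCat.diag f) :=
  repByAlgSp1_of_comp (isAlgStack_fp h𝒴.isStack h𝒴.diag h𝒳 h𝒳 f f) h𝒳 _ (_root_.FibCat.fpFst f f)
    (repByAlgSpWith_top_iff.1 (repByAlgSpWith_id (P := ⊤) (fun _ => trivial) 𝒳))

section Comparison

variable {𝒳' : _root_.AlgSt.Cat S}

/-- The comparison `𝒳 ×_𝒴 𝒳' ⟶ 𝒳 ×_𝒵 𝒳'`. -/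
def fpToFp (f : 𝒳 ⥤ᵇ 𝒴) (f' : 𝒳' ⥤ᵇ 𝒴) (g : 𝒴 ⥤ᵇ 𝒵) :
    _root_.FibCat.fp f f' ⥤ᵇ _root_.FibCat.fp (BasedFunctor.comp f g) (BasedFunctor.comp f' g) :=
  _root_.FibCat.fpLift (_root_.FibCat.fpFst f f') (_root_.FibCat.fpSnd f f')
    (whiskerRightIso (_root_.FibCat.fpIso f f') g)

theorem fpToFp_iso (f : 𝒳 ⥤ᵇ 𝒴) (f' : 𝒳' ⥤ᵇ 𝒴) (g : 𝒴 ⥤ᵇ 𝒵) (a : (_root_.FibCat.fp f f').obj) :
    ((fpToFp f f' g).obj a).obj.iso.hom = g.map a.obj.iso.hom := rfl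

/-- `(f, f') : 𝒳 ×_𝒵 𝒳' ⟶ 𝒴 ×_𝒵 𝒴`. -/
def fpPair (f : 𝒳 ⥤ᵇ 𝒴) (f' : 𝒳' ⥤ᵇ 𝒴) (g : 𝒴 ⥤ᵇ 𝒵) :
    _root_.FibCat.fp (BasedFunctor.comp f g) (BasedFunctor.comp f' g) ⥤ᵇ _root_.FibCat.fp g g :=
  _root_.FibCat.fpLift (BasedFunctor.comp (_root_.FibCat.fpFst _ _) f) (BasedFunctor.comp (_root_.FibCat.fpSnd _ _) f')
    (_root_.FibCat.fpIso (BasedFunctor.comp f g) (BasedFunctor.comp f' g))

theorem fpPair_iso (f : 𝒳 ⥤ᵇ 𝒴) (f' : 𝒳' ⥤ᵇ 𝒴) (g : 𝒴 ⥤ᵇ 𝒵)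
    (a : (_root_.FibCat.fp (BasedFunctor.comp f g) (BasedFunctor.comp f' g)).obj) :
    ((fpPair f f' g).obj a).obj.iso.hom = a.obj.iso.hom := rfl

/-- The square of the comparison and the diagonal. -/
def fpToFpSquare (f : 𝒳 ⥤ᵇ 𝒴) (f' : 𝒳' ⥤ᵇ 𝒴) (g : 𝒴 ⥤ᵇ 𝒵) :
    BasedFunctor.comp (fpToFp f f' g) (fpPair f f' g) ≅
      BasedFunctor.comp (BasedFunctor.comp (_root_.FibCat.fpFst f f') f) (_root_.FibCat.diag g) :=
  natIsoOfComponents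
    (fun a => Fp.isoMk (a := (fpPair f f' g).obj ((fpToFp f f' g).obj a))
      (b := (_root_.FibCat.diag g).obj (f.obj a.obj.fst)) (Iso.refl _) a.obj.iso.symm (by
        rw [fpPair_iso, fpToFp_iso, diag_iso]
        change g.map (𝟙 (f.obj a.obj.fst)) ≫ 𝟙 _ = g.map a.obj.iso.hom ≫ g.map a.obj.iso.inv
        rw [← g.map_comp, a.obj.iso.hom_inv_id, g.map_id]
        exact Category.id_comp _))
    (fun a => (Fp.isHomLift_iff _ _).2 (IsHomLift.id (f.w_obj a.obj.fst)))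
    (fun {a b} φ => Fp.hom_ext ((Category.comp_id _).trans (Category.id_comp _).symm) (by
      change f'.map φ.hom.snd ≫ b.obj.iso.inv = a.obj.iso.inv ≫ f.map φ.hom.fst
      let ia : f.obj a.obj.fst ≅ f'.obj a.obj.snd := a.obj.iso
      let ib : f.obj b.obj.fst ≅ f'.obj b.obj.snd := b.obj.iso
      have hw : f.map φ.hom.fst ≫ ib.hom = ia.hom ≫ f'.map φ.hom.snd := Fp.w φ
      exact (Iso.comp_inv_eq ib).2 ((((Iso.eq_inv_comp ia).2 hw.symm)).trans (Category.assoc _ _ _).symm)))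

/-- The comparison is a base change of the diagonal. -/
def fpToFpLift (f : 𝒳 ⥤ᵇ 𝒴) (f' : 𝒳' ⥤ᵇ 𝒴) (g : 𝒴 ⥤ᵇ 𝒵) :
    _root_.FibCat.fp f f' ⥤ᵇ _root_.FibCat.fp (fpPair f f' g) (_root_.FibCat.diag g) :=
  _root_.FibCat.fpLift (fpToFp f f' g) (BasedFunctor.comp (_root_.FibCat.fpFst f f') f) (fpToFpSquare f f' g)

theorem isEquivOver_fpToFpLift (h𝒳' : _root_.FibCat.IsFibGrpd 𝒳'.p) (f : 𝒳 ⥤ᵇ 𝒴) (f' : 𝒳' ⥤ᵇ 𝒴) (g : 𝒴 ⥤ᵇ 𝒵) :
    _root_.FibCat.IsEquivOver (fpToFpLift f f' g) := by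
  have hfa : (fpToFpLift f f' g).toFunctor.Faithful := ⟨fun {a b φ ψ} h =>
    Fp.hom_ext (congrArg (fun t => t.hom.fst.hom.fst) h) (congrArg (fun t => t.hom.fst.hom.snd) h)⟩
  have hfu : (fpToFpLift f f' g).toFunctor.Full := by
    refine ⟨fun {a b} ψ => ?_⟩
    have h1 : f.map ψ.hom.fst.hom.fst ≫ 𝟙 (f.obj b.obj.fst) = 𝟙 (f.obj a.obj.fst) ≫ ψ.hom.snd :=
      congrArg (fun t => t.hom.fst) (Fp.w ψ)
    let ia : f.obj a.obj.fst ≅ f'.obj a.obj.snd := a.obj.iso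
    let ib : f.obj b.obj.fst ≅ f'.obj b.obj.snd := b.obj.iso
    have h2 : f'.map ψ.hom.fst.hom.snd ≫ ib.inv = ia.inv ≫ ψ.hom.snd := congrArg (fun t => t.hom.snd) (Fp.w ψ)
    have h1 : f.map ψ.hom.fst.hom.fst = ψ.hom.snd :=
      (Category.comp_id _).symm.trans (h1.trans (Category.id_comp _))
    have hw : f.map ψ.hom.fst.hom.fst ≫ ib.hom = ia.hom ≫ f'.map ψ.hom.fst.hom.snd := by
      rw [Iso.comp_inv_eq] at h2
      rw [h1, h2]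
      exact ((congrArg (ia.hom ≫ ·) (Category.assoc _ _ _)).trans (ia.hom_inv_id_assoc _)).symm
    exact ⟨Fp.homMk ψ.hom.fst.hom.fst ψ.hom.fst.hom.snd hw, Fp.hom_ext (Fp.hom_ext rfl rfl) h1⟩
  refine FFEssSurjOver.isEquivOver ⟨hfu, hfa, fun η => ?_⟩
  let P := η.obj.fst
  let y := η.obj.snd
  let γ₁ : f.obj P.obj.fst ≅ y := Fp.isoFst η.obj.iso
  let γ₂ : f'.obj P.obj.snd ≅ y := Fp.isoSnd η.obj.iso
  have hc : g.map γ₁.hom ≫ 𝟙 (g.obj y) = P.obj.iso.hom ≫ g.map γ₂.hom := Fp.w η.obj.iso.hom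
  let U := 𝒳.p.obj P.obj.fst
  have hγ₁ : 𝒴.p.IsHomLift (𝟙 U) γ₁.hom := (Fp.isHomLift_iff _ _).1 (Fp.iso_lift η)
  have hγ₂ : 𝒴.p.IsHomLift (𝟙 U) γ₂.hom := Fp.isHomLift_snd _ _ (Fp.iso_lift η)
  let β : f.obj P.obj.fst ≅ f'.obj P.obj.snd := γ₁ ≪≫ γ₂.symm
  have hβ : 𝒴.p.IsHomLift (𝟙 U) β.hom := by
    have := isHomLift_id_inv 𝒴.p (R := U) γ₂
    exact inferInstanceAs (𝒴.p.IsHomLift (𝟙 U) (γ₁.hom ≫ γ₂.inv))
  let ξ : (_root_.FibCat.fp f f').obj := Fp.mk P.obj.fst P.obj.snd β hβ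
  have hgβ : g.map β.hom = P.obj.iso.hom := by
    change g.map (γ₁.hom ≫ γ₂.inv) = _
    rw [g.map_comp, ← Category.comp_id (g.map γ₁.hom), hc, Category.assoc, ← g.map_comp, γ₂.hom_inv_id, g.map_id]
    exact Category.comp_id _
  let i₁ : (fpToFp f f' g).obj ξ ≅ P := Fp.isoMk (Iso.refl P.obj.fst) (Iso.refl P.obj.snd) (by
    rw [fpToFp_iso]
    change g.map (f.map (𝟙 _)) ≫ P.obj.iso.hom = g.map β.hom ≫ g.map (f'.map (𝟙 _))
    rw [hgβ, f.map_id, f'.map_id, g.map_id, g.map_id]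
    exact (Category.id_comp _).trans (Category.comp_id _).symm)
  refine ⟨ξ, Fp.isoMk i₁ γ₁ ?_, (Fp.isHomLift_iff _ _).2 ((Fp.isHomLift_iff _ _).2 (IsHomLift.id rfl))⟩
  refine Fp.hom_ext ?_ ?_
  · change f.map (𝟙 _) ≫ γ₁.hom = 𝟙 _ ≫ γ₁.hom
    rw [f.map_id]
  · change f'.map (𝟙 _) ≫ γ₂.hom = β.inv ≫ γ₁.hom
    rw [f'.map_id, Category.id_comp]
    change γ₂.hom = (γ₂.hom ≫ γ₁.inv) ≫ γ₁.hom
    simp

theorem repByAlgSpWith_fpToFp {P : MorphismProperty (AlgSp.Sp S)} (h𝒳' : _root_.FibCat.IsFibGrpd 𝒳'.p)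
    (f : 𝒳 ⥤ᵇ 𝒴) (f' : 𝒳' ⥤ᵇ 𝒴) (g : 𝒴 ⥤ᵇ 𝒵) (h : RepByAlgSpWith P (_root_.FibCat.diag g)) :
    RepByAlgSpWith P (fpToFp f f' g) := by
  have := IsEquivOver.full (IsEquivOver.refl (_root_.FibCat.fp (BasedFunctor.comp f g) (BasedFunctor.comp f' g)))
  have := IsEquivOver.faithful (IsEquivOver.refl (_root_.FibCat.fp (BasedFunctor.comp f g) (BasedFunctor.comp f' g)))
  exact repByAlgSpWith_of_square (fpToFpLift f f' g) (BasedFunctor.id _) (isEquivOver_fpToFpLift h𝒳' f f' g)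
    (Iso.refl _) (repByAlgSpWith_fpFst (fpPair f f' g) h)

/-- The diagonal of a composite. -/
def diagCompIso (f : 𝒳 ⥤ᵇ 𝒴) (g : 𝒴 ⥤ᵇ 𝒵) :
    BasedFunctor.comp (_root_.FibCat.diag f) (fpToFp f f g) ≅ _root_.FibCat.diag (BasedFunctor.comp f g) :=
  natIsoOfComponents
    (fun a => Fp.isoMk (a := (fpToFp f f g).obj ((_root_.FibCat.diag f).obj a))
      (b := (_root_.FibCat.diag (BasedFunctor.comp f g)).obj a) (Iso.refl a) (Iso.refl a) (by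
        rw [fpToFp_iso, diag_iso, diag_iso]
        change g.map (f.map (𝟙 a)) ≫ 𝟙 _ = g.map (𝟙 _) ≫ g.map (f.map (𝟙 a))
        rw [f.map_id]
        exact (Category.comp_id _).trans (by rw [g.map_id]; exact (Category.id_comp _).symm)))
    (fun a => (Fp.isHomLift_iff _ _).2 (IsHomLift.id rfl))
    (fun {a b} φ => Fp.hom_ext ((Category.comp_id _).trans (Category.id_comp _).symm)
      ((Category.comp_id _).trans (Category.id_comp _).symm))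

end Comparison

section BaseChange

variable {𝒴' : _root_.AlgSt.Cat S}

/-- `𝒳' ×_{𝒴'} 𝒳' ⟶ 𝒳 ×_𝒴 𝒳` for `𝒳' = 𝒴' ×_𝒴 𝒳`. -/
def diagBcMap (f : 𝒳 ⥤ᵇ 𝒴) (g : 𝒴' ⥤ᵇ 𝒴) :
    _root_.FibCat.fp (_root_.FibCat.fpFst g f) (_root_.FibCat.fpFst g f) ⥤ᵇ _root_.FibCat.fp f f :=
  Fp.map (_root_.FibCat.fpSnd g f) (_root_.FibCat.fpSnd g f) g (_root_.FibCat.fpIso g f).symm
    (_root_.FibCat.fpIso g f).symm

/-- The square of the two diagonals. -/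
def diagBcSquare (f : 𝒳 ⥤ᵇ 𝒴) (g : 𝒴' ⥤ᵇ 𝒴) :
    BasedFunctor.comp (_root_.FibCat.diag (_root_.FibCat.fpFst g f)) (diagBcMap f g) ≅
      BasedFunctor.comp (_root_.FibCat.fpSnd g f) (_root_.FibCat.diag f) :=
  natIsoOfComponents
    (fun a => Fp.isoMk (a := (diagBcMap f g).obj ((_root_.FibCat.diag (_root_.FibCat.fpFst g f)).obj a))
      (b := (_root_.FibCat.diag f).obj a.obj.snd) (Iso.refl _) (Iso.refl _) (by
        let ia : g.obj a.obj.fst ≅ f.obj a.obj.snd := a.obj.iso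
        change f.map (𝟙 a.obj.snd) ≫ 𝟙 _ = (ia.inv ≫ g.map (𝟙 _) ≫ ia.hom) ≫ f.map (𝟙 a.obj.snd)
        rw [g.map_id, f.map_id, Category.comp_id, Category.comp_id]
        exact ((congrArg (ia.inv ≫ ·) (Category.id_comp ia.hom)).trans ia.inv_hom_id).symm))
    (fun a => (Fp.isHomLift_iff _ _).2 (IsHomLift.id (Fp.snd_proj a)))
    (fun {a b} φ => Fp.hom_ext ((Category.comp_id _).trans (Category.id_comp _).symm)
      ((Category.comp_id _).trans (Category.id_comp _).symm))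

/-- The diagonal of a base change as a base change of the diagonal. -/
def diagBcLift (f : 𝒳 ⥤ᵇ 𝒴) (g : 𝒴' ⥤ᵇ 𝒴) :
    _root_.FibCat.fp g f ⥤ᵇ _root_.FibCat.fp (diagBcMap f g) (_root_.FibCat.diag f) :=
  _root_.FibCat.fpLift (_root_.FibCat.diag (_root_.FibCat.fpFst g f)) (_root_.FibCat.fpSnd g f) (diagBcSquare f g)

theorem isEquivOver_diagBcLift (f : 𝒳 ⥤ᵇ 𝒴) (g : 𝒴' ⥤ᵇ 𝒴) :
    _root_.FibCat.IsEquivOver (diagBcLift f g) := by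
  have hfa : (diagBcLift f g).toFunctor.Faithful := ⟨fun {a b φ ψ} h => congrArg (fun t => t.hom.fst.hom.fst) h⟩
  have hfu : (diagBcLift f g).toFunctor.Full := by
    refine ⟨fun {a b} ψ => ?_⟩
    let φa : a ⟶ b := ψ.hom.fst.hom.fst
    let φb : a ⟶ b := ψ.hom.fst.hom.snd
    have h1 : φa.hom.snd ≫ 𝟙 b.obj.snd = 𝟙 a.obj.snd ≫ ψ.hom.snd := congrArg (fun t => t.hom.fst) (Fp.w ψ)
    have h2 : φb.hom.snd ≫ 𝟙 b.obj.snd = 𝟙 a.obj.snd ≫ ψ.hom.snd := congrArg (fun t => t.hom.snd) (Fp.w ψ)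
    have h3 : φa.hom.fst ≫ 𝟙 b.obj.fst = 𝟙 a.obj.fst ≫ φb.hom.fst := Fp.w ψ.hom.fst
    rw [Category.comp_id, Category.id_comp] at h1 h2 h3
    exact ⟨φa, Fp.hom_ext (Fp.hom_ext rfl (Fp.hom_ext h3 (h1.trans h2.symm))) h1⟩
  refine FFEssSurjOver.isEquivOver ⟨hfu, hfa, fun η => ?_⟩
  let P := η.obj.fst
  let x := η.obj.snd
  let u₁ : (_root_.FibCat.fp g f).obj := P.obj.fst
  let u₂ : (_root_.FibCat.fp g f).obj := P.obj.snd
  let α : u₁.obj.fst ≅ u₂.obj.fst := P.obj.iso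
  let γ₁ : u₁.obj.snd ≅ x := Fp.isoFst η.obj.iso
  let γ₂ : u₂.obj.snd ≅ x := Fp.isoSnd η.obj.iso
  let i1 : g.obj u₁.obj.fst ≅ f.obj u₁.obj.snd := u₁.obj.iso
  let i2 : g.obj u₂.obj.fst ≅ f.obj u₂.obj.snd := u₂.obj.iso
  have hc : f.map γ₁.hom ≫ 𝟙 (f.obj x) = (i1.inv ≫ g.map α.hom ≫ i2.hom) ≫ f.map γ₂.hom := Fp.w η.obj.iso.hom
  let ι : u₁ ≅ u₂ := Fp.isoMk α (γ₁ ≪≫ γ₂.symm) (by
    change g.map α.hom ≫ i2.hom = i1.hom ≫ f.map (γ₁.hom ≫ γ₂.inv)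
    rw [f.map_comp, ← Category.comp_id (f.map γ₁.hom), hc]
    simp only [Category.assoc, Iso.hom_inv_id_assoc]
    rw [← f.map_comp, γ₂.hom_inv_id, f.map_id]
    exact ((congrArg (g.map α.hom ≫ ·) (Category.comp_id i2.hom))).symm)
  let j : (_root_.FibCat.diag (_root_.FibCat.fpFst g f)).obj u₁ ≅ P := Fp.isoMk (Iso.refl u₁) ι (by
    rw [diag_iso]
    change 𝟙 u₁.obj.fst ≫ α.hom = 𝟙 u₁.obj.fst ≫ α.hom
    rfl)
  refine ⟨u₁, Fp.isoMk j γ₁ ?_, (Fp.isHomLift_iff _ _).2 ((Fp.isHomLift_iff _ _).2 (IsHomLift.id rfl))⟩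
  refine Fp.hom_ext ?_ ?_
  · change (𝟙 u₁.obj.snd) ≫ γ₁.hom = 𝟙 u₁.obj.snd ≫ γ₁.hom
    rfl
  · change (γ₁.hom ≫ γ₂.inv) ≫ γ₂.hom = 𝟙 u₁.obj.snd ≫ γ₁.hom
    simp

theorem repByAlgSpWith_diag_fpFst {P : MorphismProperty (AlgSp.Sp S)} (f : 𝒳 ⥤ᵇ 𝒴) (g : 𝒴' ⥤ᵇ 𝒴)
    (h : RepByAlgSpWith P (_root_.FibCat.diag f)) :
    RepByAlgSpWith P (_root_.FibCat.diag (_root_.FibCat.fpFst g f)) := by
  have := IsEquivOver.full (IsEquivOver.refl (_root_.FibCat.fp (_root_.FibCat.fpFst g f) (_root_.FibCat.fpFst g f)))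
  have := IsEquivOver.faithful (IsEquivOver.refl (_root_.FibCat.fp (_root_.FibCat.fpFst g f) (_root_.FibCat.fpFst g f)))
  exact repByAlgSpWith_of_square (diagBcLift f g) (BasedFunctor.id _) (isEquivOver_diagBcLift f g)
    (Iso.refl _) (repByAlgSpWith_fpFst (diagBcMap f g) h)

end BaseChange

section Graph

/-- The graph. -/
def graph (f : 𝒳 ⥤ᵇ 𝒴) (g : 𝒴 ⥤ᵇ 𝒵) : 𝒳 ⥤ᵇ _root_.FibCat.fp (BasedFunctor.comp f g) g :=
  _root_.FibCat.fpLift (BasedFunctor.id 𝒳) f (Iso.refl _)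

theorem graph_fpSnd (f : 𝒳 ⥤ᵇ 𝒴) (g : 𝒴 ⥤ᵇ 𝒵) : BasedFunctor.comp (graph f g) (_root_.FibCat.fpSnd _ _) = f := rfl

theorem repByAlgSpWith_graph {P : MorphismProperty (AlgSp.Sp S)} (h𝒴 : _root_.FibCat.IsFibGrpd 𝒴.p)
    (f : 𝒳 ⥤ᵇ 𝒴) (g : 𝒴 ⥤ᵇ 𝒵) (h : RepByAlgSpWith P (_root_.FibCat.diag g)) : RepByAlgSpWith P (graph f g) := by
  obtain ⟨E, hE, ⟨η⟩, ⟨ε⟩⟩ :=
    IsEquivOver.symm (Fp.isEquivOver_fpFst_of_isEquivOver f (IsEquivOver.refl 𝒴))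
  let G : 𝒳 ⥤ᵇ _root_.FibCat.fp f (BasedFunctor.id 𝒴) := _root_.FibCat.fpLift (BasedFunctor.id 𝒳) f (Iso.refl _)
  have hG : _root_.FibCat.IsEquivOver G := by
    have h1 : _root_.FibCat.IsEquivOver (BasedFunctor.comp G (_root_.FibCat.fpFst f (BasedFunctor.id 𝒴))) :=
      IsEquivOver.refl 𝒳
    exact IsEquivOver.of_comp_right h1 (Fp.isEquivOver_fpFst_of_isEquivOver f (IsEquivOver.refl 𝒴))
  have := IsEquivOver.full (IsEquivOver.refl (_root_.FibCat.fp (BasedFunctor.comp f g) g))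
  have := IsEquivOver.faithful (IsEquivOver.refl (_root_.FibCat.fp (BasedFunctor.comp f g) g))
  exact repByAlgSpWith_of_square (f := fpToFp f (BasedFunctor.id 𝒴) g) G (BasedFunctor.id _) hG
    (natIsoOfComponents (fun a => Fp.isoMk (a := (graph f g).obj a)
      (b := (fpToFp f (BasedFunctor.id 𝒴) g).obj (G.obj a)) (Iso.refl _) (Iso.refl _) (by
        change g.map (f.map (𝟙 a)) ≫ g.map (𝟙 (f.obj a)) = 𝟙 _ ≫ g.map (𝟙 (f.obj a))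
        rw [f.map_id, g.map_id])) (fun a => (Fp.isHomLift_iff _ _).2 (IsHomLift.id rfl))
      (fun {a b} φ => Fp.hom_ext ((Category.comp_id _).trans (Category.id_comp _).symm)
        ((Category.comp_id _).trans (Category.id_comp _).symm)))
    (repByAlgSpWith_fpToFp h𝒴 f (BasedFunctor.id 𝒴) g h)

end Graph

/-- A property suitable for compositions of functors representable by algebraic spaces. -/
structure CompStable (P : MorphismProperty (AlgSp.Sp S)) : Prop where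
  iso : IsoInvariant P
  comp : ∀ ⦃X Y Z : AlgSp.Sp S⦄, AlgSp.IsAlgSpace X → AlgSp.IsAlgSpace Y → AlgSp.IsAlgSpace Z →
    ∀ (a : X ⟶ Y) (b : Y ⟶ Z), P a → P b → P (a ≫ b)
  detected : DetectedBySchemes P

variable {P : MorphismProperty (AlgSp.Sp S)}

theorem CompStable.repByAlgSpWith_comp (hP : CompStable P) (h𝒳 : _root_.FibCat.IsFibGrpd 𝒳.p)
    (h𝒴 : _root_.FibCat.IsFibGrpd 𝒴.p) (f : 𝒳 ⥤ᵇ 𝒴) (g : 𝒴 ⥤ᵇ 𝒵) (hf : RepByAlgSpWith P f)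
    (hg : RepByAlgSpWith P g) : RepByAlgSpWith P (BasedFunctor.comp f g) :=
  repByAlgSpWith_comp' h𝒳 h𝒴 hP.iso hP.comp hP.detected f g hf hg

/-- Composition of morphisms with diagonals having a composition stable property. -/
theorem CompStable.repByAlgSpWith_diag_comp (hP : CompStable P) (h𝒳 : IsAlgStack Scheme.fppfPrecoverage 𝒳)
    (h𝒴 : IsAlgStack Scheme.fppfPrecoverage 𝒴) (f : 𝒳 ⥤ᵇ 𝒴) (g : 𝒴 ⥤ᵇ 𝒵)
    (hf : RepByAlgSpWith P (_root_.FibCat.diag f)) (hg : RepByAlgSpWith P (_root_.FibCat.diag g)) :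
    RepByAlgSpWith P (_root_.FibCat.diag (BasedFunctor.comp f g)) :=
  repByAlgSpWith_of_iso (diagCompIso f g) (hP.repByAlgSpWith_comp h𝒳.isStack.1
    (Fp.isFibGrpd h𝒳.isStack.1 h𝒳.isStack.1 h𝒴.isStack.1) _ _ hf
    (repByAlgSpWith_fpToFp h𝒳.isStack.1 f f g hg))

/-- A morphism has a composition stable property if a composite and the diagonal of the second map do. -/
theorem CompStable.repByAlgSpWith_of_comp (hP : CompStable P) (h𝒳 : IsAlgStack Scheme.fppfPrecoverage 𝒳)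
    (h𝒴 : IsAlgStack Scheme.fppfPrecoverage 𝒴) (h𝒵 : IsAlgStack Scheme.fppfPrecoverage 𝒵) (f : 𝒳 ⥤ᵇ 𝒴)
    (g : 𝒴 ⥤ᵇ 𝒵) (h : RepByAlgSpWith P (BasedFunctor.comp f g))
    (hg : RepByAlgSpWith P (_root_.FibCat.diag g)) : RepByAlgSpWith P f :=
  hP.repByAlgSpWith_comp h𝒳.isStack.1 (Fp.isFibGrpd h𝒳.isStack.1 h𝒴.isStack.1 h𝒵.isStack.1) (graph f g)
    (_root_.FibCat.fpSnd _ _) (repByAlgSpWith_graph h𝒴.isStack.1 f g hg)
    (repByAlgSpWith_fpSnd g h)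

/-- The diagonal of the first map has a composition stable property if that of the composite and the second
diagonal of the second map do. -/
theorem CompStable.repByAlgSpWith_diag_of_comp (hP : CompStable P) (h𝒳 : IsAlgStack Scheme.fppfPrecoverage 𝒳)
    (h𝒴 : IsAlgStack Scheme.fppfPrecoverage 𝒴) (h𝒵 : IsAlgStack Scheme.fppfPrecoverage 𝒵) (f : 𝒳 ⥤ᵇ 𝒴)
    (g : 𝒴 ⥤ᵇ 𝒵) (h : RepByAlgSpWith P (_root_.FibCat.diag (BasedFunctor.comp f g)))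
    (hg : RepByAlgSpWith P (_root_.FibCat.diag (_root_.FibCat.diag g))) :
    RepByAlgSpWith P (_root_.FibCat.diag f) := by
  have hff := isAlgStack_fp h𝒴.isStack h𝒴.diag h𝒳 h𝒳 f f
  have hgg := isAlgStack_fp h𝒵.isStack h𝒵.diag h𝒴 h𝒴 g g
  have hfg := isAlgStack_fp h𝒵.isStack h𝒵.diag h𝒳 h𝒳 (BasedFunctor.comp f g) (BasedFunctor.comp f g)
  let M := fpPair f f g
  let E := fpToFpLift f f g
  have hE := isEquivOver_fpToFpLift h𝒳.isStack.1 f f g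
  have hT := isAlgStack_of_isEquivOver E hE hff
  have hEι : RepByAlgSpWith P (BasedFunctor.comp (_root_.FibCat.diag f) E) :=
    hP.repByAlgSpWith_of_comp h𝒳 hT hfg _ (_root_.FibCat.fpFst M (_root_.FibCat.diag g))
      (repByAlgSpWith_of_iso (diagCompIso f g).symm h) (repByAlgSpWith_diag_fpFst (_root_.FibCat.diag g) M hg)
  exact (repByAlgSpWith_iff_of_square (f := BasedFunctor.comp (_root_.FibCat.diag f) E) (BasedFunctor.id 𝒳) E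
    (IsEquivOver.refl 𝒳) hE (Iso.refl _)).1 hEι

end GrothLib.AlgSt
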