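import Groth.Agent.Lib.AlgSt.DescRep

/-!
# Descent of properties of representable morphisms along covering families
-/

set_option backward.isDefEq.respectTransparency false
set_option backward.isDefEq.respectTransparency.types false

universe u

open CategoryTheory CategoryTheory.Limits AlgebraicGeometry Opposite

namespace GrothLib.AlgSt

open _root_.AlgSt GrothLib.FibCat

variable {S : Scheme.{u}}

/-- A covering sieve contains a flat, locally finitely presented, jointly surjective family. -/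
theorem exists_family_of_mem_J {U : Over S} {R : Sieve U} (hR : R ∈ AlgSp.J S U) :
    ∃ (V : ↥U.left → Over S) (c : ∀ i, V i ⟶ U), (∀ i, R.arrows (c i)) ∧ (∀ i, Flat (c i).left) ∧
      (∀ i, LocallyOfFinitePresentation (c i).left) ∧ ∀ x : ↥U.left, x ∈ Set.range (c x).left := by
  obtain ⟨R₀, hR₀, hle⟩ := Precoverage.mem_toGrothendieck_iff_of_isStableUnderComposition.1
    (show Sieve.overEquiv U R ∈ Scheme.fppfTopology U.left from hR)
  have hx : ∀ x : ↥U.left, ∃ (Y : Scheme.{u}) (f : Y ⟶ U.left) (y : ↥Y), R₀ f ∧ f y = x := fun x => by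
    obtain ⟨Y, f, hf, y, hy⟩ := Scheme.JointlySurjective.exists_eq
      (K := Scheme.precoverage (@Flat ⊓ @LocallyOfFinitePresentation)) R₀ hR₀ x
    exact ⟨Y, f, y, hf, hy⟩
  choose Y f y hRf hy using hx
  exact ⟨fun x => Over.mk (f x ≫ U.hom), fun x => Over.homMk (f x) rfl,
    fun x => (Sieve.overEquiv_iff _ (f x)).1 (hle _ _ (hRf x)),
    fun x => (hR₀.2 (hRf x)).1, fun x => (hR₀.2 (hRf x)).2, fun x => ⟨y x, hy x⟩⟩

variable {P : MorphismProperty (AlgSp.Sp S)} {𝒳 𝒴 𝒵 : _root_.AlgSt.Cat S}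

/-- A property local on the base descends along a covering family of a scheme. -/
theorem hasRep_of_family (hP : IsoInvariant P) (hloc : AlgSp.IsLocalOnBase AlgSp.IsFppfCover P) (f : 𝒳 ⥤ᵇ 𝒴)
    {U : Over S} (y : _root_.FibCat.overCat U ⥤ᵇ 𝒴) {ι : Type u} (V : ι → Over S) (c : ∀ i, V i ⟶ U)
    (h1 : ∀ i, Flat (c i).left) (h2 : ∀ i, LocallyOfFinitePresentation (c i).left)
    (h3 : ∀ x : ↥U.left, ∃ i, x ∈ Set.range (c i).left) (hy : RepByAlgSp (_root_.FibCat.fp y f))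
    (h : ∀ i, HasRep P (_root_.FibCat.fpFst (BasedFunctor.comp (GrothLib.FibCat.overMap (c i)) y) f)) :
    HasRep P (_root_.FibCat.fpFst y f) := by
  obtain ⟨F, e, he⟩ := hy
  let a := spMapOfOver (BasedFunctor.comp e (_root_.FibCat.fpFst y f))
  have hcov : AlgSp.IsFppfCover (fun i => (AlgSp.yon S).obj (V i)) (fun i => (AlgSp.yon S).map (c i)) :=
    ⟨fun i => ⟨GrothLib.AlgSp.EtLocal.locP_of_repWith GrothLib.AlgSp.EtLocal.flat (AlgSp.IsAlgSpace.yon_obj U)
        ((AlgSp.repWith_yon_map_iff _ _).2 (h1 i)),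
      GrothLib.AlgSp.EtLocal.locP_of_repWith GrothLib.AlgSp.EtLocal.lfp (AlgSp.IsAlgSpace.yon_obj U)
        ((AlgSp.repWith_yon_map_iff _ _).2 (h2 i))⟩,
      fun x => by
        obtain ⟨x, rfl⟩ := (AlgSp.Points.schemeHomeo U).surjective x
        obtain ⟨i, v, rfl⟩ := h3 x
        exact ⟨i, AlgSp.Points.schemeHomeo (V i) v, AlgSp.Points.map_yon_map_apply (c i) v⟩⟩
  have hm : ∀ i, P (pullback.fst ((AlgSp.yon S).map (c i)) a) := fun i => by
    let cm := (AlgSp.yon S).map (c i)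
    obtain ⟨ic⟩ := iso_toOverCat_overMap (c i)
    have := IsEquivOver.full (isEquivOver_toOverCat U)
    have := IsEquivOver.faithful (isEquivOver_toOverCat U)
    let sq := IsPullback.of_hasPullback cm a
    let M := Fp.map (F := ofSpMap cm) (G := ofSpMap a) (toOverCat (V i)) e (toOverCat U) ic
      (isoOfSpMapOfOver (BasedFunctor.comp e (_root_.FibCat.fpFst y f)))
    let E := BasedFunctor.comp (spToFp sq.w) (BasedFunctor.comp M (Fp.paste f y (GrothLib.FibCat.overMap (c i))))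
    have hE : _root_.FibCat.IsEquivOver E := IsEquivOver.comp (isEquivOver_spToFp sq) (IsEquivOver.comp
      (Fp.isEquivOver_map _ _ _ _ _ (isEquivOver_toOverCat (V i)) he)
      (Fp.isEquivOver_paste f y (GrothLib.FibCat.overMap (c i))))
    exact spMapOfOver_toOverCat (pullback.fst cm a) ▸ (h i).mem hP
      ⟨_, GrothLib.AlgSp.isAlgSpace_pullback' (AlgSp.IsAlgSpace.yon_obj U) (AlgSp.IsAlgSpace.yon_obj (V i))
        F.property cm a⟩ E hE
  exact ⟨F, e, he, (hloc _ _ (AlgSp.IsAlgSpace.yon_obj U) (fun i => AlgSp.IsAlgSpace.yon_obj (V i)) hcov a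
    F.property (fun i => pullback ((AlgSp.yon S).map (c i)) a) (fun i => pullback.fst _ _)
    (fun i => pullback.snd _ _)
    (fun i => GrothLib.AlgSp.isAlgSpace_pullback' (AlgSp.IsAlgSpace.yon_obj U) (AlgSp.IsAlgSpace.yon_obj (V i))
      F.property _ a)
    (fun i => (IsPullback.of_hasPullback ((AlgSp.yon S).map (c i)) a).flip)).2 hm⟩

theorem repByAlgSpWith_of_fpFst_family (hP : IsoInvariant P) (hloc : AlgSp.IsLocalOnBase AlgSp.IsFppfCover P)
    {f : 𝒳 ⥤ᵇ 𝒴} (hf : RepByAlgSp1 f) (g : 𝒵 ⥤ᵇ 𝒴)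
    (hg : ∀ (U : Over S) (y : _root_.FibCat.overCat U ⥤ᵇ 𝒴), ∃ R ∈ AlgSp.J S U, ∀ ⦃V : Over S⦄ (h : V ⟶ U),
      R.arrows h → ∃ z : _root_.FibCat.overCat V ⥤ᵇ 𝒵,
        Nonempty (BasedFunctor.comp z g ≅ BasedFunctor.comp (_root_.AlgSt.overMap h) y))
    (h : RepByAlgSpWith P (_root_.FibCat.fpFst g f)) : RepByAlgSpWith P f := by
  intro U y
  obtain ⟨R, hR, hz⟩ := hg U y
  obtain ⟨V, c, hc, h1, h2, h3⟩ := exists_family_of_mem_J hR
  refine hasRep_of_family hP hloc f y V c h1 h2 (fun x => ⟨x, h3 x⟩) (hf U y) fun i => ?_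
  obtain ⟨z, ⟨j⟩⟩ := hz (c i) (hc i)
  exact HasRep.of_equiv (BasedFunctor.comp (Fp.paste f g z) (Fp.congr j (Iso.refl f)))
    (IsEquivOver.comp (Fp.isEquivOver_paste f g z) (Fp.isEquivOver_congr _ _)) (Iso.refl _) (h (V i) z)

end GrothLib.AlgSt
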