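import Groth.Agent.Lib.AlgSt.DiagSpaces
import Groth.Agent.Lib.AlgSt.Mono
import Groth.Agent.Lib.AlgSp.Diag
import Groth.Agent.Lib.AlgSp.LocP
import Groth.Agent.Lib.AlgSp.PointsUniv
import Groth.Agent.Lib.AlgSp.SourceDescent

/-!
# The diagonal of a morphism representable by algebraic spaces
-/

set_option backward.isDefEq.respectTransparency false
set_option backward.isDefEq.respectTransparency.types false

universe u

open CategoryTheory CategoryTheory.Limits AlgebraicGeometry Opposite

namespace GrothLib.AlgSt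

open _root_.AlgSt GrothLib.FibCat

variable {S : Scheme.{u}} {P : MorphismProperty (AlgSp.Sp S)}

/-- A property detected by schemes is read off from the functor given by a map of algebraic spaces. -/
theorem mem_of_repByAlgSpWith_ofSpMap (hP : IsoInvariant P) (hdet : DetectedBySchemes P) {F G : AlgSp.Sp S}
    (hF : AlgSp.IsAlgSpace F) (hG : AlgSp.IsAlgSpace G) (b : F ⟶ G) (h : RepByAlgSpWith P (ofSpMap b)) : P b := by
  refine hdet hF hG b fun V p => ?_
  have := IsEquivOver.full (IsEquivOver.refl (ofSp G))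
  have := IsEquivOver.faithful (IsEquivOver.refl (ofSp G))
  let y := BasedFunctor.comp (ofOverCat V) (ofSpMap p)
  let iF : BasedFunctor.comp (toOverCat V) y ≅ BasedFunctor.comp (ofSpMap p) (BasedFunctor.id (ofSp G)) :=
    whiskerRightIso (toOverCatCompIso V) (ofSpMap p)
  let iG : BasedFunctor.comp (BasedFunctor.id (ofSp F)) (ofSpMap b) ≅
      BasedFunctor.comp (ofSpMap b) (BasedFunctor.id (ofSp G)) := Iso.refl _
  let sq := IsPullback.of_hasPullback p b
  have hm := HasRep.mem (h V y) hP ⟨_, GrothLib.AlgSp.isAlgSpace_pullback' hG (AlgSp.IsAlgSpace.yon_obj V) hF p b⟩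
    (BasedFunctor.comp (spToFp sq.w) (Fp.map (toOverCat V) (BasedFunctor.id _) (BasedFunctor.id (ofSp G)) iF iG))
    (IsEquivOver.comp (isEquivOver_spToFp sq)
      (Fp.isEquivOver_map _ _ _ _ _ (isEquivOver_toOverCat V) (IsEquivOver.refl _)))
  exact spMapOfOver_toOverCat (pullback.fst p b) ▸ hm

theorem isRepresentable_of_hasRep_repWith {Q : MorphismProperty Scheme.{u}} {W : _root_.AlgSt.Cat S} {U : Over S}
    {π : W ⥤ᵇ _root_.FibCat.overCat U} (h : HasRep (AlgSp.RepWith Q) π) : _root_.FibCat.IsRepresentable W := by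
  obtain ⟨F, e, he, ha⟩ := h
  obtain ⟨V, fst, snd, sq⟩ := GrothLib.AlgSp.exists_isPullback_of_representable ha.1 (𝟙 _)
  have : IsIso fst := sq.isIso_fst_of_isIso
  obtain ⟨e', he', -, -⟩ := IsEquivOver.symm he
  exact ⟨V, BasedFunctor.comp e' (BasedFunctor.comp (ofSpMap (inv fst)) (toOverCat V)),
    IsEquivOver.comp he' (IsEquivOver.comp (isEquivOver_ofSpMap (inv fst)) (isEquivOver_toOverCat V))⟩

variable {𝒳 𝒴 : _root_.AlgSt.Cat S} {f : 𝒳 ⥤ᵇ 𝒴}

/-- The diagonal of a functor representable by algebraic spaces, from that of the maps of spaces. -/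
theorem repByAlgSpWith_repWith_diag_of (Q : MorphismProperty Scheme.{u}) (R : MorphismProperty (AlgSp.Sp S))
    (hQ : ∀ ⦃X Y : AlgSp.Space S⦄ (a : X ⟶ Y), R a.hom → AlgSp.RepWith Q (pullback.diagonal a.hom))
    (hf : RepByAlgSpWith R f) : RepByAlgSpWith (AlgSp.RepWith Q) (_root_.FibCat.diag f) :=
  repByAlgSpWith_diag_of_forall f fun U x => by
    obtain ⟨F, e, he, hR⟩ := hf U x
    let a := spMapOfOver (BasedFunctor.comp e (_root_.FibCat.fpFst x f))
    let Y : AlgSp.Space S := ⟨_, AlgSp.IsAlgSpace.yon_obj U⟩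
    have hL := GrothLib.AlgSp.isAlgSpace_pullback' Y.property F.property F.property a a
    refine (repByAlgSpWith_diag_iff_of_rep _ e he).2 ((repByAlgSpWith_diag_ofSpMap_iff a).2
      (repByAlgSpWith_ofSpMap F.property hL _ fun V c => ?_))
    exact GrothLib.AlgSp.repWith_of_isPullback (IsPullback.of_hasPullback c (pullback.diagonal a)).flip
      (hQ (X := F) (Y := Y) (ObjectProperty.homMk a) hR)

/-- What the diagonal of a functor representable by algebraic spaces satisfies without hypotheses. -/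
theorem repByAlgSpWith_repWith_diag (hf : RepByAlgSp1 f) :
    RepByAlgSpWith (AlgSp.RepWith ((@LocallyOfFiniteType ⊓ MorphismProperty.monomorphisms Scheme.{u}) ⊓
      (@IsSeparated ⊓ @LocallyQuasiFinite))) (_root_.FibCat.diag f) :=
  repByAlgSpWith_repWith_diag_of _ ⊤ (fun X Y a _ => GrothLib.AlgSp.repWith_inf_iff.2
    ⟨GrothLib.AlgSp.repWith_inf_iff.2 ⟨GrothLib.AlgSp.repWith_diagonal a.hom (GrothLib.AlgSp.repWith_diag_lft X.property),
      GrothLib.AlgSp.repWith_diagonal a.hom (GrothLib.AlgSp.repWith_diag_mono X.property)⟩,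
    GrothLib.AlgSp.repWith_inf_iff.2 ⟨GrothLib.AlgSp.repWith_diagonal a.hom (GrothLib.AlgSp.repWith_diag_separated X.property),
      GrothLib.AlgSp.repWith_diagonal a.hom (GrothLib.AlgSp.repWith_diag_lqf X.property)⟩⟩)
    (repByAlgSpWith_top_iff.2 hf)

/-- Reading a property of the maps of spaces off the diagonal. -/
theorem repByAlgSpWith_of_repWith_diag (Q : MorphismProperty Scheme.{u}) [Q.RespectsIso]
    (R : MorphismProperty (AlgSp.Sp S))
    (hR : ∀ ⦃X Y : AlgSp.Space S⦄ (a : X ⟶ Y), AlgSp.RepWith Q (pullback.diagonal a.hom) → R a.hom)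
    (hf : RepByAlgSp1 f) (h : RepByAlgSpWith (AlgSp.RepWith Q) (_root_.FibCat.diag f)) : RepByAlgSpWith R f :=
  fun U x => by
    obtain ⟨F, e, he⟩ := hf U x
    let a := spMapOfOver (BasedFunctor.comp e (_root_.FibCat.fpFst x f))
    let Y : AlgSp.Space S := ⟨_, AlgSp.IsAlgSpace.yon_obj U⟩
    have hL := GrothLib.AlgSp.isAlgSpace_pullback' Y.property F.property F.property a a
    have h1 : RepByAlgSpWith (AlgSp.RepWith Q) (ofSpMap (pullback.diagonal a)) :=
      (repByAlgSpWith_diag_ofSpMap_iff a).1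
        ((repByAlgSpWith_diag_iff_of_rep _ e he).1 (repByAlgSpWith_diag_fpFst f x h))
    exact ⟨F, e, he, hR (X := F) (Y := Y) (ObjectProperty.homMk a)
      (mem_of_repByAlgSpWith_ofSpMap isoInvariant_of_respectsIso (detectedBySchemes_repWith Q) F.property hL _ h1)⟩

/-- Pass a property to another one along the representable properties of the diagonal. -/
theorem repByAlgSpWith_diag_mono (hf : RepByAlgSp1 f) {P R : MorphismProperty (AlgSp.Sp S)}
    (h : RepByAlgSpWith P (_root_.FibCat.diag f))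
    (hPR : ∀ ⦃X Y : AlgSp.Sp S⦄ (a : X ⟶ Y), AlgSp.IsAlgSpace X → AlgSp.IsAlgSpace Y →
      AlgSp.RepWith ((@LocallyOfFiniteType ⊓ MorphismProperty.monomorphisms Scheme.{u}) ⊓
        (@IsSeparated ⊓ @LocallyQuasiFinite)) a → P a → R a) :
    RepByAlgSpWith R (_root_.FibCat.diag f) :=
  repByAlgSpWith_mono (fun _ _ a hX hY h => hPR a hX hY h.1 h.2)
    (repByAlgSpWith_inf isoInvariant_of_respectsIso (repByAlgSpWith_repWith_diag hf) h)

end GrothLib.AlgSt
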