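import Groth.Agent.Lib.AlgSt.FibreProduct
import Groth.Agent.Lib.AlgSp.SourceDescent

/-!
# Properties of morphisms of algebraic spaces read on etale charts
-/

set_option backward.isDefEq.respectTransparency false
set_option backward.isDefEq.respectTransparency.types false

universe u

open CategoryTheory CategoryTheory.Limits AlgebraicGeometry Opposite

namespace GrothLib.AlgSt

open GrothLib.AlgSp (EtaleSourceDescends)

variable {S : Scheme.{u}} {Q : MorphismProperty Scheme.{u}}

theorem etale_left_of_repWith {U V : Over S} {h : U ⟶ V} (hh : AlgSp.RepWith @Etale ((AlgSp.yon S).map h)) :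
    Etale h.left := (AlgSp.repWith_yon_map_iff _ _).1 hh

/-- Cancellation: a map into an algebraic space is etale if its composite with a representable etale map is. -/
theorem repWith_etale_of_comp {L F : AlgSp.Sp S} (hL : AlgSp.IsAlgSpace L) {U : Over S}
    (b : (AlgSp.yon S).obj U ⟶ L) (r : L ⟶ F) (hr : AlgSp.RepWith @Etale r)
    (hb : AlgSp.RepWith @Etale (b ≫ r)) : AlgSp.RepWith @Etale b := by
  refine GrothLib.AlgSp.repWith_mk fun T g => ?_
  obtain ⟨B, b₁, b₂, sqB⟩ := GrothLib.AlgSp.exists_isPullback_yon hL.diag b g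
  refine ⟨B, (AlgSp.yon S).map b₁, b₂, sqB, ?_⟩
  obtain ⟨A, a₁, a₂, sqA⟩ := GrothLib.AlgSp.exists_isPullback_of_representable hb.1 (g ≫ r)
  obtain ⟨D, d₁, d₂, sqD⟩ := GrothLib.AlgSp.exists_isPullback_of_representable hr.1 (g ≫ r)
  have eA : Etale a₂.left := hb.2 _ _ a₂ sqA
  have eD : Etale d₂.left := hr.2 _ _ d₂ sqD
  let σ : T ⟶ D := (AlgSp.yon S).preimage (sqD.lift g (𝟙 _) (by simp))
  have hσ1 : (AlgSp.yon S).map σ ≫ d₁ = g := by simp [σ]
  have hσ2 : σ ≫ d₂ = 𝟙 T := (AlgSp.yon S).map_injective (by simp [σ])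
  have eσ : Etale σ.left := by
    have : Etale (σ.left ≫ d₂.left) := by rw [← Over.comp_left, hσ2]; exact (inferInstance : Etale (𝟙 T.left))
    exact Etale.of_comp σ.left d₂.left
  let δ : A ⟶ D := (AlgSp.yon S).preimage (sqD.lift (a₁ ≫ b) ((AlgSp.yon S).map a₂)
    (by rw [Category.assoc, sqA.w]))
  have hδ1 : (AlgSp.yon S).map δ ≫ d₁ = a₁ ≫ b := by simp [δ]
  have hδ2 : δ ≫ d₂ = a₂ := (AlgSp.yon S).map_injective (by simp [δ])
  let i : B ⟶ A := (AlgSp.yon S).preimage (sqA.lift ((AlgSp.yon S).map b₁) ((AlgSp.yon S).map b₂)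
    (by rw [← Category.assoc, sqB.w, Category.assoc]))
  have hi1 : (AlgSp.yon S).map i ≫ a₁ = (AlgSp.yon S).map b₁ := by simp [i]
  have hi2 : i ≫ a₂ = b₂ := (AlgSp.yon S).map_injective (by simp [i])
  have sq : IsPullback ((AlgSp.yon S).map i) ((AlgSp.yon S).map b₂) ((AlgSp.yon S).map δ) ((AlgSp.yon S).map σ) := by
    refine GrothLib.AlgSp.isPullback_of_yon ?_ fun W u v huv => ?_
    · apply sqD.hom_ext
      · rw [Category.assoc, Category.assoc, hδ1, hσ1, ← Category.assoc, hi1, sqB.w]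
      · rw [← Functor.map_comp, ← Functor.map_comp, ← Functor.map_comp, ← Functor.map_comp, Category.assoc,
          Category.assoc, hδ2, hσ2, hi2, Category.comp_id]
    · have h1 : (u ≫ a₁) ≫ b = v ≫ g := by
        have := congrArg (fun t => t ≫ d₁) huv
        simpa only [Category.assoc, hδ1, hσ1] using this
      have h2 : u ≫ (AlgSp.yon S).map a₂ = v := by
        have := congrArg (fun t => t ≫ (AlgSp.yon S).map d₂) huv
        simpa only [Category.assoc, ← Functor.map_comp, hδ2, hσ2, CategoryTheory.Functor.map_id,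
          Category.comp_id] using this
      refine ⟨sqB.lift (u ≫ a₁) v h1, ⟨?_, by simp⟩, fun c ⟨hc1, hc2⟩ => sqB.hom_ext ?_ ?_⟩
      · apply sqA.hom_ext
        · rw [Category.assoc, hi1, sqB.lift_fst]
        · rw [Category.assoc, ← Functor.map_comp, hi2, sqB.lift_snd, h2]
      · rw [sqB.lift_fst, ← hc1, Category.assoc, hi1]
      · rw [sqB.lift_snd, hc2]
  have sq' := GrothLib.AlgSp.isPullback_left (GrothLib.AlgSp.isPullback_of_isPullback_yon sq)
  have ei : Etale i.left := MorphismProperty.of_isPullback sq'.flip eσ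
  rw [← hi2, Over.comp_left]
  infer_instance

/-- `LocP Q` is detected after base change to schemes. -/
theorem detectedBySchemes_locP (hEt : ∀ ⦃X Y : Scheme.{u}⦄ (t : X ⟶ Y), Etale t → Q t)
    [Q.IsStableUnderComposition] : DetectedBySchemes (AlgSp.LocP (S := S) Q) := by
  intro F₂ F₁ h₂ h₁ b hb U V a c h ha hc e
  let l : (AlgSp.yon S).obj U ⟶ pullback c b := pullback.lift ((AlgSp.yon S).map h) a e.symm
  have hr : AlgSp.RepWith @Etale (pullback.snd c b) :=
    GrothLib.AlgSp.repWith_of_isPullback (IsPullback.of_hasPullback c b) hc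
  obtain ⟨R, r₁, r₂, sq⟩ := GrothLib.AlgSp.exists_isPullback_of_representable hr.1 a
  have er : Etale r₂.left := hr.2 _ _ r₂ sq
  have hR : AlgSp.RepWith @Etale r₁ := GrothLib.AlgSp.repWith_of_isPullback sq.flip ha
  let s : U ⟶ R := (AlgSp.yon S).preimage (sq.lift l (𝟙 _) (by simp [l]))
  let hR' : R ⟶ V := (AlgSp.yon S).preimage (r₁ ≫ pullback.fst c b)
  have hs2 : s ≫ r₂ = 𝟙 U := (AlgSp.yon S).map_injective (by simp [s])
  have hsh : s ≫ hR' = h := (AlgSp.yon S).map_injective (by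
    simp only [s, hR', Functor.map_comp, Functor.map_preimage]
    rw [sq.lift_fst_assoc]
    simp [l])
  have hQ : Q hR'.left := hb V c r₁ (𝟙 _) hR' hR (AlgSp.repWith_id _ V) (by simp [hR'])
  have : Etale (s.left ≫ r₂.left) := by rw [← Over.comp_left, hs2]; exact (inferInstance : Etale (𝟙 U.left))
  have := Etale.of_comp s.left r₂.left
  rw [← hsh, Over.comp_left]
  exact Q.comp_mem _ _ (hEt _ this) hQ

/-- `LocP Q` is stable under composition. -/
theorem locP_comp [Q.IsStableUnderComposition] (hD : EtaleSourceDescends Q) {X Y Z : AlgSp.Sp S}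
    (hY : AlgSp.IsAlgSpace Y) (hZ : AlgSp.IsAlgSpace Z) {f : X ⟶ Y} {g : Y ⟶ Z}
    (hf : AlgSp.LocP Q f) (hg : AlgSp.LocP Q g) : AlgSp.LocP Q (f ≫ g) := by
  intro U W a c h ha hc e
  have hYW := GrothLib.AlgSp.isAlgSpace_pullback' hZ hY (AlgSp.IsAlgSpace.yon_obj W) g c
  obtain ⟨V, q, qe, qs⟩ := hYW.atlas
  let l : (AlgSp.yon S).obj U ⟶ pullback g c :=
    pullback.lift (a ≫ f) ((AlgSp.yon S).map h) (by rw [Category.assoc, e])
  obtain ⟨R, r₁, r₂, sq⟩ := GrothLib.AlgSp.exists_isPullback_yon hYW.diag l q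
  have e₁ := GrothLib.AlgSp.repWith_of_isPullback sq.flip qe
  have s₁ : Surjective r₁.left :=
    (AlgSp.repWith_yon_map_iff _ _).1 (GrothLib.AlgSp.repWith_of_isPullback sq.flip qs)
  have hqY : AlgSp.RepWith @Etale (q ≫ pullback.fst g c) :=
    GrothLib.AlgSp.repWith_comp qe
      (GrothLib.AlgSp.repWith_of_isPullback (IsPullback.of_hasPullback g c).flip hc)
  let m : V ⟶ W := (AlgSp.yon S).preimage (q ≫ pullback.snd g c)
  have hm : Q m.left := hg (q ≫ pullback.fst g c) c m hqY hc (by simp [m, pullback.condition])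
  have h2 : Q r₂.left := hf ((AlgSp.yon S).map r₁ ≫ a) (q ≫ pullback.fst g c) r₂
    (GrothLib.AlgSp.repWith_comp e₁ ha) hqY (by
      have := congrArg (fun t => t ≫ pullback.fst g c) sq.w
      simpa [l] using this)
  have hrm : r₁ ≫ h = r₂ ≫ m := (AlgSp.yon S).map_injective (by
    have := congrArg (fun t => t ≫ pullback.snd g c) sq.w
    simpa [l, m] using this)
  refine hD r₁.left h.left (etale_left_of_repWith e₁) s₁ ?_
  rw [← Over.comp_left, hrm, Over.comp_left]
  exact Q.comp_mem _ _ h2 hm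

/-- `LocP Q` is stable under base change. -/
theorem locP_of_isPullback [Q.IsStableUnderComposition] [Q.IsStableUnderBaseChange]
    (hEt : ∀ ⦃X Y : Scheme.{u}⦄ (t : X ⟶ Y), Etale t → Q t) (hD : EtaleSourceDescends Q)
    {X Y Y' X' : AlgSp.Sp S} (hX : AlgSp.IsAlgSpace X) (hY : AlgSp.IsAlgSpace Y) (hY' : AlgSp.IsAlgSpace Y')
    (hX' : AlgSp.IsAlgSpace X') {f : X ⟶ Y} {g : Y' ⟶ Y} {f' : X' ⟶ Y'} {g' : X' ⟶ X}
    (sq : IsPullback g' f' f g) (hf : AlgSp.LocP Q f) : AlgSp.LocP Q f' := by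
  intro U V' a c h ha hc e
  obtain ⟨W, q, qe, qs⟩ := hY.atlas
  obtain ⟨V'', v₁, v₂, sqV⟩ := GrothLib.AlgSp.exists_isPullback_yon hY.diag (c ≫ g) q
  have ev := GrothLib.AlgSp.repWith_of_isPullback sqV.flip qe
  have sv := GrothLib.AlgSp.repWith_of_isPullback sqV.flip qs
  have sqU : IsPullback ((AlgSp.yon S).map (pullback.fst h v₁)) ((AlgSp.yon S).map (pullback.snd h v₁))
      ((AlgSp.yon S).map h) ((AlgSp.yon S).map v₁) :=
    GrothLib.AlgSp.isPullback_yon (IsPullback.of_hasPullback h v₁)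
  let u₁ := pullback.fst h v₁
  let h'' := pullback.snd h v₁
  have eu := GrothLib.AlgSp.repWith_of_isPullback sqU.flip ev
  have su := GrothLib.AlgSp.repWith_of_isPullback sqU.flip sv
  have hXW := GrothLib.AlgSp.isAlgSpace_pullback' hY hX (AlgSp.IsAlgSpace.yon_obj W) f q
  obtain ⟨R, t, te, ts⟩ := hXW.atlas
  have htX : AlgSp.RepWith @Etale (t ≫ pullback.fst f q) :=
    GrothLib.AlgSp.repWith_comp te
      (GrothLib.AlgSp.repWith_of_isPullback (IsPullback.of_hasPullback f q).flip qe)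
  let m : R ⟶ W := (AlgSp.yon S).preimage (t ≫ pullback.snd f q)
  have hm : Q m.left := hf (t ≫ pullback.fst f q) q m htX qe (by simp [m, pullback.condition])
  let c'' := (AlgSp.yon S).map v₁ ≫ c
  have ec'' : AlgSp.RepWith @Etale c'' := GrothLib.AlgSp.repWith_comp ev hc
  have hP : AlgSp.IsAlgSpace (pullback f' c'') :=
    GrothLib.AlgSp.isAlgSpace_pullback' hY' hX' (AlgSp.IsAlgSpace.yon_obj V'') f' c''
  have sqP := IsPullback.of_hasPullback f' c''
  have sqP2 : IsPullback (pullback.fst f' c'' ≫ g') (pullback.snd f' c'') f ((AlgSp.yon S).map v₂ ≫ q) := by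
    have := sqP.paste_horiz sq
    rwa [show c'' ≫ g = (AlgSp.yon S).map v₂ ≫ q from by rw [Category.assoc]; exact sqV.w] at this
  let κ : pullback f' c'' ⟶ pullback f q :=
    pullback.lift (pullback.fst f' c'' ≫ g') (pullback.snd f' c'' ≫ (AlgSp.yon S).map v₂)
      (by rw [sqP2.w, Category.assoc])
  have sqK : IsPullback κ (pullback.snd f' c'') (pullback.snd f q) ((AlgSp.yon S).map v₂) := by
    refine IsPullback.of_right ?_ (pullback.lift_snd _ _ _) (IsPullback.of_hasPullback f q)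
    simpa only [κ, pullback.lift_fst] using sqP2
  have sqR : IsPullback ((AlgSp.yon S).map (pullback.fst m v₂)) ((AlgSp.yon S).map (pullback.snd m v₂))
      (t ≫ pullback.snd f q) ((AlgSp.yon S).map v₂) := by
    have := GrothLib.AlgSp.isPullback_yon (IsPullback.of_hasPullback m v₂)
    simpa [m] using this
  let ρ : (AlgSp.yon S).obj (pullback m v₂) ⟶ pullback f' c'' :=
    sqK.lift ((AlgSp.yon S).map (pullback.fst m v₂) ≫ t) ((AlgSp.yon S).map (pullback.snd m v₂))
      (by rw [Category.assoc]; exact sqR.w)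
  have sqρ : IsPullback ρ ((AlgSp.yon S).map (pullback.fst m v₂)) κ t := by
    refine (IsPullback.of_bot ?_ (sqK.lift_fst _ _ _).symm sqK).flip
    simpa only [ρ, IsPullback.lift_snd] using sqR
  let l : (AlgSp.yon S).obj (pullback h v₁) ⟶ pullback f' c'' :=
    pullback.lift ((AlgSp.yon S).map u₁ ≫ a) ((AlgSp.yon S).map h'') (by
      rw [Category.assoc, e, ← Category.assoc, ← Functor.map_comp, show u₁ ≫ h = h'' ≫ v₁ from pullback.condition,
        Functor.map_comp, Category.assoc])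
  have el : AlgSp.RepWith @Etale l := repWith_etale_of_comp hP l (pullback.fst f' c'')
    (GrothLib.AlgSp.repWith_of_isPullback (IsPullback.of_hasPullback f' c'').flip ec'')
    (by simpa [l] using GrothLib.AlgSp.repWith_comp eu ha)
  obtain ⟨T, t₁, t₂, sqT⟩ := GrothLib.AlgSp.exists_isPullback_yon hP.diag l ρ
  have eρ := GrothLib.AlgSp.repWith_of_isPullback sqρ.flip te
  have sρ := GrothLib.AlgSp.repWith_of_isPullback sqρ.flip ts
  have et₁ := GrothLib.AlgSp.repWith_of_isPullback sqT.flip eρ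
  have st₁ := GrothLib.AlgSp.repWith_of_isPullback sqT.flip sρ
  have et₂ := GrothLib.AlgSp.repWith_of_isPullback sqT el
  have hT : t₁ ≫ h'' = t₂ ≫ pullback.snd m v₂ := (AlgSp.yon S).map_injective (by
    have := congrArg (fun x => x ≫ pullback.snd f' c'') sqT.w
    simpa [l, ρ] using this)
  have hp : Q (pullback.snd m v₂).left :=
    Q.of_isPullback (GrothLib.AlgSp.isPullback_left (IsPullback.of_hasPullback m v₂)) hm
  have hh'' : Q h''.left := hD t₁.left h''.left (etale_left_of_repWith et₁)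
    ((AlgSp.repWith_yon_map_iff _ _).1 st₁) (by
      rw [← Over.comp_left, hT, Over.comp_left]
      exact Q.comp_mem _ _ (hEt _ (etale_left_of_repWith et₂)) hp)
  refine hD u₁.left h.left (etale_left_of_repWith eu) ((AlgSp.repWith_yon_map_iff _ _).1 su) ?_
  rw [← Over.comp_left, show u₁ ≫ h = h'' ≫ v₁ from pullback.condition, Over.comp_left]
  exact Q.comp_mem _ _ hh'' (hEt _ (etale_left_of_repWith ev))

theorem isoInvariant_locP : IsoInvariant (AlgSp.LocP (S := S) Q) := fun _ _ _ _ _ φ _ a ha U V x c h hx hc e =>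
  ha (x ≫ φ) c h (GrothLib.AlgSp.repWith_comp hx (GrothLib.AlgSp.repWith_iso φ)) hc (by rw [Category.assoc, e])

end GrothLib.AlgSt
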