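import Groth.Agent.Lib.AlgSt.DiagMor
import Groth.Agent.Lib.AlgSt.LocP
import Groth.Agent.Lib.AlgSt.Mono
import Groth.Agent.Lib.AlgSp.Diag
import Groth.Agent.Lib.AlgSp.PointsUniv

/-!
# Composition and detection by schemes of separated, quasi-separated, quasi-compact and proper maps
-/

set_option backward.isDefEq.respectTransparency false
set_option backward.isDefEq.respectTransparency.types false

universe u

open CategoryTheory CategoryTheory.Limits AlgebraicGeometry Opposite Topology

namespace GrothLib.AlgSt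

open _root_.AlgSp

variable {S : Scheme.{u}}

theorem repWith_diagonal_comp {Q : MorphismProperty Scheme.{u}} [Q.IsStableUnderComposition] {X Y Z : Sp S}
    {a : X ⟶ Y} {b : Y ⟶ Z} (ha : RepWith Q (pullback.diagonal a)) (hb : RepWith Q (pullback.diagonal b)) :
    RepWith Q (pullback.diagonal (a ≫ b)) := by
  have h : pullback.diagonal a ≫ pullback.mapDesc a a b = pullback.diagonal (a ≫ b) := by
    apply pullback.hom_ext <;> simp [pullback.mapDesc, pullback.map]
  exact h ▸ GrothLib.AlgSp.repWith_comp ha (GrothLib.AlgSp.repWith_mapDesc a a b hb)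

theorem detectedBySchemes_repWith_diagonal (Q : MorphismProperty Scheme.{u}) [Q.RespectsIso] :
    DetectedBySchemes (fun _ _ f => RepWith Q (pullback.diagonal f) : MorphismProperty (Sp S)) :=
  fun F₂ F₁ _ _ b h => by
  refine GrothLib.AlgSp.repWith_mk fun T g => ?_
  let p : (yon S).obj T ⟶ F₁ := g ≫ pullback.fst b b ≫ b
  let sq := (IsPullback.of_hasPullback p b).flip
  let γ : (yon S).obj T ⟶ pullback (pullback.fst p b) (pullback.fst p b) :=
    pullback.lift (sq.lift (g ≫ pullback.fst b b) (𝟙 _) (by simp [p]))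
      (sq.lift (g ≫ pullback.snd b b) (𝟙 _) (by simp [p, pullback.condition])) (by simp)
  have hγ : γ ≫ pullback.map _ _ b b (pullback.snd p b) (pullback.snd p b) p sq.w.symm sq.w.symm = g := by
    apply pullback.hom_ext <;>
      simp only [γ, pullback.map, Category.assoc, pullback.lift_fst, pullback.lift_snd,
        pullback.lift_fst_assoc, pullback.lift_snd_assoc, IsPullback.lift_fst, IsPullback.lift_snd]
  have hd : RepWith Q (pullback.diagonal (pullback.fst p b)) := h T p
  obtain ⟨W, w₁, w₂, sqW⟩ := GrothLib.AlgSp.exists_isPullback_of_representable hd.1 γ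
  refine ⟨W, w₁ ≫ pullback.snd p b, w₂, ?_, hd.2 _ _ _ sqW⟩
  have hp := sqW.paste_horiz (GrothLib.AlgSp.isPullback_diagonal_of_isPullback sq)
  rwa [hγ] at hp

theorem isoInvariant_repWith_diagonal (Q : MorphismProperty Scheme.{u}) [Q.IsStableUnderComposition]
    [Q.IsStableUnderBaseChange] [Q.ContainsIdentities] :
    IsoInvariant (fun _ _ f => RepWith Q (pullback.diagonal f) : MorphismProperty (Sp S)) :=
  fun _ _ _ _ _ φ _ a ha => repWith_diagonal_comp (GrothLib.AlgSp.repWith_iso (pullback.diagonal φ)) ha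

theorem compStable_repWith_diagonal (Q : MorphismProperty Scheme.{u}) [Q.IsStableUnderComposition]
    [Q.IsStableUnderBaseChange] [Q.ContainsIdentities] :
    CompStable (fun _ _ f => RepWith Q (pullback.diagonal f) : MorphismProperty (Sp S)) :=
  have : Q.RespectsIso := MorphismProperty.IsStableUnderBaseChange.respectsIso
  ⟨isoInvariant_repWith_diagonal Q, fun _ _ _ _ _ _ _ _ ha hb => repWith_diagonal_comp ha hb,
    detectedBySchemes_repWith_diagonal Q⟩

theorem detectedBySchemes_isQuasiCompactMor : DetectedBySchemes (IsQuasiCompactMor (S := S)) :=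
  fun F₂ F₁ _ _ b h => GrothLib.AlgSp.isQuasiCompactMor_of_affine fun T hT g P fst snd sq => by
    have : CompactSpace ↥T.left := inferInstance
    have := h T g (IsAlgSpace.yon_obj T) (GrothLib.AlgSp.isQuasiCompactSp_yon T) (𝟙 _) (𝟙 _) (pullback.fst g b)
      (IsPullback.of_horiz_isIso ⟨by simp⟩)
    exact GrothLib.AlgSp.isQuasiCompactSp_of_iso this ((IsPullback.of_hasPullback g b).flip.isoIsPullback _ _ sq)

theorem isoInvariant_isQuasiCompactMor : IsoInvariant (IsQuasiCompactMor (S := S)) :=
  fun F F' G hF hG φ _ a ha Z Z' hZ hqc g fst snd sq => by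
    refine ha hZ hqc g (fst ≫ φ) snd ?_
    exact sq.of_iso (Iso.refl _) (asIso φ) (Iso.refl _) (Iso.refl _) (by simp) (by simp) (by simp) (by simp)

theorem compStable_isQuasiCompactMor : CompStable (IsQuasiCompactMor (S := S)) :=
  ⟨isoInvariant_isQuasiCompactMor,
    fun _ _ _ hX hY hZ _ _ ha hb => GrothLib.AlgSp.isQuasiCompactMor_comp hX hY hZ ha hb,
    detectedBySchemes_isQuasiCompactMor⟩

theorem isClosedMap_map_of_isIso {F G : Sp S} (φ : F ⟶ G) [IsIso φ] : IsClosedMap (Points.map φ) :=
  IsClosedMap.of_inverse (Points.continuous_map (inv φ)) (fun x => by rw [← Points.map_comp]; simp)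
    (fun x => by rw [← Points.map_comp]; simp)

theorem detectedBySchemes_isUnivClosedMor : DetectedBySchemes (IsUnivClosedMor (S := S)) :=
  fun F₂ F₁ _ _ b h => GrothLib.AlgSp.isUnivClosedMor_of_affine fun T _ g P fst snd sq => by
    have h1 : IsClosedMap (Points.map (pullback.fst g b)) :=
      h T g (IsAlgSpace.yon_obj T) (𝟙 _) (𝟙 _) (pullback.fst g b) (IsPullback.of_horiz_isIso ⟨by simp⟩)
    have h2 := (IsPullback.of_hasPullback g b).flip
    rw [← sq.isoIsPullback_hom_snd _ _ h2, funext (Points.map_comp _ _)]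
    exact h1.comp (isClosedMap_map_of_isIso _)

theorem isoInvariant_isUnivClosedMor : IsoInvariant (IsUnivClosedMor (S := S)) :=
  fun F F' G hF hG φ _ a ha Z Z' hZ g fst snd sq => by
    refine ha hZ g (fst ≫ φ) snd ?_
    exact sq.of_iso (Iso.refl _) (asIso φ) (Iso.refl _) (Iso.refl _) (by simp) (by simp) (by simp) (by simp)

theorem isUnivClosedMor_comp {X Y Z : Sp S} (hY : IsAlgSpace Y) (hZ : IsAlgSpace Z) {f : X ⟶ Y} {g : Y ⟶ Z}
    (hf : IsUnivClosedMor f) (hg : IsUnivClosedMor g) : IsUnivClosedMor (f ≫ g) := by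
  intro W W' hW k fst snd sq
  have sqg := IsPullback.of_hasPullback g k
  let l : W' ⟶ pullback g k := pullback.lift (fst ≫ f) snd (by rw [Category.assoc, sq.w])
  have h1 : IsClosedMap (Points.map l) := by
    refine hf (GrothLib.AlgSp.isAlgSpace_pullback' hZ hY hW g k) (pullback.fst g k) fst l ?_
    refine IsPullback.of_right (h₁₂ := pullback.snd g k) (h₂₂ := g) (v₁₃ := k) ?_ ?_ sqg.flip |>.flip
    · rw [pullback.lift_snd]; exact sq.flip
    · rw [pullback.lift_fst]
  have h2 : IsClosedMap (Points.map (pullback.snd g k)) := hg hW k _ _ sqg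
  change IsClosedMap (Points.map snd)
  rw [← pullback.lift_snd (fst ≫ f) snd (by rw [Category.assoc, sq.w] : (fst ≫ f) ≫ g = snd ≫ k),
    funext (Points.map_comp _ _)]
  exact h2.comp h1

theorem compStable_isUnivClosedMor : CompStable (IsUnivClosedMor (S := S)) :=
  ⟨isoInvariant_isUnivClosedMor, fun _ _ _ _ hY hZ _ _ ha hb => isUnivClosedMor_comp hY hZ ha hb,
    detectedBySchemes_isUnivClosedMor⟩

theorem CompStable.inf {P Q : MorphismProperty (Sp S)} (hP : CompStable P) (hQ : CompStable Q) :
    CompStable (P ⊓ Q) :=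
  ⟨fun _ _ _ hF hG φ _ a ha => ⟨hP.iso hF hG φ a ha.1, hQ.iso hF hG φ a ha.2⟩,
    fun _ _ _ hX hY hZ a b ha hb => ⟨hP.comp hX hY hZ a b ha.1 hb.1, hQ.comp hX hY hZ a b ha.2 hb.2⟩,
    fun _ _ h₂ h₁ b h => ⟨hP.detected h₂ h₁ b fun V p => (h V p).1, hQ.detected h₂ h₁ b fun V p => (h V p).2⟩⟩

/-- Quasi-compact and quasi-separated maps. -/
theorem compStable_qcqs : CompStable (IsQuasiCompactMor (S := S) ⊓ IsQuasiSeparatedMor) :=
  compStable_isQuasiCompactMor.inf (compStable_repWith_diagonal @QuasiCompact)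

/-- Proper maps. -/
theorem compStable_isProperMor : CompStable (IsProperMor (S := S)) :=
  (compStable_repWith_diagonal @IsClosedImmersion).inf
    ((CompStable.inf ⟨isoInvariant_locP,
      fun _ _ _ _ hY hZ a b ha hb => locP_comp GrothLib.AlgSp.etaleSourceDescends_lft hY hZ ha hb,
      detectedBySchemes_locP fun _ _ t (_ : Etale t) => inferInstance⟩ compStable_isQuasiCompactMor).inf
      compStable_isUnivClosedMor)

end GrothLib.AlgSt
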