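import Groth.Agent.Lib.AlgSt.LocQRep
import Groth.Agent.Lib.AlgSt.AffineStk
import Groth.Agent.Lib.AlgSt.DiagRep
import Groth.Agent.Lib.AlgSt.SepComp
import Groth.Agent.Lib.AlgSp.FppfDescent

/-!
# Descent of properties of representable morphisms along flat, locally finitely presented surjections
-/

set_option backward.isDefEq.respectTransparency false
set_option backward.isDefEq.respectTransparency.types false

universe u

open CategoryTheory CategoryTheory.Limits AlgebraicGeometry Opposite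

namespace GrothLib.AlgSt

open _root_.AlgSt GrothLib.FibCat

variable {S : Scheme.{u}}

/-- A property descends along fppf covers of a base scheme by a scheme. -/
def DescendsToSchemes (P : MorphismProperty (AlgSp.Sp S)) : Prop :=
  ∀ ⦃F : AlgSp.Sp S⦄, AlgSp.IsAlgSpace F → ∀ ⦃U V : Over S⦄ (c : V ⟶ U),
    Flat c.left → LocallyOfFinitePresentation c.left → Surjective c.left →
    ∀ (b : F ⟶ (AlgSp.yon S).obj U), P (pullback.fst ((AlgSp.yon S).map c) b) → P b

theorem descendsToSchemes_of_isLocalOnBase {P : MorphismProperty (AlgSp.Sp S)}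
    (hP : AlgSp.IsLocalOnBase AlgSp.IsFppfCover P) : DescendsToSchemes P := by
  intro F hF U V c h1 h2 h3 b h
  have hcov : AlgSp.IsFppfCover (fun _ : PUnit.{u + 1} => (AlgSp.yon S).obj V) (fun _ => (AlgSp.yon S).map c) :=
    ⟨fun _ => ⟨GrothLib.AlgSp.EtLocal.locP_of_repWith GrothLib.AlgSp.EtLocal.flat (AlgSp.IsAlgSpace.yon_obj U)
        ((AlgSp.repWith_yon_map_iff _ _).2 h1),
      GrothLib.AlgSp.EtLocal.locP_of_repWith GrothLib.AlgSp.EtLocal.lfp (AlgSp.IsAlgSpace.yon_obj U)
        ((AlgSp.repWith_yon_map_iff _ _).2 h2)⟩,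
      fun x => ⟨PUnit.unit, GrothLib.AlgSp.surjective_map_of_repWith ((AlgSp.repWith_yon_map_iff _ _).2 h3) x⟩⟩
  exact (hP _ _ (AlgSp.IsAlgSpace.yon_obj U) (fun _ => AlgSp.IsAlgSpace.yon_obj V) hcov b hF
    (fun _ => pullback ((AlgSp.yon S).map c) b) (fun _ => pullback.fst _ _) (fun _ => pullback.snd _ _)
    (fun _ => GrothLib.AlgSp.isAlgSpace_pullback' (AlgSp.IsAlgSpace.yon_obj U) (AlgSp.IsAlgSpace.yon_obj V) hF _ b)
    (fun _ => (IsPullback.of_hasPullback ((AlgSp.yon S).map c) b).flip)).2 fun _ => h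

theorem descendsToSchemes_locP {Q : MorphismProperty Scheme.{u}} (hQ : GrothLib.AlgSp.EtLocal Q)
    (hD : GrothLib.AlgSp.FppfDescends Q) : DescendsToSchemes (AlgSp.LocP (S := S) Q) :=
  fun _ hF _ _ c _ _ _ b h => locP_of_fppf_base hQ hD hF c b h

theorem DescendsToSchemes.inf {P Q : MorphismProperty (AlgSp.Sp S)} (hP : DescendsToSchemes P)
    (hQ : DescendsToSchemes Q) : DescendsToSchemes (P ⊓ Q) :=
  fun _ hF _ _ c h1 h2 h3 b h => ⟨hP hF c h1 h2 h3 b h.1, hQ hF c h1 h2 h3 b h.2⟩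

theorem descendsToSchemes_repWith_diagonal {Q : MorphismProperty Scheme.{u}}
    (hD : GrothLib.AlgSp.FppfDescends Q) :
    DescendsToSchemes (fun _ _ f => AlgSp.RepWith Q (pullback.diagonal f) : MorphismProperty (AlgSp.Sp S)) := by
  intro F hF U V c h1 h2 h3 b h
  let cm := (AlgSp.yon S).map c
  let sq := (IsPullback.of_hasPullback cm b).flip
  have sqD := GrothLib.AlgSp.isPullback_diagonal_of_isPullback sq
  refine ⟨(GrothLib.AlgSp.repWith_diagonal b (GrothLib.AlgSp.repWith_diag_lft hF)).1, fun T W g fst snd sqg => ?_⟩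
  obtain ⟨m, hm⟩ := (AlgSp.yon S).map_surjective (g ≫ pullback.fst b b ≫ b)
  let cT := pullback.fst m c
  let k := pullback.snd m c
  have sqT := GrothLib.AlgSp.isPullback_left (IsPullback.of_hasPullback m c)
  have hkc : (AlgSp.yon S).map cT ≫ g ≫ pullback.fst b b ≫ b = (AlgSp.yon S).map k ≫ cm := by
    rw [← hm, ← Functor.map_comp, ← Functor.map_comp, pullback.condition]
  let l : (AlgSp.yon S).obj (pullback m c) ⟶ pullback (pullback.fst cm b) (pullback.fst cm b) :=
    pullback.lift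
      (sq.lift ((AlgSp.yon S).map cT ≫ g ≫ pullback.fst b b) ((AlgSp.yon S).map k)
        (by simpa only [Category.assoc] using hkc))
      (sq.lift ((AlgSp.yon S).map cT ≫ g ≫ pullback.snd b b) ((AlgSp.yon S).map k)
        (by simpa only [Category.assoc, ← pullback.condition] using hkc)) (by simp)
  have hl : l ≫ pullback.map _ _ b b (pullback.snd cm b) (pullback.snd cm b) cm sq.w.symm sq.w.symm =
      (AlgSp.yon S).map cT ≫ g := by
    apply pullback.hom_ext <;>
      simp only [l, pullback.map, Category.assoc, pullback.lift_fst, pullback.lift_snd,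
        pullback.lift_fst_assoc, pullback.lift_snd_assoc, IsPullback.lift_fst, IsPullback.lift_snd]
  have sqc := GrothLib.AlgSp.isPullback_stack sqg (IsPullback.of_hasPullback snd cT)
  let m' := sqD.lift ((AlgSp.yon S).map (pullback.fst snd cT) ≫ fst) ((AlgSp.yon S).map (pullback.snd snd cT) ≫ l)
    (by rw [sqc.w, Category.assoc, hl])
  have sq' : IsPullback m' ((AlgSp.yon S).map (pullback.snd snd cT)) (pullback.diagonal (pullback.fst cm b)) l :=
    IsPullback.of_right (by simpa only [m', IsPullback.lift_fst, hl] using sqc)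
      (by simp only [m', IsPullback.lift_snd]) sqD
  exact hD _ _ _ _ (GrothLib.AlgSp.isPullback_left (IsPullback.of_hasPullback snd cT))
    (MorphismProperty.of_isPullback (P := @Flat) sqT.flip h1)
    (MorphismProperty.of_isPullback (P := @LocallyOfFinitePresentation) sqT.flip h2)
    (MorphismProperty.of_isPullback (P := @Surjective) sqT.flip h3)
    (h.2 l _ _ sq')

theorem descendsToSchemes_isUnivClosedMor : DescendsToSchemes (AlgSp.IsUnivClosedMor (S := S)) := by
  intro F hF U V c h1 h2 h3 b h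
  refine GrothLib.AlgSp.isUnivClosedMor_of_affine fun T _ g P fst snd sq A hA => ?_
  obtain ⟨g, rfl⟩ := (AlgSp.yon S).map_surjective g
  let cT := pullback.fst g c
  let q := (AlgSp.yon S).map cT
  have sqT := GrothLib.AlgSp.isPullback_left (IsPullback.of_hasPullback g c)
  have : Flat cT.left := MorphismProperty.of_isPullback sqT.flip h1
  have : LocallyOfFinitePresentation cT.left := MorphismProperty.of_isPullback sqT.flip h2
  have : Surjective cT.left := MorphismProperty.of_isPullback sqT.flip h3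
  have sqP := IsPullback.of_hasPullback snd q
  have hsq : IsPullback (pullback.fst snd q ≫ fst) (pullback.snd snd q) b
      ((AlgSp.yon S).map (pullback.snd g c) ≫ (AlgSp.yon S).map c) := by
    have := sqP.paste_horiz sq
    rwa [show q ≫ (AlgSp.yon S).map g = (AlgSp.yon S).map (pullback.snd g c) ≫ (AlgSp.yon S).map c from by
      simp only [q, cT, ← Functor.map_comp, pullback.condition]] at this
  have sqb := (IsPullback.of_hasPullback ((AlgSp.yon S).map c) b).flip
  let n := sqb.lift (pullback.fst snd q ≫ fst) (pullback.snd snd q ≫ (AlgSp.yon S).map (pullback.snd g c))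
    (by rw [hsq.w, Category.assoc])
  have sqn : IsPullback n (pullback.snd snd q) (pullback.fst ((AlgSp.yon S).map c) b)
      ((AlgSp.yon S).map (pullback.snd g c)) :=
    IsPullback.of_right (by simpa only [n, IsPullback.lift_fst] using hsq)
      (by simp only [n, IsPullback.lift_snd]) sqb
  have hcl : IsClosed (AlgSp.Points.map (pullback.snd snd q) '' (AlgSp.Points.map (pullback.fst snd q) ⁻¹' A)) :=
    h (AlgSp.IsAlgSpace.yon_obj _) _ n _ sqn _ (hA.preimage (AlgSp.Points.continuous_map _))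
  rw [← GrothLib.AlgSp.preimage_image_of_isPullback sqP A] at hcl
  have hq : Topology.IsQuotientMap (AlgSp.Points.map q) := by
    refine IsOpenMap.isQuotientMap ((GrothLib.AlgSp.isOpenMap_map_yon_iff cT).2 cT.left.isOpenMap)
      (AlgSp.Points.continuous_map q) ?_
    exact GrothLib.AlgSp.surjective_map_of_repWith ((AlgSp.repWith_yon_map_iff _ _).2 inferInstance)
  exact hq.isClosed_preimage.1 hcl

theorem descendsToSchemes_isQuasiCompactMor : DescendsToSchemes (AlgSp.IsQuasiCompactMor (S := S)) := by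
  intro F hF U V c h1 h2 h3 b h
  refine GrothLib.AlgSp.isQuasiCompactMor_of_affine fun T hT g P fst snd sq => ?_
  obtain ⟨g, rfl⟩ := (AlgSp.yon S).map_surjective g
  let cT := pullback.fst g c
  have sqT := GrothLib.AlgSp.isPullback_left (IsPullback.of_hasPullback g c)
  have : Flat cT.left := MorphismProperty.of_isPullback sqT.flip h1
  have : LocallyOfFinitePresentation cT.left := MorphismProperty.of_isPullback sqT.flip h2
  have : Surjective cT.left := MorphismProperty.of_isPullback sqT.flip h3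
  have : CompactSpace ↥T.left := inferInstance
  let 𝒰 := (pullback g c).left.affineCover
  obtain ⟨s, hs⟩ := isCompact_univ.elim_finite_subcover (fun i => Set.range (𝒰.f i ≫ cT.left))
    (fun i => (𝒰.f i ≫ cT.left).isOpenMap.isOpen_range) (fun x _ => by
      obtain ⟨x', rfl⟩ := cT.left.surjective x
      obtain ⟨i, y, rfl⟩ := 𝒰.exists_eq x'
      exact Set.mem_iUnion.2 ⟨i, y, rfl⟩)
  let W : Over S := Over.mk ((Sigma.desc fun i : s => 𝒰.f i.1) ≫ (pullback g c).hom)
  let j : W ⟶ pullback g c := Over.homMk (Sigma.desc fun i : s => 𝒰.f i.1) rfl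
  have : CompactSpace ↥W.left := inferInstanceAs (CompactSpace (∐ fun i : s => 𝒰.X i.1 : Scheme.{u}))
  let w := (AlgSp.yon S).map (j ≫ cT)
  have hw : Function.Surjective (AlgSp.Points.map w) := fun x => by
    obtain ⟨x, rfl⟩ := (AlgSp.Points.schemeHomeo T).surjective x
    obtain ⟨i, hi, y, hy⟩ := Set.mem_iUnion₂.1 (hs (Set.mem_univ x))
    refine ⟨AlgSp.Points.schemeHomeo W (Sigma.ι (fun i : s => 𝒰.X i.1) ⟨i, hi⟩ y), ?_⟩
    rw [AlgSp.Points.map_yon_map_apply]
    refine congrArg _ ?_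
    change (Sigma.ι (fun i : s => 𝒰.X i.1) ⟨i, hi⟩ ≫ (Sigma.desc fun i : s => 𝒰.f i.1) ≫ cT.left) y = x
    rw [Sigma.ι_desc_assoc]
    exact hy
  have sqP := IsPullback.of_hasPullback snd w
  have hsq : IsPullback (pullback.fst snd w ≫ fst) (pullback.snd snd w) b
      ((AlgSp.yon S).map (j ≫ pullback.snd g c) ≫ (AlgSp.yon S).map c) := by
    have := sqP.paste_horiz sq
    rwa [show w ≫ (AlgSp.yon S).map g = (AlgSp.yon S).map (j ≫ pullback.snd g c) ≫ (AlgSp.yon S).map c from by
      simp only [w, cT, ← Functor.map_comp, Category.assoc, pullback.condition]] at this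
  have sqb := (IsPullback.of_hasPullback ((AlgSp.yon S).map c) b).flip
  let n := sqb.lift (pullback.fst snd w ≫ fst) (pullback.snd snd w ≫ (AlgSp.yon S).map (j ≫ pullback.snd g c))
    (by rw [hsq.w, Category.assoc])
  have sqn : IsPullback n (pullback.snd snd w) (pullback.fst ((AlgSp.yon S).map c) b)
      ((AlgSp.yon S).map (j ≫ pullback.snd g c)) :=
    IsPullback.of_right (by simpa only [n, IsPullback.lift_fst] using hsq)
      (by simp only [n, IsPullback.lift_snd]) sqb
  have := GrothLib.AlgSp.compactSpace_points_of_isQuasiCompactSp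
    (h (AlgSp.IsAlgSpace.yon_obj W) (GrothLib.AlgSp.isQuasiCompactSp_yon W) _ n _ sqn)
  have hs' : Function.Surjective (AlgSp.Points.map (pullback.fst snd w)) := fun p => by
    obtain ⟨v, hv⟩ := hw (AlgSp.Points.map snd p)
    obtain ⟨r, hr, -⟩ := GrothLib.AlgSp.exists_of_isPullback sqP hv.symm
    exact ⟨r, hr⟩
  have := hs'.compactSpace (AlgSp.Points.continuous_map _)
  exact GrothLib.AlgSp.isQuasiCompactSp_of_compactSpace_points
    (GrothLib.AlgSp.isAlgSpace_pullback (AlgSp.IsAlgSpace.yon_obj U).diag hF (AlgSp.IsAlgSpace.yon_obj T) sq)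

theorem descendsToSchemes_qcqs :
    DescendsToSchemes (AlgSp.IsQuasiCompactMor (S := S) ⊓ AlgSp.IsQuasiSeparatedMor) :=
  descendsToSchemes_isQuasiCompactMor.inf
    (descendsToSchemes_repWith_diagonal GrothLib.AlgSp.fppfDescends_quasiCompact)

theorem descendsToSchemes_isProperMor : DescendsToSchemes (AlgSp.IsProperMor (S := S)) :=
  (descendsToSchemes_repWith_diagonal GrothLib.AlgSp.fppfDescends_isClosedImmersion).inf
    (((descendsToSchemes_locP GrothLib.AlgSp.EtLocal.lft GrothLib.AlgSp.fppfDescends_lft).inf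
      descendsToSchemes_isQuasiCompactMor).inf descendsToSchemes_isUnivClosedMor)

variable {𝒳 𝒴 𝒵 : _root_.AlgSt.Cat S} {P : MorphismProperty (AlgSp.Sp S)}

/-- Charts of the target lift to `𝒵` after an fppf cover. -/
def LiftsFppf (z : 𝒵 ⥤ᵇ 𝒴) : Prop :=
  ∀ (U : Over S) (y : _root_.FibCat.overCat U ⥤ᵇ 𝒴), ∃ (V : Over S) (c : V ⟶ U)
    (l : _root_.FibCat.overCat V ⥤ᵇ 𝒵), Flat c.left ∧ LocallyOfFinitePresentation c.left ∧ Surjective c.left ∧
      Nonempty (BasedFunctor.comp (GrothLib.FibCat.overMap c) y ≅ BasedFunctor.comp l z)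

theorem liftsFppf_of_repByAlgSpWith (z : 𝒵 ⥤ᵇ 𝒴) (h1 : RepByAlgSpWith (AlgSp.LocP @Flat) z)
    (h2 : RepByAlgSpWith (AlgSp.LocP @LocallyOfFinitePresentation) z)
    (h3 : RepByAlgSpWith AlgSp.IsSurjectiveMor z) : LiftsFppf z := by
  intro U y
  obtain ⟨F, e, he, hfl, hfp, hsu⟩ :=
    repByAlgSpWith_inf isoInvariant_locP h1 (repByAlgSpWith_inf isoInvariant_locP h2 h3) U y
  obtain ⟨V, q, qe, qs⟩ := F.property.atlas
  let a := spMapOfOver (BasedFunctor.comp e (_root_.FibCat.fpFst y z))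
  obtain ⟨c, hc⟩ := (AlgSp.yon S).map_surjective (q ≫ a)
  obtain ⟨i⟩ := iso_of_spMapOfOver_eq
    (Φ := BasedFunctor.comp (toOverCat V) (_root_.AlgSt.overMap c))
    (Ψ := BasedFunctor.comp (ofSpMap q) (BasedFunctor.comp e (_root_.FibCat.fpFst y z)))
    ((spMapOfOver_overMap c).trans (hc.trans (spMapOfOver_ofSpMap_comp q _).symm))
  refine ⟨V, c, BasedFunctor.comp (ofOverCat V) (BasedFunctor.comp (ofSpMap q)
    (BasedFunctor.comp e (_root_.FibCat.fpSnd y z))), ?_, ?_, ?_, ⟨?_⟩⟩
  · exact hfl q (𝟙 _) c qe (AlgSp.repWith_id _ U) (by rw [Category.comp_id, hc])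
  · exact hfp q (𝟙 _) c qe (AlgSp.repWith_id _ U) (by rw [Category.comp_id, hc])
  · refine ⟨fun x => ?_⟩
    obtain ⟨t, ht⟩ := hsu (AlgSp.Points.schemeHomeo U x)
    obtain ⟨v, rfl⟩ := GrothLib.AlgSp.surjective_map_of_repWith qs t
    obtain ⟨v, rfl⟩ := (AlgSp.Points.schemeHomeo V).surjective v
    rw [← AlgSp.Points.map_comp, ← hc, AlgSp.Points.map_yon_map_apply] at ht
    exact ⟨v, (AlgSp.Points.schemeHomeo U).injective ht⟩
  · exact (whiskerRightIso (ofOverCatCompIso V) (BasedFunctor.comp (_root_.AlgSt.overMap c) y)).symm ≪≫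
      whiskerRightIso (whiskerLeftIso (ofOverCat V) i) y ≪≫
      whiskerLeftIso (BasedFunctor.comp (ofOverCat V) (BasedFunctor.comp (ofSpMap q) e)) (_root_.FibCat.fpIso y z)

/-- A flat, locally finitely presented surjection read on charts allows lifting. -/
theorem liftsFppf_of_locQ (h𝒴 : IsAlgStack Scheme.fppfPrecoverage 𝒴)
    (h𝒵 : IsAlgStack Scheme.fppfPrecoverage 𝒵) (z : 𝒵 ⥤ᵇ 𝒴)
    (hfl : ∀ (U : Over S) (y : _root_.FibCat.overCat U ⥤ᵇ 𝒴), RepByAlgSpWith (AlgSp.LocP @Smooth) y →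
      ∃ (W : Over S) (x : _root_.FibCat.overCat W ⥤ᵇ 𝒵) (h : W ⟶ U), Flat h.left ∧
        LocallyOfFinitePresentation h.left ∧ Surjective h.left ∧
        Nonempty (BasedFunctor.comp (GrothLib.FibCat.overMap h) y ≅ BasedFunctor.comp x z)) : LiftsFppf z := by
  intro U y
  obtain ⟨U₀, y₀, hy₀, hy₀s⟩ := h𝒴.atlas
  obtain ⟨V₁, c₁, l₁, hc₁, hc₁s, ⟨j⟩⟩ := exists_lift_chart y y₀ hy₀ hy₀s
  obtain ⟨W, x, h, hh1, hh2, hh3, ⟨i⟩⟩ := hfl U₀ y₀ hy₀
  let γ : BasedFunctor.comp (GrothLib.FibCat.overMap (pullback.fst l₁ h ≫ c₁)) y ≅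
      BasedFunctor.comp (BasedFunctor.comp (GrothLib.FibCat.overMap (pullback.snd l₁ h)) x) z :=
    (whiskerRightIso (overMapCompIso _ c₁) y).symm ≪≫
      whiskerLeftIso (GrothLib.FibCat.overMap (pullback.fst l₁ h)) j ≪≫
      whiskerRightIso (overMapCompIso _ l₁ ≪≫ eqToIso (congrArg GrothLib.FibCat.overMap pullback.condition) ≪≫
        (overMapCompIso _ h).symm) y₀ ≪≫
      whiskerLeftIso (GrothLib.FibCat.overMap (pullback.snd l₁ h)) i
  have sq := GrothLib.AlgSp.isPullback_left (IsPullback.of_hasPullback l₁ h)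
  have : Flat (pullback.fst l₁ h).left := MorphismProperty.of_isPullback sq.flip hh1
  have : LocallyOfFinitePresentation (pullback.fst l₁ h).left := MorphismProperty.of_isPullback sq.flip hh2
  have : Surjective (pullback.fst l₁ h).left := MorphismProperty.of_isPullback sq.flip hh3
  have := hc₁
  have := hc₁s
  refine ⟨pullback l₁ h, pullback.fst l₁ h ≫ c₁, _, ?_, ?_, ?_, ⟨γ⟩⟩ <;> (rw [Over.comp_left]; infer_instance)

/-- A property of the base change to a cover descends. -/
theorem hasRep_of_cover (hP : IsoInvariant P) (hD : DescendsToSchemes P) (f : 𝒳 ⥤ᵇ 𝒴) {U V : Over S}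
    (y : _root_.FibCat.overCat U ⥤ᵇ 𝒴) (c : V ⟶ U) (h1 : Flat c.left) (h2 : LocallyOfFinitePresentation c.left)
    (h3 : Surjective c.left) (hy : RepByAlgSp (_root_.FibCat.fp y f))
    (h : HasRep P (_root_.FibCat.fpFst (BasedFunctor.comp (GrothLib.FibCat.overMap c) y) f)) :
    HasRep P (_root_.FibCat.fpFst y f) := by
  obtain ⟨F, e, he⟩ := hy
  let a := spMapOfOver (BasedFunctor.comp e (_root_.FibCat.fpFst y f))
  let cm := (AlgSp.yon S).map c
  obtain ⟨ic⟩ := iso_toOverCat_overMap c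
  have := IsEquivOver.full (isEquivOver_toOverCat U)
  have := IsEquivOver.faithful (isEquivOver_toOverCat U)
  let sq := IsPullback.of_hasPullback cm a
  let M := Fp.map (F := ofSpMap cm) (G := ofSpMap a) (toOverCat V) e (toOverCat U) ic
    (isoOfSpMapOfOver (BasedFunctor.comp e (_root_.FibCat.fpFst y f)))
  let E := BasedFunctor.comp (spToFp sq.w) (BasedFunctor.comp M (Fp.paste f y (GrothLib.FibCat.overMap c)))
  have hE : _root_.FibCat.IsEquivOver E := IsEquivOver.comp (isEquivOver_spToFp sq) (IsEquivOver.comp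
    (Fp.isEquivOver_map _ _ _ _ _ (isEquivOver_toOverCat V) he)
    (Fp.isEquivOver_paste f y (GrothLib.FibCat.overMap c)))
  have hm : P (pullback.fst cm a) := spMapOfOver_toOverCat (pullback.fst cm a) ▸ h.mem hP
    ⟨_, GrothLib.AlgSp.isAlgSpace_pullback' (AlgSp.IsAlgSpace.yon_obj U) (AlgSp.IsAlgSpace.yon_obj V) F.property cm a⟩
    E hE
  exact ⟨F, e, he, hD F.property c h1 h2 h3 a hm⟩

/-- Descent of a property of representable morphisms. -/
theorem repByAlgSpWith_of_fpFst (hP : IsoInvariant P) (hD : DescendsToSchemes P) {f : 𝒳 ⥤ᵇ 𝒴}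
    (hf : RepByAlgSp1 f) {z : 𝒵 ⥤ᵇ 𝒴} (hz : LiftsFppf z) (h : RepByAlgSpWith P (_root_.FibCat.fpFst z f)) :
    RepByAlgSpWith P f := by
  intro U y
  obtain ⟨V, c, l, h1, h2, h3, ⟨j⟩⟩ := hz U y
  refine hasRep_of_cover hP hD f y c h1 h2 h3 (hf U y) ?_
  exact HasRep.of_equiv (BasedFunctor.comp (Fp.paste f z l) (Fp.congr j.symm (Iso.refl f)))
    (IsEquivOver.comp (Fp.isEquivOver_paste f z l) (Fp.isEquivOver_congr _ _)) (Iso.refl _) (h V l)

/-- Diagonals of functors isomorphic through an equivalence of the sources. -/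
theorem repByAlgSpWith_diag_of_equiv {𝒳' : _root_.AlgSt.Cat S} {f : 𝒳 ⥤ᵇ 𝒴} {f' : 𝒳' ⥤ᵇ 𝒴} (E : 𝒳' ⥤ᵇ 𝒳)
    (hE : _root_.FibCat.IsEquivOver E) (i : BasedFunctor.comp E f ≅ f') :
    RepByAlgSpWith P (_root_.FibCat.diag f) ↔ RepByAlgSpWith P (_root_.FibCat.diag f') := by
  have := IsEquivOver.full (IsEquivOver.refl 𝒴)
  have := IsEquivOver.faithful (IsEquivOver.refl 𝒴)
  let i' : BasedFunctor.comp E f ≅ BasedFunctor.comp f' (BasedFunctor.id 𝒴) := i
  let M := Fp.map E E (BasedFunctor.id 𝒴) i' i'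
  have sqi : BasedFunctor.comp (_root_.FibCat.diag f') M ≅ BasedFunctor.comp E (_root_.FibCat.diag f) :=
    natIsoOfComponents
      (fun x => Fp.isoMk (a := M.obj ((_root_.FibCat.diag f').obj x))
        (b := (_root_.FibCat.diag f).obj (E.obj x)) (Iso.refl _) (Iso.refl _) (by
          change f.map (𝟙 (E.obj x)) ≫ 𝟙 _ =
            (i.hom.app x ≫ 𝟙 _ ≫ i.inv.app x) ≫ f.map (𝟙 (E.obj x))
          have hi : i.hom.app x ≫ i.inv.app x = 𝟙 _ := congrArg (fun t => t.app x) i.hom_inv_id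
          rw [f.map_id]
          exact (Category.comp_id _).trans (((Category.comp_id _).trans
            ((congrArg (i.hom.app x ≫ ·) (Category.id_comp _)).trans hi)).symm)))
      (fun x => (Fp.isHomLift_iff _ _).2 (IsHomLift.id (E.w_obj x)))
      (fun {x y} φ => Fp.hom_ext ((Category.comp_id _).trans (Category.id_comp _).symm)
        ((Category.comp_id _).trans (Category.id_comp _).symm))
  exact repByAlgSpWith_iff_of_square (f' := _root_.FibCat.diag f') (f := _root_.FibCat.diag f) E M hE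
    (Fp.isEquivOver_map _ _ _ _ _ hE hE) sqi

/-- The base change of the diagonal to a chart is a base change of the diagonal of the base change to that chart. -/
theorem hasRep_diag_of_fpFst (f : 𝒳 ⥤ᵇ 𝒴) {U : Over S} (y : _root_.FibCat.overCat U ⥤ᵇ _root_.FibCat.fp f f)
    (h : RepByAlgSpWith P (_root_.FibCat.diag (_root_.FibCat.fpFst
      (BasedFunctor.comp (BasedFunctor.comp y (_root_.FibCat.fpFst f f)) f) f))) :
    HasRep P (_root_.FibCat.fpFst y (_root_.FibCat.diag f)) := by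
  let y₁ := BasedFunctor.comp y (_root_.FibCat.fpFst f f)
  let y₂ := BasedFunctor.comp y (_root_.FibCat.fpSnd f f)
  let x := BasedFunctor.comp y₁ f
  let π := _root_.FibCat.fpFst x f
  let s₁ : _root_.FibCat.overCat U ⥤ᵇ _root_.FibCat.fp x f :=
    _root_.FibCat.fpLift (BasedFunctor.id _) y₁ (Iso.refl _)
  let s₂ : _root_.FibCat.overCat U ⥤ᵇ _root_.FibCat.fp x f :=
    _root_.FibCat.fpLift (BasedFunctor.id _) y₂ (whiskerLeftIso y (_root_.FibCat.fpIso f f))
  let y' : _root_.FibCat.overCat U ⥤ᵇ _root_.FibCat.fp π π := _root_.FibCat.fpLift s₁ s₂ (Iso.refl _)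
  let j : BasedFunctor.comp y' (diagBcMap f x) ≅ y :=
    natIsoOfComponents
      (fun u => Fp.isoMk (a := (diagBcMap f x).obj (y'.obj u)) (b := y.obj u) (Iso.refl _) (Iso.refl _) (by
        change f.map (𝟙 _) ≫ (y.obj u).obj.iso.hom =
          (𝟙 _ ≫ x.map (𝟙 _) ≫ (y.obj u).obj.iso.hom) ≫ f.map (𝟙 _)
        rw [f.map_id, f.map_id, x.map_id, Category.comp_id, Category.id_comp]
        exact ((congrArg (𝟙 _ ≫ ·) (Category.id_comp _)).trans (Category.id_comp _)).symm))
      (fun u => (Fp.isHomLift_iff _ _).2 (IsHomLift.id (y₁.w_obj u)))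
      (fun {u v} φ => Fp.hom_ext ((Category.comp_id _).trans (Category.id_comp _).symm)
        ((Category.comp_id _).trans (Category.id_comp _).symm))
  have := IsEquivOver.full (IsEquivOver.refl (_root_.FibCat.fp π π))
  have := IsEquivOver.faithful (IsEquivOver.refl (_root_.FibCat.fp π π))
  let iG : BasedFunctor.comp (diagBcLift f x) (_root_.FibCat.fpFst (diagBcMap f x) (_root_.FibCat.diag f)) ≅
      BasedFunctor.comp (_root_.FibCat.diag π) (BasedFunctor.id _) := Iso.refl _
  let E₁ := Fp.map (F := y') (G := _root_.FibCat.diag π) (F' := y')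
    (G' := _root_.FibCat.fpFst (diagBcMap f x) (_root_.FibCat.diag f)) (BasedFunctor.id _) (diagBcLift f x)
    (BasedFunctor.id _) (Iso.refl y') iG
  exact HasRep.of_equiv (BasedFunctor.comp E₁ (BasedFunctor.comp (Fp.paste (_root_.FibCat.diag f) (diagBcMap f x) y')
      (Fp.congr j (Iso.refl (_root_.FibCat.diag f)))))
    (IsEquivOver.comp (Fp.isEquivOver_map _ _ _ _ _ (IsEquivOver.refl _) (isEquivOver_diagBcLift f x))
      (IsEquivOver.comp (Fp.isEquivOver_paste (_root_.FibCat.diag f) (diagBcMap f x) y')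
        (Fp.isEquivOver_congr j (Iso.refl _))))
    (Iso.refl _) (h U y')

/-- Descent of a property of the diagonal. -/
theorem repByAlgSpWith_diag_of_fpFst_fppf (hP : IsoInvariant P) (hD : DescendsToSchemes P)
    (h𝒳 : IsAlgStack Scheme.fppfPrecoverage 𝒳) (h𝒴 : IsAlgStack Scheme.fppfPrecoverage 𝒴) {f : 𝒳 ⥤ᵇ 𝒴}
    {z : 𝒵 ⥤ᵇ 𝒴} (hz : LiftsFppf z)
    (h : RepByAlgSpWith P (_root_.FibCat.diag (_root_.FibCat.fpFst z f))) :
    RepByAlgSpWith P (_root_.FibCat.diag f) := by
  intro U y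
  let x := BasedFunctor.comp (BasedFunctor.comp y (_root_.FibCat.fpFst f f)) f
  obtain ⟨V, c, l, h1, h2, h3, ⟨j⟩⟩ := hz U x
  refine hasRep_of_cover hP hD _ y c h1 h2 h3 (repByAlgSp1_diag h𝒳 h𝒴 f U y) ?_
  refine hasRep_diag_of_fpFst f (BasedFunctor.comp (GrothLib.FibCat.overMap c) y) ?_
  exact (repByAlgSpWith_diag_of_equiv (BasedFunctor.comp (Fp.paste f z l) (Fp.congr j.symm (Iso.refl f)))
    (IsEquivOver.comp (Fp.isEquivOver_paste f z l) (Fp.isEquivOver_congr _ _)) (Iso.refl _)).2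
    (repByAlgSpWith_diag_fpFst (_root_.FibCat.fpFst z f) l h)

end GrothLib.AlgSt
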