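import Groth.Agent.Lib.AlgSt.LocQRep
import Groth.Agent.Lib.AlgSp.SmoothLocalLocP
import Groth.Agent.Lib.DescElem.Basic
import Groth.Agent.Lib.DiagGrp.KernelFP

/-!
# Reading chartwise properties on atlas squares
-/

set_option backward.isDefEq.respectTransparency false
set_option backward.isDefEq.respectTransparency.types false

universe u

open CategoryTheory CategoryTheory.Limits AlgebraicGeometry Opposite

namespace GrothLib.AlgSt

open _root_.AlgSt GrothLib.FibCat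

variable {S : Scheme.{u}} {𝒳 𝒴 𝒵 : _root_.AlgSt.Cat S} {P : MorphismProperty (AlgSp.Sp S)}

theorem left_of_locP_yon {Q : MorphismProperty Scheme.{u}} {U V : Over S} {h : U ⟶ V}
    (hh : AlgSp.LocP Q ((AlgSp.yon S).map h)) : Q h.left :=
  hh (𝟙 _) (𝟙 _) h (AlgSp.repWith_id _ U) (AlgSp.repWith_id _ V) (by simp)

theorem locP_yon_of_left {Q : MorphismProperty Scheme.{u}} (hQ : GrothLib.AlgSp.EtLocal Q) {U V : Over S}
    {h : U ⟶ V} (hh : Q h.left) : AlgSp.LocP Q ((AlgSp.yon S).map h) :=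
  have := hQ.baseChange
  have := GrothLib.AlgSp.EtLocal.respectsIso hQ
  GrothLib.AlgSp.EtLocal.locP_of_repWith hQ (AlgSp.IsAlgSpace.yon_obj V) ((AlgSp.repWith_yon_map_iff _ _).2 hh)

theorem flat_of_comp_of_flat_surjective {A B C : Scheme.{u}} (f : A ⟶ B) (g : B ⟶ C) [Flat f] [Surjective f]
    [Flat (f ≫ g)] : Flat g := by
  refine Flat.of_stalkMap g fun b => ?_
  obtain ⟨a, rfl⟩ := f.surjective b
  have h : (((f ≫ g).stalkMap a).hom).Flat := Flat.stalkMap (f ≫ g) a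
  rw [Scheme.Hom.stalkMap_comp, CommRingCat.hom_comp] at h
  have : IsLocalHom (f.stalkMap a).hom := f.toLRSHom.prop a
  exact GrothLib.DescElem.ringHom_flat_of_comp _ _
    (GrothLib.DescElem.ringHom_faithfullyFlat_of_flat _ (Flat.stalkMap f a)) h

/-- An atlas square over a given smooth chart of the target. -/
theorem exists_atlas_over (h𝒳 : IsAlgStack Scheme.fppfPrecoverage 𝒳) (h𝒴 : IsAlgStack Scheme.fppfPrecoverage 𝒴)
    (f : 𝒳 ⥤ᵇ 𝒴) {V : Over S} (y : _root_.FibCat.overCat V ⥤ᵇ 𝒴) :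
    ∃ (U : Over S) (l : _root_.FibCat.overCat U ⥤ᵇ _root_.FibCat.fp f y) (h : U ⟶ V),
      SmoothSurj l ∧ Nonempty (BasedFunctor.comp l (_root_.FibCat.fpSnd f y) ≅ _root_.AlgSt.overMap h) ∧
      (RepByAlgSpWith (AlgSp.LocP @Smooth) y →
        RepByAlgSpWith (AlgSp.LocP @Smooth) (BasedFunctor.comp l (_root_.FibCat.fpFst f y))) ∧
      (RepByAlgSpWith AlgSp.IsSurjectiveMor y →
        RepByAlgSpWith AlgSp.IsSurjectiveMor (BasedFunctor.comp l (_root_.FibCat.fpFst f y))) ∧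
      (IsSurjective f → Surjective h.left) := by
  have hV := (isDM_of_repByAlgSp (repByAlgSp_overCat V)).1
  have hA := isAlgStack_fp h𝒴.isStack h𝒴.diag h𝒳 hV f y
  obtain ⟨U, l, hl, hls⟩ := hA.atlas
  let k := BasedFunctor.comp l (_root_.FibCat.fpSnd f y)
  have gU := isFibGrpd_overCat U
  refine ⟨U, l, sliceHom k, ⟨hl, hls⟩, ⟨isoOverMap k⟩,
    fun hy => repByAlgSpWith_smooth_comp gU hA.isStack.1 l _ hl (repByAlgSpWith_fpFst f hy),
    fun hy => repByAlgSpWith_surjective_comp gU hA.isStack.1 l _ hls (repByAlgSpWith_fpFst f hy), fun hf => ⟨fun v => ?_⟩⟩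
  obtain ⟨p, hp⟩ := hf (Points.ofChart y v)
  obtain ⟨w, -, hw⟩ := exists_points_fp hV.isStack.1 h𝒳.isStack.1 h𝒴.isStack.1 y f p
    (Points.ofChart (BasedFunctor.id _) v) (hp.trans (ofChart_eq_map y v))
  obtain ⟨u, rfl⟩ := surjective_ofChart hA.isStack.1 hls w
  refine ⟨u, ?_⟩
  rw [← pointOf_ofChart_id v, ← hw, ← ofChart_comp, ofChart_congr (isoOverMap k)]
  have e : Points.ofChart (_root_.AlgSt.overMap (sliceHom k)) u =
      Points.ofChart (BasedFunctor.id (_root_.FibCat.overCat V)) ((sliceHom k).left u) :=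
    ofChart_overMap (sliceHom k) (BasedFunctor.id _) u
  exact ((congrArg pointOf e).trans (pointOf_ofChart_id _)).symm

/-- A chartwise property on an atlas square. -/
theorem locQ_of_atlas_square {f : 𝒳 ⥤ᵇ 𝒴} {U V : Over S} {y : _root_.FibCat.overCat V ⥤ᵇ 𝒴}
    (hy : RepByAlgSpWith (AlgSp.LocP @Smooth) y) {l : _root_.FibCat.overCat U ⥤ᵇ _root_.FibCat.fp f y} {h : U ⟶ V}
    (β : BasedFunctor.comp l (_root_.FibCat.fpSnd f y) ≅ _root_.AlgSt.overMap h)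
    (hx : RepByAlgSpWith (AlgSp.LocP @Smooth) (BasedFunctor.comp l (_root_.FibCat.fpFst f y)))
    (hx' : RepByAlgSpWith AlgSp.IsSurjectiveMor (BasedFunctor.comp l (_root_.FibCat.fpFst f y)))
    (hh : P ((AlgSp.yon S).map h)) : LocQ P f :=
  ⟨U, V, _, y, h, whiskerLeftIso l (_root_.FibCat.fpIso f y) ≪≫ whiskerRightIso β y, hx, hx', hy, hh⟩

/-- `f` read on the atlas squares of a composite. -/
theorem exists_comp_square (h𝒳 : IsAlgStack Scheme.fppfPrecoverage 𝒳) (h𝒴 : IsAlgStack Scheme.fppfPrecoverage 𝒴)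
    (h𝒵 : IsAlgStack Scheme.fppfPrecoverage 𝒵) (f : 𝒳 ⥤ᵇ 𝒴) (g : 𝒴 ⥤ᵇ 𝒵) :
    ∃ (U V W : Over S) (h : U ⟶ V) (k : V ⟶ W),
      (IsSurjective f → Surjective h.left) ∧
      (∀ ⦃P : MorphismProperty (AlgSp.Sp S)⦄, AlgSp.IsSmoothLocalST P →
        (LocQ P f → P ((AlgSp.yon S).map h)) ∧ (LocQ P g → P ((AlgSp.yon S).map k)) ∧
        (LocQ P (BasedFunctor.comp f g) → P ((AlgSp.yon S).map (h ≫ k)))) ∧
      (∀ ⦃P : MorphismProperty (AlgSp.Sp S)⦄, P ((AlgSp.yon S).map h) → LocQ P f) ∧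
      (∀ ⦃P : MorphismProperty (AlgSp.Sp S)⦄, P ((AlgSp.yon S).map k) → LocQ P g) := by
  obtain ⟨W, z, hz, hzs⟩ := h𝒵.atlas
  obtain ⟨V, l₀, k, hl₀, ⟨βk⟩, hy, hys, -⟩ := exists_atlas_over h𝒴 h𝒵 g z
  let y := BasedFunctor.comp l₀ (_root_.FibCat.fpFst g z)
  obtain ⟨U, l, h, hl, ⟨βh⟩, hx, hxs, hsurj⟩ := exists_atlas_over h𝒳 h𝒴 f y
  let M := Fp.map (F := _root_.FibCat.fpFst g z) (G := f) (F' := _root_.FibCat.fpSnd z g) (G' := f)
    (Fp.symm g z) (BasedFunctor.id 𝒳) (BasedFunctor.id 𝒴) (Iso.refl _) (Iso.refl _)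
  let E := BasedFunctor.comp (BasedFunctor.comp (Fp.symm f (_root_.FibCat.fpFst g z)) M)
    (BasedFunctor.comp (Fp.pasteComp f g z) (Fp.symm z (BasedFunctor.comp f g)))
  have := IsEquivOver.full (IsEquivOver.refl 𝒴)
  have := IsEquivOver.faithful (IsEquivOver.refl 𝒴)
  have hE : _root_.FibCat.IsEquivOver E := IsEquivOver.comp
    (IsEquivOver.comp (Fp.isEquivOver_symm _ _)
      (Fp.isEquivOver_map _ _ _ _ _ (Fp.isEquivOver_symm g z) (IsEquivOver.refl _)))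
    (IsEquivOver.comp (Fp.isEquivOver_pasteComp f g z) (Fp.isEquivOver_symm _ _))
  have gW := isFibGrpd_overCat W
  have gP := Fp.isFibGrpd (F := g) (G := z) h𝒴.isStack.1 gW h𝒵.isStack.1
  let R := rightMap l₀ f (_root_.FibCat.fpFst g z)
  let l' := BasedFunctor.comp (BasedFunctor.comp l R) E
  have hl' : RepByAlgSpWith (AlgSp.LocP @Smooth) l' :=
    repByAlgSpWith_comp_equiv E hE (repByAlgSpWith_smooth_comp (isFibGrpd_overCat U)
      (Fp.isFibGrpd (F := f) (G := y) h𝒳.isStack.1 (isFibGrpd_overCat V) h𝒴.isStack.1) l R hl.1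
      (repByAlgSpWith_rightMap hl₀.1 f _))
  let β' : BasedFunctor.comp l' (_root_.FibCat.fpSnd (BasedFunctor.comp f g) z) ≅ _root_.AlgSt.overMap (h ≫ k) :=
    whiskerRightIso βh (BasedFunctor.comp l₀ (_root_.FibCat.fpSnd g z)) ≪≫
      whiskerLeftIso (_root_.AlgSt.overMap h) βk ≪≫ overMapCompIso h k
  exact ⟨U, V, W, h, k, hsurj, fun P hP =>
    ⟨fun hq => mem_of_locQ hP hq h𝒳 h𝒴 y (hy hz) l hl.1 h βh,
      fun hq => mem_of_locQ hP hq h𝒴 h𝒵 z hz l₀ hl₀.1 k βk,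
      fun hq => mem_of_locQ hP hq h𝒳 h𝒵 z hz l' hl' (h ≫ k) β'⟩,
    fun P hh => locQ_of_atlas_square (hy hz) βh (hx (hy hz)) (hxs (hys hzs)) hh,
    fun P hh => locQ_of_atlas_square hz βk (hy hz) (hys hzs) hh⟩

theorem locQ_lft_of_comp (h𝒳 : IsAlgStack Scheme.fppfPrecoverage 𝒳) (h𝒴 : IsAlgStack Scheme.fppfPrecoverage 𝒴)
    (h𝒵 : IsAlgStack Scheme.fppfPrecoverage 𝒵) (f : 𝒳 ⥤ᵇ 𝒴) (g : 𝒴 ⥤ᵇ 𝒵)
    (h : LocQ (AlgSp.LocP @LocallyOfFiniteType) (BasedFunctor.comp f g)) :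
    LocQ (AlgSp.LocP @LocallyOfFiniteType) f := by
  obtain ⟨U, V, W, a, b, -, hm, hf, -⟩ := exists_comp_square h𝒳 h𝒴 h𝒵 f g
  have h1 := left_of_locP_yon ((hm GrothLib.AlgSp.isSmoothLocalST_lft).2.2 h)
  rw [Over.comp_left] at h1
  exact hf (locP_yon_of_left GrothLib.AlgSp.EtLocal.lft (locallyOfFiniteType_of_comp a.left b.left))

theorem locQ_lfp_of_comp (h𝒳 : IsAlgStack Scheme.fppfPrecoverage 𝒳) (h𝒴 : IsAlgStack Scheme.fppfPrecoverage 𝒴)
    (h𝒵 : IsAlgStack Scheme.fppfPrecoverage 𝒵) (f : 𝒳 ⥤ᵇ 𝒴) (g : 𝒴 ⥤ᵇ 𝒵)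
    (h : LocQ (AlgSp.LocP @LocallyOfFinitePresentation) (BasedFunctor.comp f g))
    (hg : LocQ (AlgSp.LocP @LocallyOfFiniteType) g) : LocQ (AlgSp.LocP @LocallyOfFinitePresentation) f := by
  obtain ⟨U, V, W, a, b, -, hm, hf, -⟩ := exists_comp_square h𝒳 h𝒴 h𝒵 f g
  have h1 := left_of_locP_yon ((hm GrothLib.AlgSp.isSmoothLocalST_lfp).2.2 h)
  have h2 := left_of_locP_yon ((hm GrothLib.AlgSp.isSmoothLocalST_lft).2.1 hg)
  rw [Over.comp_left] at h1
  exact hf (locP_yon_of_left GrothLib.AlgSp.EtLocal.lfp (GrothLib.DiagGrp.lfp_of_comp_of_lft a.left b.left h1 h2))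

theorem locQ_flat_of_comp (h𝒳 : IsAlgStack Scheme.fppfPrecoverage 𝒳) (h𝒴 : IsAlgStack Scheme.fppfPrecoverage 𝒴)
    (h𝒵 : IsAlgStack Scheme.fppfPrecoverage 𝒵) (f : 𝒳 ⥤ᵇ 𝒴) (g : 𝒴 ⥤ᵇ 𝒵) (hf : LocQ (AlgSp.LocP @Flat) f)
    (hs : IsSurjective f) (h : LocQ (AlgSp.LocP @Flat) (BasedFunctor.comp f g)) : LocQ (AlgSp.LocP @Flat) g := by
  obtain ⟨U, V, W, a, b, hsurj, hm, -, hg⟩ := exists_comp_square h𝒳 h𝒴 h𝒵 f g
  have h1 := left_of_locP_yon ((hm GrothLib.AlgSp.isSmoothLocalST_flat).2.2 h)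
  rw [Over.comp_left] at h1
  have := h1
  have : Flat a.left := left_of_locP_yon ((hm GrothLib.AlgSp.isSmoothLocalST_flat).1 hf)
  have := hsurj hs
  exact hg (locP_yon_of_left GrothLib.AlgSp.EtLocal.flat (flat_of_comp_of_flat_surjective a.left b.left))

/-- Flat and locally finitely presented morphisms are open on points. -/
theorem isOpenMor_of_flat_lfp (h𝒳 : IsAlgStack Scheme.fppfPrecoverage 𝒳) (h𝒴 : IsAlgStack Scheme.fppfPrecoverage 𝒴)
    (f : 𝒳 ⥤ᵇ 𝒴) (hfl : LocQ (AlgSp.LocP @Flat) f) (hfp : LocQ (AlgSp.LocP @LocallyOfFinitePresentation) f) :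
    IsOpenMap (Points.map f) := by
  obtain ⟨V, y, hy, hys⟩ := h𝒴.atlas
  obtain ⟨U, l, h, hl, ⟨β⟩, hx, hxs, -⟩ := exists_atlas_over h𝒳 h𝒴 f y
  have : Flat h.left :=
    left_of_locP_yon (mem_of_locQ GrothLib.AlgSp.isSmoothLocalST_flat hfl h𝒳 h𝒴 y hy l hl.1 h β)
  have : LocallyOfFinitePresentation h.left :=
    left_of_locP_yon (mem_of_locQ GrothLib.AlgSp.isSmoothLocalST_lfp hfp h𝒳 h𝒴 y hy l hl.1 h β)
  let x := BasedFunctor.comp l (_root_.FibCat.fpFst f y)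
  intro W hW
  rw [← (surjective_ofChart h𝒳.isStack.1 (hxs hys)).image_preimage W, ← Set.image_comp]
  have e : Points.map f ∘ Points.ofChart x = Points.ofChart y ∘ (fun u => h.left u) := funext fun u => by
    refine ((ofChart_comp x f u).symm.trans ?_).trans (ofChart_overMap h y u)
    exact ofChart_congr (whiskerLeftIso l (_root_.FibCat.fpIso f y) ≪≫ whiskerRightIso β y) u
  rw [e, Set.image_comp]
  exact isOpenMap_ofChart h𝒴.isStack.1 hy _
    (h.left.isOpenMap _ (hW.preimage (continuous_ofChart h𝒳.isStack.1 h𝒳.atlas x)))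

/-- Lifting a chart through a chart of a flat, locally finitely presented surjection; descent of chartwise
properties along it. -/
theorem exists_descent_square (h𝒳 : IsAlgStack Scheme.fppfPrecoverage 𝒳) (h𝒴 : IsAlgStack Scheme.fppfPrecoverage 𝒴)
    (h𝒵 : IsAlgStack Scheme.fppfPrecoverage 𝒵) (f : 𝒳 ⥤ᵇ 𝒴) (z : 𝒵 ⥤ᵇ 𝒴) :
    ∃ (U V R : Over S) (h : U ⟶ V) (c : R ⟶ V),
      (IsSurjective z → Surjective c.left) ∧
      (∀ ⦃P : MorphismProperty (AlgSp.Sp S)⦄, AlgSp.IsSmoothLocalST P →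
        (LocQ P z → P ((AlgSp.yon S).map c)) ∧
        (LocQ P (_root_.FibCat.fpFst z f) → P ((AlgSp.yon S).map (pullback.fst c h)))) ∧
      (∀ ⦃P : MorphismProperty (AlgSp.Sp S)⦄, P ((AlgSp.yon S).map h) → LocQ P f) := by
  obtain ⟨V, y, hy, hys⟩ := h𝒴.atlas
  obtain ⟨U, l, h, hl, ⟨β⟩, hx, hxs, -⟩ := exists_atlas_over h𝒳 h𝒴 f y
  obtain ⟨R, lz, c, hlz, ⟨βz⟩, hv, -, hcs⟩ := exists_atlas_over h𝒵 h𝒴 z y
  let v := BasedFunctor.comp lz (_root_.FibCat.fpFst z y)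
  have hvs := hv hy
  let γ : BasedFunctor.comp (_root_.AlgSt.overMap c) y ≅ BasedFunctor.comp v z :=
    whiskerRightIso βz.symm y ≪≫ (whiskerLeftIso lz (_root_.FibCat.fpIso z y)).symm
  let cm := (AlgSp.yon S).map c
  let hm := (AlgSp.yon S).map h
  have sq : IsPullback ((AlgSp.yon S).map (pullback.fst c h)) ((AlgSp.yon S).map (pullback.snd c h)) cm hm :=
    GrothLib.AlgSp.isPullback_yon (IsPullback.of_hasPullback c h)
  obtain ⟨ic⟩ := iso_toOverCat_overMap c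
  obtain ⟨ih⟩ := iso_toOverCat_overMap h
  have := IsEquivOver.full (isEquivOver_toOverCat V)
  have := IsEquivOver.faithful (isEquivOver_toOverCat V)
  let E := BasedFunctor.comp (ofOverCat (pullback c h)) (BasedFunctor.comp (spToFp sq.w)
    (Fp.map (F := ofSpMap cm) (G := ofSpMap hm) (toOverCat R) (toOverCat U) (toOverCat V) ic ih))
  have hE : _root_.FibCat.IsEquivOver E := IsEquivOver.comp (isEquivOver_ofOverCat _)
    (IsEquivOver.comp (isEquivOver_spToFp sq)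
      (Fp.isEquivOver_map _ _ _ _ _ (isEquivOver_toOverCat R) (isEquivOver_toOverCat U)))
  let π := _root_.FibCat.fpFst y f
  let E₁ := Fp.congr (Iso.refl (_root_.AlgSt.overMap c))
    (show _root_.AlgSt.overMap h ≅ BasedFunctor.comp (BasedFunctor.comp l (Fp.symm f y)) π from β.symm)
  let M := rightMap (BasedFunctor.comp l (Fp.symm f y)) (_root_.AlgSt.overMap c) π
  let E₂ := BasedFunctor.comp (Fp.paste f y (_root_.AlgSt.overMap c)) (Fp.congr γ (Iso.refl f))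
  obtain ⟨P', hP', -, ⟨ε⟩⟩ := IsEquivOver.symm (Fp.isEquivOver_paste f z v)
  let E₃ := BasedFunctor.comp P' (Fp.symm v (_root_.FibCat.fpFst z f))
  let l' := BasedFunctor.comp (BasedFunctor.comp (BasedFunctor.comp E E₁) M) (BasedFunctor.comp E₂ E₃)
  have hl' : RepByAlgSpWith (AlgSp.LocP @Smooth) l' :=
    repByAlgSpWith_comp_equiv _ (IsEquivOver.comp
        (IsEquivOver.comp (Fp.isEquivOver_paste _ _ _) (Fp.isEquivOver_congr _ _))
        (IsEquivOver.comp hP' (Fp.isEquivOver_symm _ _)))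
      (repByAlgSpWith_equiv_comp _ (IsEquivOver.comp hE (Fp.isEquivOver_congr _ _))
        (repByAlgSpWith_rightMap (repByAlgSpWith_comp_equiv _ (Fp.isEquivOver_symm f y) hl.1) _ _))
  let ib : BasedFunctor.comp P' (_root_.FibCat.fpFst v (_root_.FibCat.fpFst z f)) ≅
      _root_.FibCat.fpFst (BasedFunctor.comp v z) f :=
    whiskerRightIso ε (_root_.FibCat.fpFst (BasedFunctor.comp v z) f)
  obtain ⟨i₀⟩ := iso_toOverCat_overMap (pullback.fst c h)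
  let β' : BasedFunctor.comp l' (_root_.FibCat.fpSnd (_root_.FibCat.fpFst z f) v) ≅
      _root_.AlgSt.overMap (pullback.fst c h) :=
    whiskerLeftIso (BasedFunctor.comp (BasedFunctor.comp (BasedFunctor.comp E E₁) M) E₂) ib ≪≫
      whiskerLeftIso (ofOverCat (pullback c h)) i₀.symm ≪≫
      whiskerRightIso (ofOverCatCompIso (pullback c h)) (_root_.AlgSt.overMap (pullback.fst c h))
  exact ⟨U, V, R, h, c, hcs, fun P hP =>
    ⟨fun hq => mem_of_locQ hP hq h𝒵 h𝒴 y hy lz hlz.1 c βz,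
      fun hq => mem_of_locQ hP hq (isAlgStack_fp h𝒴.isStack h𝒴.diag h𝒵 h𝒳 z f) h𝒵 v hvs l' hl' _ β'⟩,
    fun P hh => locQ_of_atlas_square hy β (hx hy) (hxs hys) hh⟩

/-- Chartwise properties local on the base descend. -/
theorem locQ_of_fpFst_fppf (hP : AlgSp.IsSmoothLocalST P) (hP₂ : AlgSp.IsLocalOnBase AlgSp.IsFppfCover P)
    (h𝒳 : IsAlgStack Scheme.fppfPrecoverage 𝒳) (h𝒴 : IsAlgStack Scheme.fppfPrecoverage 𝒴)
    (h𝒵 : IsAlgStack Scheme.fppfPrecoverage 𝒵) (f : 𝒳 ⥤ᵇ 𝒴) (z : 𝒵 ⥤ᵇ 𝒴)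
    (hz₁ : LocQ (AlgSp.LocP @Flat) z) (hz₂ : LocQ (AlgSp.LocP @LocallyOfFinitePresentation) z)
    (hz₃ : IsSurjective z) (h : LocQ P (_root_.FibCat.fpFst z f)) : LocQ P f := by
  obtain ⟨U, V, R, a, c, hcs, hm, hf⟩ := exists_descent_square h𝒳 h𝒴 h𝒵 f z
  have := hcs hz₃
  have hcov : AlgSp.IsFppfCover (fun _ : PUnit.{u + 1} => (AlgSp.yon S).obj R) (fun _ => (AlgSp.yon S).map c) :=
    ⟨fun _ => ⟨(hm GrothLib.AlgSp.isSmoothLocalST_flat).1 hz₁, (hm GrothLib.AlgSp.isSmoothLocalST_lfp).1 hz₂⟩,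
      fun x => ⟨PUnit.unit, GrothLib.AlgSp.surjective_map_of_repWith ((AlgSp.repWith_yon_map_iff _ _).2 this) x⟩⟩
  exact hf ((hP₂ _ _ (AlgSp.IsAlgSpace.yon_obj V) (fun _ => AlgSp.IsAlgSpace.yon_obj R) hcov
    ((AlgSp.yon S).map a) (AlgSp.IsAlgSpace.yon_obj U) (fun _ => (AlgSp.yon S).obj (pullback c a))
    (fun _ => (AlgSp.yon S).map (pullback.fst c a)) (fun _ => (AlgSp.yon S).map (pullback.snd c a))
    (fun _ => AlgSp.IsAlgSpace.yon_obj _)
    (fun _ => (GrothLib.AlgSp.isPullback_yon (IsPullback.of_hasPullback c a)).flip)).2 fun _ => (hm hP).2 h)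

/-- Flatness descends along flat surjective morphisms. -/
theorem locQ_flat_of_fpFst (h𝒳 : IsAlgStack Scheme.fppfPrecoverage 𝒳) (h𝒴 : IsAlgStack Scheme.fppfPrecoverage 𝒴)
    (h𝒵 : IsAlgStack Scheme.fppfPrecoverage 𝒵) (f : 𝒳 ⥤ᵇ 𝒴) (z : 𝒵 ⥤ᵇ 𝒴)
    (hz₁ : LocQ (AlgSp.LocP @Flat) z) (hz₂ : IsSurjective z) (h : LocQ (AlgSp.LocP @Flat) (_root_.FibCat.fpFst z f)) :
    LocQ (AlgSp.LocP @Flat) f := by
  obtain ⟨U, V, R, a, c, hcs, hm, hf⟩ := exists_descent_square h𝒳 h𝒴 h𝒵 f z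
  have := hcs hz₂
  have : Flat c.left := left_of_locP_yon ((hm GrothLib.AlgSp.isSmoothLocalST_flat).1 hz₁)
  have : Flat (pullback.fst c a).left := left_of_locP_yon ((hm GrothLib.AlgSp.isSmoothLocalST_flat).2 h)
  have sq := GrothLib.AlgSp.isPullback_left (IsPullback.of_hasPullback c a)
  have : Flat (pullback.snd c a).left := MorphismProperty.of_isPullback (P := @Flat) sq inferInstance
  have : Surjective (pullback.snd c a).left := MorphismProperty.of_isPullback (P := @Surjective) sq inferInstance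
  have : Flat ((pullback.snd c a).left ≫ a.left) := by rw [← sq.w]; infer_instance
  exact hf (locP_yon_of_left GrothLib.AlgSp.EtLocal.flat
    (flat_of_comp_of_flat_surjective (pullback.snd c a).left a.left))

end GrothLib.AlgSt
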