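import Groth.Agent.Lib.AlgSt.LocQRep
import Groth.Agent.Lib.AlgSt.LocQChart
import Groth.Agent.Lib.AlgSt.DescRep
import Groth.Agent.Lib.AlgSp.FppfCover
import Groth.Agent.Lib.AlgSp.FpqcProps
import Groth.Agent.Lib.AlgSp.LocP

/-!
# The diagonal of a morphism locally of finite type is locally of finite presentation
-/

set_option backward.isDefEq.respectTransparency false
set_option backward.isDefEq.respectTransparency.types false

universe u

open CategoryTheory CategoryTheory.Limits AlgebraicGeometry Opposite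

namespace GrothLib.AlgSt

open _root_.AlgSt GrothLib.FibCat

variable {S : Scheme.{u}} {𝒳 𝒴 : _root_.AlgSt.Cat S}

theorem isLocalOnBase_fppf_of_fpqc {P : MorphismProperty (AlgSp.Sp S)}
    (h : AlgSp.IsLocalOnBase AlgSp.IsFpqcCover P) : AlgSp.IsLocalOnBase AlgSp.IsFppfCover P :=
  fun _ _ Yi g hY hYi hg => h Yi g hY hYi (GrothLib.AlgSp.isFpqcCover_of_isFppfCover hY hYi hg)

theorem isLocalOnBase_fppf_locP_lfp :
    AlgSp.IsLocalOnBase (S := S) AlgSp.IsFppfCover (AlgSp.LocP @LocallyOfFinitePresentation) :=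
  isLocalOnBase_fppf_of_fpqc (GrothLib.AlgSp.isLocalOnBase_fpqc_of
    (GrothLib.AlgSp.baseChanges_locP GrothLib.AlgSp.EtLocal.lfp)
    fun _ _ hX hY _ h => GrothLib.AlgSp.locP_of_fpqcLoc GrothLib.AlgSp.EtLocal.lfp hX hY h)

theorem stableSp_locP {Q : MorphismProperty Scheme.{u}} (hQ : GrothLib.AlgSp.EtLocal Q) :
    StableSp (AlgSp.LocP (S := S) Q) :=
  fun _ _ _ _ h₁ hY₁ h₂ hY₂ _ _ _ _ sq ha => GrothLib.AlgSp.EtLocal.locP_of_isPullback hQ h₁ hY₁ hY₂ sq ha

/-- The map of fibre products over `f` is a composite of the two partial maps. -/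
def fpPairCompIso {𝒲 : _root_.AlgSt.Cat S} (x : 𝒲 ⥤ᵇ 𝒳) (f : 𝒳 ⥤ᵇ 𝒴) :
    BasedFunctor.comp (leftMap x f (BasedFunctor.comp x f)) (rightMap x f f) ≅ fpPair x x f :=
  natIsoOfComponents
    (fun a => Fp.isoMk (a := (rightMap x f f).obj ((leftMap x f (BasedFunctor.comp x f)).obj a))
      (b := (fpPair x x f).obj a) (Iso.refl _) (Iso.refl _) (by
        erw [map_refl_iso (F' := f) (G' := f) (BasedFunctor.id 𝒳) x ((leftMap x f (BasedFunctor.comp x f)).obj a),
          map_refl_iso (F' := f) (G' := BasedFunctor.comp x f) x (BasedFunctor.id 𝒲) a]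
        change f.map (𝟙 _) ≫ a.obj.iso.hom = a.obj.iso.hom ≫ f.map (𝟙 _)
        rw [f.map_id, f.map_id]
        exact (Category.id_comp _).trans (Category.comp_id _).symm))
    (fun a => (Fp.isHomLift_iff _ _).2 (IsHomLift.id (x.w_obj a.obj.fst)))
    (fun {a b} φ => Fp.hom_ext ((Category.comp_id _).trans (Category.id_comp _).symm)
      ((Category.comp_id _).trans (Category.id_comp _).symm))

/-- `W ×_𝒳 W ⟶ W ×_𝒴 W` is locally of finite presentation for a smooth chart `W` of a morphism locally of finite type. -/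
theorem repByAlgSpWith_lfp_fpToFp (h𝒳 : IsAlgStack Scheme.fppfPrecoverage 𝒳)
    (h𝒴 : IsAlgStack Scheme.fppfPrecoverage 𝒴) (f : 𝒳 ⥤ᵇ 𝒴) (hf : LocQ (AlgSp.LocP @LocallyOfFiniteType) f)
    {W : Over S} (x : _root_.FibCat.overCat W ⥤ᵇ 𝒳) (hx : RepByAlgSpWith (AlgSp.LocP @Smooth) x) :
    RepByAlgSpWith (AlgSp.LocP @LocallyOfFinitePresentation) (fpToFp x x f) := by
  have hW := (isDM_of_repByAlgSp (repByAlgSp_overCat W)).1
  have hA := isAlgStack_fp h𝒳.isStack h𝒳.diag hW hW x x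
  have h1 := isAlgStack_fp h𝒴.isStack h𝒴.diag hW hW (BasedFunctor.comp x f) (BasedFunctor.comp x f)
  have hxl : RepByAlgSpWith (AlgSp.LocP @LocallyOfFiniteType) x := repByAlgSpWith_mono
    (fun _ _ _ _ _ h => GrothLib.AlgSp.locP_mono
      (fun _ _ g (hg : Smooth g) => (inferInstance : LocallyOfFiniteType g)) h) hx
  have hxp : RepByAlgSpWith (AlgSp.LocP @LocallyOfFinitePresentation) x := repByAlgSpWith_mono
    (fun _ _ _ _ _ h => GrothLib.AlgSp.locP_mono
      (fun _ _ g (hg : Smooth g) => (inferInstance : LocallyOfFinitePresentation g)) h) hx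
  have hxf : LocQ (AlgSp.LocP @LocallyOfFiniteType) (BasedFunctor.comp x f) :=
    locQ_comp GrothLib.AlgSp.isSmoothLocalST_lft
      (fun _ _ _ hX hY hZ _ _ ha hb => GrothLib.AlgSp.EtLocal.locP_comp GrothLib.AlgSp.EtLocal.lft hX hY hZ ha hb)
      hW.isStack.1 (locQ_of_repByAlgSpWith GrothLib.AlgSp.isSmoothLocalST_lft h𝒳 hxl) hf
  have hb : LocQ (AlgSp.LocP @LocallyOfFiniteType)
      (_root_.FibCat.fpFst (BasedFunctor.comp x f) (BasedFunctor.comp x f)) :=
    locQ_fpFst GrothLib.AlgSp.isSmoothLocalST_lft (stableSp_locP GrothLib.AlgSp.EtLocal.lft)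
      hW.isStack.1 h𝒴.isStack.1 hW _ hxf
  have hab : LocQ (AlgSp.LocP @LocallyOfFinitePresentation)
      (BasedFunctor.comp (fpToFp x x f) (_root_.FibCat.fpFst (BasedFunctor.comp x f) (BasedFunctor.comp x f))) :=
    locQ_of_repByAlgSpWith GrothLib.AlgSp.isSmoothLocalST_lfp hW (f := _root_.FibCat.fpFst x x)
      (repByAlgSpWith_fpFst x hxp)
  exact repByAlgSpWith_of_locQ GrothLib.AlgSp.isSmoothLocalST_lfp (stableSp_locP GrothLib.AlgSp.EtLocal.lfp)
    isLocalOnBase_fppf_locP_lfp hA h1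
    (repByAlgSpWith_top_iff.1 (repByAlgSpWith_fpToFp hW.isStack.1 x x f
      (repByAlgSpWith_top_iff.2 (repByAlgSp1_diag h𝒳 h𝒴 f))))
    (locQ_lfp_of_comp hA h1 hW _ _ hab hb)

/-- The diagonal of a morphism locally of finite type is locally of finite presentation. -/
theorem repByAlgSpWith_lfp_diag (h𝒳 : IsAlgStack Scheme.fppfPrecoverage 𝒳)
    (h𝒴 : IsAlgStack Scheme.fppfPrecoverage 𝒴) (f : 𝒳 ⥤ᵇ 𝒴) (hf : LocQ (AlgSp.LocP @LocallyOfFiniteType) f) :
    RepByAlgSpWith (AlgSp.LocP @LocallyOfFinitePresentation) (_root_.FibCat.diag f) := by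
  obtain ⟨W, x, hx, hxs⟩ := h𝒳.atlas
  have hW := (isDM_of_repByAlgSp (repByAlgSp_overCat W)).1
  let xf := BasedFunctor.comp x f
  let z := fpPair x x f
  have h1 := isAlgStack_fp h𝒴.isStack h𝒴.diag hW hW xf xf
  have hm := isAlgStack_fp h𝒴.isStack h𝒴.diag h𝒳 hW f xf
  have hz : SmoothSurj z := SmoothSurj.of_iso (fpPairCompIso x f)
    ((SmoothSurj.leftMap ⟨hx, hxs⟩ f xf).comp h1.isStack.1 hm.isStack.1 (SmoothSurj.rightMap ⟨hx, hxs⟩ f f))
  have hlift : LiftsFppf z := liftsFppf_of_repByAlgSpWith z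
    (repByAlgSpWith_mono (fun _ _ _ _ _ h => GrothLib.AlgSp.locP_mono
      (fun _ _ g (hg : Smooth g) => (inferInstance : Flat g)) h) hz.1)
    (repByAlgSpWith_mono (fun _ _ _ _ _ h => GrothLib.AlgSp.locP_mono
      (fun _ _ g (hg : Smooth g) => (inferInstance : LocallyOfFinitePresentation g)) h) hz.1) hz.2
  refine repByAlgSpWith_of_fpFst isoInvariant_locP
    (descendsToSchemes_of_isLocalOnBase isLocalOnBase_fppf_locP_lfp) (repByAlgSp1_diag h𝒳 h𝒴 f) hlift ?_
  exact (repByAlgSpWith_iff_of_square (f := _root_.FibCat.fpFst z (_root_.FibCat.diag f)) (f' := fpToFp x x f)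
    (fpToFpLift x x f) (BasedFunctor.id (_root_.FibCat.fp xf xf)) (isEquivOver_fpToFpLift hW.isStack.1 x x f)
    (IsEquivOver.refl (_root_.FibCat.fp xf xf)) (Iso.refl _)).2 (repByAlgSpWith_lfp_fpToFp h𝒳 h𝒴 f hf x hx)

end GrothLib.AlgSt
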