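import Groth.Agent.Lib.AlgSt.Stacky
import Groth.Agent.Lib.AlgSt.LocP
import Groth.Agent.Lib.FibCat.Repr

/-!
# Fibre products of algebraic stacks
-/

set_option backward.isDefEq.respectTransparency false
set_option backward.isDefEq.respectTransparency.types false

universe u

open CategoryTheory CategoryTheory.Limits AlgebraicGeometry Opposite

namespace GrothLib.AlgSt

open _root_.AlgSt GrothLib.FibCat

variable {S : Scheme.{u}}

theorem detectedBySchemes_surjective : DetectedBySchemes (AlgSp.IsSurjectiveMor (S := S)) := by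
  intro F₂ F₁ h₂ h₁ b hb x
  obtain ⟨V, p, -, ps⟩ := h₁.atlas
  obtain ⟨v, rfl⟩ := GrothLib.AlgSp.surjective_map_of_repWith ps x
  obtain ⟨w, rfl⟩ := hb V p v
  refine ⟨AlgSp.Points.map (pullback.snd p b) w, ?_⟩
  rw [← AlgSp.Points.map_comp, ← pullback.condition, AlgSp.Points.map_comp]

theorem isoInvariant_surjective : IsoInvariant (AlgSp.IsSurjectiveMor (S := S)) := fun _ _ _ _ _ φ _ a ha x => by
  obtain ⟨y, rfl⟩ := ha x
  refine ⟨AlgSp.Points.map (inv φ) y, ?_⟩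
  rw [← AlgSp.Points.map_comp, IsIso.inv_hom_id_assoc]

section Comp

variable {𝒳 𝒴 𝒵 : _root_.AlgSt.Cat S}

theorem repByAlgSpWith_surjective_comp (h𝒳 : _root_.FibCat.IsFibGrpd 𝒳.p) (h𝒴 : _root_.FibCat.IsFibGrpd 𝒴.p)
    (f : 𝒳 ⥤ᵇ 𝒴) (g : 𝒴 ⥤ᵇ 𝒵) (hf : RepByAlgSpWith AlgSp.IsSurjectiveMor f)
    (hg : RepByAlgSpWith AlgSp.IsSurjectiveMor g) : RepByAlgSpWith AlgSp.IsSurjectiveMor (BasedFunctor.comp f g) :=
  repByAlgSpWith_comp' h𝒳 h𝒴 isoInvariant_surjective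
    (fun _ _ _ _ _ _ a b ha hb x => by
      obtain ⟨y, rfl⟩ := hb x
      obtain ⟨z, rfl⟩ := ha y
      exact ⟨z, AlgSp.Points.map_comp a b z⟩)
    detectedBySchemes_surjective f g hf hg

theorem repByAlgSpWith_locP_comp {Q : MorphismProperty Scheme.{u}} [Q.IsStableUnderComposition]
    (hEt : ∀ ⦃X Y : Scheme.{u}⦄ (t : X ⟶ Y), Etale t → Q t) (hD : GrothLib.AlgSp.EtaleSourceDescends Q)
    (h𝒳 : _root_.FibCat.IsFibGrpd 𝒳.p) (h𝒴 : _root_.FibCat.IsFibGrpd 𝒴.p)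
    (f : 𝒳 ⥤ᵇ 𝒴) (g : 𝒴 ⥤ᵇ 𝒵) (hf : RepByAlgSpWith (AlgSp.LocP Q) f) (hg : RepByAlgSpWith (AlgSp.LocP Q) g) :
    RepByAlgSpWith (AlgSp.LocP Q) (BasedFunctor.comp f g) :=
  repByAlgSpWith_comp' h𝒳 h𝒴 isoInvariant_locP
    (fun _ _ _ _ hY hZ _ _ ha hb => locP_comp hD hY hZ ha hb) (detectedBySchemes_locP hEt) f g hf hg

theorem repByAlgSpWith_smooth_comp (h𝒳 : _root_.FibCat.IsFibGrpd 𝒳.p) (h𝒴 : _root_.FibCat.IsFibGrpd 𝒴.p)
    (f : 𝒳 ⥤ᵇ 𝒴) (g : 𝒴 ⥤ᵇ 𝒵) (hf : RepByAlgSpWith (AlgSp.LocP @Smooth) f)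
    (hg : RepByAlgSpWith (AlgSp.LocP @Smooth) g) : RepByAlgSpWith (AlgSp.LocP @Smooth) (BasedFunctor.comp f g) :=
  repByAlgSpWith_locP_comp (fun _ _ t (h : Etale t) => (inferInstance : Smooth t))
    GrothLib.AlgSp.etaleSourceDescends_smooth h𝒳 h𝒴 f g hf hg

end Comp

theorem repByAlgSp_selfOver : RepByAlgSp (_root_.FibCat.selfOver (Over S)) := by
  obtain ⟨U, F, hF⟩ := isRepresentable_of_terminal (𝒳 := _root_.FibCat.selfOver (Over S)) isFibGrpd_selfOver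
    (Over.mk (𝟙 S)) (fun ρ => ⟨⟨⟨Over.mkIdTerminal.from ρ⟩, fun _ => Over.mkIdTerminal.hom_ext _ _⟩⟩)
  exact repByAlgSp_of_isEquivOver' F hF (repByAlgSp_overCat U)

/-- The fibre product of algebraic stacks over a stack with diagonal representable by algebraic spaces. -/
theorem isAlgStack_fp {𝒳 𝒴 𝒵 : _root_.AlgSt.Cat S}
    (h𝒵 : _root_.Stk.IsStack (AlgSp.J S) 𝒵) (hΔ : RepByAlgSp1 (_root_.FibCat.diag (_root_.FibCat.toSelf 𝒵)))
    (h𝒳 : IsAlgStack Scheme.fppfPrecoverage 𝒳) (h𝒴 : IsAlgStack Scheme.fppfPrecoverage 𝒴)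
    (f : 𝒳 ⥤ᵇ 𝒵) (g : 𝒴 ⥤ᵇ 𝒵) : IsAlgStack Scheme.fppfPrecoverage (_root_.FibCat.fp f g) := by
  have g𝒳 := h𝒳.isStack.1
  have g𝒴 := h𝒴.isStack.1
  have gA := Fp.isFibGrpd (F := f) (G := g) g𝒳 g𝒴 h𝒵.1
  refine ⟨⟨gA, fun U R hR => GrothLib.Stk.isStackFor_fp f g (h𝒳.isStack.2 R hR) (h𝒴.isStack.2 R hR)
    ((GrothLib.Stk.IsStack.isPrestack h𝒵).2 R hR)⟩, repByAlgSp1_diag_of (fun U G => ?_) gA, ?_⟩
  · let G₁ := BasedFunctor.comp G (_root_.FibCat.fpFst f g)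
    have gU := (isFibSetoid_of_repByAlgSp (repByAlgSp_overCat U)).1
    let z : _root_.FibCat.overCat U ⥤ᵇ _root_.FibCat.fp G₁ (_root_.FibCat.fpFst f g) :=
      _root_.FibCat.fpLift (BasedFunctor.id _) G (Iso.refl _)
    have gB := Fp.isFibGrpd (F := G₁) (G := _root_.FibCat.fpFst f g) gU gA g𝒳
    have := IsEquivOver.full (IsEquivOver.refl 𝒴)
    have := IsEquivOver.faithful (IsEquivOver.refl 𝒴)
    have hsnd : RepByAlgSp1 (_root_.FibCat.fpSnd (BasedFunctor.comp G₁ f) g) :=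
      repByAlgSp1_fpSnd g (repByAlgSp1_of_diag hΔ h𝒵.1 (BasedFunctor.comp G₁ f))
    have hj : RepByAlgSp1 (BasedFunctor.comp (Fp.paste g f G₁) (_root_.FibCat.fpSnd (BasedFunctor.comp G₁ f) g)) :=
      repByAlgSp1_of_square (Fp.paste g f G₁) (BasedFunctor.id 𝒴) (Fp.isEquivOver_paste g f G₁) (Iso.refl _) hsnd
    have hz : RepByAlgSp1 z :=
      repByAlgSp1_of_diag (repByAlgSp1_diag_of_repByAlgSp1 gB g𝒴 h𝒴.diag _ hj) gB z
    exact repByAlgSp1_comp gU gB z (_root_.FibCat.fpSnd G₁ (_root_.FibCat.fpFst f g)) hz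
      (repByAlgSp1_fpSnd (_root_.FibCat.fpFst f g) (repByAlgSp1_of_diag h𝒳.diag g𝒳 G₁))
  · obtain ⟨U, x, xs, xj⟩ := h𝒳.atlas
    obtain ⟨V, y, ys, yj⟩ := h𝒴.atlas
    have gU := (isFibSetoid_of_repByAlgSp (repByAlgSp_overCat U)).1
    have gV := (isFibSetoid_of_repByAlgSp (repByAlgSp_overCat V)).1
    obtain ⟨E, hE, ⟨η⟩, ⟨ε⟩⟩ := IsEquivOver.symm (Fp.isEquivOver_paste g f x)
    let π := BasedFunctor.comp E (_root_.FibCat.fpSnd x (_root_.FibCat.fpFst f g))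
    have := IsEquivOver.full (IsEquivOver.refl (_root_.FibCat.fp f g))
    have := IsEquivOver.faithful (IsEquivOver.refl (_root_.FibCat.fp f g))
    have hπs : RepByAlgSpWith (AlgSp.LocP @Smooth) π :=
      repByAlgSpWith_of_square E (BasedFunctor.id _) hE (Iso.refl _) (repByAlgSpWith_fpSnd _ xs)
    have hπj : RepByAlgSpWith AlgSp.IsSurjectiveMor π :=
      repByAlgSpWith_of_square E (BasedFunctor.id _) hE (Iso.refl _) (repByAlgSpWith_fpSnd _ xj)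
    let σ := _root_.FibCat.fpFst (_root_.FibCat.fpSnd (BasedFunctor.comp x f) g) y
    have gB := Fp.isFibGrpd (F := BasedFunctor.comp x f) (G := g) gU g𝒴 h𝒵.1
    have gC := Fp.isFibGrpd (F := _root_.FibCat.fpSnd (BasedFunctor.comp x f) g) (G := y) gB gV g𝒴
    have hC : RepByAlgSp (_root_.FibCat.fp (_root_.FibCat.fpSnd (BasedFunctor.comp x f) g) y) :=
      repByAlgSp_of_isEquivOver' (Fp.pasteComp y g (BasedFunctor.comp x f))
        (Fp.isEquivOver_pasteComp y g (BasedFunctor.comp x f))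
        (repByAlgSp1_of_diag hΔ h𝒵.1 (BasedFunctor.comp y g) U (BasedFunctor.comp x f))
    obtain ⟨Z, eZ, hZ⟩ := hC
    obtain ⟨W, p, pe, ps⟩ := Z.property.atlas
    exact ⟨W, _, repByAlgSpWith_comp_chart (fun _ _ _ _ _ b a hb _ ha => locP_etale_comp b a hb ha)
        (repByAlgSpWith_smooth_comp gC gB σ π (repByAlgSpWith_fpFst _ ys) hπs) eZ hZ pe ps,
      repByAlgSpWith_comp_chart (fun _ _ _ _ _ b a _ hb ha => isSurjectiveMor_etale_comp b a hb ha)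
        (repByAlgSpWith_surjective_comp gC gB σ π (repByAlgSpWith_fpFst _ yj) hπj) eZ hZ pe ps⟩

theorem isAlgStack_prod {𝒳 𝒴 : _root_.AlgSt.Cat S} (h𝒳 : IsAlgStack Scheme.fppfPrecoverage 𝒳)
    (h𝒴 : IsAlgStack Scheme.fppfPrecoverage 𝒴) :
    IsAlgStack Scheme.fppfPrecoverage (_root_.FibCat.fp (_root_.FibCat.toSelf 𝒳) (_root_.FibCat.toSelf 𝒴)) :=
  have h := (isDM_of_repByAlgSp (repByAlgSp_selfOver (S := S))).1
  isAlgStack_fp (S := S) h.isStack h.diag h𝒳 h𝒴 _ _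

end GrothLib.AlgSt
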