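import Groth.Agent.Lib.AlgSt.EtaleAtlas
import Groth.Agent.Lib.AlgSt.FpStack

/-!
# Stacks with algebraic fibres over an algebraic stack
-/

set_option backward.isDefEq.respectTransparency false
set_option backward.isDefEq.respectTransparency.types false

universe u

open CategoryTheory CategoryTheory.Limits AlgebraicGeometry Opposite

namespace GrothLib.AlgSt

open _root_.AlgSt GrothLib.FibCat

variable {S : Scheme.{u}} {𝒳 𝒴 : _root_.AlgSt.Cat S}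

theorem repByAlgSpWith_isEtaleMor_iff_locP {f : 𝒳 ⥤ᵇ 𝒴} :
    RepByAlgSpWith AlgSp.IsEtaleMor f ↔ RepByAlgSpWith (AlgSp.LocP @Etale) f :=
  ⟨fun h U y => let ⟨F, e, he, hm⟩ := h U y
    ⟨F, e, he, GrothLib.AlgSp.locP_of_isEtaleMor (AlgSp.IsAlgSpace.yon_obj U) hm⟩,
   fun h U y => let ⟨F, e, he, hm⟩ := h U y
    ⟨F, e, he, GrothLib.AlgSp.isEtaleMor_of_locP (AlgSp.IsAlgSpace.yon_obj U) hm⟩⟩

/-- A stack over a stack with an atlas has one if its fibres over schemes have one. -/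
theorem hasAtlas_of_fibres {P : MorphismProperty (AlgSp.Sp S)}
    (hcomp : ∀ {𝒰 𝒱 𝒲 : _root_.AlgSt.Cat S}, _root_.FibCat.IsFibGrpd 𝒰.p → _root_.FibCat.IsFibGrpd 𝒱.p →
      ∀ (a : 𝒰 ⥤ᵇ 𝒱) (b : 𝒱 ⥤ᵇ 𝒲), RepByAlgSpWith P a → RepByAlgSpWith P b →
        RepByAlgSpWith P (BasedFunctor.comp a b))
    (hat : HasAtlas P 𝒴) (f : 𝒳 ⥤ᵇ 𝒴)
    (hf : ∀ (U : Over S) (g : _root_.FibCat.overCat U ⥤ᵇ 𝒴),
      _root_.FibCat.IsFibGrpd (_root_.FibCat.fp g f).p ∧ HasAtlas P (_root_.FibCat.fp g f)) :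
    HasAtlas P 𝒳 := by
  obtain ⟨U, u, hu, hus⟩ := hat
  obtain ⟨hg, W, w, hw, hws⟩ := hf U u
  have hW := (isDM_of_repByAlgSp (repByAlgSp_overCat W)).1.isStack.1
  refine ⟨W, BasedFunctor.comp w (_root_.FibCat.fpSnd u f), ?_, ?_⟩
  · exact hcomp hW hg w _ hw (repByAlgSpWith_fpSnd f hu)
  · exact repByAlgSpWith_surjective_comp hW hg w _ hws (repByAlgSpWith_fpSnd f hus)

end GrothLib.AlgSt
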