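import Groth.Agent.Lib.AlgSt.DiagLFT
import Groth.Agent.Lib.FibCat.Inertia

/-!
# Inertia and the diagonals
-/

set_option backward.isDefEq.respectTransparency false
set_option backward.isDefEq.respectTransparency.types false

universe v₃ u₃ v₂ u₂ v u

open CategoryTheory CategoryTheory.Functor CategoryTheory.Limits AlgebraicGeometry

namespace GrothLib.FibCat

variable {C : Type u} [Category.{v} C] {𝒳 : BasedCategory.{v₂, u₂} C} {𝒴 : BasedCategory.{v₃, u₃} C}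

/-- The comparison of the inertia with the self-intersection of the diagonal. -/
def inertiaToFp (F : 𝒳 ⥤ᵇ 𝒴) :
    _root_.FibCat.inertia F ⥤ᵇ _root_.FibCat.fp (_root_.FibCat.diag F) (_root_.FibCat.diag F) :=
  _root_.FibCat.fpLift (_root_.FibCat.inertiaToBase F) (_root_.FibCat.inertiaToBase F)
    (natIsoOfComponents (fun x => Fp.isoMk (a := (_root_.FibCat.diag F).obj x.pt) (b := (_root_.FibCat.diag F).obj x.pt)
        x.aut (Iso.refl x.pt) (by
          rw [diag_iso]; change F.map x.aut.hom ≫ 𝟙 _ = 𝟙 _ ≫ F.map (𝟙 _); rw [x.map_aut, F.map_id]))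
      (fun x => (Fp.isHomLift_iff _ _).2 (Inertia.vertical x))
      (fun {x y} φ => Fp.hom_ext φ.comm.symm ((Category.comp_id φ.hom).trans (Category.id_comp φ.hom).symm)))

theorem isEquivOver_inertiaToFp (F : 𝒳 ⥤ᵇ 𝒴) : _root_.FibCat.IsEquivOver (inertiaToFp F) := by
  refine FFEssSurjOver.isEquivOver ⟨⟨fun {x y} ψ => ?_⟩, ⟨fun {x y φ ψ} h => ?_⟩, fun η => ?_⟩
  · let φ₁ : x.pt ⟶ y.pt := ψ.hom.fst
    let φ₂ : x.pt ⟶ y.pt := ψ.hom.snd
    have h2 : φ₁ ≫ 𝟙 y.pt = 𝟙 x.pt ≫ φ₂ := congrArg (fun t => t.hom.snd) (Fp.w ψ)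
    have h1 : φ₁ ≫ y.aut.hom = x.aut.hom ≫ φ₂ := congrArg (fun t => t.hom.fst) (Fp.w ψ)
    have h2' : φ₁ = φ₂ := ((Category.comp_id φ₁).symm.trans h2).trans (Category.id_comp φ₂)
    rw [← h2'] at h1
    exact ⟨⟨φ₁, h1.symm⟩, Fp.hom_ext rfl h2'⟩
  · exact _root_.FibCat.InertiaObj.hom_ext (congrArg (fun t => t.hom.fst) h)
  · let u : η.obj.fst ≅ η.obj.snd := Fp.isoFst η.obj.iso
    let v : η.obj.fst ≅ η.obj.snd := Fp.isoSnd η.obj.iso
    have hw : F.map u.hom = F.map v.hom :=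
      ((Category.comp_id (F.map u.hom)).symm.trans (Fp.w η.obj.iso.hom)).trans (Category.id_comp (F.map v.hom))
    have hα : F.map (u ≪≫ v.symm).hom = 𝟙 _ := by
      change F.map (u.hom ≫ v.inv) = 𝟙 _
      rw [F.map_comp, hw, ← F.map_comp, v.hom_inv_id, F.map_id]
    refine ⟨⟨η.obj.fst, u ≪≫ v.symm, hα⟩, Fp.isoMk (Iso.refl η.obj.fst) v ?_,
      (Fp.isHomLift_iff _ _).2 (IsHomLift.id rfl)⟩
    refine Fp.hom_ext ?_ ?_
    · change 𝟙 η.obj.fst ≫ u.hom = (u.hom ≫ v.inv) ≫ v.hom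
      simp
    · change 𝟙 η.obj.fst ≫ v.hom = 𝟙 η.obj.fst ≫ v.hom
      rfl

end GrothLib.FibCat

namespace GrothLib.AlgSt

open _root_.AlgSt GrothLib.FibCat

variable {S : Scheme.{u}} {𝒳 𝒴 : _root_.AlgSt.Cat S} {P : MorphismProperty (AlgSp.Sp S)}

theorem repByAlgSpWith_inertiaToBase_iff (f : 𝒳 ⥤ᵇ 𝒴) :
    RepByAlgSpWith P (_root_.FibCat.inertiaToBase f) ↔
      RepByAlgSpWith P (_root_.FibCat.fpFst (_root_.FibCat.diag f) (_root_.FibCat.diag f)) :=
  (repByAlgSpWith_iff_of_square (f' := _root_.FibCat.inertiaToBase f)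
    (f := _root_.FibCat.fpFst (_root_.FibCat.diag f) (_root_.FibCat.diag f)) (inertiaToFp f) (BasedFunctor.id 𝒳)
    (isEquivOver_inertiaToFp f) (IsEquivOver.refl 𝒳) (Iso.refl _)).symm

theorem repByAlgSpWith_inertiaNeutral_iff (f : 𝒳 ⥤ᵇ 𝒴) :
    RepByAlgSpWith P (_root_.FibCat.inertiaNeutral f) ↔
      RepByAlgSpWith P (_root_.FibCat.diag (_root_.FibCat.diag f)) := by
  refine (repByAlgSpWith_iff_of_square (f' := _root_.FibCat.inertiaNeutral f)
    (f := _root_.FibCat.diag (_root_.FibCat.diag f)) (BasedFunctor.id 𝒳) (inertiaToFp f)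
    (IsEquivOver.refl 𝒳) (isEquivOver_inertiaToFp f) ?_).symm
  exact natIsoOfComponents
    (fun x => Fp.isoMk (a := (inertiaToFp f).obj ((_root_.FibCat.inertiaNeutral f).obj x))
      (b := (_root_.FibCat.diag (_root_.FibCat.diag f)).obj x) (Iso.refl _) (Iso.refl _) (Fp.hom_ext rfl rfl))
    (fun x => (Fp.isHomLift_iff _ _).2 (IsHomLift.id rfl))
    (fun {a b} φ => Fp.hom_ext ((Category.comp_id _).trans (Category.id_comp _).symm)
      ((Category.comp_id _).trans (Category.id_comp _).symm))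

theorem inertiaNeutral_comp (f : 𝒳 ⥤ᵇ 𝒴) :
    BasedFunctor.comp (_root_.FibCat.inertiaNeutral f) (_root_.FibCat.inertiaToBase f) = BasedFunctor.id 𝒳 := rfl

/-- A section of the inertia has the property of the diagonal of the inertia. -/
theorem repByAlgSpWith_repWith_neutral (Q : MorphismProperty Scheme.{u}) [Q.IsMultiplicative]
    [Q.IsStableUnderBaseChange] (h𝒳 : IsAlgStack Scheme.fppfPrecoverage 𝒳)
    (h𝒴 : IsAlgStack Scheme.fppfPrecoverage 𝒴) (f : 𝒳 ⥤ᵇ 𝒴) {R : MorphismProperty (AlgSp.Sp S)}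
    (hR : ∀ ⦃X Y : AlgSp.Space S⦄ (a : X ⟶ Y), R a.hom → AlgSp.RepWith Q (pullback.diagonal a.hom))
    (h : RepByAlgSpWith R (_root_.FibCat.inertiaToBase f)) :
    RepByAlgSpWith (AlgSp.RepWith Q) (_root_.FibCat.inertiaNeutral f) := by
  have hff := isAlgStack_fp h𝒴.isStack h𝒴.diag h𝒳 h𝒳 f f
  have hDD := isAlgStack_fp hff.isStack hff.diag h𝒳 h𝒳 (_root_.FibCat.diag f) (_root_.FibCat.diag f)
  have hI := (isAlgStack_iff_of_isEquivOver (inertiaToFp f) (isEquivOver_inertiaToFp f)).2 hDD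
  have hP : CompStable (AlgSp.RepWith (S := S) Q) := ⟨isoInvariant_of_respectsIso,
    fun _ _ _ _ _ _ a b ha hb => GrothLib.AlgSp.repWith_comp ha hb, detectedBySchemes_repWith Q⟩
  exact hP.repByAlgSpWith_section (fun U => AlgSp.repWith_id Q U) hI h𝒳 (_root_.FibCat.inertiaToBase f)
    (_root_.FibCat.inertiaNeutral f) (Iso.refl _) (repByAlgSpWith_repWith_diag_of Q R hR h)

end GrothLib.AlgSt
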