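import Groth.Agent.Lib.AlgSt.OpenSub

/-!
# Etale maps of algebraic spaces composed with representable functors
-/

set_option backward.isDefEq.respectTransparency false
set_option backward.isDefEq.respectTransparency.types false

universe v₂ u₂ u

open CategoryTheory CategoryTheory.Limits AlgebraicGeometry Opposite Topology

namespace GrothLib.AlgSt

open _root_.AlgSt GrothLib.FibCat

variable {S : Scheme.{u}}

/-- Composition of an etale map of algebraic spaces with a representable functor. -/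
theorem repByAlgSpWith_etale_comp_space {𝒳 : BasedCategory.{v₂, u₂} (Over S)} {P : MorphismProperty (AlgSp.Sp S)}
    (hQ : ∀ ⦃F₂ F₁ G : AlgSp.Sp S⦄ (b : F₂ ⟶ F₁) (a : F₁ ⟶ G), AlgSp.RepWith @Etale b → P a → P (b ≫ a))
    {Z : AlgSp.Space S} {u : ofSp Z.obj ⥤ᵇ 𝒳} (hu : RepByAlgSpWith P u) {V : AlgSp.Space S}
    (p : V.obj ⟶ Z.obj) (pe : AlgSp.RepWith @Etale p) :
    RepByAlgSpWith P (BasedFunctor.comp (ofSpMap p) u) := by
  intro T y
  obtain ⟨F₁, e₁, he₁, ha⟩ := hu T y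
  let Φ := BasedFunctor.comp e₁ (_root_.FibCat.fpSnd y u)
  let g := spHom Φ
  let sq := IsPullback.of_hasPullback g p
  have hL : AlgSp.IsAlgSpace (pullback g p) :=
    GrothLib.AlgSp.isAlgSpace_pullback' Z.property F₁.property V.property g p
  let E := BasedFunctor.comp (spToFp sq.w) (BasedFunctor.comp
    (Fp.map (F' := _root_.FibCat.fpSnd y u) (G' := ofSpMap p) e₁ (BasedFunctor.id (ofSp V.obj))
      (BasedFunctor.id (ofSp Z.obj)) (isoOfSpHom Φ) (Iso.refl _))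
    (Fp.pasteComp (ofSpMap p) u y))
  have := IsEquivOver.full (IsEquivOver.refl (ofSp Z.obj))
  have := IsEquivOver.faithful (IsEquivOver.refl (ofSp Z.obj))
  refine ⟨⟨_, hL⟩, E, IsEquivOver.comp (isEquivOver_spToFp sq) (IsEquivOver.comp
    (Fp.isEquivOver_map _ _ _ _ _ he₁ (IsEquivOver.refl _)) (Fp.isEquivOver_pasteComp _ u y)), ?_⟩
  have h2 := spMapOfOver_comp (ofSpMap (pullback.fst g p)) (BasedFunctor.comp e₁ (_root_.FibCat.fpFst y u))
  rw [spHom_ofSpMap] at h2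
  exact h2.symm ▸ hQ (pullback.fst g p) _ (GrothLib.AlgSp.repWith_of_isPullback sq.flip pe) ha

/-- An open subspace of a smooth surjective chart maps smoothly onto an open substack. -/
theorem exists_openImm_image {𝒳 : _root_.AlgSt.Cat S} (h𝒳 : IsAlgStack Scheme.fppfPrecoverage 𝒳)
    (U : AlgSp.Space S) (u : ofSp U.obj ⥤ᵇ 𝒳) (hu : RepByAlgSpWith (AlgSp.LocP @Smooth) u)
    (V : AlgSp.Space S) (j : V ⟶ U) (hj : AlgSp.RepWith @IsOpenImmersion j.hom) :
    ∃ (𝒴 : _root_.AlgSt.Cat S) (i : 𝒴 ⥤ᵇ 𝒳) (g : ofSp V.obj ⥤ᵇ 𝒴),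
      IsAlgStack Scheme.fppfPrecoverage 𝒴 ∧ IsOpenImm i ∧
        RepByAlgSpWith (AlgSp.LocP @Smooth) g ∧ RepByAlgSpWith AlgSp.IsSurjectiveMor g ∧
          Nonempty (BasedFunctor.comp g i ≅ BasedFunctor.comp (ofSpMap j.hom) u) := by
  have je : AlgSp.RepWith @Etale j.hom := GrothLib.AlgSp.repWith_mono hj fun _ _ t h => by
    have : IsOpenImmersion t := h
    exact (inferInstance : Etale t)
  let f := BasedFunctor.comp (ofSpMap j.hom) u
  have hf := repByAlgSpWith_etale_comp_space (fun _ _ _ b a hb ha => locP_etale_comp b a hb ha) hu j.hom je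
  have gV : _root_.FibCat.IsFibGrpd (ofSp V.obj).p := isFibGrpd_ofSp V.obj
  have hW := isOpen_range_points_map gV h𝒳.isStack.1 isOpenOnPoints_smooth f hf
  let Q := openPred (Set.range (Points.map f))
  have hQ : ∀ w, Q (f.obj w) := fun w p a => by
    obtain ⟨z, φ, hφ⟩ := (isFibGrpd_ofSp V.obj).exists_lift (x := w)
      (eqToHom p.lies.symm ≫ 𝒳.p.map a ≫ eqToHom (f.w_obj w))
    let d : Over.mk p.str ⟶ (ofSp V.obj).p.obj w := eqToHom p.lies.symm ≫ 𝒳.p.map a ≫ eqToHom (f.w_obj w)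
    have := hφ
    have h1 : 𝒳.p.IsHomLift d (f.map φ) := inferInstance
    have h2 : 𝒳.p.IsHomLift d a := IsHomLift.of_fac' _ _ _ p.lies (f.w_obj w) (by simp [d])
    obtain ⟨i, -, -⟩ := @IsFibGrpd.exists_iso_of_lifts _ _ _ _ _ h𝒳.isStack.1 _ _ d _ _ _ (f.map φ) a h1 h2
    exact ⟨Points.mk ⟨p.K, p.str, z, IsHomLift.domain_eq (ofSp V.obj).p d φ⟩,
      Points.sound (rel_of_hom i.inv)⟩
  have hsub := isOpenSubstack_openPred h𝒳 hW
  let g := liftSub Q f hQ
  have := IsEquivOver.full (IsEquivOver.refl (ofSp V.obj))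
  have := IsEquivOver.faithful (IsEquivOver.refl (ofSp V.obj))
  have hg : RepByAlgSpWith (AlgSp.LocP @Smooth) g :=
    repByAlgSpWith_of_square (f := f) (BasedFunctor.id _) (subIncl 𝒳 Q) (IsEquivOver.refl _) (Iso.refl _) hf
  refine ⟨_, subIncl 𝒳 Q, g, hsub.2.1, hsub.2.2, hg,
    (isSurjective_iff_repByAlgSpWith gV hsub.2.1.isStack.1 g (repByAlgSp1_of_repByAlgSpWith hg)).1 fun q => ?_,
    ⟨Iso.refl _⟩⟩
  obtain ⟨z, hz⟩ := (range_points_map_subIncl_openPred h𝒳.isStack.1).subset ⟨q, rfl⟩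
  exact ⟨z, points_map_injective_of_full hsub.2.1.isStack.1 h𝒳.isStack.1 (subIncl 𝒳 Q)
    ((points_map_comp g _ z).symm.trans hz)⟩

end GrothLib.AlgSt
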