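import Groth.Agent.Lib.AlgSt.DiagLFT
import Groth.Agent.Lib.AlgSt.SpaceChart
import Groth.Prelude.Def_AlgSt3

/-!
# Properties of stacks local in the smooth topology
-/

set_option backward.isDefEq.respectTransparency false
set_option backward.isDefEq.respectTransparency.types false

universe u

open CategoryTheory CategoryTheory.Limits AlgebraicGeometry Opposite

namespace GrothLib.AlgSt

open _root_.AlgSt GrothLib.FibCat

variable {S : Scheme.{u}}

/-- A property of schemes local for the smooth topology. -/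
abbrev IsSmoothLocalScheme (P : Scheme.{u} → Prop) : Prop :=
  ∀ (U : Scheme.{u}) (R : Presieve U), R ∈ Scheme.precoverage @Smooth U →
    (P U ↔ ∀ ⦃V : Scheme.{u}⦄ (g : V ⟶ U), R g → P V)

variable {P : Scheme.{u} → Prop}

theorem IsSmoothLocalScheme.descend (hP : IsSmoothLocalScheme P) {V U : Scheme.{u}} (c : V ⟶ U)
    (h₁ : Smooth c) (h₂ : Surjective c) (h : P V) : P U :=
  (hP U (Presieve.singleton c) ((Scheme.singleton_mem_precoverage_iff _ c).2 ⟨h₂.surj, h₁⟩)).2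
    fun W g hg => by cases hg; exact h

theorem IsSmoothLocalScheme.ascend (hP : IsSmoothLocalScheme P) {V U : Scheme.{u}} (c : V ⟶ U)
    (h₁ : Smooth c) (h : P U) : P V := by
  let X : Option PUnit.{u + 1} → Scheme.{u} := fun i => Option.elim i U fun _ => V
  let f : ∀ i, X i ⟶ U := fun i => match i with
    | none => 𝟙 U
    | some _ => c
  have hR : Presieve.ofArrows X f ∈ Scheme.precoverage @Smooth U := by
    refine (Scheme.ofArrows_mem_precoverage_iff _).2 ⟨fun x => ⟨none, x, rfl⟩, fun i => ?_⟩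
    rcases i with _ | i
    · exact (inferInstance : Smooth (𝟙 U))
    · exact h₁
  exact (hP U _ hR).1 h c (Presieve.ofArrows.mk (Y := X) (f := f) (some PUnit.unit))

variable {𝒳 : _root_.AlgSt.Cat S}

/-- Two smooth charts are dominated by a scheme smooth over both, surjective over the first. -/
theorem exists_lift_chart_smooth {U W : Over S} (y : _root_.FibCat.overCat U ⥤ᵇ 𝒳)
    (w : _root_.FibCat.overCat W ⥤ᵇ 𝒳) (hy : RepByAlgSpWith (AlgSp.LocP @Smooth) y)
    (hw : RepByAlgSpWith (AlgSp.LocP @Smooth) w) (hws : RepByAlgSpWith AlgSp.IsSurjectiveMor w) :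
    ∃ (V : Over S) (c : V ⟶ U) (l : V ⟶ W), Smooth c.left ∧ Surjective c.left ∧ Smooth l.left := by
  obtain ⟨F, e, he, hsm, hsu⟩ := repByAlgSpWith_inf isoInvariant_locP hw hws U y
  have hsm' := HasRep.mem (hy W w) isoInvariant_locP F (BasedFunctor.comp e (Fp.symm y w))
    (IsEquivOver.comp he (Fp.isEquivOver_symm y w))
  obtain ⟨V, q, qe, qs⟩ := F.property.atlas
  let L := BasedFunctor.comp (ofOverCat V) (BasedFunctor.comp (ofSpMap q) e)
  have key : ∀ {T : Over S} (π : _root_.FibCat.fp y w ⥤ᵇ _root_.FibCat.overCat T),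
      (AlgSp.yon S).map (sliceHom (BasedFunctor.comp L π)) = q ≫ spMapOfOver (BasedFunctor.comp e π) := by
    intro T π
    rw [← spMapOfOver_overMap, ← spMapOfOver_congr (whiskerLeftIso (toOverCat V) (isoOverMap (BasedFunctor.comp L π)))]
    refine (spMapOfOver_congr (whiskerRightIso (toOverCatCompIso V)
      (BasedFunctor.comp (ofSpMap q) (BasedFunctor.comp e π)))).trans ?_
    refine (spMapOfOver_comp (ofSpMap q) (BasedFunctor.comp e π)).trans ?_
    rw [spHom_ofSpMap]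
  refine ⟨V, sliceHom (BasedFunctor.comp L (_root_.FibCat.fpFst y w)),
    sliceHom (BasedFunctor.comp L (_root_.FibCat.fpSnd y w)), ?_, ?_, ?_⟩
  · exact hsm q (𝟙 _) _ qe (AlgSp.repWith_id _ U) (by rw [Category.comp_id, key])
  · refine ⟨fun x => ?_⟩
    obtain ⟨z, hz⟩ := hsu (AlgSp.Points.schemeHomeo U x)
    obtain ⟨v, rfl⟩ := GrothLib.AlgSp.surjective_map_of_repWith qs z
    obtain ⟨v, rfl⟩ := (AlgSp.Points.schemeHomeo V).surjective v
    rw [← AlgSp.Points.map_comp, ← key, AlgSp.Points.map_yon_map_apply] at hz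
    exact ⟨v, (AlgSp.Points.schemeHomeo U).injective hz⟩
  · exact hsm' q (𝟙 _) _ qe (AlgSp.repWith_id _ W) (by rw [Category.comp_id, key]; rfl)

/-- `P` on one smooth surjective chart gives `P` on every smooth chart. -/
theorem smoothLocally_of_chart (hP : IsSmoothLocalScheme P) {W : Over S} (w : _root_.FibCat.overCat W ⥤ᵇ 𝒳)
    (hw : RepByAlgSpWith (AlgSp.LocP @Smooth) w) (hws : RepByAlgSpWith AlgSp.IsSurjectiveMor w)
    (h : P W.left) : SmoothLocally P 𝒳 := fun U y hy => by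
  obtain ⟨V, c, l, hc, hcs, hl⟩ := exists_lift_chart_smooth y w hy hw hws
  exact hP.descend c.left hc hcs (hP.ascend l.left hl h)

theorem smoothLocally_iff_exists_chart (hP : IsSmoothLocalScheme P) (h𝒳 : IsAlgStack Scheme.fppfPrecoverage 𝒳) :
    SmoothLocally P 𝒳 ↔ ∃ (U : Over S) (x : _root_.FibCat.overCat U ⥤ᵇ 𝒳),
      RepByAlgSpWith (AlgSp.LocP @Smooth) x ∧ RepByAlgSpWith AlgSp.IsSurjectiveMor x ∧ P U.left :=
  ⟨fun h => let ⟨U, x, hx, hs⟩ := h𝒳.atlas; ⟨U, x, hx, hs, h U x hx⟩,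
    fun ⟨_, x, hx, hs, h⟩ => smoothLocally_of_chart hP x hx hs h⟩

/-- A chart of a space chart of a stack. -/
theorem repByAlgSpWith_space_chart {U : AlgSp.Space S} {x : ofSp U.obj ⥤ᵇ 𝒳}
    (hx : RepByAlgSpWith (AlgSp.LocP @Smooth) x) {V : Over S} {p : (AlgSp.yon S).obj V ⟶ U.obj}
    (pe : AlgSp.RepWith @Etale p) (ps : AlgSp.RepWith @Surjective p) :
    ∃ v : _root_.FibCat.overCat V ⥤ᵇ 𝒳, RepByAlgSpWith (AlgSp.LocP @Smooth) v ∧
      (RepByAlgSpWith AlgSp.IsSurjectiveMor x → RepByAlgSpWith AlgSp.IsSurjectiveMor v) :=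
  ⟨_, repByAlgSpWith_comp_chart (fun _ _ _ _ _ b a hb _ ha => locP_etale_comp b a hb ha) hx
      (BasedFunctor.id _) (IsEquivOver.refl _) pe ps,
    fun hs => repByAlgSpWith_comp_chart (fun _ _ _ _ _ b a _ hb ha => isSurjectiveMor_etale_comp b a hb ha) hs
      (BasedFunctor.id _) (IsEquivOver.refl _) pe ps⟩

theorem repByAlgSpWith_toOverCat_comp {R : MorphismProperty (AlgSp.Sp S)} {U : Over S}
    {x : _root_.FibCat.overCat U ⥤ᵇ 𝒳} (hx : RepByAlgSpWith R x) :
    RepByAlgSpWith R (BasedFunctor.comp (toOverCat U) x) :=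
  have := IsEquivOver.full (IsEquivOver.refl 𝒳)
  have := IsEquivOver.faithful (IsEquivOver.refl 𝒳)
  repByAlgSpWith_of_square (toOverCat U) (BasedFunctor.id 𝒳) (isEquivOver_toOverCat U) (Iso.refl _) hx

theorem etaleLocally_yon_iff (hP : IsSmoothLocalScheme P) (U : Over S) :
    AlgSp.EtaleLocally P ((AlgSp.yon S).obj U) ↔ P U.left := by
  refine ⟨fun ⟨V, p, pe, ps, h⟩ => ?_, fun h => ⟨U, 𝟙 _, AlgSp.repWith_id _ U, AlgSp.repWith_id _ U, h⟩⟩
  obtain ⟨c, rfl⟩ := (AlgSp.yon S).map_surjective p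
  have : Etale c.left := (AlgSp.repWith_yon_map_iff _ _).1 pe
  exact hP.descend c.left inferInstance ((AlgSp.repWith_yon_map_iff _ _).1 ps) h

theorem smoothLocally_iff_forall_space (hP : IsSmoothLocalScheme P) :
    SmoothLocally P 𝒳 ↔ ∀ (U : AlgSp.Space S) (x : ofSp U.obj ⥤ᵇ 𝒳),
      RepByAlgSpWith (AlgSp.LocP @Smooth) x → AlgSp.EtaleLocally P U.obj := by
  refine ⟨fun h U x hx => ?_, fun h U x hx => ?_⟩
  · obtain ⟨V, p, pe, ps⟩ := U.property.atlas
    obtain ⟨v, hv, -⟩ := repByAlgSpWith_space_chart hx pe ps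
    exact ⟨V, p, pe, ps, h V v hv⟩
  · exact (etaleLocally_yon_iff hP U).1
      (h ⟨_, AlgSp.IsAlgSpace.yon_obj U⟩ (BasedFunctor.comp (toOverCat U) x) (repByAlgSpWith_toOverCat_comp hx))

theorem smoothLocally_iff_exists_space (hP : IsSmoothLocalScheme P) (h𝒳 : IsAlgStack Scheme.fppfPrecoverage 𝒳) :
    SmoothLocally P 𝒳 ↔ ∃ (U : AlgSp.Space S) (x : ofSp U.obj ⥤ᵇ 𝒳),
      RepByAlgSpWith (AlgSp.LocP @Smooth) x ∧ RepByAlgSpWith AlgSp.IsSurjectiveMor x ∧
        AlgSp.EtaleLocally P U.obj := by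
  refine ⟨fun h => ?_, fun ⟨U, x, hx, hs, V, p, pe, ps, hV⟩ => ?_⟩
  · obtain ⟨U, x, hx, hs⟩ := h𝒳.atlas
    exact ⟨⟨_, AlgSp.IsAlgSpace.yon_obj U⟩, BasedFunctor.comp (toOverCat U) x, repByAlgSpWith_toOverCat_comp hx,
      repByAlgSpWith_toOverCat_comp hs, (etaleLocally_yon_iff hP U).2 (h U x hx)⟩
  · obtain ⟨v, hv, hvs⟩ := repByAlgSpWith_space_chart hx pe ps
    exact smoothLocally_of_chart hP v hv (hvs hs) hV

theorem smoothLocally_ofSp (hP : IsSmoothLocalScheme P) (X : AlgSp.Space S) :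
    SmoothLocally P (ofSp X.obj) ↔ AlgSp.EtaleLocally P X.obj :=
  ⟨fun h => (smoothLocally_iff_forall_space hP).1 h X _ (repByAlgSpWith_id locP_smooth_id _),
    fun h => (smoothLocally_iff_exists_space hP (isDM_of_repByAlgSp (repByAlgSp_ofSp X.property)).1).2
      ⟨X, _, repByAlgSpWith_id locP_smooth_id _,
        repByAlgSpWith_id (fun _ => isSurjectiveMor_id _) _, h⟩⟩

end GrothLib.AlgSt
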