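import Groth.Agent.Lib.AlgSt.PointsMor
import Groth.Agent.Lib.AlgSp.LocPPoints

/-!
# The topological space of points of an algebraic stack
-/

set_option backward.isDefEq.respectTransparency false
set_option backward.isDefEq.respectTransparency.types false

universe v₂ u₂ v₃ u₃ u

open CategoryTheory CategoryTheory.Limits AlgebraicGeometry Opposite Topology

namespace GrothLib.AlgSt

open _root_.AlgSt GrothLib.FibCat

variable {S : Scheme.{u}}

section Basic

variable {𝒳 : BasedCategory.{v₂, u₂} (Over S)} {𝒴 : BasedCategory.{v₃, u₃} (Over S)}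

theorem points_map_congr {f g : 𝒳 ⥤ᵇ 𝒴} (α : f ≅ g) (x : Points 𝒳) : Points.map f x = Points.map g x := by
  obtain ⟨p, rfl⟩ := Points.mk_surjective x
  exact Points.sound (rel_of_hom (r := p.map f) (p := p.map g) (α.hom.toNatTrans.app p.obj))

/-- The point of the scheme `T` of a point of the slice over `T`. -/
noncomputable def pointOf {T : Over S} (q : Points (_root_.FibCat.overCat T)) : ↥T.left :=
  AlgSp.Points.toScheme T (toSpPoints (Points.map (ofOverCat T) q))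

theorem pointOf_bijective (T : Over S) : Function.Bijective (pointOf (T := T)) :=
  (AlgSp.Points.schemeEquiv T).symm.bijective.comp (toSpPoints_bijective.comp
    (points_map_bijective_of_isEquivOver (isFibGrpd_overCat T) _ (isEquivOver_ofOverCat T)))

theorem pointOf_ofChart_id {T : Over S} (t : ↥T.left) :
    pointOf (Points.ofChart (BasedFunctor.id (_root_.FibCat.overCat T)) t) = t := by
  change (𝟙 _ ≫ T.left.fromSpecResidueField t) (IsLocalRing.closedPoint _) = t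
  rw [Category.id_comp]
  exact Scheme.fromSpecResidueField_apply _ _

theorem ofChart_eq_map {T : Over S} (x : _root_.FibCat.overCat T ⥤ᵇ 𝒳) (t : ↥T.left) :
    Points.ofChart x t = Points.map x (Points.ofChart (BasedFunctor.id (_root_.FibCat.overCat T)) t) := rfl

theorem map_eq_ofChart_pointOf {T : Over S} (x : _root_.FibCat.overCat T ⥤ᵇ 𝒳)
    (q : Points (_root_.FibCat.overCat T)) : Points.map x q = Points.ofChart x (pointOf q) := by
  rw [ofChart_eq_map]
  refine congrArg _ ((pointOf_bijective T).1 ?_)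
  rw [pointOf_ofChart_id]

theorem pointOf_map {F : AlgSp.Sp S} {T : Over S} (Φ : ofSp F ⥤ᵇ _root_.FibCat.overCat T) (r : Points (ofSp F)) :
    pointOf (Points.map Φ r) = AlgSp.Points.toScheme T (AlgSp.Points.map (spMapOfOver Φ) (toSpPoints r)) := by
  rw [← toSpPoints_map, spMapOfOver_eq, ← points_map_congr (isoOfSpHom _), points_map_comp]
  rfl

theorem ofChart_comp {T : Over S} (x : _root_.FibCat.overCat T ⥤ᵇ 𝒳) (f : 𝒳 ⥤ᵇ 𝒴) (t : ↥T.left) :
    Points.ofChart (BasedFunctor.comp x f) t = Points.map f (Points.ofChart x t) := rfl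

theorem ofChart_congr {T : Over S} {x x' : _root_.FibCat.overCat T ⥤ᵇ 𝒳} (α : x ≅ x') (t : ↥T.left) :
    Points.ofChart x t = Points.ofChart x' t := by
  rw [ofChart_eq_map, ofChart_eq_map x', points_map_congr α]

theorem ofChart_overMap {U T : Over S} (h : U ⟶ T) (x : _root_.FibCat.overCat T ⥤ᵇ 𝒳) (t : ↥U.left) :
    Points.ofChart (BasedFunctor.comp (_root_.AlgSt.overMap h) x) t = Points.ofChart x (h.left t) := by
  rw [ofChart_comp, map_eq_ofChart_pointOf]
  congr 1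
  change (𝟙 _ ≫ U.left.fromSpecResidueField t ≫ h.left) (IsLocalRing.closedPoint _) = _
  rw [Category.id_comp, Scheme.Hom.comp_apply, Scheme.fromSpecResidueField_apply]

end Basic

section Charts

variable {𝒳 : BasedCategory.{v₂, u₂} (Over S)}

/-- The preimage in a chart of the image of a subset of a representable chart. -/
theorem exists_chart_square (h𝒳 : _root_.FibCat.IsFibGrpd 𝒳.p) {P : MorphismProperty (AlgSp.Sp S)} {T U : Over S}
    (y : _root_.FibCat.overCat T ⥤ᵇ 𝒳) (x : _root_.FibCat.overCat U ⥤ᵇ 𝒳) (hx : RepByAlgSpWith P x) :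
    ∃ (F : AlgSp.Space S) (a : F.obj ⟶ (AlgSp.yon S).obj T) (b : F.obj ⟶ (AlgSp.yon S).obj U), P a ∧
      ∀ W : Set ↥U.left, Points.ofChart y ⁻¹' (Points.ofChart x '' W) =
        AlgSp.Points.toScheme T '' (AlgSp.Points.map a '' (AlgSp.Points.map b ⁻¹' (AlgSp.Points.toScheme U ⁻¹' W))) := by
  obtain ⟨F, e, he, ha⟩ := hx T y
  have gT := isFibGrpd_overCat T
  have gU := isFibGrpd_overCat U
  refine ⟨F, _, spMapOfOver (BasedFunctor.comp e (_root_.FibCat.fpSnd y x)), ha, fun W => Set.ext fun t => ⟨?_, ?_⟩⟩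
  · rintro ⟨u, hu, hut⟩
    obtain ⟨w, hw1, hw2⟩ := exists_points_fp gU gT h𝒳 x y
      (Points.ofChart (BasedFunctor.id _) t) (Points.ofChart (BasedFunctor.id _) u)
      ((ofChart_eq_map y t).symm.trans (hut.symm.trans (ofChart_eq_map x u)))
    obtain ⟨r, rfl⟩ := (points_map_bijective_of_isEquivOver (isFibGrpd_ofSp F.obj) e he).2 w
    rw [← points_map_comp] at hw1 hw2
    refine ⟨_, ⟨toSpPoints r, ?_, rfl⟩, ?_⟩
    · rw [Set.mem_preimage, Set.mem_preimage, ← pointOf_map, hw2, pointOf_ofChart_id]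
      exact hu
    · rw [← pointOf_map, hw1, pointOf_ofChart_id]
  · rintro ⟨_, ⟨z, hz, rfl⟩, rfl⟩
    obtain ⟨r, rfl⟩ := toSpPoints_bijective.2 z
    rw [Set.mem_preimage, Set.mem_preimage, ← pointOf_map] at hz
    refine ⟨_, hz, ?_⟩
    rw [← pointOf_map, ← map_eq_ofChart_pointOf, ← map_eq_ofChart_pointOf, ← points_map_comp, ← points_map_comp]
    exact (points_map_congr (whiskerLeftIso e (_root_.FibCat.fpIso y x)) r).symm

/-- Morphisms of algebraic spaces with the property are open on points. -/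
def IsOpenOnPoints (P : MorphismProperty (AlgSp.Sp S)) : Prop :=
  ∀ ⦃F G : AlgSp.Sp S⦄, AlgSp.IsAlgSpace F → AlgSp.IsAlgSpace G → ∀ (a : F ⟶ G), P a →
    IsOpenMap (AlgSp.Points.map a)

theorem isOpenOnPoints_smooth : IsOpenOnPoints (AlgSp.LocP (S := S) @Smooth) := fun _ _ hF hG _ ha =>
  GrothLib.AlgSp.isOpenMap_map_of_locP (fun _ _ t ht => by
    have : Smooth t := ht
    exact t.isOpenMap) hF hG ha

/-- The preimage in any chart of the image of an open subset of an open chart is open. -/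
theorem isOpen_preimage_image (h𝒳 : _root_.FibCat.IsFibGrpd 𝒳.p) {P : MorphismProperty (AlgSp.Sp S)}
    (hP : IsOpenOnPoints P) {T U : Over S}
    (y : _root_.FibCat.overCat T ⥤ᵇ 𝒳) {x : _root_.FibCat.overCat U ⥤ᵇ 𝒳}
    (hx : RepByAlgSpWith P x) {W : Set ↥U.left} (hW : IsOpen W) :
    IsOpen (Points.ofChart y ⁻¹' (Points.ofChart x '' W)) := by
  obtain ⟨F, a, b, ha, h⟩ := exists_chart_square h𝒳 y x hx
  rw [h]
  have hWo : IsOpen (AlgSp.Points.toScheme U ⁻¹' W) := AlgSp.Points.isOpen_iff.2 fun R g => by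
    obtain ⟨φ, rfl⟩ := (AlgSp.yon S).map_surjective g
    rw [← Set.preimage_comp, show AlgSp.Points.toScheme U ∘ AlgSp.Points.ofPt ((AlgSp.yon S).map φ) =
      fun r => φ.left r from funext (AlgSp.Points.toScheme_ofPt φ)]
    exact hW.preimage φ.left.continuous
  have hao := hP F.property (AlgSp.IsAlgSpace.yon_obj T) a ha _ (hWo.preimage (AlgSp.Points.continuous_map b))
  rw [show AlgSp.Points.toScheme T = (AlgSp.Points.schemeEquiv T).symm from rfl, Equiv.image_symm_eq_preimage]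
  exact hao.preimage (AlgSp.Points.continuous_ofPt _)

theorem isOpenMap_ofChart' (h𝒳 : _root_.FibCat.IsFibGrpd 𝒳.p) {P : MorphismProperty (AlgSp.Sp S)}
    (hP : IsOpenOnPoints P) {U : Over S} {x : _root_.FibCat.overCat U ⥤ᵇ 𝒳}
    (hx : RepByAlgSpWith P x) : IsOpenMap (Points.ofChart x) :=
  fun _ hW => Points.isOpen_iff.2 fun _ y _ => isOpen_preimage_image h𝒳 hP y hx hW

theorem isOpenMap_ofChart (h𝒳 : _root_.FibCat.IsFibGrpd 𝒳.p) {U : Over S} {x : _root_.FibCat.overCat U ⥤ᵇ 𝒳}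
    (hx : RepByAlgSpWith (AlgSp.LocP @Smooth) x) : IsOpenMap (Points.ofChart x) :=
  isOpenMap_ofChart' h𝒳 isOpenOnPoints_smooth hx

theorem surjective_ofChart (h𝒳 : _root_.FibCat.IsFibGrpd 𝒳.p) {U : Over S} {x : _root_.FibCat.overCat U ⥤ᵇ 𝒳}
    (hx : RepByAlgSpWith AlgSp.IsSurjectiveMor x) : Function.Surjective (Points.ofChart x) := fun p => by
  obtain ⟨p, rfl⟩ := Points.mk_surjective p
  obtain ⟨y, ey, -⟩ := Yon.exists_functor h𝒳 p.obj p.lies
  obtain ⟨F, a, b, ha, h⟩ := exists_chart_square h𝒳 y x hx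
  obtain ⟨z, hz⟩ := ha (AlgSp.Points.schemeEquiv _ (IsLocalRing.closedPoint p.K))
  have ht : (IsLocalRing.closedPoint p.K : ↥(Over.mk p.str).left) ∈
      Points.ofChart y ⁻¹' (Points.ofChart x '' Set.univ) := by
    rw [h]
    exact ⟨_, ⟨z, trivial, rfl⟩, by rw [hz]; exact (AlgSp.Points.schemeEquiv _).left_inv _⟩
  obtain ⟨u, -, hu⟩ := ht
  refine ⟨u, hu.trans ?_⟩
  rw [ofChart_eq_map, show IsLocalRing.closedPoint p.K = pointOf (Points.mk (⟨p.K, p.str, Yon.idObj (Over.mk p.str), rfl⟩ :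
    FPt (_root_.FibCat.overCat (Over.mk p.str)))) from Subsingleton.elim _ _, ← ofChart_eq_map,
    ← map_eq_ofChart_pointOf]
  exact Points.sound (rel_of_hom ey.hom)

/-- The map of points of a chart is continuous. -/
theorem continuous_ofChart (h𝒳 : _root_.FibCat.IsFibGrpd 𝒳.p) (hat : HasAtlas (AlgSp.LocP @Smooth) 𝒳) {T : Over S}
    (y : _root_.FibCat.overCat T ⥤ᵇ 𝒳) : Continuous (Points.ofChart y) := continuous_def.2 fun W hW => by
  obtain ⟨U, x, hs, hj⟩ := hat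
  rw [← (surjective_ofChart h𝒳 hj).image_preimage W]
  exact isOpen_preimage_image h𝒳 isOpenOnPoints_smooth y hs (Points.isOpen_iff.1 hW U x hs)

theorem isOpenQuotientMap_ofChart (h𝒳 : _root_.FibCat.IsFibGrpd 𝒳.p) {U : Over S} {x : _root_.FibCat.overCat U ⥤ᵇ 𝒳}
    (hs : RepByAlgSpWith (AlgSp.LocP @Smooth) x) (hj : RepByAlgSpWith AlgSp.IsSurjectiveMor x) :
    IsOpenQuotientMap (Points.ofChart x) :=
  ⟨surjective_ofChart h𝒳 hj, continuous_ofChart h𝒳 ⟨U, x, hs, hj⟩ x, isOpenMap_ofChart h𝒳 hs⟩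

theorem compactSpace_points_of_isQuasiCompact (h𝒳 : _root_.FibCat.IsFibGrpd 𝒳.p) (h : IsQuasiCompact 𝒳) :
    CompactSpace (Points 𝒳) := by
  obtain ⟨U, x, hU, hs, hj⟩ := h
  have := hU
  exact (isOpenQuotientMap_ofChart h𝒳 hs hj).surjective.compactSpace
    (isOpenQuotientMap_ofChart h𝒳 hs hj).continuous

end Charts

section Mor

variable {𝒳 𝒴 : _root_.AlgSt.Cat S}

theorem continuous_points_map (h𝒳 : IsAlgStack Scheme.fppfPrecoverage 𝒳)
    (h𝒴 : IsAlgStack Scheme.fppfPrecoverage 𝒴) (f : 𝒳 ⥤ᵇ 𝒴) : Continuous (Points.map f) := by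
  obtain ⟨U, x, hs, hj⟩ := h𝒳.atlas
  rw [(isOpenQuotientMap_ofChart h𝒳.isStack.1 hs hj).isQuotientMap.continuous_iff]
  exact continuous_ofChart h𝒴.isStack.1 h𝒴.atlas (BasedFunctor.comp x f)

/-- For representable functors surjectivity on points is surjectivity of all base changes. -/
theorem isSurjective_iff_repByAlgSpWith (h𝒳 : _root_.FibCat.IsFibGrpd 𝒳.p) (h𝒴 : _root_.FibCat.IsFibGrpd 𝒴.p)
    (f : 𝒳 ⥤ᵇ 𝒴) (hf : RepByAlgSp1 f) :
    IsSurjective f ↔ RepByAlgSpWith AlgSp.IsSurjectiveMor f := by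
  refine ⟨fun hs U y => ?_, fun h p => ?_⟩
  · obtain ⟨F, e, he⟩ := hf U y
    refine ⟨F, e, he, fun x => ?_⟩
    obtain ⟨q, hq⟩ := isSurjective_fpFst h𝒳 (isFibGrpd_overCat U) h𝒴 f y hs
      (Points.ofChart (BasedFunctor.id _) (AlgSp.Points.toScheme U x))
    obtain ⟨r, rfl⟩ := (points_map_bijective_of_isEquivOver (isFibGrpd_ofSp F.obj) e he).2 q
    refine ⟨toSpPoints r, (AlgSp.Points.schemeEquiv U).symm.injective ?_⟩
    rw [← points_map_comp] at hq
    change AlgSp.Points.toScheme U _ = _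
    rw [← pointOf_map, hq, pointOf_ofChart_id]
    rfl
  · obtain ⟨p, rfl⟩ := Points.mk_surjective p
    obtain ⟨y, ey, -⟩ := Yon.exists_functor h𝒴 p.obj p.lies
    obtain ⟨F, e, he, hs⟩ := h _ y
    obtain ⟨z, hz⟩ := hs (AlgSp.Points.schemeEquiv _ (IsLocalRing.closedPoint p.K))
    obtain ⟨r, rfl⟩ := toSpPoints_bijective.2 z
    refine ⟨Points.map (BasedFunctor.comp e (_root_.FibCat.fpSnd y f)) r, ?_⟩
    rw [← points_map_comp]
    refine (points_map_congr (whiskerLeftIso e (_root_.FibCat.fpIso y f)) r).symm.trans ?_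
    have hq : Points.map (BasedFunctor.comp e (_root_.FibCat.fpFst y f)) r =
        Points.mk ⟨p.K, p.str, Over.mk (𝟙 (Over.mk p.str)), rfl⟩ := by
      refine (pointOf_bijective _).1 ((pointOf_map _ r).trans ?_)
      rw [hz]
      exact @Subsingleton.elim _ (inferInstanceAs (Subsingleton (PrimeSpectrum p.K))) _ _
    change Points.map (BasedFunctor.comp (BasedFunctor.comp e (_root_.FibCat.fpFst y f)) y) r = _
    rw [points_map_comp, hq]
    exact Points.sound (rel_of_hom ey.hom)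

end Mor

section EtaleChart

variable {𝒳 : BasedCategory.{v₂, u₂} (Over S)} {𝒴 : BasedCategory.{v₃, u₃} (Over S)}
  {P : MorphismProperty (AlgSp.Sp S)}

/-- Composition of an etale map of schemes with a representable chart. -/
theorem repByAlgSpWith_etale_comp_chart
    (hQ : ∀ ⦃F₂ F₁ G : AlgSp.Sp S⦄ (b : F₂ ⟶ F₁) (a : F₁ ⟶ G), AlgSp.RepWith @Etale b → P a → P (b ≫ a))
    {U V : Over S} (g : V ⟶ U) [Etale g.left] {x : _root_.FibCat.overCat U ⥤ᵇ 𝒳} (hx : RepByAlgSpWith P x) :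
    RepByAlgSpWith P (BasedFunctor.comp (_root_.AlgSt.overMap g) x) := by
  have := IsEquivOver.full (IsEquivOver.refl 𝒳)
  have := IsEquivOver.faithful (IsEquivOver.refl 𝒳)
  let p : (AlgSp.yon S).obj V ⟶ (AlgSp.yon S).obj U := (AlgSp.yon S).map g
  have pe : AlgSp.RepWith @Etale p := (AlgSp.repWith_yon_map_iff _ _).2 (inferInstance : Etale g.left)
  refine repByAlgSpWith_of_square (f := BasedFunctor.comp (BasedFunctor.comp (ofSpMap p) (toOverCat U)) x)
    (ofOverCat V) (BasedFunctor.id 𝒳) (isEquivOver_ofOverCat V)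
    (whiskerRightIso (natIsoOfComponents (fun a => Iso.refl _) (fun a => IsHomLift.id rfl)
      (fun {a b} f => (Category.comp_id _).trans (Category.id_comp _).symm)) x) (fun T y => ?_)
  obtain ⟨F₁, e₁, he₁, ha⟩ := hx T y
  have hZ := isEquivOver_toOverCat U
  obtain ⟨eZ', hZ', ⟨η⟩, ⟨ε⟩⟩ := IsEquivOver.symm hZ
  have := IsEquivOver.full hZ
  have := IsEquivOver.faithful hZ
  let Φ := BasedFunctor.comp (BasedFunctor.comp e₁ (_root_.FibCat.fpSnd y x)) eZ'
  let φ := spHom Φ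
  let iF : BasedFunctor.comp e₁ (_root_.FibCat.fpSnd y x) ≅ BasedFunctor.comp (ofSpMap φ) (toOverCat U) :=
    (whiskerLeftIso (BasedFunctor.comp e₁ (_root_.FibCat.fpSnd y x)) ε).symm ≪≫
      whiskerRightIso (isoOfSpHom Φ) (toOverCat U)
  let sq := IsPullback.of_hasPullback φ p
  have hL : AlgSp.IsAlgSpace (pullback φ p) :=
    GrothLib.AlgSp.isAlgSpace_pullback' (AlgSp.IsAlgSpace.yon_obj U) F₁.property (AlgSp.IsAlgSpace.yon_obj V) φ p
  let E := BasedFunctor.comp (spToFp sq.w) (BasedFunctor.comp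
    (Fp.map (F' := _root_.FibCat.fpSnd y x) (G' := BasedFunctor.comp (ofSpMap p) (toOverCat U)) e₁
      (BasedFunctor.id (ofSch V)) (toOverCat U) iF (Iso.refl _))
    (Fp.pasteComp (BasedFunctor.comp (ofSpMap p) (toOverCat U)) x y))
  refine ⟨⟨_, hL⟩, E, IsEquivOver.comp (isEquivOver_spToFp sq) (IsEquivOver.comp
    (Fp.isEquivOver_map _ _ _ _ _ he₁ (IsEquivOver.refl _)) (Fp.isEquivOver_pasteComp _ x y)), ?_⟩
  have h2 := spMapOfOver_comp (ofSpMap (pullback.fst φ p)) (BasedFunctor.comp e₁ (_root_.FibCat.fpFst y x))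
  rw [spHom_ofSpMap] at h2
  exact h2.symm ▸ hQ (pullback.fst φ p) _ (GrothLib.AlgSp.repWith_of_isPullback sq.flip pe) ha

end EtaleChart

section Compact

variable {𝒳 𝒰 : _root_.AlgSt.Cat S}

/-- An algebraic stack with quasi-compact space of points has an affine smooth surjective chart. -/
theorem isQuasiCompact_of_compactSpace (h𝒳 : IsAlgStack Scheme.fppfPrecoverage 𝒳) (h : CompactSpace (Points 𝒳)) :
    IsQuasiCompact 𝒳 := by
  obtain ⟨U, x, hs, hj⟩ := h𝒳.atlas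
  have hq := isOpenQuotientMap_ofChart h𝒳.isStack.1 hs hj
  obtain ⟨t, ht⟩ := isCompact_univ.elim_finite_subcover
    (fun V : U.left.affineOpens => Points.ofChart x '' (V.1 : Set ↥U.left))
    (fun V => hq.isOpenMap _ V.1.2) (fun p _ => by
      obtain ⟨u, rfl⟩ := hq.surjective p
      obtain ⟨_, ⟨V, hV, rfl⟩, hu, -⟩ :=
        U.left.isBasis_affineOpens.exists_subset_of_mem_open (Set.mem_univ u) isOpen_univ
      exact Set.mem_iUnion.2 ⟨⟨V, hV⟩, u, hu, rfl⟩)
  have : ∀ i : t, IsAffine (i.1.1 : Scheme.{u}) := fun i => i.1.2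
  let g : (∐ fun i : t => (i.1.1 : Scheme.{u})) ⟶ U.left := Sigma.desc fun i => i.1.1.ι
  have : Etale g := IsZariskiLocalAtSource.sigmaDesc fun i => inferInstance
  let g' : Over.mk (g ≫ U.hom) ⟶ U := Over.homMk g rfl
  have : Etale g'.left := ‹_›
  have hsm := repByAlgSpWith_etale_comp_chart (fun _ _ _ b a hb ha => locP_etale_comp b a hb ha) g' hs
  refine ⟨_, _, inferInstanceAs (IsAffine (∐ fun i : t => (i.1.1 : Scheme.{u}))), hsm,
    (isSurjective_iff_repByAlgSpWith (𝒳 := _root_.FibCat.overCat (Over.mk (g ≫ U.hom))) (isFibGrpd_overCat _)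
      h𝒳.isStack.1 _ (repByAlgSp1_of_repByAlgSpWith hsm)).1 fun p => ?_⟩
  obtain ⟨V, hV, v, hv, rfl⟩ := Set.mem_iUnion₂.1 (ht (Set.mem_univ p))
  refine ⟨Points.ofChart (BasedFunctor.id _) (Sigma.ι (fun i : t => (i.1.1 : Scheme.{u})) ⟨V, hV⟩ ⟨v, hv⟩), ?_⟩
  rw [← ofChart_eq_map, ofChart_overMap]
  congr 1
  change (Sigma.ι (fun i : t => (i.1.1 : Scheme.{u})) ⟨V, hV⟩ ≫ g) ⟨v, hv⟩ = v
  rw [Sigma.ι_desc]
  rfl

theorem isQuasiCompact_iff_compactSpace (h𝒳 : IsAlgStack Scheme.fppfPrecoverage 𝒳) :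
    IsQuasiCompact 𝒳 ↔ CompactSpace (Points 𝒳) :=
  ⟨compactSpace_points_of_isQuasiCompact h𝒳.isStack.1, isQuasiCompact_of_compactSpace h𝒳⟩

theorem isQuasiCompact_of_surjective_continuous (h𝒳 : IsAlgStack Scheme.fppfPrecoverage 𝒳)
    {𝒲 : BasedCategory.{v₂, u₂} (Over S)} [CompactSpace (Points 𝒲)] (f : 𝒲 ⥤ᵇ 𝒳) (hf : Continuous (Points.map f))
    (hs : IsSurjective f) : IsQuasiCompact 𝒳 :=
  isQuasiCompact_of_compactSpace h𝒳 (Function.Surjective.compactSpace (f := Points.map f) hf hs)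

/-- Flat morphisms locally of finite presentation are open on points. -/
theorem isOpenOnPoints_flat_lfp :
    IsOpenOnPoints (AlgSp.LocP (S := S) (@Flat ⊓ @LocallyOfFinitePresentation)) := fun _ _ hF hG _ ha =>
  GrothLib.AlgSp.isOpenMap_map_of_locP (fun _ _ t ht => by
    have : Flat t := ht.1
    have : LocallyOfFinitePresentation t := ht.2
    exact t.isOpenMap) hF hG ha

/-- Openness on points is read on the composite with an atlas. -/
theorem isOpenMap_points_map {P : MorphismProperty (AlgSp.Sp S)} (hP : IsOpenOnPoints P)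
    (h𝒰 : _root_.FibCat.IsFibGrpd 𝒰.p) (h𝒳 : _root_.FibCat.IsFibGrpd 𝒳.p) (f : 𝒰 ⥤ᵇ 𝒳) {V : Over S}
    {x : _root_.FibCat.overCat V ⥤ᵇ 𝒰} (hs : RepByAlgSpWith (AlgSp.LocP @Smooth) x)
    (hj : RepByAlgSpWith AlgSp.IsSurjectiveMor x) (hf : RepByAlgSpWith P (BasedFunctor.comp x f)) :
    IsOpenMap (Points.map f) := fun W hW => by
  rw [← (surjective_ofChart h𝒰 hj).image_preimage W, ← Set.image_comp]
  exact isOpenMap_ofChart' h𝒳 hP hf _ (Points.isOpen_iff.1 hW V x hs)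

theorem isOpenMap_points_map_of_space {P : MorphismProperty (AlgSp.Sp S)} (hP : IsOpenOnPoints P)
    (hQ : ∀ ⦃F₂ F₁ G : AlgSp.Sp S⦄ (b : F₂ ⟶ F₁) (a : F₁ ⟶ G), AlgSp.RepWith @Etale b → P a → P (b ≫ a))
    (h𝒳 : _root_.FibCat.IsFibGrpd 𝒳.p) (U : AlgSp.Space S) (u : ofSp U.obj ⥤ᵇ 𝒳) (hu : RepByAlgSpWith P u) :
    IsOpenMap (Points.map u) := by
  obtain ⟨V, p, pe, ps⟩ := U.property.atlas
  have hid := repByAlgSpWith_id (P := AlgSp.LocP (S := S) @Smooth) locP_smooth_id (ofSp U.obj)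
  have hjd := repByAlgSpWith_id (P := AlgSp.IsSurjectiveMor (S := S)) (fun U => isSurjectiveMor_id _) (ofSp U.obj)
  exact isOpenMap_points_map hP (isFibGrpd_ofSp U.obj) h𝒳 u
    (repByAlgSpWith_comp_chart (fun _ _ _ _ _ b a hb _ ha => locP_etale_comp b a hb ha) hid (BasedFunctor.id _)
      (IsEquivOver.refl _) pe ps)
    (repByAlgSpWith_comp_chart (fun _ _ _ _ _ b a _ hb ha => isSurjectiveMor_etale_comp b a hb ha) hjd
      (BasedFunctor.id _) (IsEquivOver.refl _) pe ps)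
    (repByAlgSpWith_comp_chart (fun _ _ _ _ _ b a hb _ ha => hQ b a hb ha) hu (BasedFunctor.id _)
      (IsEquivOver.refl _) pe ps)

/-- Points have quasi-compact open neighbourhoods inside every open. -/
theorem exists_isCompact_nhd (h𝒳 : IsAlgStack Scheme.fppfPrecoverage 𝒳) {p : Points 𝒳} {W : Set (Points 𝒳)}
    (hW : IsOpen W) (hp : p ∈ W) : ∃ V : Set (Points 𝒳), IsOpen V ∧ IsCompact V ∧ p ∈ V ∧ V ⊆ W := by
  obtain ⟨U, x, hs, hj⟩ := h𝒳.atlas
  have hq := isOpenQuotientMap_ofChart h𝒳.isStack.1 hs hj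
  obtain ⟨u, rfl⟩ := hq.surjective p
  obtain ⟨_, ⟨V, hV, rfl⟩, hu, hVW⟩ :=
    U.left.isBasis_affineOpens.exists_subset_of_mem_open hp (hW.preimage hq.continuous)
  exact ⟨_, hq.isOpenMap _ V.2, (IsAffineOpen.isCompact hV).image hq.continuous, ⟨u, hu, rfl⟩,
    Set.image_subset_iff.2 hVW⟩

end Compact

section Flat

variable {𝒳 : _root_.AlgSt.Cat S}

theorem repByAlgSpWith_flat_lfp {𝒲 : BasedCategory.{v₂, u₂} (Over S)} {f : 𝒲 ⥤ᵇ 𝒳}
    (h₁ : RepByAlgSpWith (AlgSp.LocP @Flat) f)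
    (h₂ : RepByAlgSpWith (AlgSp.LocP @LocallyOfFinitePresentation) f) :
    RepByAlgSpWith (AlgSp.LocP (@Flat ⊓ @LocallyOfFinitePresentation)) f :=
  repByAlgSpWith_mono (fun _ _ _ _ _ h => fun _ _ a c t ha hc e => ⟨h.1 a c t ha hc e, h.2 a c t ha hc e⟩)
    (repByAlgSpWith_inf isoInvariant_locP h₁ h₂)

theorem continuous_and_isOpenMap_ofChart_of_flat_lfp (h𝒳 : IsAlgStack Scheme.fppfPrecoverage 𝒳) {U : Over S}
    (x : _root_.FibCat.overCat U ⥤ᵇ 𝒳) (h₁ : RepByAlgSpWith (AlgSp.LocP @Flat) x)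
    (h₂ : RepByAlgSpWith (AlgSp.LocP @LocallyOfFinitePresentation) x) :
    Continuous (Points.ofChart x) ∧ IsOpenMap (Points.ofChart x) :=
  ⟨continuous_ofChart h𝒳.isStack.1 h𝒳.atlas x,
    isOpenMap_ofChart' h𝒳.isStack.1 isOpenOnPoints_flat_lfp (repByAlgSpWith_flat_lfp h₁ h₂)⟩

theorem isOpenMap_points_map_flat_lfp (h𝒳 : IsAlgStack Scheme.fppfPrecoverage 𝒳) (U : AlgSp.Space S)
    (u : ofSp U.obj ⥤ᵇ 𝒳) (h₁ : RepByAlgSpWith (AlgSp.LocP @Flat) u)
    (h₂ : RepByAlgSpWith (AlgSp.LocP @LocallyOfFinitePresentation) u) : IsOpenMap (Points.map u) :=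
  isOpenMap_points_map_of_space isOpenOnPoints_flat_lfp (fun _ _ _ b a hb ha => locP_etale_comp b a hb ha)
    h𝒳.isStack.1 U u (repByAlgSpWith_flat_lfp h₁ h₂)

theorem isOpen_iff_preimage_fppf (h𝒳 : IsAlgStack Scheme.fppfPrecoverage 𝒳) (U : AlgSp.Space S)
    (p : ofSp U.obj ⥤ᵇ 𝒳) (h₁ : RepByAlgSpWith (AlgSp.LocP @Flat) p)
    (h₂ : RepByAlgSpWith (AlgSp.LocP @LocallyOfFinitePresentation) p)
    (h₃ : RepByAlgSpWith AlgSp.IsSurjectiveMor p) (W : Set (Points 𝒳)) :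
    IsOpen W ↔ IsOpen (Points.map p ⁻¹' W) := by
  have hU : IsAlgStack Scheme.fppfPrecoverage (ofSp U.obj) :=
    (isDM_of_repByAlgSp (repByAlgSp_ofSp U.property)).1
  have hs : IsSurjective p := (isSurjective_iff_repByAlgSpWith hU.isStack.1 h𝒳.isStack.1 p
    (repByAlgSp1_of_repByAlgSpWith h₁)).2 h₃
  refine ⟨fun h => h.preimage (continuous_points_map hU h𝒳 p), fun h => ?_⟩
  rw [← Set.image_preimage_eq W hs]
  exact isOpenMap_points_map_flat_lfp h𝒳 U p h₁ h₂ _ h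

end Flat

end GrothLib.AlgSt
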