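import Groth.Agent.Lib.AlgSt.InertiaModuli
import Groth.Agent.Lib.AlgSt.IsoNat.ProperInertia
import Groth.Agent.Lib.AlgSt.IsoNat.Lfp
import Groth.Agent.Lib.AlgSt.DescFamily
import Groth.Agent.Lib.AlgSt.DiagLFP
import Groth.Agent.Lib.AlgSt.EtaleFibres
import Groth.Agent.Lib.AlgSt.Topology
import Groth.Agent.S10521
import Groth.Prelude.Def_AlgSt4
import Groth.Prelude.Def_StGerb2

/-!
# Finiteness of the inertia from smooth neighbourhoods with finite inertia and surjective maps of stabilisers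
-/

set_option backward.isDefEq.respectTransparency false
set_option backward.isDefEq.respectTransparency.types false

universe u

open CategoryTheory CategoryTheory.Limits AlgebraicGeometry Opposite

namespace GrothLib.AlgSt

open _root_.AlgSt GrothLib.FibCat

variable {S : Scheme.{u}} {𝒳 𝒰 : _root_.AlgSt.Cat S}

/-- A smooth lift of a chart through a smooth chart with image containing a point. -/
theorem exists_smooth_lift_point (hG : _root_.FibCat.IsFibGrpd 𝒳.p) {W : Over S}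
    (x : _root_.FibCat.overCat W ⥤ᵇ 𝒳) (hx : RepByAlgSpWith (AlgSp.LocP @Smooth) x) {T : Over S}
    (y : _root_.FibCat.overCat T ⥤ᵇ 𝒳) (t : ↥T.left) (w : ↥W.left)
    (htw : Points.ofChart y t = Points.ofChart x w) :
    ∃ (V : Over S) (c : V ⟶ T) (l : _root_.FibCat.overCat V ⥤ᵇ _root_.FibCat.overCat W), Smooth c.left ∧
      t ∈ Set.range c.left ∧ Nonempty (BasedFunctor.comp (GrothLib.FibCat.overMap c) y ≅ BasedFunctor.comp l x) := by
  obtain ⟨F, e, he, ha⟩ := hx T y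
  obtain ⟨V, q, qe, qs⟩ := F.property.atlas
  let a := spMapOfOver (BasedFunctor.comp e (_root_.FibCat.fpFst y x))
  obtain ⟨c, hc⟩ := (AlgSp.yon S).map_surjective (q ≫ a)
  obtain ⟨i⟩ := iso_of_spMapOfOver_eq
    (Φ := BasedFunctor.comp (toOverCat V) (_root_.AlgSt.overMap c))
    (Ψ := BasedFunctor.comp (ofSpMap q) (BasedFunctor.comp e (_root_.FibCat.fpFst y x)))
    ((spMapOfOver_overMap c).trans (hc.trans (spMapOfOver_ofSpMap_comp q _).symm))
  refine ⟨V, c, BasedFunctor.comp (ofOverCat V) (BasedFunctor.comp (ofSpMap q)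
    (BasedFunctor.comp e (_root_.FibCat.fpSnd y x))),
    ha q (𝟙 _) c qe (AlgSp.repWith_id _ T) (by rw [Category.comp_id, hc]), ?_,
    ⟨(whiskerRightIso (ofOverCatCompIso V) (BasedFunctor.comp (_root_.AlgSt.overMap c) y)).symm ≪≫
      whiskerRightIso (whiskerLeftIso (ofOverCat V) i) y ≪≫
      whiskerLeftIso (BasedFunctor.comp (ofOverCat V) (BasedFunctor.comp (ofSpMap q) e)) (_root_.FibCat.fpIso y x)⟩⟩
  obtain ⟨z, hz1, -⟩ := exists_points_fp (isFibGrpd_overCat W) (isFibGrpd_overCat T) hG x y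
    (Points.ofChart (BasedFunctor.id _) t) (Points.ofChart (BasedFunctor.id _) w)
    ((ofChart_eq_map y t).symm.trans (htw.trans (ofChart_eq_map x w)))
  obtain ⟨r, rfl⟩ := (points_map_bijective_of_isEquivOver (isFibGrpd_ofSp F.obj) e he).2 z
  rw [← points_map_comp] at hz1
  obtain ⟨v, hv⟩ := GrothLib.AlgSp.surjective_map_of_repWith qs (toSpPoints r)
  obtain ⟨v, rfl⟩ := (AlgSp.Points.schemeHomeo V).surjective v
  refine ⟨v, ?_⟩
  have h := pointOf_map (BasedFunctor.comp e (_root_.FibCat.fpFst y x)) r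
  rw [hz1, pointOf_ofChart_id, ← hv, ← AlgSp.Points.map_comp, ← hc, AlgSp.Points.map_yon_map_apply] at h
  rw [h]
  exact ((AlgSp.Points.schemeEquiv T).left_inv _).symm

open GrothLib.IsoNat

/-- The comparison of the automorphisms over a chart lifted along `h`. -/
theorem exists_aut_map (hGX : _root_.FibCat.IsFibGrpd 𝒳.p) (hGU : _root_.FibCat.IsFibGrpd 𝒰.p) (h : 𝒰 ⥤ᵇ 𝒳)
    {V : Over S} {KU KX : AlgSp.Sp S} {φU : KU ⟶ (AlgSp.yon S).obj V} {φX : KX ⟶ (AlgSp.yon S).obj V}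
    {u₁ : 𝒰.obj} {z₁ : 𝒳.obj} (hu₁ : 𝒰.p.obj u₁ = V) (N : InModel KU φU u₁) (M : InModel KX φX z₁)
    (ι : h.obj u₁ ⟶ z₁) (hι : 𝒳.p.IsHomLift (𝟙 V) ι)
    (hsur : ∀ (Ω : Type u) [Field Ω] [IsAlgClosed Ω] (t : Spec (CommRingCat.of Ω) ⟶ S)
      (o : 𝒰.p.Fiber (Over.mk t)), Function.Surjective (Gerb.autMap h o.1)) :
    ∃ k : KU ⟶ KX, k ≫ φX = φU ∧ AlgSp.IsSurjectiveMor k := by
  have htot : ∀ (T : Over S) (m : (AlgSp.yon S).obj T ⟶ KU), ∃ n ζ r α, N.R m ζ r α ∧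
      M.R n (h.obj ζ) (h.map r ≫ ι) (h.map α) := fun T m => by
    obtain ⟨ζ, r, α, hR⟩ := N.surj m
    obtain ⟨c, hc, -⟩ := N.base hR
    have hζ : 𝒰.p.obj ζ = T := IsHomLift.domain_eq 𝒰.p c r
    have hα : 𝒳.p.map (h.map α) = 𝟙 _ := by
      rw [GrothLib.FibCat.p_map_map h α, N.vert hR]; simp
    obtain ⟨n, hn⟩ := M.tot (h.obj ζ) (h.map r ≫ ι) (h.map α) ((h.w_obj ζ).trans hζ) hα
    exact ⟨n, ζ, r, α, hR, hn⟩
  choose n ζn rn αn hN hM using htot
  obtain ⟨k, hk⟩ := exists_spHom n fun T' T g m => by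
    obtain ⟨κ, hκ, hκr, hκα⟩ := N.exists_hom (hN T' _) (hN T m) g rfl
    refine M.map_eq (hM T' _) (hM T m) g (h.map κ) inferInstance ?_ ?_
    · rw [← hκr, h.map_comp, Category.assoc]
    · rw [← h.map_comp, hκα, h.map_comp]
  have hbase : ∀ (T : Over S) (m : (AlgSp.yon S).obj T ⟶ KU), (m ≫ k) ≫ φX = m ≫ φU := fun T m => by
    rw [hk]
    obtain ⟨c, hc, hcφ⟩ := N.base (hN T m)
    obtain ⟨c', hc', hc'φ⟩ := M.base (hM T m)
    have := hι
    have hc2 : 𝒳.p.IsHomLift c (h.map (rn T m)) := inferInstance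
    have hcι : 𝒳.p.IsHomLift c (h.map (rn T m) ≫ ι) := IsHomLift.comp_lift_id_right' 𝒳.p c _ V ι
    rw [hc'φ, hcφ, IsoNat.eq_of_lifts 𝒳.p _ hc' hcι]
  refine ⟨k, ?_, fun z => ?_⟩
  · refine ObjectProperty.hom_ext _ ?_
    ext T x
    obtain ⟨m, rfl⟩ := (AlgSp.J S).uliftYonedaEquiv.{u + 1}.surjective x
    have e := congrArg (AlgSp.J S).uliftYonedaEquiv.{u + 1} (hbase T.unop m)
    rw [Category.assoc, GrothendieckTopology.uliftYonedaEquiv_comp, GrothendieckTopology.uliftYonedaEquiv_comp] at e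
    exact e
  · obtain ⟨K, _, str, m, rfl⟩ := GrothLib.AlgSp.exists_ofPt z
    let Ω := AlgebraicClosure K
    let g : Over.mk (Spec.map (CommRingCat.ofHom (algebraMap K Ω)) ≫ str) ⟶ Over.mk str :=
      Over.homMk (Spec.map (CommRingCat.ofHom (algebraMap K Ω))) rfl
    obtain ⟨ζ, r, α, hR⟩ := M.surj ((AlgSp.yon S).map g ≫ m)
    obtain ⟨c, hc, hcφ⟩ := M.base hR
    obtain ⟨o, ν, hν⟩ := IsFibGrpd.exists_lift_of_eq hGU hu₁ c
    have := hι
    have hν' : 𝒳.p.IsHomLift c (h.map ν) := inferInstance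
    have hνι : 𝒳.p.IsHomLift c (h.map ν ≫ ι) := IsHomLift.comp_lift_id_right' 𝒳.p c _ V ι
    obtain ⟨θ, hθ, hθr⟩ := IsFibGrpd.exists_iso_of_lifts hGX c (h.map ν ≫ ι) r
    have ho : 𝒰.p.obj o = Over.mk (Spec.map (CommRingCat.ofHom (algebraMap K Ω)) ≫ str) :=
      IsHomLift.domain_eq 𝒰.p c ν
    have hζ : 𝒳.p.obj ζ = Over.mk (Spec.map (CommRingCat.ofHom (algebraMap K Ω)) ≫ str) :=
      IsHomLift.domain_eq 𝒳.p c r
    have hα : 𝒳.p.map α = 𝟙 _ := M.vert hR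
    have hθm : 𝒳.p.IsHomLift (𝟙 (Over.mk (Spec.map (CommRingCat.ofHom (algebraMap K Ω)) ≫ str))) θ.hom := hθ
    have hαi : IsIso α := (IsFibGrpd.isIso_iff hGX α).2 (by rw [hα]; infer_instance)
    let α' : h.obj o ⟶ h.obj o := θ.inv ≫ α ≫ θ.hom
    have hα' : 𝒳.p.map α' = 𝟙 _ := by
      simp only [α', Functor.map_comp, hα, Category.id_comp]
      rw [← Functor.map_comp, θ.inv_hom_id]
      exact 𝒳.p.map_id _
    have hα'i : IsIso α' := by
      simp only [α']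
      infer_instance
    have hl : 𝒳.p.IsHomLift (𝟙 (𝒳.p.obj (h.obj o))) α' := IsHomLift.of_fac' _ _ _ rfl rfl (by simpa using hα')
    have hl' : 𝒳.p.IsHomLift (𝟙 (𝒳.p.obj (h.obj o))) (inv α') := IsHomLift.lift_id_inv_isIso _ _ _
    let γ : Gerb.AutO (h.obj o) := ⟨⟨α', hl⟩, ⟨inv α', hl'⟩, Functor.Fiber.hom_ext (IsIso.hom_inv_id α'),
      Functor.Fiber.hom_ext (IsIso.inv_hom_id α')⟩
    obtain ⟨β, hβ'⟩ := hsur Ω _ ⟨o, ho⟩ γ
    have hβ : h.map β.hom.1 = α' := congrArg (fun t => t.hom.1) hβ'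
    obtain ⟨mU, hmU⟩ := N.tot o ν β.hom.1 ho (by
      have : 𝒰.p.IsHomLift (𝟙 (𝒰.p.obj o)) β.hom.1 := β.hom.2
      simpa using (IsHomLift.fac' 𝒰.p (𝟙 (𝒰.p.obj o)) β.hom.1))
    have e : mU ≫ k = (AlgSp.yon S).map g ≫ m := by
      rw [hk]
      obtain ⟨κ, hκ, hκr, hκα⟩ := N.exists_hom (hN _ mU) hmU (𝟙 _)
        (by rw [CategoryTheory.Functor.map_id, Category.id_comp])
      have := hκ
      have h1 : 𝒳.p.IsHomLift (𝟙 (Over.mk (Spec.map (CommRingCat.ofHom (algebraMap K Ω)) ≫ str))) (h.map κ) :=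
        inferInstance
      have h2 : 𝒳.p.IsHomLift (𝟙 (Over.mk (Spec.map (CommRingCat.ofHom (algebraMap K Ω)) ≫ str))) θ.inv :=
        IsHomLift.lift_id_inv _ _ _
      have := M.map_eq (hM _ mU) hR (𝟙 _) (h.map κ ≫ θ.inv)
        (IsHomLift.comp_lift_id_right' 𝒳.p _ (h.map κ)
          (Over.mk (Spec.map (CommRingCat.ofHom (algebraMap K Ω)) ≫ str)) θ.inv) (by
          rw [Category.assoc, show θ.inv ≫ r = h.map ν ≫ ι by rw [Iso.inv_comp_eq, hθr],
            ← h.map_comp_assoc, hκr]) (by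
          rw [← Category.assoc, ← h.map_comp, hκα, h.map_comp, hβ]
          simp [α'])
      rw [← this, CategoryTheory.Functor.map_id, Category.id_comp]
    refine ⟨AlgSp.Points.ofPt mU (IsLocalRing.closedPoint Ω), ?_⟩
    rw [AlgSp.Points.map_ofPt, e, GrothLib.AlgSp.ofPt_map_comp]
    have : Subsingleton ↥(Over.mk str).left := inferInstanceAs (Subsingleton (PrimeSpectrum K))
    exact congrArg _ (Subsingleton.elim _ _)

/-- Universal closedness of the inertia over a chart lifting to a stack with separated inertia. -/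
theorem hasRep_univClosed_of_lift (hGX : _root_.FibCat.IsFibGrpd 𝒳.p) (hGU : _root_.FibCat.IsFibGrpd 𝒰.p)
    (h : 𝒰 ⥤ᵇ 𝒳)
    (hIU : RepByAlgSpWith AlgSp.IsProperMor (_root_.FibCat.inertiaToBase (_root_.FibCat.toSelf 𝒰)))
    (hIX : RepByAlgSp1 (_root_.FibCat.inertiaToBase (_root_.FibCat.toSelf 𝒳)))
    (hsur : ∀ (Ω : Type u) [Field Ω] [IsAlgClosed Ω] (t : Spec (CommRingCat.of Ω) ⟶ S)
      (o : 𝒰.p.Fiber (Over.mk t)), Function.Surjective (Gerb.autMap h o.1))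
    {V : Over S} (y : _root_.FibCat.overCat V ⥤ᵇ 𝒳) (l : _root_.FibCat.overCat V ⥤ᵇ 𝒰)
    (j : y ≅ BasedFunctor.comp l h) :
    HasRep AlgSp.IsUnivClosedMor
      (_root_.FibCat.fpFst y (_root_.FibCat.inertiaToBase (_root_.FibCat.toSelf 𝒳))) := by
  obtain ⟨KX, eX, heX⟩ := hIX V y
  obtain ⟨KU, eU, heU, -, -, hcl⟩ := hIU V l
  obtain ⟨M⟩ := exists_inModel y eX hGX heX
  obtain ⟨N⟩ := exists_inModel l eU hGU heU
  obtain ⟨k, hkφ, hks⟩ := exists_aut_map hGX hGU h (l.w_obj _) N M (j.inv.app (Yon.idObj V))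
    (by infer_instance) hsur
  refine ⟨KX, eX, heX, GrothLib.AlgSp.isUnivClosedMor_of_surjective_comp hks ?_⟩
  rw [hkφ]
  exact hcl

/-- Finiteness of the inertia from smooth neighbourhoods. -/
theorem finite_inertia_of_smooth_local (h𝒳 : IsAlgStack Scheme.fppfPrecoverage 𝒳)
    (hΔ : RepByAlgSpWith (AlgSp.IsSeparatedMor ⊓ AlgSp.IsQuasiCompactMor)
      (_root_.FibCat.diag (_root_.FibCat.toSelf 𝒳)))
    (hqf : IsQuasiDMOver 𝒳)
    (hloc : ∀ x : Points 𝒳, ∃ (𝒰 : _root_.AlgSt.Cat S) (h : 𝒰 ⥤ᵇ 𝒳),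
      IsAlgStack Scheme.fppfPrecoverage 𝒰 ∧ x ∈ Set.range (Points.map h) ∧
      RepByAlgSpWith (AlgSp.LocP @Smooth) h ∧ IsSeparatedOver 𝒰 ∧
      ∀ (Ω : Type u) [Field Ω] [IsAlgClosed Ω] (t : Spec (CommRingCat.of Ω) ⟶ S)
        (o : 𝒰.p.Fiber (Over.mk t)), Function.Surjective (Gerb.autMap h o.1)) :
    RepByAlgSpWith AlgSp.IsFiniteMor (_root_.FibCat.inertiaToBase (_root_.FibCat.toSelf 𝒳)) := by
  have hsq : RepByAlgSpWith (AlgSp.IsSeparatedMor ⊓ AlgSp.IsQuasiCompactMor)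
      (_root_.FibCat.inertiaToBase (_root_.FibCat.toSelf 𝒳)) :=
    (repByAlgSpWith_inertiaToBase_iff _).2 (repByAlgSpWith_fpFst _ hΔ)
  have hq : RepByAlgSpWith (AlgSp.LocP (@LocallyQuasiFinite ⊓ @LocallyOfFiniteType))
      (_root_.FibCat.inertiaToBase (_root_.FibCat.toSelf 𝒳)) :=
    (repByAlgSpWith_inertiaToBase_iff _).2 (repByAlgSpWith_fpFst _ hqf)
  have hrep := repByAlgSp1_of_repByAlgSpWith hsq
  have huc : RepByAlgSpWith AlgSp.IsUnivClosedMor
      (_root_.FibCat.inertiaToBase (_root_.FibCat.toSelf 𝒳)) := fun T y => by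
    have key : ∀ t : ↥T.left, ∃ (V : Over S) (c : V ⟶ T), Smooth c.left ∧ t ∈ Set.range c.left ∧
        HasRep AlgSp.IsUnivClosedMor (_root_.FibCat.fpFst (BasedFunctor.comp (GrothLib.FibCat.overMap c) y)
          (_root_.FibCat.inertiaToBase (_root_.FibCat.toSelf 𝒳))) := fun t => by
      obtain ⟨𝒰, h, h𝒰, ⟨p, hp⟩, hh, hsep, hsur⟩ := hloc (Points.ofChart y t)
      obtain ⟨W, w, hw, hws⟩ := h𝒰.atlas
      obtain ⟨w₀, rfl⟩ := surjective_ofChart h𝒰.isStack.1 hws p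
      have hwh : RepByAlgSpWith (AlgSp.LocP @Smooth) (BasedFunctor.comp w h) :=
        repByAlgSpWith_comp' (isFibGrpd_overCat W) h𝒰.isStack.1 compStable_locP_smooth.iso
          compStable_locP_smooth.comp compStable_locP_smooth.detected _ _ hw hh
      obtain ⟨V, c, l, hc, ht, ⟨j⟩⟩ := exists_smooth_lift_point h𝒳.isStack.1 (BasedFunctor.comp w h) hwh y t w₀
        (hp.symm.trans (ofChart_comp w h w₀).symm)
      have hIU : RepByAlgSpWith AlgSp.IsProperMor (_root_.FibCat.inertiaToBase (_root_.FibCat.toSelf 𝒰)) :=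
        (repByAlgSpWith_inertiaToBase_iff _).2 (repByAlgSpWith_fpFst _ hsep)
      exact ⟨V, c, hc, ht, hasRep_univClosed_of_lift h𝒳.isStack.1 h𝒰.isStack.1 h hIU hrep hsur _
        (BasedFunctor.comp l w) j⟩
    choose V c hc ht hV using key
    exact hasRep_of_family isoInvariant_isUnivClosedMor
      (isLocalOnBase_fppf_of_fpqc (Groth.Agent.S10521.result S)) _ y V c
      (fun i => have := hc i; inferInstance) (fun i => have := hc i; inferInstance)
      (fun t => ⟨t, ht t⟩) (hrep T y) hV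
  have hp : RepByAlgSpWith AlgSp.IsProperMor (_root_.FibCat.inertiaToBase (_root_.FibCat.toSelf 𝒳)) := fun T y => by
    obtain ⟨F, e, he, hs, hc⟩ := hsq T y
    exact ⟨F, e, he, hs, ⟨GrothLib.AlgSp.locP_mono (fun _ _ _ hf => hf.2)
      (HasRep.mem (hq T y) isoInvariant_locP F e he), hc⟩,
      HasRep.mem (huc T y) isoInvariant_isUnivClosedMor F e he⟩
  refine repByAlgSpWith_mono (fun X Y f hX hY h => ?_) (repByAlgSpWith_inf isoInvariant_isProperMor hp hq)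
  exact GrothLib.AlgSp.isFiniteMor_iff.2 (GrothLib.AlgSp.repWith_isFinite_of_proper_lqf hX hY h.1 h.2)

end GrothLib.AlgSt
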