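import Groth.Agent.Lib.AlgSt.OfSp

/-!
# Functors representable by algebraic spaces: formal properties
-/

set_option backward.isDefEq.respectTransparency false
set_option backward.isDefEq.respectTransparency.types false

universe v₅ u₅ v₄ u₄ v₃ u₃ v₂ u₂ u

open CategoryTheory CategoryTheory.Limits AlgebraicGeometry Opposite

namespace GrothLib.AlgSt

open _root_.AlgSt GrothLib.FibCat

variable {S : Scheme.{u}}
variable {𝒳 : BasedCategory.{v₂, u₂} (Over S)} {𝒴 : BasedCategory.{v₃, u₃} (Over S)}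
variable {P Q : MorphismProperty (AlgSp.Sp S)} {U : Over S}

theorem repByAlgSp_of_isEquivOver (e : 𝒳 ⥤ᵇ 𝒴) (he : _root_.FibCat.IsEquivOver e) (h : RepByAlgSp 𝒳) :
    RepByAlgSp 𝒴 := by
  obtain ⟨F, e₀, he₀⟩ := h
  exact ⟨F, BasedFunctor.comp e₀ e, IsEquivOver.comp he₀ he⟩

theorem repByAlgSp_of_isEquivOver' (e : 𝒳 ⥤ᵇ 𝒴) (he : _root_.FibCat.IsEquivOver e) (h : RepByAlgSp 𝒴) :
    RepByAlgSp 𝒳 := by
  obtain ⟨e', he', -, -⟩ := IsEquivOver.symm he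
  exact repByAlgSp_of_isEquivOver e' he' h

theorem repByAlgSp_iff_of_isEquivOver (e : 𝒳 ⥤ᵇ 𝒴) (he : _root_.FibCat.IsEquivOver e) :
    RepByAlgSp 𝒳 ↔ RepByAlgSp 𝒴 :=
  ⟨repByAlgSp_of_isEquivOver e he, repByAlgSp_of_isEquivOver' e he⟩

theorem repByAlgSp_ofSp {F : AlgSp.Sp S} (hF : AlgSp.IsAlgSpace F) : RepByAlgSp (ofSp F) :=
  ⟨⟨F, hF⟩, BasedFunctor.id _, IsEquivOver.refl _⟩

theorem repByAlgSp_overCat (U : Over S) : RepByAlgSp (_root_.FibCat.overCat U) :=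
  ⟨⟨_, AlgSp.IsAlgSpace.yon_obj U⟩, toOverCat U, isEquivOver_toOverCat U⟩

theorem isFibSetoid_of_repByAlgSp (h : RepByAlgSp 𝒳) : _root_.FibCat.IsFibSetoid 𝒳.p := by
  obtain ⟨F, e, he⟩ := h
  exact (isFibSetoid_iff_of_isEquivOver e he).1 (isFibSetoid_ofSp F.obj)

/-- Invariance of a property of morphisms under isomorphisms of the source, among algebraic spaces. -/
def IsoInvariant (P : MorphismProperty (AlgSp.Sp S)) : Prop :=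
  ∀ ⦃F F' G : AlgSp.Sp S⦄, AlgSp.IsAlgSpace F → AlgSp.IsAlgSpace G →
    ∀ (φ : F' ⟶ F) [IsIso φ] (a : F ⟶ G), P a → P (φ ≫ a)

theorem isoInvariant_of_respectsIso [P.RespectsIso] : IsoInvariant P :=
  fun _ _ _ _ _ φ _ a h => MorphismProperty.RespectsIso.precomp P φ a h

/-- Stability under base change among algebraic spaces. -/
abbrev StableSp (P : MorphismProperty (AlgSp.Sp S)) : Prop :=
  ∀ ⦃X₁ Y₁ X₂ Y₂ : AlgSp.Sp S⦄, AlgSp.IsAlgSpace X₁ → AlgSp.IsAlgSpace Y₁ → AlgSp.IsAlgSpace X₂ →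
    AlgSp.IsAlgSpace Y₂ → ∀ (a : X₁ ⟶ Y₁) (b : Y₂ ⟶ Y₁) (a' : X₂ ⟶ Y₂) (b' : X₂ ⟶ X₁),
    IsPullback b' a' a b → P a → P a'

theorem isoInvariant_of_stableSp (hP : StableSp P) : IsoInvariant P :=
  fun _ _ _ hF hG φ _ a h => hP hF hG (hF.of_iso (asIso φ).symm) hG a (𝟙 _) (φ ≫ a) φ
    (IsPullback.of_horiz_isIso ⟨by simp⟩) h

/-- `π : 𝒳 ⟶ (Sch/U)` is represented by a map of algebraic spaces with the property `P`. -/
def HasRep (P : MorphismProperty (AlgSp.Sp S)) (π : 𝒳 ⥤ᵇ _root_.FibCat.overCat U) : Prop :=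
  ∃ (F : AlgSp.Space S) (e : ofSp F.obj ⥤ᵇ 𝒳),
    _root_.FibCat.IsEquivOver e ∧ P (spMapOfOver (BasedFunctor.comp e π))

theorem HasRep.repByAlgSp {π : 𝒳 ⥤ᵇ _root_.FibCat.overCat U} (h : HasRep P π) : RepByAlgSp 𝒳 :=
  let ⟨F, e, he, _⟩ := h
  ⟨F, e, he⟩

theorem hasRep_top_iff {π : 𝒳 ⥤ᵇ _root_.FibCat.overCat U} : HasRep ⊤ π ↔ RepByAlgSp 𝒳 :=
  ⟨HasRep.repByAlgSp, fun ⟨F, e, he⟩ => ⟨F, e, he, trivial⟩⟩

theorem HasRep.of_equiv {π : 𝒳 ⥤ᵇ _root_.FibCat.overCat U} {π' : 𝒴 ⥤ᵇ _root_.FibCat.overCat U}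
    (E : 𝒳 ⥤ᵇ 𝒴) (hE : _root_.FibCat.IsEquivOver E) (α : BasedFunctor.comp E π' ≅ π) (h : HasRep P π) :
    HasRep P π' := by
  obtain ⟨F, e, he, hP⟩ := h
  refine ⟨F, BasedFunctor.comp e E, IsEquivOver.comp he hE, ?_⟩
  rw [← spMapOfOver_congr (whiskerLeftIso e α)] at hP
  exact hP

theorem HasRep.of_equiv' {π : 𝒳 ⥤ᵇ _root_.FibCat.overCat U} {π' : 𝒴 ⥤ᵇ _root_.FibCat.overCat U}
    (E : 𝒳 ⥤ᵇ 𝒴) (hE : _root_.FibCat.IsEquivOver E) (α : BasedFunctor.comp E π' ≅ π) (h : HasRep P π') :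
    HasRep P π := by
  obtain ⟨E', hE', ⟨η⟩, ⟨ε⟩⟩ := IsEquivOver.symm hE
  exact h.of_equiv E' hE' (whiskerLeftIso E' α.symm ≪≫ whiskerRightIso ε π')

theorem HasRep.mem {π : 𝒳 ⥤ᵇ _root_.FibCat.overCat U} (h : HasRep P π) (hP : IsoInvariant P)
    (F : AlgSp.Space S) (e : ofSp F.obj ⥤ᵇ 𝒳) (he : _root_.FibCat.IsEquivOver e) :
    P (spMapOfOver (BasedFunctor.comp e π)) := by
  obtain ⟨F₀, e₀, he₀, h₀⟩ := h
  obtain ⟨e₀', he₀', ⟨η⟩, ⟨ε⟩⟩ := IsEquivOver.symm he₀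
  let Ψ := BasedFunctor.comp e e₀'
  have : IsIso (spHom Ψ) := isIso_spHom (IsEquivOver.comp he he₀')
  have α : BasedFunctor.comp Ψ (BasedFunctor.comp e₀ π) ≅ BasedFunctor.comp e π :=
    whiskerRightIso (whiskerLeftIso e ε) π
  rw [← spMapOfOver_congr α, spMapOfOver_comp]
  exact hP F₀.property (AlgSp.IsAlgSpace.yon_obj U) (spHom Ψ) _ h₀

section Functors

variable {f : 𝒳 ⥤ᵇ 𝒴}

theorem repByAlgSpWith_iff : RepByAlgSpWith P f ↔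
    ∀ (U : Over S) (y : _root_.FibCat.overCat U ⥤ᵇ 𝒴), HasRep P (_root_.FibCat.fpFst y f) := Iff.rfl

theorem repByAlgSpWith_top_iff : RepByAlgSpWith ⊤ f ↔ RepByAlgSp1 f :=
  forall₂_congr fun _ _ => hasRep_top_iff

theorem repByAlgSp1_of_repByAlgSpWith (h : RepByAlgSpWith P f) : RepByAlgSp1 f :=
  fun U y => HasRep.repByAlgSp (h U y)

theorem repByAlgSpWith_mono (hPQ : ∀ ⦃X Y : AlgSp.Sp S⦄ (a : X ⟶ Y), AlgSp.IsAlgSpace X → AlgSp.IsAlgSpace Y →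
    P a → Q a) (h : RepByAlgSpWith P f) : RepByAlgSpWith Q f := fun U y =>
  let ⟨F, e, he, hP⟩ := h U y
  ⟨F, e, he, hPQ _ F.property (AlgSp.IsAlgSpace.yon_obj U) hP⟩

theorem repByAlgSpWith_inf (hP : IsoInvariant P) (h : RepByAlgSpWith P f) (h' : RepByAlgSpWith Q f) :
    RepByAlgSpWith (P ⊓ Q) f := fun U y =>
  let ⟨F, e, he, hQ⟩ := h' U y
  ⟨F, e, he, HasRep.mem (h U y) hP F e he, hQ⟩

theorem repByAlgSpWith_of_iso {f' : 𝒳 ⥤ᵇ 𝒴} (α : f ≅ f') (h : RepByAlgSpWith P f) : RepByAlgSpWith P f' :=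
  fun U y => HasRep.of_equiv (Fp.congr (Iso.refl y) α) (Fp.isEquivOver_congr _ _) (Iso.refl _) (h U y)

theorem repByAlgSpWith_iff_of_iso {f' : 𝒳 ⥤ᵇ 𝒴} (α : f ≅ f') : RepByAlgSpWith P f ↔ RepByAlgSpWith P f' :=
  ⟨repByAlgSpWith_of_iso α, repByAlgSpWith_of_iso α.symm⟩

variable {𝒳' : BasedCategory.{v₄, u₄} (Over S)} {𝒴' : BasedCategory.{v₅, u₅} (Over S)}

theorem repByAlgSpWith_of_square {f' : 𝒳' ⥤ᵇ 𝒴'} (a : 𝒳' ⥤ᵇ 𝒳) (b : 𝒴' ⥤ᵇ 𝒴)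
    (ha : _root_.FibCat.IsEquivOver a) [b.toFunctor.Full] [b.toFunctor.Faithful]
    (e : BasedFunctor.comp f' b ≅ BasedFunctor.comp a f) (h : RepByAlgSpWith P f) : RepByAlgSpWith P f' :=
  fun U y => HasRep.of_equiv'
    (Fp.map (F := y) (G := f') (F' := BasedFunctor.comp y b) (G' := f) (BasedFunctor.id _) a b (Iso.refl _) e.symm)
    (Fp.isEquivOver_map _ _ _ _ _ (IsEquivOver.refl _) ha) (Iso.refl _) (h U (BasedFunctor.comp y b))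

theorem repByAlgSpWith_iff_of_square {f' : 𝒳' ⥤ᵇ 𝒴'} (a : 𝒳' ⥤ᵇ 𝒳) (b : 𝒴' ⥤ᵇ 𝒴)
    (ha : _root_.FibCat.IsEquivOver a) (hb : _root_.FibCat.IsEquivOver b)
    (e : BasedFunctor.comp f' b ≅ BasedFunctor.comp a f) : RepByAlgSpWith P f ↔ RepByAlgSpWith P f' := by
  have := IsEquivOver.full hb
  have := IsEquivOver.faithful hb
  refine ⟨repByAlgSpWith_of_square a b ha e, fun h U y => ?_⟩
  obtain ⟨b', hb', ⟨η⟩, ⟨ε⟩⟩ := IsEquivOver.symm hb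
  let y' := BasedFunctor.comp y b'
  have α : BasedFunctor.comp y' b ≅ y := whiskerLeftIso y ε
  refine HasRep.of_equiv (Fp.congr α (Iso.refl f)) (Fp.isEquivOver_congr _ _) (Iso.refl _) ?_
  exact HasRep.of_equiv
    (Fp.map (F := y') (G := f') (F' := BasedFunctor.comp y' b) (G' := f) (BasedFunctor.id _) a b (Iso.refl _) e.symm)
    (Fp.isEquivOver_map _ _ _ _ _ (IsEquivOver.refl _) ha) (Iso.refl _) (h U y')

theorem repByAlgSpWith_fpFst (g : 𝒳' ⥤ᵇ 𝒴) (h : RepByAlgSpWith P f) :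
    RepByAlgSpWith P (_root_.FibCat.fpFst g f) := fun U y =>
  HasRep.of_equiv' (Fp.paste f g y) (Fp.isEquivOver_paste f g y) (Iso.refl _) (h U (BasedFunctor.comp y g))

theorem repByAlgSpWith_fpSnd (g : 𝒳' ⥤ᵇ 𝒴) (h : RepByAlgSpWith P f) :
    RepByAlgSpWith P (_root_.FibCat.fpSnd f g) :=
  have := IsEquivOver.full (IsEquivOver.refl 𝒳')
  have := IsEquivOver.faithful (IsEquivOver.refl 𝒳')
  repByAlgSpWith_of_square (f := _root_.FibCat.fpFst g f) (Fp.symm f g) (BasedFunctor.id 𝒳')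
    (Fp.isEquivOver_symm f g) (Iso.refl _) (repByAlgSpWith_fpFst g h)

theorem repByAlgSp1_of_iso {f' : 𝒳 ⥤ᵇ 𝒴} (α : f ≅ f') (h : RepByAlgSp1 f) : RepByAlgSp1 f' :=
  repByAlgSpWith_top_iff.1 (repByAlgSpWith_of_iso α (repByAlgSpWith_top_iff.2 h))

theorem repByAlgSp1_fpFst (g : 𝒳' ⥤ᵇ 𝒴) (h : RepByAlgSp1 f) : RepByAlgSp1 (_root_.FibCat.fpFst g f) :=
  repByAlgSpWith_top_iff.1 (repByAlgSpWith_fpFst g (repByAlgSpWith_top_iff.2 h))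

theorem repByAlgSp1_fpSnd (g : 𝒳' ⥤ᵇ 𝒴) (h : RepByAlgSp1 f) : RepByAlgSp1 (_root_.FibCat.fpSnd f g) :=
  repByAlgSpWith_top_iff.1 (repByAlgSpWith_fpSnd g (repByAlgSpWith_top_iff.2 h))

theorem repByAlgSp1_of_square {f' : 𝒳' ⥤ᵇ 𝒴'} (a : 𝒳' ⥤ᵇ 𝒳) (b : 𝒴' ⥤ᵇ 𝒴)
    (ha : _root_.FibCat.IsEquivOver a) [b.toFunctor.Full] [b.toFunctor.Faithful]
    (e : BasedFunctor.comp f' b ≅ BasedFunctor.comp a f) (h : RepByAlgSp1 f) : RepByAlgSp1 f' :=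
  repByAlgSpWith_top_iff.1 (repByAlgSpWith_of_square a b ha e (repByAlgSpWith_top_iff.2 h))

end Functors

end GrothLib.AlgSt
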