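import Groth.Agent.Lib.AlgSt.Stacky
import Groth.Agent.Lib.AlgSt.RepBy

/-!
# Properties of the diagonal are invariant under equivalence
-/

set_option backward.isDefEq.respectTransparency false
set_option backward.isDefEq.respectTransparency.types false

universe v₃ u₃ v₂ u₂ u

open CategoryTheory CategoryTheory.Limits AlgebraicGeometry Opposite

namespace GrothLib.AlgSt

open _root_.AlgSt GrothLib.FibCat

variable {S : Scheme.{u}} {P : MorphismProperty (AlgSp.Sp S)}

section Invariance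

variable {𝒳 : BasedCategory.{v₂, u₂} (Over S)} {𝒴 : BasedCategory.{v₃, u₃} (Over S)}

theorem repByAlgSpWith_diag_of_isEquivOver (e : 𝒳 ⥤ᵇ 𝒴) (he : _root_.FibCat.IsEquivOver e)
    (h : RepByAlgSpWith P (_root_.FibCat.diag (_root_.FibCat.toSelf 𝒴))) :
    RepByAlgSpWith P (_root_.FibCat.diag (_root_.FibCat.toSelf 𝒳)) := by
  let M : _root_.FibCat.fp (_root_.FibCat.toSelf 𝒳) (_root_.FibCat.toSelf 𝒳) ⥤ᵇ
      _root_.FibCat.fp (_root_.FibCat.toSelf 𝒴) (_root_.FibCat.toSelf 𝒴) :=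
    Fp.map e e (BasedFunctor.id _) (toSelfIso e) (toSelfIso e)
  have := IsEquivOver.full (IsEquivOver.refl (_root_.FibCat.selfOver (Over S)))
  have := IsEquivOver.faithful (IsEquivOver.refl (_root_.FibCat.selfOver (Over S)))
  have hM : _root_.FibCat.IsEquivOver M := Fp.isEquivOver_map _ _ _ _ _ he he
  have := IsEquivOver.full hM
  have := IsEquivOver.faithful hM
  refine repByAlgSpWith_of_square e M he (natIsoOfComponents (fun a => Fp.isoMk (Iso.refl _) (Iso.refl _) ?_)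
    (fun a => (Fp.isHomLift_iff _ _).2 (by exact IsHomLift.id (e.w_obj a)))
    (fun f => Fp.hom_ext ((Category.comp_id _).trans (Category.id_comp _).symm)
      ((Category.comp_id _).trans (Category.id_comp _).symm))) h
  have hl := Fp.iso_lift ((_root_.FibCat.diag (_root_.FibCat.toSelf 𝒴)).obj (e.obj a))
  have hr := Fp.iso_lift ((BasedFunctor.comp (_root_.FibCat.diag (_root_.FibCat.toSelf 𝒳)) M).obj a)
  refine selfOver_hom_ext (R := 𝒳.p.obj a) _ _ ?_ ?_
  · exact IsHomLift.of_fac' _ _ _ (e.w_obj a) (e.w_obj a) (by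
      change 𝒴.p.map (𝟙 (e.obj a)) ≫ 𝟙 _ = _
      simp; rfl)
  · have h' : (_root_.FibCat.selfOver (Over S)).p.IsHomLift (𝟙 (𝒳.p.obj a))
        ((BasedFunctor.comp (_root_.FibCat.diag (_root_.FibCat.toSelf 𝒳)) M).obj a).obj.iso.hom :=
      isHomLift_id_of_eq (_root_.FibCat.selfOver (Over S)).p (R := 𝒴.p.obj (e.obj a)) _ (Or.inl (e.w_obj a))
        (h := hr)
    have h1 : (_root_.FibCat.selfOver (Over S)).p.IsHomLift (𝟙 (𝒳.p.obj a)) (𝒴.p.map (𝟙 (e.obj a))) :=
      IsHomLift.of_fac' _ _ _ (e.w_obj a) (e.w_obj a) (by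
        change 𝒴.p.map (𝟙 (e.obj a)) = _
        simp; rfl)
    exact inferInstanceAs ((_root_.FibCat.selfOver (Over S)).p.IsHomLift (𝟙 (𝒳.p.obj a))
      (((BasedFunctor.comp (_root_.FibCat.diag (_root_.FibCat.toSelf 𝒳)) M).obj a).obj.iso.hom ≫ 𝒴.p.map (𝟙 (e.obj a))))

end Invariance

end GrothLib.AlgSt
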