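import Groth.Agent.Lib.AlgSt.AtlasDiag
import Groth.Agent.Lib.AlgSt.DiagMor
import Groth.Agent.Lib.AlgSt.LocalInertia
import Groth.Agent.Lib.SpQuot.CompareDiag

/-!
# Quasi-affine diagonals read on charts
-/

set_option backward.isDefEq.respectTransparency false
set_option backward.isDefEq.respectTransparency.types false

universe u

open CategoryTheory CategoryTheory.Limits AlgebraicGeometry Opposite MonoidalCategory CartesianMonoidalCategory

namespace GrothLib.AlgSt.QA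

open _root_.AlgSt GrothLib.FibCat GrothLib.AlgSt

variable {S : Scheme.{u}}

theorem isAffine_tensor [IsAffine S] (T V : Over S) [IsAffine T.left] [IsAffine V.left] : IsAffine (T ⊗ V).left := by
  have : IsAffineHom V.hom := isAffineHom_of_isAffine _
  change IsAffine (pullback T.hom V.hom)
  exact isAffine_of_isAffineHom (pullback.fst T.hom V.hom)

theorem stableSp_quasiAffine : StableSp (AlgSp.IsQuasiAffineMor (S := S)) :=
  fun _ _ _ _ h₁ hY₁ h₂ hY₂ _ _ _ _ sq h => GrothLib.AlgSp.baseChanges_quasiAffine h₁ hY₁ h₂ hY₂ sq h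

theorem isoInvariant_quasiAffine : IsoInvariant (AlgSp.IsQuasiAffineMor (S := S)) :=
  isoInvariant_of_stableSp stableSp_quasiAffine

theorem detected_quasiAffine : DetectedBySchemes (AlgSp.IsQuasiAffineMor (S := S)) :=
  detectedBySchemes_of_isLocalOnBase GrothLib.SpQuot.isLocalOnBase_fppf_quasiAffine

/-- A morphism from a quasi-affine scheme to an affine one is quasi-affine. -/
theorem isQuasiAffineMor_yon_map {W Z : Over S} (h : W ⟶ Z) [W.left.IsQuasiAffine] [IsAffine Z.left] :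
    AlgSp.IsQuasiAffineMor ((AlgSp.yon S).map h) := by
  intro Z' hZ' g
  obtain ⟨g, rfl⟩ := (AlgSp.yon S).map_surjective g
  refine ⟨pullback h g, pullback.snd h g, (AlgSp.yon S).map (pullback.fst h g),
    GrothLib.AlgSp.isPullback_yon (IsPullback.of_hasPullback h g), ?_⟩
  have : IsAffine Z'.left := hZ'
  have : IsAffineHom g.left := isAffineHom_of_isAffine _
  have : IsAffineHom (pullback.fst h g).left :=
    MorphismProperty.of_isPullback (GrothLib.AlgSp.isPullback_left (IsPullback.of_hasPullback h g)).flip ‹_›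
  exact Scheme.IsQuasiAffine.of_isAffineHom (pullback.fst h g).left

/-- A quasi-affine morphism followed by a map of affine schemes is quasi-affine. -/
theorem isQuasiAffineMor_comp_map {F : AlgSp.Sp S} (hF : AlgSp.IsAlgSpace F) {Z T : Over S} [IsAffine Z.left]
    [IsAffine T.left] (b : F ⟶ (AlgSp.yon S).obj Z) (hb : AlgSp.IsQuasiAffineMor b) (p : Z ⟶ T) :
    AlgSp.IsQuasiAffineMor (b ≫ (AlgSp.yon S).map p) := by
  obtain ⟨W, i, m, sq, hW⟩ := hb (Z := Z) ‹_› (𝟙 _)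
  have : IsIso m := sq.isIso_fst_of_isIso
  have e : b ≫ (AlgSp.yon S).map p = inv m ≫ (AlgSp.yon S).map (i ≫ p) := by
    rw [IsIso.eq_inv_comp, ← Category.assoc, sq.w, Functor.map_comp, Category.comp_id]
  rw [e]
  exact isoInvariant_quasiAffine (AlgSp.IsAlgSpace.yon_obj W) (AlgSp.IsAlgSpace.yon_obj T) (inv m) _
    (isQuasiAffineMor_yon_map (i ≫ p))

/-- Functors to the final category are equal. -/
theorem eq_of_selfOver {𝒵 : _root_.AlgSt.Cat S} (F G : 𝒵 ⥤ᵇ _root_.FibCat.selfOver (Over S)) : F = G := by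
  have e : F.toFunctor = G.toFunctor :=
    (Functor.comp_id _).symm.trans (F.w.trans (G.w.symm.trans (Functor.comp_id _)))
  obtain ⟨F, hF⟩ := F
  obtain ⟨G, hG⟩ := G
  obtain rfl : F = G := e
  rfl

theorem hom_eq_of_lift {R R' : Over S} (h : R ⟶ R') {a b : (_root_.FibCat.selfOver (Over S)).obj} (f g : a ⟶ b)
    [(_root_.FibCat.selfOver (Over S)).p.IsHomLift h f] [(_root_.FibCat.selfOver (Over S)).p.IsHomLift h g] : f = g :=
  (IsHomLift.fac' (_root_.FibCat.selfOver (Over S)).p h f).trans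
    (IsHomLift.fac' (_root_.FibCat.selfOver (Over S)).p h g).symm

variable {V V' : Over S} (a : _root_.FibCat.overCat V ⥤ᵇ _root_.FibCat.selfOver (Over S))
  (b : _root_.FibCat.overCat V' ⥤ᵇ _root_.FibCat.selfOver (Over S))

/-- The product as a fibre product over the final category. -/
noncomputable def prodToFp : _root_.FibCat.overCat (V ⊗ V') ⥤ᵇ _root_.FibCat.fp a b :=
  _root_.FibCat.fpLift (GrothLib.FibCat.overMap (fst V V')) (GrothLib.FibCat.overMap (snd V V'))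
    (eqToIso (eq_of_selfOver _ _))

theorem isEquivOver_prodToFp : _root_.FibCat.IsEquivOver (prodToFp a b) := by
  refine FFEssSurjOver.isEquivOver ⟨⟨fun {x y} ψ => ?_⟩, ⟨fun {x y φ ψ} h => ?_⟩, fun η => ?_⟩
  · have h1 : (_root_.FibCat.overCat V).p.IsHomLift ψ.hom.fst.left ψ.hom.fst :=
      IsHomLift.map (_root_.FibCat.overCat V).p ψ.hom.fst
    have h2 : (_root_.FibCat.overCat V').p.IsHomLift ψ.hom.fst.left ψ.hom.snd :=
      Fp.isHomLift_snd ψ ψ.hom.fst.left ((Fp.isHomLift_iff ψ _).2 h1)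
    have e2 : ψ.hom.snd.left = ψ.hom.fst.left := by
      have := IsHomLift.fac' (_root_.FibCat.overCat V').p ψ.hom.fst.left ψ.hom.snd
      exact this.trans (by erw [Category.id_comp, Category.comp_id])
    have w1 : ψ.hom.fst.left ≫ y.hom ≫ fst V V' = x.hom ≫ fst V V' := Over.w ψ.hom.fst
    have w2 : ψ.hom.snd.left ≫ y.hom ≫ snd V V' = x.hom ≫ snd V V' := Over.w ψ.hom.snd
    rw [e2] at w2
    refine ⟨Over.homMk ψ.hom.fst.left (CartesianMonoidalCategory.hom_ext _ _ ?_ ?_),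
      Fp.hom_ext (Over.OverMorphism.ext rfl) (Over.OverMorphism.ext e2.symm)⟩
    · rw [Category.assoc]; exact w1
    · rw [Category.assoc]; exact w2
  · exact Over.OverMorphism.ext (congrArg (fun t => t.hom.fst.left) h)
  · let x₁ : (_root_.FibCat.overCat V).obj := η.obj.fst
    let x₂ : (_root_.FibCat.overCat V').obj := η.obj.snd
    have hη : (_root_.FibCat.selfOver (Over S)).p.IsHomLift (𝟙 x₁.left) η.obj.iso.hom := Fp.iso_lift η
    have hb : x₂.left = x₁.left :=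
      (b.w_obj x₂).symm.trans (IsHomLift.codomain_eq (_root_.FibCat.selfOver (Over S)).p (𝟙 x₁.left) η.obj.iso.hom)
    let z : (_root_.FibCat.overCat (V ⊗ V')).obj := Over.mk (lift x₁.hom (eqToHom hb.symm ≫ x₂.hom))
    let i₁ : (GrothLib.FibCat.overMap (fst V V')).obj z ≅ x₁ := Over.isoMk (Iso.refl _) (by
      change 𝟙 _ ≫ x₁.hom = lift x₁.hom _ ≫ fst V V'
      rw [Category.id_comp, lift_fst])
    let i₂ : (GrothLib.FibCat.overMap (snd V V')).obj z ≅ x₂ := Over.isoMk (eqToIso hb.symm) (by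
      change eqToHom hb.symm ≫ x₂.hom = lift _ (eqToHom hb.symm ≫ x₂.hom) ≫ snd V V'
      rw [lift_snd])
    have hi₁ : (_root_.FibCat.overCat V).p.IsHomLift (𝟙 x₁.left) i₁.hom :=
      IsHomLift.of_fac' _ _ _ rfl rfl (by erw [Category.id_comp, Category.id_comp]; rfl)
    have hi₂ : (_root_.FibCat.overCat V').p.IsHomLift (𝟙 x₁.left) i₂.hom :=
      IsHomLift.of_fac' _ _ _ rfl hb (by erw [Category.id_comp, Category.id_comp]; rfl)
    refine ⟨z, Fp.isoMk (a := (prodToFp a b).obj z) (b := η) i₁ i₂ ?_, (Fp.isHomLift_iff _ _).2 hi₁⟩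
    have e1 : (_root_.FibCat.selfOver (Over S)).p.IsHomLift (𝟙 x₁.left) ((prodToFp a b).obj z).obj.iso.hom :=
      Fp.iso_lift ((prodToFp a b).obj z)
    have e2 : (_root_.FibCat.selfOver (Over S)).p.IsHomLift (𝟙 x₁.left) (a.map i₁.hom) :=
      BasedFunctor.preserves_isHomLift a _ _
    have e3 : (_root_.FibCat.selfOver (Over S)).p.IsHomLift (𝟙 x₁.left) (b.map i₂.hom) :=
      BasedFunctor.preserves_isHomLift b _ _
    have l1 : (_root_.FibCat.selfOver (Over S)).p.IsHomLift (𝟙 x₁.left) (a.map i₁.hom ≫ η.obj.iso.hom) :=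
      IsHomLift.comp_lift_id_right' _ _ _ x₁.left _
    have l2 : (_root_.FibCat.selfOver (Over S)).p.IsHomLift (𝟙 x₁.left)
        (((prodToFp a b).obj z).obj.iso.hom ≫ b.map i₂.hom) :=
      IsHomLift.comp_lift_id_right' _ _ _ x₁.left _
    exact hom_eq_of_lift (𝟙 x₁.left) _ _

variable {𝒳 : _root_.AlgSt.Cat S}

/-- The pair map of two charts as a map of spaces. -/
theorem exists_pair_map (w : _root_.FibCat.overCat V ⥤ᵇ 𝒳) (v : _root_.FibCat.overCat V' ⥤ᵇ 𝒳) {F : AlgSp.Space S}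
    (e : ofSp F.obj ⥤ᵇ _root_.FibCat.fp w v) (he : _root_.FibCat.IsEquivOver e) :
    ∃ m : F.obj ⟶ (AlgSp.yon S).obj (V ⊗ V'),
      m ≫ (AlgSp.yon S).map (fst V V') = spMapOfOver (BasedFunctor.comp e (_root_.FibCat.fpFst w v)) ∧
      (AlgSp.IsQuasiAffineMor m ↔ RepByAlgSpWith AlgSp.IsQuasiAffineMor (fpToFp w v (_root_.FibCat.toSelf 𝒳))) := by
  let t := _root_.FibCat.toSelf 𝒳
  let E := prodToFp (BasedFunctor.comp w t) (BasedFunctor.comp v t)
  have hE := isEquivOver_prodToFp (BasedFunctor.comp w t) (BasedFunctor.comp v t)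
  obtain ⟨E', hE', ⟨η⟩, ⟨ε⟩⟩ := IsEquivOver.symm hE
  let Ψ := BasedFunctor.comp (BasedFunctor.comp e (fpToFp w v t)) E'
  let m := spMapOfOver Ψ
  let i : BasedFunctor.comp (ofSpMap m) (BasedFunctor.comp (toOverCat (V ⊗ V')) E) ≅
      BasedFunctor.comp e (fpToFp w v t) :=
    whiskerRightIso (isoOfSpMapOfOver Ψ).symm E ≪≫ whiskerLeftIso (BasedFunctor.comp e (fpToFp w v t)) ε
  refine ⟨m, ?_, ?_⟩
  · rw [← spMapOfOver_overMap, ← spMapOfOver_ofSpMap_comp]
    exact spMapOfOver_congr (whiskerRightIso i (_root_.FibCat.fpFst (BasedFunctor.comp w t) (BasedFunctor.comp v t)))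
  · rw [repByAlgSpWith_iff_of_square (f := fpToFp w v t) (f' := ofSpMap m) e
      (BasedFunctor.comp (toOverCat (V ⊗ V')) E) he (IsEquivOver.comp (isEquivOver_toOverCat _) hE) i]
    exact ⟨fun h => repByAlgSpWith_ofSpMap F.property (AlgSp.IsAlgSpace.yon_obj _) _ fun U c =>
        stableSp_quasiAffine F.property (AlgSp.IsAlgSpace.yon_obj _)
          (GrothLib.AlgSp.isAlgSpace_pullback' (AlgSp.IsAlgSpace.yon_obj _) (AlgSp.IsAlgSpace.yon_obj U) F.property _ _)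
          (AlgSp.IsAlgSpace.yon_obj U) _ _ _ _ (IsPullback.of_hasPullback c _).flip h,
      mem_of_repByAlgSpWith_ofSpMap isoInvariant_quasiAffine detected_quasiAffine F.property
        (AlgSp.IsAlgSpace.yon_obj _) _⟩

theorem repByAlgSpWith_fpToFp_iff (hG : _root_.FibCat.IsFibGrpd 𝒳.p) (w : _root_.FibCat.overCat V ⥤ᵇ 𝒳)
    (v : _root_.FibCat.overCat V' ⥤ᵇ 𝒳) {P : MorphismProperty (AlgSp.Sp S)} :
    RepByAlgSpWith P (fpToFp w v (_root_.FibCat.toSelf 𝒳)) ↔
      RepByAlgSpWith P (_root_.FibCat.fpFst (fpPair w v (_root_.FibCat.toSelf 𝒳))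
        (_root_.FibCat.diag (_root_.FibCat.toSelf 𝒳))) :=
  (repByAlgSpWith_iff_of_square (f := _root_.FibCat.fpFst (fpPair w v (_root_.FibCat.toSelf 𝒳))
      (_root_.FibCat.diag (_root_.FibCat.toSelf 𝒳))) (f' := fpToFp w v (_root_.FibCat.toSelf 𝒳))
    (fpToFpLift w v (_root_.FibCat.toSelf 𝒳)) (BasedFunctor.id _)
    (isEquivOver_fpToFpLift (isFibGrpd_overCat V') w v _) (IsEquivOver.refl _) (Iso.refl _)).symm

variable [IsAffine S]

/-- Charts by affine schemes are quasi-affine over a stack with quasi-affine diagonal. -/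
theorem repByAlgSpWith_chart_of_diag (hG : _root_.FibCat.IsFibGrpd 𝒳.p)
    (hΔ : RepByAlgSpWith AlgSp.IsQuasiAffineMor (_root_.FibCat.diag (_root_.FibCat.toSelf 𝒳))) {V : Over S}
    [IsAffine V.left] (x : _root_.FibCat.overCat V ⥤ᵇ 𝒳) : RepByAlgSpWith AlgSp.IsQuasiAffineMor x := by
  have h1 := repByAlgSp1_of_diag (repByAlgSp1_of_repByAlgSpWith hΔ) hG x
  have hT : ∀ (T : Over S) (y : _root_.FibCat.overCat T ⥤ᵇ 𝒳) (_ : IsAffine T.left),
      HasRep AlgSp.IsQuasiAffineMor (_root_.FibCat.fpFst y x) := fun T y hTa => by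
    obtain ⟨F, e, he⟩ := h1 T y
    obtain ⟨m, hm, hiff⟩ := exists_pair_map y x e he
    have : IsAffine (T ⊗ V).left := isAffine_tensor T V
    refine ⟨F, e, he, hm ▸ isQuasiAffineMor_comp_map F.property m (hiff.2 ?_) _⟩
    exact (repByAlgSpWith_fpToFp_iff hG y x).2 (repByAlgSpWith_fpFst _ hΔ)
  intro T y
  let I := T.left.affineOpens
  let O : I → Over S := fun A => Over.mk (A.1.ι ≫ T.hom)
  let c : ∀ A, O A ⟶ T := fun A => Over.homMk A.1.ι rfl
  have hc : ∀ A, IsOpenImmersion (c A).left := fun A => inferInstanceAs (IsOpenImmersion A.1.ι)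
  exact hasRep_of_family isoInvariant_quasiAffine GrothLib.SpQuot.isLocalOnBase_fppf_quasiAffine x y O c
    (fun A => have := hc A; inferInstance) (fun A => have := hc A; inferInstance)
    (fun t => by
      obtain ⟨C, hC, hx, -⟩ := exists_isAffineOpen_mem_and_subset (x := t) (U := (⊤ : T.left.Opens)) trivial
      exact ⟨⟨C, hC⟩, ⟨t, hx⟩, rfl⟩)
    (h1 T y) fun A => hT (O A) _ A.2

/-- A stack with quasi-affine affine charts has quasi-affine diagonal. -/
theorem repByAlgSpWith_diag_of_charts (h𝒳 : IsAlgStack Scheme.fppfPrecoverage 𝒳) {U : Over S}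
    (x : _root_.FibCat.overCat U ⥤ᵇ 𝒳) (hx : RepByAlgSpWith (AlgSp.LocP @Smooth) x)
    (hxs : RepByAlgSpWith AlgSp.IsSurjectiveMor x)
    (hq : ∀ (A : U.left.Opens), IsAffineOpen A → RepByAlgSpWith AlgSp.IsQuasiAffineMor
      (BasedFunctor.comp (_root_.AlgSt.overMap (Over.homMk A.ι rfl : Over.mk (A.ι ≫ U.hom) ⟶ U)) x)) :
    RepByAlgSpWith AlgSp.IsQuasiAffineMor (_root_.FibCat.diag (_root_.FibCat.toSelf 𝒳)) := by
  intro T y
  let t := _root_.FibCat.toSelf 𝒳
  let y₁ := BasedFunctor.comp y (_root_.FibCat.fpFst t t)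
  let y₂ := BasedFunctor.comp y (_root_.FibCat.fpSnd t t)
  obtain ⟨V₁, c₁, l₁, hc₁, hc₁s, ⟨j₁⟩⟩ := exists_lift_chart y₁ x hx hxs
  obtain ⟨V, c₂, l₂, hc₂, hc₂s, ⟨j₂⟩⟩ :=
    exists_lift_chart (BasedFunctor.comp (GrothLib.FibCat.overMap c₁) y₂) x hx hxs
  let A := U.left.affineOpens
  let O : A → Over S := fun C => Over.mk (C.1.ι ≫ U.hom)
  let jO : ∀ C : A, O C ⟶ U := fun C => Over.homMk C.1.ι rfl
  have hlift : ∀ {W : Over S} (g : W ⟶ U) (C : A), Set.range g.left ⊆ C.1 → ∃ l : W ⟶ O C, l ≫ jO C = g :=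
    fun {W} g C h => by
    have h' : Set.range g.left ⊆ Set.range C.1.ι := by rwa [Scheme.Opens.range_ι]
    refine ⟨Over.homMk (IsOpenImmersion.lift C.1.ι g.left h') ?_, Over.OverMorphism.ext (IsOpenImmersion.lift_fac _ _ _)⟩
    change IsOpenImmersion.lift C.1.ι g.left h' ≫ C.1.ι ≫ U.hom = W.hom
    rw [IsOpenImmersion.lift_fac_assoc]
    exact Over.w g
  let ι := {D : V.left.affineOpens × A × A // Set.range (D.1.1.ι ≫ (c₂ ≫ l₁).left) ⊆ D.2.1.1 ∧
    Set.range (D.1.1.ι ≫ l₂.left) ⊆ D.2.2.1}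
  let Vi : ι → Over S := fun D => Over.mk (D.1.1.1.ι ≫ V.hom)
  let r : ∀ D, Vi D ⟶ V := fun D => Over.homMk D.1.1.1.ι rfl
  have hr : ∀ D, IsOpenImmersion (r D).left := fun D => inferInstanceAs (IsOpenImmersion D.1.1.1.ι)
  have hsm : ∀ D, Smooth (r D ≫ c₂ ≫ c₁).left := fun D => by
    have := hr D; have := hc₁; have := hc₂
    rw [Over.comp_left, Over.comp_left]; infer_instance
  refine hasRep_of_family isoInvariant_quasiAffine GrothLib.SpQuot.isLocalOnBase_fppf_quasiAffine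
    (_root_.FibCat.diag t) y Vi (fun D => r D ≫ c₂ ≫ c₁) (fun D => have := hsm D; inferInstance)
    (fun D => have := hsm D; inferInstance) (fun p => ?_) (h𝒳.diag T y) fun D => ?_
  · obtain ⟨p₁, rfl⟩ := hc₁s.surj p
    obtain ⟨q, rfl⟩ := hc₂s.surj p₁
    obtain ⟨B₁, hB₁, h₁, -⟩ := exists_isAffineOpen_mem_and_subset (x := (c₂ ≫ l₁).left q) (U := (⊤ : U.left.Opens)) trivial
    obtain ⟨B₂, hB₂, h₂, -⟩ := exists_isAffineOpen_mem_and_subset (x := l₂.left q) (U := (⊤ : U.left.Opens)) trivial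
    obtain ⟨C, hC, hq', hsub⟩ := exists_isAffineOpen_mem_and_subset (x := q)
      (U := (c₂ ≫ l₁).left ⁻¹ᵁ B₁ ⊓ l₂.left ⁻¹ᵁ B₂) ⟨h₁, h₂⟩
    refine ⟨⟨(⟨C, hC⟩, ⟨B₁, hB₁⟩, ⟨B₂, hB₂⟩), ?_, ?_⟩, ⟨q, hq'⟩, rfl⟩
    · rintro _ ⟨z, rfl⟩; exact (hsub z.2).1
    · rintro _ ⟨z, rfl⟩; exact (hsub z.2).2
  obtain ⟨⟨C, B₁, B₂⟩, hD₁, hD₂⟩ := D
  let D : ι := ⟨(C, B₁, B₂), hD₁, hD₂⟩
  obtain ⟨a₁, ha₁⟩ := hlift (r D ≫ c₂ ≫ l₁) B₁ hD₁
  obtain ⟨a₂, ha₂⟩ := hlift (r D ≫ l₂) B₂ hD₂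
  let w := BasedFunctor.comp (GrothLib.FibCat.overMap (jO B₁)) x
  let v := BasedFunctor.comp (GrothLib.FibCat.overMap (jO B₂)) x
  let d := r D ≫ c₂ ≫ c₁
  let k₁ : BasedFunctor.comp (GrothLib.FibCat.overMap d) y₁ ≅ BasedFunctor.comp (GrothLib.FibCat.overMap a₁) w :=
    (whiskerRightIso (overMapCompIso (r D) (c₂ ≫ c₁)) y₁).symm ≪≫
      whiskerLeftIso (GrothLib.FibCat.overMap (r D)) ((whiskerRightIso (overMapCompIso c₂ c₁) y₁).symm ≪≫
        whiskerLeftIso (GrothLib.FibCat.overMap c₂) j₁ ≪≫ whiskerRightIso (overMapCompIso c₂ l₁) x) ≪≫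
      whiskerRightIso (overMapCompIso (r D) (c₂ ≫ l₁) ≪≫ eqToIso (congrArg GrothLib.FibCat.overMap ha₁.symm) ≪≫
        (overMapCompIso a₁ (jO B₁)).symm) x
  let k₂ : BasedFunctor.comp (GrothLib.FibCat.overMap d) y₂ ≅ BasedFunctor.comp (GrothLib.FibCat.overMap a₂) v :=
    (whiskerRightIso (overMapCompIso (r D) (c₂ ≫ c₁)) y₂).symm ≪≫
      whiskerLeftIso (GrothLib.FibCat.overMap (r D)) ((whiskerRightIso (overMapCompIso c₂ c₁) y₂).symm ≪≫ j₂) ≪≫
      whiskerRightIso (overMapCompIso (r D) l₂ ≪≫ eqToIso (congrArg GrothLib.FibCat.overMap ha₂.symm) ≪≫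
        (overMapCompIso a₂ (jO B₂)).symm) x
  let κ : BasedFunctor.comp (GrothLib.FibCat.overMap a₁) (BasedFunctor.comp w t) ≅
      BasedFunctor.comp (GrothLib.FibCat.overMap a₂) (BasedFunctor.comp v t) :=
    (whiskerRightIso k₁ t).symm ≪≫
      whiskerLeftIso (BasedFunctor.comp (GrothLib.FibCat.overMap d) y) (_root_.FibCat.fpIso t t) ≪≫
      whiskerRightIso k₂ t
  let y' := _root_.FibCat.fpLift (GrothLib.FibCat.overMap a₁) (GrothLib.FibCat.overMap a₂) κ
  let yc := BasedFunctor.comp (GrothLib.FibCat.overMap d) y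
  let j : BasedFunctor.comp y' (fpPair w v t) ≅ yc :=
    natIsoOfComponents
      (fun o => Fp.isoMk (a := (fpPair w v t).obj (y'.obj o)) (b := yc.obj o)
        (((BasedNatTrans.forgetful _ _).mapIso k₁).app o).symm
        (((BasedNatTrans.forgetful _ _).mapIso k₂).app o).symm (by
          have h2 : k₂.hom.app o ≫ k₂.inv.app o = 𝟙 _ := congrArg (fun s => s.app o) k₂.hom_inv_id
          change t.map (k₁.inv.app o) ≫ (yc.obj o).obj.iso.hom =
            (t.map (k₁.inv.app o) ≫ (yc.obj o).obj.iso.hom ≫ t.map (k₂.hom.app o)) ≫ t.map (k₂.inv.app o)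
          rw [Category.assoc, Category.assoc, ← t.map_comp, h2]
          exact (congrArg (t.map (k₁.inv.app o) ≫ ·)
            ((congrArg ((yc.obj o).obj.iso.hom ≫ ·) (t.map_id _)).trans (Category.comp_id _))).symm))
      (fun o => (Fp.isHomLift_iff _ _).2
        (BasedNatTrans.isHomLift k₁.inv ((GrothLib.FibCat.overMap a₁).w_obj o).symm))
      (fun {_ _} φ => Fp.hom_ext (k₁.inv.toNatTrans.naturality φ) (k₂.inv.toNatTrans.naturality φ))
  have hv : RepByAlgSpWith AlgSp.IsQuasiAffineMor v := hq B₂.1 B₂.2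
  have hwa : IsAffine (O B₁).left := B₁.2
  have hva : IsAffine (O B₂).left := B₂.2
  have : IsAffine (O B₁ ⊗ O B₂).left := isAffine_tensor (O B₁) (O B₂)
  obtain ⟨F, e, he, ha⟩ := hv (O B₁) w
  obtain ⟨W, i, m₀, sq, hW⟩ := ha (Z := O B₁) hwa (𝟙 _)
  have : IsIso m₀ := sq.isIso_fst_of_isIso
  obtain ⟨m, -, hiff⟩ := exists_pair_map w v e he
  obtain ⟨h, hh⟩ := (AlgSp.yon S).map_surjective (m₀ ≫ m)
  have hm : AlgSp.IsQuasiAffineMor m := by
    rw [← IsIso.inv_hom_id_assoc m₀ m, ← hh]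
    exact isoInvariant_quasiAffine (AlgSp.IsAlgSpace.yon_obj W) (AlgSp.IsAlgSpace.yon_obj _) (inv m₀) _
      (isQuasiAffineMor_yon_map h)
  have hpair := (repByAlgSpWith_fpToFp_iff h𝒳.isStack.1 w v).1 (hiff.1 hm)
  exact HasRep.of_equiv (BasedFunctor.comp (Fp.paste (_root_.FibCat.diag t) (fpPair w v t) y')
      (Fp.congr j (Iso.refl (_root_.FibCat.diag t))))
    (IsEquivOver.comp (Fp.isEquivOver_paste (_root_.FibCat.diag t) (fpPair w v t) y')
      (Fp.isEquivOver_congr j (Iso.refl _))) (Iso.refl _) (hpair _ y')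

end GrothLib.AlgSt.QA
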