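import Groth.Prelude.Def_Grpd
import Groth.Agent.Lib.AlgSt.QuasiAffineDiag
import Groth.Agent.Lib.AlgSt.Diag

/-!
# Arrows of a chart of a stack

For `x : (Sch/U) ⥤ 𝒳`, an arrow over `T` from `b` to `a` (`a b : T ⟶ U`) is a vertical morphism between the
values of `x`. `Arrows x` says that arrows are classified by a scheme, and gives its groupoid scheme.
-/

set_option backward.isDefEq.respectTransparency false
set_option backward.isDefEq.respectTransparency.types false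

universe u

open CategoryTheory CategoryTheory.Limits AlgebraicGeometry Opposite

noncomputable section

namespace GrothLib.AlgSt.ChartArr

open _root_.AlgSt GrothLib.FibCat GrothLib.AlgSt

variable {S : Scheme.{u}} {𝒳 : _root_.AlgSt.Cat S} {U : Over S} (x : _root_.FibCat.overCat U ⥤ᵇ 𝒳)

/-- The value of a chart at a point. -/
abbrev pt {T : Over S} (a : T ⟶ U) : 𝒳.obj := x.obj (Over.mk a)

theorem pt_proj {T : Over S} (a : T ⟶ U) : 𝒳.p.obj (pt x a) = T := x.w_obj _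

/-- The morphism between values induced by a morphism of the test schemes. -/
abbrev pmor {T T' : Over S} (g : T ⟶ T') {a : T ⟶ U} {a' : T' ⟶ U} (ha : g ≫ a' = a) : pt x a ⟶ pt x a' :=
  x.map (Over.homMk g ha : Over.mk a ⟶ Over.mk a')

instance pmor_lift {T T' : Over S} (g : T ⟶ T') {a : T ⟶ U} {a' : T' ⟶ U} (ha : g ≫ a' = a) :
    𝒳.p.IsHomLift g (pmor x g ha) :=
  have : (_root_.FibCat.overCat U).p.IsHomLift g (Over.homMk g ha : Over.mk a ⟶ Over.mk a') :=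
    IsHomLift.map (_root_.FibCat.overCat U).p (Over.homMk g ha : Over.mk a ⟶ Over.mk a')
  BasedFunctor.preserves_isHomLift x g _

theorem pmor_comp {T T' T'' : Over S} (g : T ⟶ T') (g' : T' ⟶ T'') {a : T ⟶ U} {a' : T' ⟶ U} {a'' : T'' ⟶ U}
    (ha : g ≫ a' = a) (ha' : g' ≫ a'' = a') :
    pmor x g ha ≫ pmor x g' ha' = pmor x (g ≫ g') (by rw [Category.assoc, ha', ha]) := by
  rw [pmor, pmor, pmor, ← Functor.map_comp]
  rfl

theorem pmor_id {T : Over S} (a : T ⟶ U) : pmor x (𝟙 T) (Category.id_comp a) = 𝟙 (pt x a) :=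
  x.map_id (Over.mk a)

/-- `φ'` restricts to `φ` along `g`. -/
def Sq {T T' : Over S} (g : T ⟶ T') {a b : T ⟶ U} {a' b' : T' ⟶ U} (ha : g ≫ a' = a) (hb : g ≫ b' = b)
    (φ : pt x a ⟶ pt x b) (φ' : pt x a' ⟶ pt x b') : Prop :=
  φ ≫ pmor x g hb = pmor x g ha ≫ φ'

variable {x}

theorem Sq.trans {T T' T'' : Over S} {g : T ⟶ T'} {g' : T' ⟶ T''} {a b : T ⟶ U} {a' b' : T' ⟶ U}
    {a'' b'' : T'' ⟶ U} {ha : g ≫ a' = a} {hb : g ≫ b' = b} {ha' : g' ≫ a'' = a'} {hb' : g' ≫ b'' = b'}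
    {φ : pt x a ⟶ pt x b} {φ' : pt x a' ⟶ pt x b'} {φ'' : pt x a'' ⟶ pt x b''} (h : Sq x g ha hb φ φ')
    (h' : Sq x g' ha' hb' φ' φ'') :
    Sq x (g ≫ g') (a := a) (b := b) (a' := a'') (b' := b'') (by rw [Category.assoc, ha', ha])
      (by rw [Category.assoc, hb', hb]) φ φ'' := by
  unfold Sq at *
  rw [← pmor_comp x g g' hb hb', ← pmor_comp x g g' ha ha', ← Category.assoc, h, Category.assoc, h', Category.assoc]

theorem Sq.vcomp {T T' : Over S} {g : T ⟶ T'} {a m b : T ⟶ U} {a' m' b' : T' ⟶ U} {ha : g ≫ a' = a}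
    {hm : g ≫ m' = m} {hb : g ≫ b' = b} {φ : pt x a ⟶ pt x m} {ψ : pt x m ⟶ pt x b} {φ' : pt x a' ⟶ pt x m'}
    {ψ' : pt x m' ⟶ pt x b'} (h : Sq x g ha hm φ φ') (h' : Sq x g hm hb ψ ψ') :
    Sq x g ha hb (φ ≫ ψ) (φ' ≫ ψ') := by
  unfold Sq at *
  rw [Category.assoc, h', ← Category.assoc, h, Category.assoc]

theorem Sq.inverse {T T' : Over S} {g : T ⟶ T'} {a b : T ⟶ U} {a' b' : T' ⟶ U} {ha : g ≫ a' = a}
    {hb : g ≫ b' = b} {φ : pt x a ⟶ pt x b} {φ' : pt x a' ⟶ pt x b'} [IsIso φ] [IsIso φ']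
    (h : Sq x g ha hb φ φ') : Sq x g hb ha (inv φ) (inv φ') := by
  unfold Sq at *
  rw [IsIso.inv_comp_eq, ← Category.assoc, IsIso.eq_comp_inv]
  exact h.symm

theorem Sq.one {T T' : Over S} (g : T ⟶ T') {a : T ⟶ U} {a' : T' ⟶ U} (ha : g ≫ a' = a) :
    Sq x g ha ha (𝟙 (pt x a)) (𝟙 (pt x a')) := by
  unfold Sq
  rw [Category.id_comp, Category.comp_id]

variable (hG : _root_.FibCat.IsFibGrpd 𝒳.p)
include hG

theorem exists_restrict {T T' : Over S} (g : T ⟶ T') {a b : T ⟶ U} {a' b' : T' ⟶ U} (ha : g ≫ a' = a)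
    (hb : g ≫ b' = b) (φ' : pt x a' ⟶ pt x b') (hφ' : 𝒳.p.IsHomLift (𝟙 T') φ') :
    ∃ φ : pt x a ⟶ pt x b, 𝒳.p.IsHomLift (𝟙 T) φ ∧ Sq x g ha hb φ φ' := by
  have : 𝒳.p.IsHomLift g (pmor x g ha ≫ φ') := IsHomLift.comp_lift_id_right' 𝒳.p g (pmor x g ha) T' φ'
  have : 𝒳.p.IsHomLift (𝟙 T ≫ g) (pmor x g ha ≫ φ') := (Category.id_comp g).symm ▸ this
  obtain ⟨φ, ⟨h1, h2⟩, -⟩ := IsFibGrpd.existsUnique_lift hG g (𝟙 T) (pmor x g hb) (pmor x g ha ≫ φ')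
  exact ⟨φ, h1, h2⟩

theorem Sq.unique {T T' : Over S} {g : T ⟶ T'} {a b : T ⟶ U} {a' b' : T' ⟶ U} {ha : g ≫ a' = a}
    {hb : g ≫ b' = b} {φ₁ φ₂ : pt x a ⟶ pt x b} {φ' : pt x a' ⟶ pt x b'} (h₁ : 𝒳.p.IsHomLift (𝟙 T) φ₁)
    (h₂ : 𝒳.p.IsHomLift (𝟙 T) φ₂) (s₁ : Sq x g ha hb φ₁ φ') (s₂ : Sq x g ha hb φ₂ φ') : φ₁ = φ₂ :=
  IsFibGrpd.hom_ext hG (𝟙 T) g (pmor x g hb) (Eq.trans s₁ (Eq.symm s₂))

theorem Sq.factor {T T' T'' : Over S} {g : T ⟶ T'} {g' : T' ⟶ T''} {a b : T ⟶ U} {a' b' : T' ⟶ U}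
    {a'' b'' : T'' ⟶ U} {ha : g ≫ a' = a} {hb : g ≫ b' = b} {ha' : g' ≫ a'' = a'} {hb' : g' ≫ b'' = b'}
    {r : T ⟶ T''} {har : r ≫ a'' = a} {hbr : r ≫ b'' = b} (hr : r = g ≫ g')
    {φ : pt x a ⟶ pt x b} {φ' : pt x a' ⟶ pt x b'} {φ'' : pt x a'' ⟶ pt x b''} (h₁ : 𝒳.p.IsHomLift (𝟙 T) φ)
    (h₂ : 𝒳.p.IsHomLift (𝟙 T') φ') (h : Sq x r har hbr φ φ'') (h' : Sq x g' ha' hb' φ' φ'') :
    Sq x g ha hb φ φ' := by
  subst hr
  unfold Sq at *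
  have l1 : 𝒳.p.IsHomLift g (φ ≫ pmor x g hb) := IsHomLift.comp_lift_id_left' 𝒳.p T φ g (pmor x g hb)
  have l2 : 𝒳.p.IsHomLift g (pmor x g ha ≫ φ') := IsHomLift.comp_lift_id_right' 𝒳.p g (pmor x g ha) T' φ'
  refine IsFibGrpd.hom_ext hG g g' (pmor x g' hb') ?_
  rw [Category.assoc, Category.assoc, h', pmor_comp x g g' hb hb', h, ← pmor_comp x g g' ha ha', Category.assoc]

variable (x) in
omit hG in
/-- The arrows of a chart are classified by a scheme. -/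
structure Arrows where
  R : Over S
  t : R ⟶ U
  s : R ⟶ U
  Φ : pt x t ⟶ pt x s
  hΦ : 𝒳.p.IsHomLift (𝟙 R) Φ
  univ : ∀ {T : Over S} (a b : T ⟶ U) (φ : pt x a ⟶ pt x b), 𝒳.p.IsHomLift (𝟙 T) φ →
    ∃ (r : T ⟶ R) (ha : r ≫ t = a) (hb : r ≫ s = b), Sq x r ha hb φ Φ
  uniq : ∀ {T : Over S} (r r' : T ⟶ R) {a b : T ⟶ U} (φ : pt x a ⟶ pt x b) (ha : r ≫ t = a) (hb : r ≫ s = b)
    (ha' : r' ≫ t = a) (hb' : r' ≫ s = b), 𝒳.p.IsHomLift (𝟙 T) φ → Sq x r ha hb φ Φ → Sq x r' ha' hb' φ Φ → r = r'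

variable (A : Arrows x)

omit hG in
/-- `r` is the arrow `φ`. -/
def IsArr {T : Over S} (r : T ⟶ A.R) {a b : T ⟶ U} (φ : pt x a ⟶ pt x b) : Prop :=
  𝒳.p.IsHomLift (𝟙 T) φ ∧ ∃ (ha : r ≫ A.t = a) (hb : r ≫ A.s = b), Sq x r ha hb φ A.Φ

omit hG in
theorem IsArr.ext {T : Over S} {r r' : T ⟶ A.R} {a b : T ⟶ U} {φ : pt x a ⟶ pt x b} (h : IsArr A r φ)
    (h' : IsArr A r' φ) : r = r' :=
  A.uniq r r' φ h.2.1 h.2.2.1 h'.2.1 h'.2.2.1 h.1 h.2.2.2 h'.2.2.2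

theorem exists_isArr {T : Over S} (r : T ⟶ A.R) {a b : T ⟶ U} (ha : r ≫ A.t = a) (hb : r ≫ A.s = b) :
    ∃ φ : pt x a ⟶ pt x b, IsArr A r φ :=
  let ⟨φ, h1, h2⟩ := exists_restrict hG r ha hb A.Φ A.hΦ
  ⟨φ, h1, ha, hb, h2⟩

omit hG in
theorem IsArr.pre {T T' : Over S} (g : T ⟶ T') {r : T' ⟶ A.R} {a b : T ⟶ U} {a' b' : T' ⟶ U}
    {φ : pt x a ⟶ pt x b} {φ' : pt x a' ⟶ pt x b'} (h : IsArr A r φ') (ha : g ≫ a' = a) (hb : g ≫ b' = b)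
    (hφ : 𝒳.p.IsHomLift (𝟙 T) φ) (hs : Sq x g ha hb φ φ') : IsArr A (g ≫ r) φ :=
  ⟨hφ, _, _, hs.trans h.2.2.2⟩

/-- Composable pairs. -/
def pairs : Over S := Over.mk (pullback.fst A.s.left A.t.left ≫ A.R.hom)

omit hG in
/-- The first arrow of a composable pair. -/
def pr₁ : pairs A ⟶ A.R := Over.homMk (pullback.fst A.s.left A.t.left) rfl

omit hG in
/-- The second arrow of a composable pair. -/
def pr₂ : pairs A ⟶ A.R := Over.homMk (pullback.snd A.s.left A.t.left) (by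
  show pullback.snd A.s.left A.t.left ≫ A.R.hom = pullback.fst A.s.left A.t.left ≫ A.R.hom
  rw [← Over.w A.t, ← Category.assoc, ← pullback.condition, Category.assoc, Over.w A.s, Over.w A.t])

omit hG in
theorem pr_w : pr₁ A ≫ A.s = pr₂ A ≫ A.t := Over.OverMorphism.ext pullback.condition

theorem exists_comp : ∃ c : pairs A ⟶ A.R, ∀ {T : Over S} (g : T ⟶ pairs A) {a m b : T ⟶ U}
    (φ : pt x a ⟶ pt x m) (ψ : pt x m ⟶ pt x b), IsArr A (g ≫ pr₁ A) φ → IsArr A (g ≫ pr₂ A) ψ →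
      IsArr A (g ≫ c) (φ ≫ ψ) := by
  obtain ⟨φ₁, h₁⟩ := exists_isArr hG A (pr₁ A) (a := pr₁ A ≫ A.t) rfl rfl
  obtain ⟨φ₂, h₂⟩ := exists_isArr hG A (pr₂ A) (a := pr₁ A ≫ A.s) (pr_w A).symm (b := pr₂ A ≫ A.s) rfl
  have := h₁.1
  have := h₂.1
  have hc : 𝒳.p.IsHomLift (𝟙 (pairs A)) (φ₁ ≫ φ₂) := IsHomLift.comp_lift_id_right' 𝒳.p (𝟙 (pairs A)) φ₁ (pairs A) φ₂
  obtain ⟨c, ha, hb, hs⟩ := A.univ _ _ (φ₁ ≫ φ₂) hc
  refine ⟨c, fun {T} g {a m b} φ ψ hφ hψ => ?_⟩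
  have ea : g ≫ pr₁ A ≫ A.t = a := (Category.assoc _ _ _).symm.trans hφ.2.1
  have em : g ≫ pr₁ A ≫ A.s = m := (Category.assoc _ _ _).symm.trans hφ.2.2.1
  have eb : g ≫ pr₂ A ≫ A.s = b := (Category.assoc _ _ _).symm.trans hψ.2.2.1
  have := hφ.1
  have := hψ.1
  have s₁ : Sq x g ea em φ φ₁ := Sq.factor hG rfl hφ.1 h₁.1 hφ.2.2.2 h₁.2.2.2
  have s₂ : Sq x g em eb ψ φ₂ := Sq.factor hG rfl hψ.1 h₂.1 hψ.2.2.2 h₂.2.2.2
  exact IsArr.pre A g ⟨hc, ha, hb, hs⟩ ea eb (IsHomLift.comp_lift_id_right' 𝒳.p (𝟙 T) φ T ψ) (s₁.vcomp s₂)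

omit hG in
theorem exists_unit : ∃ e : U ⟶ A.R, ∀ {T : Over S} (g : T ⟶ U), IsArr A (g ≫ e) (𝟙 (pt x g)) := by
  obtain ⟨e, ha, hb, hs⟩ := A.univ (𝟙 U) (𝟙 U) (𝟙 _) (IsHomLift.id (pt_proj x _))
  exact ⟨e, fun g => IsArr.pre A g ⟨IsHomLift.id (pt_proj x _), ha, hb, hs⟩ (Category.comp_id g) (Category.comp_id g)
    (IsHomLift.id (pt_proj x _)) (Sq.one g _)⟩

theorem exists_inv : ∃ i : A.R ⟶ A.R, ∀ {T : Over S} (g : T ⟶ A.R) {a b : T ⟶ U} (φ : pt x a ⟶ pt x b),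
    IsArr A g φ → ∃ ψ : pt x b ⟶ pt x a, IsArr A (g ≫ i) ψ ∧ φ ≫ ψ = 𝟙 _ ∧ ψ ≫ φ = 𝟙 _ := by
  have := A.hΦ
  have : IsIso A.Φ := IsFibGrpd.isIso_of_isHomLift_id hG (R := A.R) A.Φ
  have hl : 𝒳.p.IsHomLift (𝟙 A.R) (inv A.Φ) := by
    have : 𝒳.p.IsHomLift (𝟙 A.R) (asIso A.Φ).hom := A.hΦ
    exact IsHomLift.lift_id_inv 𝒳.p A.R (asIso A.Φ)
  obtain ⟨i, ha, hb, hs⟩ := A.univ A.s A.t (inv A.Φ) hl
  refine ⟨i, fun {T} g {a b} φ h => ?_⟩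
  have := h.1
  have : IsIso φ := IsFibGrpd.isIso_of_isHomLift_id hG (R := T) φ
  have hl' : 𝒳.p.IsHomLift (𝟙 T) (inv φ) := by
    have : 𝒳.p.IsHomLift (𝟙 T) (asIso φ).hom := h.1
    exact IsHomLift.lift_id_inv 𝒳.p T (asIso φ)
  exact ⟨inv φ, IsArr.pre A g ⟨hl, ha, hb, hs⟩ h.2.2.1 h.2.1 hl' h.2.2.2.inverse, IsIso.hom_inv_id φ,
    IsIso.inv_hom_id φ⟩

theorem exists_groupoid : ∃ G : Grpd.GroupoidScheme S, ∃ (hU : G.U = U.left) (hR : G.R = A.R.left),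
    G.pU = eqToHom hU ≫ U.hom ∧ G.s = eqToHom hR ≫ A.s.left ≫ eqToHom hU.symm ∧
      G.t = eqToHom hR ≫ A.t.left ≫ eqToHom hU.symm := by
  obtain ⟨c, hc⟩ := exists_comp hG A
  obtain ⟨e, he⟩ := exists_unit A
  obtain ⟨i, hi⟩ := exists_inv hG A
  -- arrows over a scheme
  have hmk : ∀ {T : Over S} (α β : T ⟶ A.R) (h : α ≫ A.s = β ≫ A.t), ∃ g : T ⟶ pairs A,
      g.left = pullback.lift α.left β.left (congrArg (fun f => f.left) h) ∧ g ≫ pr₁ A = α ∧ g ≫ pr₂ A = β :=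
    fun α β h => ⟨Over.homMk (pullback.lift α.left β.left (congrArg (fun f => f.left) h)) (by
      show pullback.lift α.left β.left _ ≫ pullback.fst A.s.left A.t.left ≫ A.R.hom = _
      rw [pullback.lift_fst_assoc]; exact Over.w α), rfl, Over.OverMorphism.ext (pullback.lift_fst _ _ _),
      Over.OverMorphism.ext (pullback.lift_snd _ _ _)⟩
  -- the composite is an arrow between the composed ends
  have hcomp : ∀ {T : Over S} (α β : T ⟶ A.R) (g : T ⟶ pairs A), g ≫ pr₁ A = α → g ≫ pr₂ A = β →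
      ∀ {a m b : T ⟶ U} (φ : pt x a ⟶ pt x m) (ψ : pt x m ⟶ pt x b), IsArr A α φ → IsArr A β ψ →
        IsArr A (g ≫ c) (φ ≫ ψ) := by
    rintro T α β g rfl rfl a m b φ ψ h h'
    exact hc g φ ψ h h'
  have hct : c ≫ A.t = pr₁ A ≫ A.t ∧ c ≫ A.s = pr₂ A ≫ A.s := by
    obtain ⟨φ, hφ⟩ := exists_isArr hG A (pr₁ A) (a := pr₁ A ≫ A.t) rfl rfl
    obtain ⟨ψ, hψ⟩ := exists_isArr hG A (pr₂ A) (a := pr₁ A ≫ A.s) (pr_w A).symm (b := pr₂ A ≫ A.s) rfl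
    have := hcomp (pr₁ A) (pr₂ A) (𝟙 _) (Category.id_comp _) (Category.id_comp _) φ ψ hφ hψ
    rw [Category.id_comp] at this
    exact ⟨this.2.1, this.2.2.1⟩
  have het : e ≫ A.t = 𝟙 U ∧ e ≫ A.s = 𝟙 U := by
    have := he (𝟙 U)
    rw [Category.id_comp] at this
    exact ⟨this.2.1, this.2.2.1⟩
  have hit : i ≫ A.t = A.s ∧ i ≫ A.s = A.t := by
    obtain ⟨φ, hφ⟩ := exists_isArr hG A (𝟙 A.R) (Category.id_comp A.t) (Category.id_comp A.s)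
    obtain ⟨ψ, hψ, -, -⟩ := hi (𝟙 A.R) φ hφ
    rw [Category.id_comp] at hψ
    exact ⟨hψ.2.1, hψ.2.2.1⟩
  -- passing to schemes over the base
  have hov : ∀ {T : Scheme.{u}} (α β : T ⟶ A.R.left), α ≫ A.s.left = β ≫ A.t.left → β ≫ A.R.hom = α ≫ A.R.hom :=
    fun α β h => by rw [← Over.w A.t, ← Category.assoc, ← h, Category.assoc, Over.w A.s, Over.w A.t]
  refine ⟨{
    U := U.left
    R := A.R.left
    pU := U.hom
    pR := A.R.hom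
    s := A.s.left
    t := A.t.left
    e := e.left
    i := i.left
    c := c.left
    s_over := Over.w A.s
    t_over := Over.w A.t
    comp_s := fun α β h => ?_
    comp_t := fun α β h => ?_
    assoc := fun {T} α β γ h₁ h₂ => ?_
    e_s := congrArg (fun f => f.left) het.2
    e_t := congrArg (fun f => f.left) het.1
    comp_e := fun {T} α => ?_
    e_comp := fun {T} α => ?_
    i_s := congrArg (fun f => f.left) hit.2
    i_t := congrArg (fun f => f.left) hit.1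
    comp_i := fun {T} α => ?_
    i_comp := fun {T} α => ?_ }, rfl, rfl, by simp, by simp, by simp⟩
  · rw [Category.assoc, show c.left ≫ A.s.left = pullback.snd A.s.left A.t.left ≫ A.s.left from
      congrArg (fun f => f.left) hct.2, pullback.lift_snd_assoc]
  · rw [Category.assoc, show c.left ≫ A.t.left = pullback.fst A.s.left A.t.left ≫ A.t.left from
      congrArg (fun f => f.left) hct.1, pullback.lift_fst_assoc]
  all_goals let T' : Over S := Over.mk (α ≫ A.R.hom)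
  all_goals let α' : T' ⟶ A.R := Over.homMk α rfl
  all_goals obtain ⟨φ, hφ⟩ := exists_isArr hG A α' (a := α' ≫ A.t) rfl rfl
  · let β' : T' ⟶ A.R := Over.homMk β (hov α β h₁)
    let γ' : T' ⟶ A.R := Over.homMk γ ((hov β γ h₂).trans (hov α β h₁))
    have e₁ : α' ≫ A.s = β' ≫ A.t := Over.OverMorphism.ext h₁
    have e₂ : β' ≫ A.s = γ' ≫ A.t := Over.OverMorphism.ext h₂
    obtain ⟨ψ, hψ⟩ := exists_isArr hG A β' (a := α' ≫ A.s) e₁.symm (b := β' ≫ A.s) rfl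
    obtain ⟨χ, hχ⟩ := exists_isArr hG A γ' (a := β' ≫ A.s) e₂.symm (b := γ' ≫ A.s) rfl
    obtain ⟨g₁, l₁, p₁, q₁⟩ := hmk α' β' e₁
    obtain ⟨g₂, l₂, p₂, q₂⟩ := hmk β' γ' e₂
    have a₁ := hcomp α' β' g₁ p₁ q₁ φ ψ hφ hψ
    have a₂ := hcomp β' γ' g₂ p₂ q₂ ψ χ hψ hχ
    obtain ⟨g₃, l₃, p₃, q₃⟩ := hmk (g₁ ≫ c) γ' (a₁.2.2.1.trans hχ.2.1.symm)
    obtain ⟨g₄, l₄, p₄, q₄⟩ := hmk α' (g₂ ≫ c) (hφ.2.2.1.trans a₂.2.1.symm)
    have a₃ := hcomp _ _ g₃ p₃ q₃ (φ ≫ ψ) χ a₁ hχ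
    have a₄ := hcomp _ _ g₄ p₄ q₄ φ (ψ ≫ χ) hφ a₂
    rw [Category.assoc] at a₃
    have := congrArg (fun f => f.left) (IsArr.ext A a₃ a₄)
    simp only [Over.comp_left, l₁, l₂, l₃, l₄] at this
    exact this
  · obtain ⟨g, l, p, q⟩ := hmk α' ((α' ≫ A.s) ≫ e) (by
      rw [Category.assoc, het.1, Category.comp_id])
    have a₁ := hcomp _ _ g p q φ (𝟙 _) hφ (he (α' ≫ A.s))
    rw [Category.comp_id] at a₁
    have := congrArg (fun f => f.left) (IsArr.ext A a₁ hφ)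
    simp only [Over.comp_left, l, Category.assoc] at this
    exact this
  · obtain ⟨g, l, p, q⟩ := hmk ((α' ≫ A.t) ≫ e) α' (by
      rw [Category.assoc, het.2, Category.comp_id])
    have a₁ := hcomp _ _ g p q (𝟙 _) φ (he (α' ≫ A.t)) hφ
    rw [Category.id_comp] at a₁
    have := congrArg (fun f => f.left) (IsArr.ext A a₁ hφ)
    simp only [Over.comp_left, l, Category.assoc] at this
    exact this
  · obtain ⟨ψ, hψ, h1, h2⟩ := hi α' φ hφ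
    obtain ⟨g, l, p, q⟩ := hmk α' (α' ≫ i) (by rw [Category.assoc, hit.1])
    have a₁ := hcomp _ _ g p q φ ψ hφ hψ
    rw [h1] at a₁
    have := congrArg (fun f => f.left) (IsArr.ext A a₁ (he (α' ≫ A.t)))
    simp only [Over.comp_left, l, Category.assoc] at this
    exact this
  · obtain ⟨ψ, hψ, h1, h2⟩ := hi α' φ hφ
    obtain ⟨g, l, p, q⟩ := hmk (α' ≫ i) α' (by rw [Category.assoc, hit.2])
    have a₁ := hcomp _ _ g p q ψ φ hψ hφ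
    rw [h2] at a₁
    have := congrArg (fun f => f.left) (IsArr.ext A a₁ (he (α' ≫ A.s)))
    simp only [Over.comp_left, l, Category.assoc] at this
    exact this

end GrothLib.AlgSt.ChartArr
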