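import Groth.Agent.Lib.AlgSt.CatModuliLocal
import Groth.Agent.Lib.AlgSp.RedInduced
import Groth.Agent.Lib.AlgSp.SchImageRed
import Groth.Agent.Lib.AlgSp.AffineMor
import Groth.Agent.Lib.AlgSt.QuasiAffineDiag
import Groth.Prelude.Def_AlgSt4

/-!
# Moduli spaces of reduced stacks
-/

set_option backward.isDefEq.respectTransparency false
set_option backward.isDefEq.respectTransparency.types false

universe u

open CategoryTheory CategoryTheory.Limits AlgebraicGeometry Opposite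

namespace GrothLib.AlgSt.CatLocal

open _root_.AlgSt GrothLib.FibCat GrothLib.AlgSt

variable {S : Scheme.{u}} {𝒳 : _root_.AlgSt.Cat S} {M N : AlgSp.Sp S}

/-- The value of a chart at a slice object, as a fibre object. -/
abbrev chartPt {U : Over S} (x : _root_.FibCat.overCat U ⥤ᵇ 𝒳) : 𝒳.p.Fiber U := ⟨x.obj (Yon.idObj U), x.w_obj _⟩

theorem sm_chart (π : 𝒳 ⥤ᵇ ofSp M) {U : Over S} (x : _root_.FibCat.overCat U ⥤ᵇ 𝒳)
    (b : (_root_.FibCat.overCat U).obj) :
    sm π (⟨x.obj b, x.w_obj b⟩ : 𝒳.p.Fiber b.left) = (AlgSp.yon S).map b.hom ≫ sm π (chartPt x) := by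
  have := Yon.toId_lift b
  have : 𝒳.p.IsHomLift b.hom (x.map (Yon.toId b)) := BasedFunctor.preserves_isHomLift x b.hom _
  exact (sm_of_hom π (⟨x.obj b, x.w_obj b⟩ : 𝒳.p.Fiber b.left) (chartPt x) b.hom (x.map (Yon.toId b))).symm

theorem sm_vert (π : 𝒳 ⥤ᵇ ofSp M) {T : Over S} (a b : 𝒳.p.Fiber T) (κ : a.1 ⟶ b.1)
    (h : 𝒳.p.IsHomLift (𝟙 T) κ) : sm π a = sm π b := by
  have := h
  rw [← sm_of_hom π a b (𝟙 T) κ, CategoryTheory.Functor.map_id, Category.id_comp]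

/-- Every object is, after a smooth surjection, a pullback of an atlas. -/
theorem exists_cover_chart (hG : _root_.FibCat.IsFibGrpd 𝒳.p) {U : Over S} (x : _root_.FibCat.overCat U ⥤ᵇ 𝒳)
    (hx : RepByAlgSpWith (AlgSp.LocP @Smooth) x) (hxs : RepByAlgSpWith AlgSp.IsSurjectiveMor x) {T : Over S}
    (o : 𝒳.p.Fiber T) :
    ∃ (V : Over S) (c : V ⟶ T) (l : V ⟶ U), Smooth c.left ∧ Surjective c.left ∧
      ∀ {M : AlgSp.Sp S} (π : 𝒳 ⥤ᵇ ofSp M),
        (AlgSp.yon S).map c ≫ sm π o = (AlgSp.yon S).map l ≫ sm π (chartPt x) := by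
  obtain ⟨y, ey, hey⟩ := Yon.exists_functor hG o.1 o.2
  obtain ⟨V, c, l, hc, hcs, ⟨j⟩⟩ := exists_lift_chart y x hx hxs
  refine ⟨V, c, l, hc, hcs, fun {M} π => ?_⟩
  let b₁ := (GrothLib.FibCat.overMap c).obj (Yon.idObj V)
  let b₂ := (GrothLib.FibCat.overMap l).obj (Yon.idObj V)
  have h1 := sm_chart π y b₁
  have h2 := sm_chart π x b₂
  have h3 : sm π (chartPt y) = sm π o := sm_vert π (chartPt y) o ey.hom hey
  have h4 : sm π (⟨y.obj b₁, y.w_obj b₁⟩ : 𝒳.p.Fiber V) = sm π (⟨x.obj b₂, x.w_obj b₂⟩ : 𝒳.p.Fiber V) :=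
    sm_vert π (⟨y.obj b₁, y.w_obj b₁⟩ : 𝒳.p.Fiber V) ⟨x.obj b₂, x.w_obj b₂⟩ (j.hom.toNatTrans.app (Yon.idObj V))
      (BasedNatTrans.isHomLift j.hom rfl)
  have e1 : b₁.hom = c := Category.id_comp c
  have e2 : b₂.hom = l := Category.id_comp l
  rw [e1, h3] at h1
  rw [e2] at h2
  exact h1.symm.trans (h4.trans h2)

theorem hom_ext_smooth {T V : Over S} (b : V ⟶ T) [Smooth b.left] [Surjective b.left]
    {m m' : (AlgSp.yon S).obj T ⟶ N} (h : (AlgSp.yon S).map b ≫ m = (AlgSp.yon S).map b ≫ m') : m = m' := by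
  obtain ⟨l, -, hu⟩ := GrothLib.AlgSp.exists_hom_of_cover (F := N) (T := T) (ι := PUnit.{u + 1}) (fun _ => V)
    (fun _ => b) (fun _ => inferInstance) (fun _ => inferInstance)
    (fun x => ⟨⟨⟩, b.left.surjective x⟩) (fun _ => (AlgSp.yon S).map b ≫ m) (fun i j Z gi gj e => by
      rw [← Functor.map_comp_assoc, ← Functor.map_comp_assoc, e])
  exact (hu m fun _ => rfl).trans (hu m' fun _ => h.symm).symm

/-- A functor with prescribed sections factoring a given one through a monomorphism. -/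
theorem exists_functor_of_factor (π : 𝒳 ⥤ᵇ ofSp M) (i : N ⟶ M) [Mono i]
    (h : ∀ o : 𝒳.obj, ∃ n : (AlgSp.yon S).obj (𝒳.p.obj o) ⟶ N, n ≫ i = sm π (⟨o, rfl⟩ : 𝒳.p.Fiber _)) :
    ∃ φ : 𝒳 ⥤ᵇ ofSp N, BasedFunctor.comp φ (ofSpMap i) = π := by
  choose n hn using h
  let φ : 𝒳 ⥤ᵇ ofSp N :=
    { toFunctor :=
        { obj := fun o => ⟨𝒳.p.obj o, (AlgSp.J S).uliftYonedaEquiv.{u + 1} (n o)⟩
          map := fun {o o'} κ => ⟨𝒳.p.map κ, by
            rw [GrothendieckTopology.uliftYonedaEquiv_naturality]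
            refine congrArg _ ((cancel_mono i).1 ?_)
            rw [Category.assoc, hn, hn]
            have : 𝒳.p.IsHomLift (𝒳.p.map κ) κ := IsHomLift.map 𝒳.p κ
            exact sm_of_hom π (⟨o, rfl⟩ : 𝒳.p.Fiber (𝒳.p.obj o)) (⟨o', rfl⟩ : 𝒳.p.Fiber (𝒳.p.obj o')) (𝒳.p.map κ) κ⟩
          map_id := fun o => Stk.EltObj.hom_ext (𝒳.p.map_id o)
          map_comp := fun f g => Stk.EltObj.hom_ext (𝒳.p.map_comp f g) }
      w := rfl }
  refine ⟨φ, eq_of_sm fun o => ?_⟩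
  rw [sm_comp_ofSpMap]
  refine Eq.trans (congrArg (· ≫ i) ?_) (hn o)
  rw [sm, Equiv.symm_apply_eq]
  change N.obj.map (eqToHom _).op _ = _
  simp
  erw [N.obj.map_id]
  rfl

/-- The moduli space of a reduced stack is reduced. -/
theorem isReduced_moduli (h𝒳 : IsAlgStack Scheme.fppfPrecoverage 𝒳)
    (hred : SmoothLocally (fun X => IsReduced X) 𝒳) (π : 𝒳 ⥤ᵇ ofSp M) (hπ : IsCatModuli π) :
    AlgSp.EtaleLocally (fun U => IsReduced U) M := by
  have hM := hπ.1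
  have g𝒳 := h𝒳.isStack.1
  obtain ⟨Z, i, hZ, hi, hr, hZr⟩ := GrothLib.AlgSp.exists_isRedInduced_sp hM (T := Set.univ) isClosed_univ
  have : Mono i := GrothLib.AlgSp.mono_of_closedImmersion hi
  obtain ⟨U, x, hx, hxs⟩ := h𝒳.atlas
  have : IsReduced U.left := hred U x hx
  obtain ⟨k₀, hk₀⟩ := GrothLib.AlgSp.exists_factor_of_reduced (f := sm π (chartPt x)) (AlgSp.IsAlgSpace.yon_obj U) hM
    ⟨U, 𝟙 _, AlgSp.repWith_id _ U, AlgSp.repWith_id _ U, ‹IsReduced U.left›⟩ hi (hr.symm ▸ Set.subset_univ _)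
  obtain ⟨φ, hφ⟩ := exists_functor_of_factor π i fun o => by
    obtain ⟨V, c, l, hc, hcs, he⟩ := exists_cover_chart g𝒳 x hx hxs (⟨o, rfl⟩ : 𝒳.p.Fiber (𝒳.p.obj o))
    obtain ⟨n, hn, -⟩ := GrothLib.AlgSp.exists_hom_of_cover (F := Z) (T := 𝒳.p.obj o) (ι := PUnit.{u + 1})
      (fun _ => V) (fun _ => c) (fun _ => inferInstance) (fun _ => inferInstance)
      (fun t => ⟨⟨⟩, c.left.surjective t⟩) (fun _ => (AlgSp.yon S).map l ≫ k₀) (fun a b Z' ga gb e => by
        rw [← cancel_mono i]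
        simp only [Category.assoc, hk₀]
        rw [← he π, ← Functor.map_comp_assoc, ← Functor.map_comp_assoc, e])
    refine ⟨n, hom_ext_smooth c ?_⟩
    rw [← Category.assoc, hn ⟨⟩, Category.assoc, hk₀, he π]
  obtain ⟨g, ⟨j⟩, -⟩ := hπ.2 Z hZ φ
  have hg := GrothLib.SpQuot.eq_of_iso_ofSp j
  obtain ⟨g₀, -, hu⟩ := hπ.2 M hM π
  have e : g ≫ i = 𝟙 M := (hu (g ≫ i) ⟨eqToIso (by
      rw [← GrothLib.SpQuot.comp_ofSpMap]
      exact (congrArg (fun F => BasedFunctor.comp F (ofSpMap i)) hg).trans hφ)⟩).trans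
    (hu (𝟙 M) ⟨eqToIso (eq_of_sm fun o => by rw [sm_comp_ofSpMap, Category.comp_id])⟩).symm
  have : IsIso i := ⟨g, by rw [← cancel_mono i, Category.assoc, e, Category.comp_id, Category.id_comp], e⟩
  obtain ⟨W, p, pe, ps, hW⟩ := hZr
  exact ⟨W, p ≫ i, GrothLib.AlgSp.repWith_comp pe (GrothLib.AlgSp.repWith_iso i),
    GrothLib.AlgSp.repWith_comp ps (GrothLib.AlgSp.repWith_iso i), hW⟩

/-- Two maps from a reduced scheme to a space which agree after a finite surjection agree. -/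
theorem eq_of_finite_surjective (hN : AlgSp.IsAlgSpace N) {U W : Over S} [IsReduced U.left] (c : W ⟶ U)
    [IsFinite c.left] [Surjective c.left] {m m' : (AlgSp.yon S).obj U ⟶ N}
    (h : (AlgSp.yon S).map c ≫ m = (AlgSp.yon S).map c ≫ m') : m = m' := by
  have hd := GrothLib.AlgSp.repWith_diag_lft hN
  obtain ⟨V, fst, snd, sq⟩ := GrothLib.AlgSp.exists_isPullback_of_representable hd.1 (prod.lift m m')
  have : Mono (Limits.diag N) := inferInstance
  let l : W ⟶ V := (AlgSp.yon S).preimage (sq.lift ((AlgSp.yon S).map c ≫ m) ((AlgSp.yon S).map c)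
    (Limits.prod.hom_ext (by simp) (by simp [h])))
  have hl : l ≫ snd = c := (AlgSp.yon S).map_injective (by
    rw [Functor.map_comp, Functor.map_preimage, IsPullback.lift_snd])
  have : LocallyOfFiniteType snd.left := hd.2 _ _ _ sq
  have : Mono ((AlgSp.yon S).map snd) := (MorphismProperty.monomorphisms (AlgSp.Sp S)).of_isPullback sq
    (MorphismProperty.monomorphisms.infer_property (Limits.diag N))
  have : Mono snd := (AlgSp.yon S).mono_of_mono_map ‹_›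
  have : Mono snd.left := inferInstanceAs (Mono ((Over.forget S).map snd))
  have hls : (l.left ≫ snd.left) = c.left := by rw [← Over.comp_left, hl]
  have : Surjective snd.left := by
    refine ⟨fun t => ?_⟩
    obtain ⟨w, rfl⟩ := c.left.surjective t
    exact ⟨l.left w, by rw [← Scheme.Hom.comp_apply, hls]⟩
  have : UniversallyClosed (l.left ≫ snd.left) := hls ▸ (inferInstance : UniversallyClosed c.left)
  have : Surjective l.left := by
    refine ⟨fun v => ?_⟩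
    obtain ⟨w, hw⟩ := c.left.surjective (snd.left v)
    refine ⟨w, ?_⟩
    have hinj : Function.Injective snd.left := Scheme.Hom.injective snd.left
    exact hinj (by rw [← Scheme.Hom.comp_apply, hls]; exact hw)
  have : UniversallyClosed snd.left := UniversallyClosed.of_comp_surjective l.left snd.left
  have : IsProper snd.left := {}
  have : IsClosedImmersion snd.left := (IsClosedImmersion.iff_isProper_and_mono snd.left).2 ⟨inferInstance, inferInstance⟩
  have : IsIso snd.left := isIso_of_isClosedImmersion_of_surjective snd.left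
  have : IsIso ((Over.forget S).map snd) := ‹IsIso snd.left›
  have : IsIso snd := isIso_of_reflects_iso snd (Over.forget S)
  rw [← cancel_epi ((AlgSp.yon S).map snd)]
  have e1 := congrArg (· ≫ prod.fst) sq.w
  have e2 := congrArg (· ≫ prod.snd) sq.w
  simp at e1 e2
  rw [← e1, ← e2]

variable {Z : AlgSp.Sp S}

/-- The value of a functor to a slice at a section. -/
theorem obj_hom_eq_of_sec {P : AlgSp.Sp S} {U : Over S} (Φ : ofSp P ⥤ᵇ _root_.FibCat.overCat U) (q : (ofSp P).obj)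
    (r : q.base ⟶ U)
    (hr : (AlgSp.yon S).map r = (AlgSp.J S).uliftYonedaEquiv.{u + 1}.symm q.sec ≫ spMapOfOver Φ) :
    (Φ.obj q).hom = eqToHom (Φ.w_obj q) ≫ r := by
  have h := congrArg (AlgSp.J S).uliftYonedaEquiv.{u + 1} hr
  rw [GrothendieckTopology.uliftYonedaEquiv_comp, Equiv.apply_symm_apply, spMapOfOver_app] at h
  erw [GrothendieckTopology.uliftYonedaEquiv_uliftYoneda_map] at h
  have h' : r = secHom Φ q := congrArg ULift.down h
  rw [h', secHom]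
  simp

section

variable {U : Over S} (x x' : _root_.FibCat.overCat U ⥤ᵇ 𝒳)

/-- The pair `(x, x')` as an object of the square of the stack over the base. -/
abbrev pairTo : _root_.FibCat.overCat U ⥤ᵇ _root_.FibCat.fp (_root_.FibCat.toSelf 𝒳) (_root_.FibCat.toSelf 𝒳) :=
  _root_.FibCat.fpLift x x' (eqToIso (QA.eq_of_selfOver _ _))

theorem exists_iso_pair_diag (b : (_root_.FibCat.overCat U).obj) (a₁ : 𝒳.obj) (ha₁ : x.obj b = a₁)
    (β : a₁ ≅ x'.obj b) (hβ : 𝒳.p.IsHomLift (𝟙 b.left) β.hom) :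
    ∃ o : (_root_.FibCat.fp (pairTo x x') (_root_.FibCat.diag (_root_.FibCat.toSelf 𝒳))).obj, o.obj.fst = b := by
  subst ha₁
  have hy : (_root_.FibCat.selfOver (Over S)).p.IsHomLift (𝟙 b.left) ((pairTo x x').obj b).obj.iso.hom := by
    have h := Fp.iso_lift ((pairTo x x').obj b)
    have e : 𝒳.p.obj ((pairTo x x').obj b).obj.fst = b.left := x.w_obj b
    rw [e] at h
    exact h
  let iyd : (pairTo x x').obj b ≅ (_root_.FibCat.diag (_root_.FibCat.toSelf 𝒳)).obj (x.obj b) :=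
    Fp.isoMk (a := (pairTo x x').obj b) (b := (_root_.FibCat.diag (_root_.FibCat.toSelf 𝒳)).obj (x.obj b))
      (Iso.refl (x.obj b)) β.symm (by
      have l0 : 𝒳.p.IsHomLift (𝟙 b.left) β.inv := IsHomLift.lift_id_inv _ _ _
      have l1 : (_root_.FibCat.selfOver (Over S)).p.IsHomLift (𝟙 b.left) ((_root_.FibCat.toSelf 𝒳).map β.inv) :=
        BasedFunctor.preserves_isHomLift (_root_.FibCat.toSelf 𝒳) _ _
      have l2 : (_root_.FibCat.selfOver (Over S)).p.IsHomLift (𝟙 b.left)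
          ((_root_.FibCat.toSelf 𝒳).map (𝟙 (x.obj b)) ≫ 𝟙 _) := by
        rw [CategoryTheory.Functor.map_id]
        exact (Category.comp_id (𝟙 ((_root_.FibCat.toSelf 𝒳).obj (x.obj b)))).symm ▸
          IsHomLift.id (((_root_.FibCat.toSelf 𝒳).w_obj (x.obj b)).trans (x.w_obj b))
      have l3 : (_root_.FibCat.selfOver (Over S)).p.IsHomLift (𝟙 b.left)
          (((pairTo x x').obj b).obj.iso.hom ≫ (_root_.FibCat.toSelf 𝒳).map β.inv) :=
        IsHomLift.comp_lift_id_right' _ _ _ b.left _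
      exact QA.hom_eq_of_lift (𝟙 b.left) ((_root_.FibCat.toSelf 𝒳).map (𝟙 (x.obj b)) ≫ 𝟙 _)
        (((pairTo x x').obj b).obj.iso.hom ≫ (_root_.FibCat.toSelf 𝒳).map β.inv))
  exact ⟨Fp.mk (F := pairTo x x') (G := _root_.FibCat.diag (_root_.FibCat.toSelf 𝒳)) b (x.obj b) iyd
    ((Fp.isHomLift_iff _ _).2 (IsHomLift.id (x.w_obj b))), rfl⟩

/-- If all geometric points of the base lift to the pullback of the diagonal, the representing cover is surjective. -/
theorem surjective_of_geom {P : AlgSp.Sp S}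
    (eP : ofSp P ⥤ᵇ _root_.FibCat.fp (pairTo x x') (_root_.FibCat.diag (_root_.FibCat.toSelf 𝒳)))
    (heP : _root_.FibCat.IsEquivOver eP) {W : Over S} (m : (AlgSp.yon S).obj W ⟶ P) [IsIso m] (i : W ⟶ U)
    (hi : (AlgSp.yon S).map i = m ≫ spMapOfOver (BasedFunctor.comp eP
      (_root_.FibCat.fpFst (pairTo x x') (_root_.FibCat.diag (_root_.FibCat.toSelf 𝒳)))))
    (hgeom : ∀ (Ω : Type u) [Field Ω] [IsAlgClosed Ω] (g : Spec (CommRingCat.of Ω) ⟶ U.left),
      ∃ o : (_root_.FibCat.fp (pairTo x x') (_root_.FibCat.diag (_root_.FibCat.toSelf 𝒳))).obj,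
        o.obj.fst = Over.mk (Over.homMk g rfl : Over.mk (g ≫ U.hom) ⟶ U)) :
    Surjective i.left := by
  refine ⟨fun u => ?_⟩
  let Ω := AlgebraicClosure (U.left.residueField u)
  let g : Spec (CommRingCat.of Ω) ⟶ U.left :=
    Spec.map (CommRingCat.ofHom (algebraMap (U.left.residueField u) Ω)) ≫ U.left.fromSpecResidueField u
  obtain ⟨o, ho⟩ := hgeom Ω g
  obtain ⟨eP', -, -, ⟨ε⟩⟩ := IsEquivOver.symm heP
  let Φ := BasedFunctor.comp eP (_root_.FibCat.fpFst (pairTo x x') (_root_.FibCat.diag (_root_.FibCat.toSelf 𝒳)))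
  let q := eP'.obj o
  let εo : eP.obj q ≅ o := GrothLib.FibCat.isoApp ε o
  let σ : Φ.obj q ⟶ o.obj.fst := εo.hom.hom.fst
  have : IsIso σ := ⟨εo.inv.hom.fst, congrArg (fun t => t.hom.fst) εo.hom_inv_id,
    congrArg (fun t => t.hom.fst) εo.inv_hom_id⟩
  have hσ : IsIso σ.left.left := inferInstanceAs (IsIso ((Over.forget S).map ((Over.forget U).map σ)))
  obtain ⟨r, hr⟩ := (AlgSp.yon S).map_surjective ((AlgSp.J S).uliftYonedaEquiv.{u + 1}.symm q.sec ≫ inv m)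
  have hrh := obj_hom_eq_of_sec Φ q (r ≫ i) (by
    rw [Functor.map_comp, hr, hi]
    simp [Φ])
  have hw : σ.left ≫ o.obj.fst.hom = eqToHom (Φ.w_obj q) ≫ r ≫ i := (Over.w σ).trans hrh
  have hu : g (IsLocalRing.closedPoint Ω) = u := by
    change (Spec.map _ ≫ U.left.fromSpecResidueField u) _ = u
    rw [Scheme.Hom.comp_apply]
    exact Scheme.fromSpecResidueField_apply _ _
  have hrange : u ∈ Set.range o.obj.fst.hom.left := by
    rw [ho]
    exact ⟨_, hu⟩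
  obtain ⟨z, hz⟩ := hrange
  obtain ⟨z', rfl⟩ := σ.left.left.surjective z
  rw [← Scheme.Hom.comp_apply, ← Over.comp_left, hw, ← Category.assoc, Over.comp_left, Scheme.Hom.comp_apply] at hz
  exact ⟨_, hz⟩

/-- Over the representing cover the two members of the pair are isomorphic. -/
theorem map_eq_of_pair {M : AlgSp.Sp S} (φ : 𝒳 ⥤ᵇ ofSp M) {P : AlgSp.Sp S}
    (eP : ofSp P ⥤ᵇ _root_.FibCat.fp (pairTo x x') (_root_.FibCat.diag (_root_.FibCat.toSelf 𝒳)))
    {W : Over S} (m : (AlgSp.yon S).obj W ⟶ P) (i : W ⟶ U)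
    (hi : (AlgSp.yon S).map i = m ≫ spMapOfOver (BasedFunctor.comp eP
      (_root_.FibCat.fpFst (pairTo x x') (_root_.FibCat.diag (_root_.FibCat.toSelf 𝒳))))) :
    (AlgSp.yon S).map i ≫ sm φ (chartPt x) = (AlgSp.yon S).map i ≫ sm φ (chartPt x') := by
  let q : (ofSp P).obj := ⟨W, (AlgSp.J S).uliftYonedaEquiv.{u + 1} m⟩
  let η := eP.obj q
  let b := η.obj.fst
  have hη : b.left = W := (BasedFunctor.comp eP
    (_root_.FibCat.fpFst (pairTo x x') (_root_.FibCat.diag (_root_.FibCat.toSelf 𝒳)))).w_obj q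
  have hbi : b.hom = eqToHom hη ≫ i := obj_hom_eq_of_sec _ q i (by rw [hi, Equiv.symm_apply_apply])
  have hiy : (_root_.FibCat.fp (_root_.FibCat.toSelf 𝒳) (_root_.FibCat.toSelf 𝒳)).p.IsHomLift (𝟙 b.left)
      η.obj.iso.hom := Fp.iso_lift η
  have h₁ : 𝒳.p.IsHomLift (𝟙 b.left) η.obj.iso.hom.hom.fst := (Fp.isHomLift_iff _ _).1 hiy
  have h₂ : 𝒳.p.IsHomLift (𝟙 b.left) η.obj.iso.hom.hom.snd := Fp.isHomLift_snd _ _ hiy
  let a : 𝒳.p.Fiber b.left := ⟨η.obj.snd, IsHomLift.codomain_eq 𝒳.p (𝟙 b.left) η.obj.iso.hom.hom.fst⟩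
  have key : (AlgSp.yon S).map b.hom ≫ sm φ (chartPt x) = (AlgSp.yon S).map b.hom ≫ sm φ (chartPt x') := by
    rw [← sm_chart, ← sm_chart, sm_vert φ ⟨x.obj b, x.w_obj b⟩ a η.obj.iso.hom.hom.fst h₁,
      sm_vert φ ⟨x'.obj b, x'.w_obj b⟩ a η.obj.iso.hom.hom.snd h₂]
  rw [hbi, Functor.map_comp_assoc, Functor.map_comp_assoc] at key
  exact (cancel_epi ((AlgSp.yon S).map (eqToHom hη))).1 key

end

theorem fibSec_congr (f : 𝒳 ⥤ᵇ ofSp Z) {T : Over S} (a b : 𝒳.p.Fiber T) (h : f.obj a.1 = f.obj b.1) :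
    fibSec f a = fibSec f b := by
  have key : ∀ (c d : (ofSp Z).obj) (hc : c.base = T) (hd : d.base = T), c = d →
      Z.obj.map (eqToHom hc.symm).op c.sec = Z.obj.map (eqToHom hd.symm).op d.sec := fun c d hc hd e => by
    subst e
    rfl
  exact key (f.obj a.1) (f.obj b.1) ((f.w_obj a.1).trans a.2) ((f.w_obj b.1).trans b.2) h

/-- A section bijective on geometric points gives a categorical moduli space of a reduced stack with finite diagonal. -/
theorem isCatModuli_of_section (h𝒳 : IsAlgStack Scheme.fppfPrecoverage 𝒳)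
    (hΔ : RepByAlgSpWith AlgSp.IsFiniteMor (_root_.FibCat.diag (_root_.FibCat.toSelf 𝒳)))
    (hred : SmoothLocally (fun X => IsReduced X) 𝒳) (hZ : AlgSp.IsAlgSpace Z) (f : 𝒳 ⥤ᵇ ofSp Z)
    (hb : GeomPtBij f) (s : ofSp Z ⥤ᵇ 𝒳) (e : BasedFunctor.comp s f ≅ BasedFunctor.id (ofSp Z)) :
    IsCatModuli f := by
  have g𝒳 := h𝒳.isStack.1
  refine ⟨hZ, fun N hN φ => ?_⟩
  let g := spHom (BasedFunctor.comp s φ)
  have hg : ofSpMap g = BasedFunctor.comp s φ :=
    (GrothLib.SpQuot.eq_of_iso_ofSp (isoOfSpHom (BasedFunctor.comp s φ))).symm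
  have hsf : BasedFunctor.comp s f = BasedFunctor.id (ofSp Z) := GrothLib.SpQuot.eq_of_iso_ofSp e
  obtain ⟨U, x, hx, hxs⟩ := h𝒳.atlas
  have : IsReduced U.left := hred U x hx
  let x' : _root_.FibCat.overCat U ⥤ᵇ 𝒳 := BasedFunctor.comp x (BasedFunctor.comp f s)
  obtain ⟨P, eP, heP, hfin⟩ := hΔ U (pairTo x x')
  have hfin' := GrothLib.AlgSp.isFiniteMor_iff.1 hfin
  obtain ⟨W, m, i, sq⟩ := GrothLib.AlgSp.exists_isPullback_of_representable hfin'.1 (𝟙 _)
  have : IsFinite i.left := hfin'.2 _ _ _ sq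
  have : IsIso m := sq.isIso_fst_of_isIso
  have hi : (AlgSp.yon S).map i = m ≫ spMapOfOver (BasedFunctor.comp eP
      (_root_.FibCat.fpFst (pairTo x x') (_root_.FibCat.diag (_root_.FibCat.toSelf 𝒳)))) := by
    rw [sq.w, Category.comp_id]
  have : Surjective i.left := surjective_of_geom x x' eP heP m i hi fun Ω _ _ g₁ => by
    let b : (_root_.FibCat.overCat U).obj := Over.mk (Over.homMk g₁ rfl : Over.mk (g₁ ≫ U.hom) ⟶ U)
    let a₁ : 𝒳.p.Fiber (Over.mk (g₁ ≫ U.hom)) := ⟨x.obj b, x.w_obj b⟩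
    let a₂ : 𝒳.p.Fiber (Over.mk (g₁ ≫ U.hom)) := ⟨x'.obj b, x'.w_obj b⟩
    have hs : fibSec f a₁ = fibSec f a₂ :=
      fibSec_congr f a₁ a₂ (congrArg (fun G : ofSp Z ⥤ᵇ ofSp Z => G.obj (f.obj (x.obj b))) hsf).symm
    obtain ⟨β⟩ := (hb Ω (g₁ ≫ U.hom)).2 a₁ a₂ hs
    exact exists_iso_pair_diag x x' b _ rfl (Functor.Fiber.fiberInclusion.mapIso β) β.hom.2
  have hxx : sm φ (chartPt x) = sm φ (chartPt x') :=
    eq_of_finite_surjective hN i (map_eq_of_pair x x' φ eP m i hi)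
  refine ⟨g, ⟨eqToIso ?_⟩, fun g' ⟨j⟩ => ?_⟩
  · rw [hg]
    refine eq_of_sm fun o => ?_
    obtain ⟨V, c, l, hc, hcs, he⟩ := exists_cover_chart g𝒳 x hx hxs (⟨o, rfl⟩ : 𝒳.p.Fiber (𝒳.p.obj o))
    refine hom_ext_smooth c ?_
    rw [he, he]
    exact congrArg _ hxx.symm
  · have := GrothLib.SpQuot.eq_of_iso_ofSp j
    apply GrothLib.SpQuot.ofSpMap_injective
    rw [hg, ← this]
    exact (congrArg (fun G => BasedFunctor.comp G (ofSpMap g')) hsf).symm

end GrothLib.AlgSt.CatLocal
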