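import Groth.Agent.Lib.AlgSt.ChartArrows
import Groth.Agent.Lib.AlgSt.ReducedModuli

/-!
# The arrows of a chart from the diagonal
-/

set_option backward.isDefEq.respectTransparency false
set_option backward.isDefEq.respectTransparency.types false

universe u

open CategoryTheory CategoryTheory.Limits AlgebraicGeometry Opposite

noncomputable section

namespace GrothLib.AlgSt.ChartArr

open _root_.AlgSt GrothLib.FibCat GrothLib.AlgSt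

variable {S : Scheme.{u}} {𝒳 : _root_.AlgSt.Cat S} {U : Over S} (x : _root_.FibCat.overCat U ⥤ᵇ 𝒳)

/-- The diagonal over the base. -/
abbrev D (𝒳 : _root_.AlgSt.Cat S) := _root_.FibCat.diag (_root_.FibCat.toSelf 𝒳)

/-- The pair of the two projections of the chart. -/
abbrev W : _root_.FibCat.overCat (U ⨯ U) ⥤ᵇ _root_.FibCat.fp (_root_.FibCat.toSelf 𝒳) (_root_.FibCat.toSelf 𝒳) :=
  CatLocal.pairTo (BasedFunctor.comp (GrothLib.FibCat.overMap (prod.fst : U ⨯ U ⟶ U)) x)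
    (BasedFunctor.comp (GrothLib.FibCat.overMap (prod.snd : U ⨯ U ⟶ U)) x)

theorem self_w (a b : (_root_.FibCat.fp (_root_.FibCat.toSelf 𝒳) (_root_.FibCat.toSelf 𝒳)).obj)
    (f : a.obj.fst ⟶ b.obj.fst) (g : a.obj.snd ⟶ b.obj.snd) {T : Over S} (ha : 𝒳.p.obj a.obj.fst = T)
    (hb : 𝒳.p.obj b.obj.fst = T) (hf : 𝒳.p.IsHomLift (𝟙 T) f) (hg : 𝒳.p.IsHomLift (𝟙 T) g) :
    (_root_.FibCat.toSelf 𝒳).map f ≫ b.obj.iso.hom = a.obj.iso.hom ≫ (_root_.FibCat.toSelf 𝒳).map g := by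
  have h1 := Fp.iso_lift a
  have h2 := Fp.iso_lift b
  rw [ha] at h1
  rw [hb] at h2
  have l1 : (_root_.FibCat.selfOver (Over S)).p.IsHomLift (𝟙 T) ((_root_.FibCat.toSelf 𝒳).map f) :=
    BasedFunctor.preserves_isHomLift (_root_.FibCat.toSelf 𝒳) _ _
  have l2 : (_root_.FibCat.selfOver (Over S)).p.IsHomLift (𝟙 T) ((_root_.FibCat.toSelf 𝒳).map g) :=
    BasedFunctor.preserves_isHomLift (_root_.FibCat.toSelf 𝒳) _ _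
  have l3 : (_root_.FibCat.selfOver (Over S)).p.IsHomLift (𝟙 T) ((_root_.FibCat.toSelf 𝒳).map f ≫ b.obj.iso.hom) :=
    IsHomLift.comp_lift_id_right' _ (𝟙 T) _ T _
  have l4 : (_root_.FibCat.selfOver (Over S)).p.IsHomLift (𝟙 T) (a.obj.iso.hom ≫ (_root_.FibCat.toSelf 𝒳).map g) :=
    IsHomLift.comp_lift_id_right' _ (𝟙 T) _ T _
  exact QA.hom_eq_of_lift (𝟙 T) _ _

variable {x} {T : Over S} {c : T ⟶ U ⨯ U} {x' : 𝒳.obj} (β₁ : pt x (c ≫ prod.fst) ⟶ x')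
  (β₂ : pt x (c ≫ prod.snd) ⟶ x') (h₁ : 𝒳.p.IsHomLift (𝟙 T) β₁) (h₂ : 𝒳.p.IsHomLift (𝟙 T) β₂)
  [IsIso β₁] [IsIso β₂]

/-- An object of the pullback of the diagonal along the pair of projections. -/
def mkObj : (_root_.FibCat.fp (W x) (D 𝒳)).obj :=
  Fp.mk (F := W x) (G := D 𝒳) (Over.mk c) x'
    (Fp.isoMk (a := (W x).obj (Over.mk c)) (b := (D 𝒳).obj x') (asIso β₁) (asIso β₂)
      (self_w ((W x).obj (Over.mk c)) ((D 𝒳).obj x') β₁ β₂ (pt_proj x _)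
        (IsHomLift.codomain_eq 𝒳.p (𝟙 T) β₁) h₁ h₂))
    ((Fp.isHomLift_iff _ _).2 h₁)

theorem exists_normal (η : (_root_.FibCat.fp (W x) (D 𝒳)).obj) {T : Over S} (hT : η.obj.fst.left = T)
    (hG : _root_.FibCat.IsFibGrpd 𝒳.p) :
    ∃ (c : T ⟶ U ⨯ U) (x' : 𝒳.obj) (β₁ : pt x (c ≫ prod.fst) ⟶ x') (β₂ : pt x (c ≫ prod.snd) ⟶ x')
      (h₁ : 𝒳.p.IsHomLift (𝟙 T) β₁) (h₂ : 𝒳.p.IsHomLift (𝟙 T) β₂) (_ : IsIso β₁) (_ : IsIso β₂)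
      (e : mkObj β₁ β₂ h₁ h₂ ≅ η),
        c = eqToHom hT.symm ≫ η.obj.fst.hom ∧ (_root_.FibCat.fp (W x) (D 𝒳)).p.IsHomLift (𝟙 T) e.hom := by
  subst hT
  have hi := Fp.iso_lift η
  have h₁ : 𝒳.p.IsHomLift (𝟙 η.obj.fst.left) η.obj.iso.hom.hom.fst := (Fp.isHomLift_iff _ _).1 hi
  have h₂ : 𝒳.p.IsHomLift (𝟙 η.obj.fst.left) η.obj.iso.hom.hom.snd := Fp.isHomLift_snd _ _ hi
  have : IsIso η.obj.iso.hom.hom.fst :=
    IsFibGrpd.isIso_of_isHomLift_id hG (R := η.obj.fst.left) η.obj.iso.hom.hom.fst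
  have : IsIso η.obj.iso.hom.hom.snd :=
    IsFibGrpd.isIso_of_isHomLift_id hG (R := η.obj.fst.left) η.obj.iso.hom.hom.snd
  refine ⟨η.obj.fst.hom, η.obj.snd, η.obj.iso.hom.hom.fst, η.obj.iso.hom.hom.snd, h₁, h₂, inferInstance, inferInstance,
    Fp.isoMk (a := mkObj (c := η.obj.fst.hom) η.obj.iso.hom.hom.fst η.obj.iso.hom.hom.snd h₁ h₂) (b := η)
      (Iso.refl η.obj.fst) (Iso.refl η.obj.snd) ?_, (Category.id_comp _).symm, ?_⟩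
  · show (W x).map (𝟙 η.obj.fst) ≫ η.obj.iso.hom = _ ≫ (D 𝒳).map (𝟙 η.obj.snd)
    rw [CategoryTheory.Functor.map_id, CategoryTheory.Functor.map_id, Category.id_comp, Category.comp_id]
    exact Fp.hom_ext rfl rfl
  · exact (Fp.isHomLift_iff _ _).2 (IsHomLift.id (p := (_root_.FibCat.overCat (U ⨯ U)).p) rfl)

variable {T' : Over S} {c' : T' ⟶ U ⨯ U} {x'' : 𝒳.obj} {β₁' : pt x (c' ≫ prod.fst) ⟶ x''}
  {β₂' : pt x (c' ≫ prod.snd) ⟶ x''} {h₁' : 𝒳.p.IsHomLift (𝟙 T') β₁'} {h₂' : 𝒳.p.IsHomLift (𝟙 T') β₂'}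
  [IsIso β₁'] [IsIso β₂'] {β₁ β₂ h₁ h₂}

/-- Morphisms restrict the arrows. -/
theorem sq_of_hom (g : T ⟶ T') (ψ : mkObj β₁ β₂ h₁ h₂ ⟶ mkObj β₁' β₂' h₁' h₂')
    (hψ : (_root_.FibCat.fp (W x) (D 𝒳)).p.IsHomLift g ψ) :
    ∃ hc : g ≫ c' = c, Sq x g (a := c ≫ prod.fst) (b := c ≫ prod.snd) (a' := c' ≫ prod.fst) (b' := c' ≫ prod.snd)
      (by rw [← hc, Category.assoc]) (by rw [← hc, Category.assoc]) (β₁ ≫ inv β₂) (β₁' ≫ inv β₂') := by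
  have hf : (_root_.FibCat.overCat (U ⨯ U)).p.IsHomLift g ψ.hom.fst := (Fp.isHomLift_iff _ _).1 hψ
  have hg : g = ψ.hom.fst.left := by
    have := IsHomLift.fac' (_root_.FibCat.overCat (U ⨯ U)).p g ψ.hom.fst
    exact (this.trans ((Category.id_comp _).trans (Category.comp_id _))).symm
  have hc : g ≫ c' = c := by rw [hg]; exact Over.w ψ.hom.fst
  refine ⟨hc, ?_⟩
  have hw := Fp.w ψ
  have e1 : (GrothLib.FibCat.overMap (prod.fst : U ⨯ U ⟶ U)).map ψ.hom.fst =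
      (Over.homMk g (show g ≫ c' ≫ prod.fst = c ≫ prod.fst by rw [← hc, Category.assoc]) :
        Over.mk (c ≫ prod.fst) ⟶ Over.mk (c' ≫ prod.fst)) := Over.OverMorphism.ext hg.symm
  have e2 : (GrothLib.FibCat.overMap (prod.snd : U ⨯ U ⟶ U)).map ψ.hom.fst =
      (Over.homMk g (show g ≫ c' ≫ prod.snd = c ≫ prod.snd by rw [← hc, Category.assoc]) :
        Over.mk (c ≫ prod.snd) ⟶ Over.mk (c' ≫ prod.snd)) := Over.OverMorphism.ext hg.symm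
  have k1 : pmor x g (show g ≫ c' ≫ prod.fst = c ≫ prod.fst by rw [← hc, Category.assoc]) ≫ β₁' =
      β₁ ≫ ψ.hom.snd := by
    have := congrArg (fun f => f.hom.fst) hw
    rw [pmor, ← e1]
    exact this
  have k2 : pmor x g (show g ≫ c' ≫ prod.snd = c ≫ prod.snd by rw [← hc, Category.assoc]) ≫ β₂' =
      β₂ ≫ ψ.hom.snd := by
    have := congrArg (fun f => f.hom.snd) hw
    rw [pmor, ← e2]
    exact this
  obtain ⟨θ, k1', k2'⟩ : ∃ θ : x' ⟶ x'',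
      pmor x g (show g ≫ c' ≫ prod.fst = c ≫ prod.fst by rw [← hc, Category.assoc]) ≫ β₁' = β₁ ≫ θ ∧
        pmor x g (show g ≫ c' ≫ prod.snd = c ≫ prod.snd by rw [← hc, Category.assoc]) ≫ β₂' = β₂ ≫ θ :=
    ⟨ψ.hom.snd, k1, k2⟩
  unfold Sq
  have k3 : ∀ (μ : pt x (c ≫ prod.snd) ⟶ pt x (c' ≫ prod.snd)), μ ≫ β₂' = β₂ ≫ θ → inv β₂ ≫ μ = θ ≫ inv β₂' :=
    fun μ hμ => by rw [IsIso.inv_comp_eq, ← Category.assoc, IsIso.eq_comp_inv]; exact hμ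
  refine ((Category.assoc _ _ _).trans (congrArg (β₁ ≫ ·) (k3 _ k2'))).trans ?_
  exact (Category.assoc _ _ _).symm.trans ((congrArg (· ≫ inv β₂') k1'.symm).trans (Category.assoc _ _ _))

/-- Objects with the same arrow are vertically isomorphic. -/
theorem exists_iso_of_arr_eq {y : 𝒳.obj} {γ₁ : pt x (c ≫ prod.fst) ⟶ y} {γ₂ : pt x (c ≫ prod.snd) ⟶ y}
    {k₁ : 𝒳.p.IsHomLift (𝟙 T) γ₁} {k₂ : 𝒳.p.IsHomLift (𝟙 T) γ₂} [IsIso γ₁] [IsIso γ₂]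
    (h : β₁ ≫ inv β₂ = γ₁ ≫ inv γ₂) :
    ∃ e : mkObj β₁ β₂ h₁ h₂ ≅ mkObj γ₁ γ₂ k₁ k₂, (_root_.FibCat.fp (W x) (D 𝒳)).p.IsHomLift (𝟙 T) e.hom := by
  have e1 : β₁ ≫ inv β₁ ≫ γ₁ = γ₁ := by simp
  have e2 : β₂ ≫ inv β₁ ≫ γ₁ = γ₂ := by
    have := congrArg (· ≫ γ₂) h
    simp only [Category.assoc, IsIso.inv_hom_id, Category.comp_id] at this
    rw [← this]
    simp
  refine ⟨Fp.isoMk (a := mkObj β₁ β₂ h₁ h₂) (b := mkObj γ₁ γ₂ k₁ k₂) (Iso.refl _) ((asIso β₁).symm ≪≫ asIso γ₁) ?_,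
    (Fp.isHomLift_iff _ _).2 (IsHomLift.id (p := (_root_.FibCat.overCat (U ⨯ U)).p) rfl)⟩
  show (W x).map (𝟙 (Over.mk c)) ≫ _ = _ ≫ (D 𝒳).map (inv β₁ ≫ γ₁)
  rw [CategoryTheory.Functor.map_id, Category.id_comp]
  exact Fp.hom_ext e1.symm e2.symm

omit [IsIso β₁'] [IsIso β₂']

/-- The arrows of a chart are classified by any scheme representing the pullback of the diagonal. -/
theorem exists_arrows (hG : _root_.FibCat.IsFibGrpd 𝒳.p) {U : Over S} (x : _root_.FibCat.overCat U ⥤ᵇ 𝒳)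
    {R : Over S} (E : ofSp ((AlgSp.yon S).obj R) ⥤ᵇ _root_.FibCat.fp (W x) (D 𝒳))
    (hE : _root_.FibCat.IsEquivOver E) (Q : ∀ Z : Over S, (Z ⟶ U ⨯ U) → Prop)
    (hQ : ∀ j : R ⟶ U ⨯ U, (AlgSp.yon S).map j =
      spMapOfOver (BasedFunctor.comp E (_root_.FibCat.fpFst (W x) (D 𝒳))) → Q R j) :
    ∃ A : Arrows x, Q A.R (prod.lift A.t A.s) := by
  let Φ := BasedFunctor.comp E (_root_.FibCat.fpFst (W x) (D 𝒳))
  let q₀ : (ofSp ((AlgSp.yon S).obj R)).obj := ⟨R, ⟨𝟙 R⟩⟩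
  obtain ⟨c₀, x₀, γ₁, γ₂, k₁, k₂, _, _, e₀, hc₀, he₀⟩ := exists_normal (E.obj q₀) (T := R) (Φ.w_obj q₀) hG
  have hj : (AlgSp.yon S).map c₀ = spMapOfOver Φ := by
    apply (AlgSp.J S).uliftYonedaEquiv.{u + 1}.injective
    erw [GrothendieckTopology.uliftYonedaEquiv_uliftYoneda_map]
    exact congrArg ULift.up hc₀
  -- the object of `r` maps to the universal one
  have hmap : ∀ {T : Over S} (r : T ⟶ R) {c : T ⟶ U ⨯ U} {x' : 𝒳.obj} (β₁ : pt x (c ≫ prod.fst) ⟶ x')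
      (β₂ : pt x (c ≫ prod.snd) ⟶ x') (h₁ : 𝒳.p.IsHomLift (𝟙 T) β₁) (h₂ : 𝒳.p.IsHomLift (𝟙 T) β₂)
      [IsIso β₁] [IsIso β₂] (e : mkObj β₁ β₂ h₁ h₂ ≅ E.obj ⟨T, ⟨r⟩⟩),
      (_root_.FibCat.fp (W x) (D 𝒳)).p.IsHomLift (𝟙 T) e.hom →
      ∃ hc : r ≫ c₀ = c, Sq x r (a := c ≫ prod.fst) (b := c ≫ prod.snd) (a' := c₀ ≫ prod.fst) (b' := c₀ ≫ prod.snd)
        (by rw [← hc, Category.assoc]) (by rw [← hc, Category.assoc]) (β₁ ≫ inv β₂) (γ₁ ≫ inv γ₂) := by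
    intro T r c x' β₁ β₂ h₁ h₂ _ _ e he
    let m : (⟨T, ⟨r⟩⟩ : (ofSp ((AlgSp.yon S).obj R)).obj) ⟶ q₀ := ⟨r, congrArg ULift.up (Category.comp_id r)⟩
    have hm : (ofSp ((AlgSp.yon S).obj R)).p.IsHomLift r m := IsHomLift.map (ofSp ((AlgSp.yon S).obj R)).p m
    have hEm : (_root_.FibCat.fp (W x) (D 𝒳)).p.IsHomLift r (E.map m) := BasedFunctor.preserves_isHomLift E r m
    have hinv : (_root_.FibCat.fp (W x) (D 𝒳)).p.IsHomLift (𝟙 R) e₀.inv := IsHomLift.lift_id_inv _ R e₀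
    have : (_root_.FibCat.fp (W x) (D 𝒳)).p.IsHomLift r (E.map m ≫ e₀.inv) :=
      IsHomLift.comp_lift_id_right' _ r (E.map m) R e₀.inv
    exact sq_of_hom r (e.hom ≫ E.map m ≫ e₀.inv) (IsHomLift.comp_lift_id_left' _ T e.hom r (E.map m ≫ e₀.inv))
  refine ⟨{
    R := R
    t := c₀ ≫ prod.fst
    s := c₀ ≫ prod.snd
    Φ := γ₁ ≫ inv γ₂
    hΦ := ?_
    univ := fun {T} a b φ hφ => ?_
    uniq := fun {T} r r' {a b} φ ha hb ha' hb' hφ hs hs' => ?_ }, ?_⟩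
  · have : 𝒳.p.IsHomLift (𝟙 R) (asIso γ₂).hom := k₂
    have : 𝒳.p.IsHomLift (𝟙 R) (inv γ₂) := IsHomLift.lift_id_inv 𝒳.p R (asIso γ₂)
    exact IsHomLift.comp_lift_id_right' 𝒳.p (𝟙 R) γ₁ R (inv γ₂)
  · obtain ⟨c, rfl, rfl⟩ : ∃ c : T ⟶ U ⨯ U, c ≫ prod.fst = a ∧ c ≫ prod.snd = b :=
      ⟨prod.lift a b, prod.lift_fst _ _, prod.lift_snd _ _⟩
    have : IsIso φ := IsFibGrpd.isIso_of_isHomLift_id hG (R := T) φ
    have h2 : 𝒳.p.IsHomLift (𝟙 T) (𝟙 (pt x (c ≫ prod.snd))) := IsHomLift.id (pt_proj x _)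
    obtain ⟨q, e, he⟩ := IsEquivOver.essSurj hE (mkObj φ (𝟙 (pt x (c ≫ prod.snd))) hφ h2)
    have he' : (_root_.FibCat.fp (W x) (D 𝒳)).p.IsHomLift (𝟙 T) e.hom := he
    have hqT : q.base = T := (E.w_obj q).symm.trans (IsHomLift.domain_eq (_root_.FibCat.fp (W x) (D 𝒳)).p (𝟙 T) e.hom)
    obtain ⟨B, sec⟩ := q
    obtain ⟨r⟩ := sec
    subst hqT
    obtain ⟨hc, hs⟩ := hmap r φ (𝟙 (pt x (c ≫ prod.snd))) hφ h2 e.symm (IsHomLift.lift_id_inv _ _ e)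
    simp only [IsIso.inv_id, Category.comp_id] at hs
    exact ⟨r, _, _, hs⟩
  · obtain ⟨c₁, x₁, β₁, β₂, h₁, h₂, _, _, e₁, -, he₁⟩ := exists_normal (E.obj ⟨T, ⟨r⟩⟩) (T := T)
      (Φ.w_obj ⟨T, ⟨r⟩⟩) hG
    obtain ⟨c₂, x₂, δ₁, δ₂, l₁, l₂, _, _, e₂, -, he₂⟩ := exists_normal (E.obj ⟨T, ⟨r'⟩⟩) (T := T)
      (Φ.w_obj ⟨T, ⟨r'⟩⟩) hG
    obtain ⟨hc₁, s₁⟩ := hmap r β₁ β₂ h₁ h₂ e₁ he₁
    obtain ⟨hc₂, s₂⟩ := hmap r' δ₁ δ₂ l₁ l₂ e₂ he₂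
    have ea : c₁ ≫ prod.fst = a := by rw [← ha, ← hc₁, Category.assoc]
    have eb : c₁ ≫ prod.snd = b := by rw [← hb, ← hc₁, Category.assoc]
    have e12 : c₂ = c₁ := prod.hom_ext (by rw [ea, ← ha', ← hc₂, Category.assoc])
      (by rw [eb, ← hb', ← hc₂, Category.assoc])
    subst ea eb e12
    have hl : ∀ {y : 𝒳.obj} (μ : pt x (c₂ ≫ prod.fst) ⟶ y) (ν : pt x (c₂ ≫ prod.snd) ⟶ y) [IsIso ν],
        𝒳.p.IsHomLift (𝟙 T) μ → 𝒳.p.IsHomLift (𝟙 T) ν → 𝒳.p.IsHomLift (𝟙 T) (μ ≫ inv ν) := by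
      intro y μ ν _ hμ hν
      have : 𝒳.p.IsHomLift (𝟙 T) (asIso ν).hom := hν
      have : 𝒳.p.IsHomLift (𝟙 T) (inv ν) := IsHomLift.lift_id_inv 𝒳.p T (asIso ν)
      exact IsHomLift.comp_lift_id_right' 𝒳.p (𝟙 T) μ T (inv ν)
    have h12 : β₁ ≫ inv β₂ = δ₁ ≫ inv δ₂ :=
      (Sq.unique hG (hl β₁ β₂ h₁ h₂) hφ s₁ hs).trans (Sq.unique hG hφ (hl δ₁ δ₂ l₁ l₂) hs' s₂)
    obtain ⟨e, he⟩ := exists_iso_of_arr_eq (h₁ := h₁) (h₂ := h₂) (k₁ := l₁) (k₂ := l₂) h12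
    let m₀ := e₁.inv ≫ e.hom ≫ e₂.hom
    have := IsEquivOver.full hE
    obtain ⟨m, hm⟩ := E.toFunctor.map_surjective m₀
    have hl₁ : (_root_.FibCat.fp (W x) (D 𝒳)).p.IsHomLift (𝟙 T) e₁.inv := IsHomLift.lift_id_inv _ T e₁
    have hl₂ : (_root_.FibCat.fp (W x) (D 𝒳)).p.IsHomLift (𝟙 T) (e.hom ≫ e₂.hom) :=
      IsHomLift.comp_lift_id_right' _ (𝟙 T) e.hom T e₂.hom
    have hl₀ : (_root_.FibCat.fp (W x) (D 𝒳)).p.IsHomLift (𝟙 T) (E.map m) :=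
      hm ▸ IsHomLift.comp_lift_id_right' _ (𝟙 T) e₁.inv T (e.hom ≫ e₂.hom)
    have hlm : (ofSp ((AlgSp.yon S).obj R)).p.IsHomLift (𝟙 T) m := (E.isHomLift_iff _ _).1 hl₀
    have hmh : m.hom = 𝟙 T := (IsHomLift.fac' (ofSp ((AlgSp.yon S).obj R)).p (𝟙 T) m).trans
      ((Category.id_comp _).trans (Category.comp_id _))
    have hsec : m.hom ≫ r' = r := congrArg ULift.down m.map_sec
    rw [hmh, Category.id_comp] at hsec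
    exact hsec.symm
  · show Q R (prod.lift (c₀ ≫ prod.fst) (c₀ ≫ prod.snd))
    rw [show prod.lift (c₀ ≫ prod.fst) (c₀ ≫ prod.snd) = c₀ from prod.hom_ext (by simp) (by simp)]
    exact hQ c₀ hj

end GrothLib.AlgSt.ChartArr
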