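import Groth.Agent.Lib.AlgSt.IsoClPoints

/-!
# Quasi-compact morphisms of algebraic stacks read on points
-/

set_option backward.isDefEq.respectTransparency false
set_option backward.isDefEq.respectTransparency.types false

universe v₂ u₂ u

open CategoryTheory CategoryTheory.Limits AlgebraicGeometry Opposite Topology

namespace GrothLib.AlgSt

open _root_.AlgSt GrothLib.FibCat

variable {S : Scheme.{u}}

theorem isAlgStack_overCat (U : Over S) : IsAlgStack Scheme.fppfPrecoverage (_root_.FibCat.overCat U) :=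
  (isDM_of_repByAlgSp (repByAlgSp_overCat U)).1

theorem compactSpace_prod_left [QuasiSeparatedSpace S] (U V : Over S) [CompactSpace ↥U.left]
    [CompactSpace ↥V.left] : CompactSpace ↥(U ⨯ V).left := by
  have : QuasiCompact V.hom := quasiCompact_of_compactSpace V.hom
  have : CompactSpace ↥(pullback U.hom V.hom) := QuasiCompact.compactSpace_of_compactSpace (pullback.fst U.hom V.hom)
  exact (Over.prodLeftIsoPullback U V).schemeIsoToHomeo.symm.compactSpace

theorem isQuasiCompactSp_yon (U : Over S) [CompactSpace ↥U.left] :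
    AlgSp.IsQuasiCompactSp ((AlgSp.yon S).obj U) :=
  ⟨U, 𝟙 _, AlgSp.repWith_id _ U, AlgSp.repWith_id _ U, inferInstance⟩

variable {𝒳 𝒴 : _root_.AlgSt.Cat S}

theorem compactSpace_points_of_isEquivOver (h𝒳 : IsAlgStack Scheme.fppfPrecoverage 𝒳)
    (e : 𝒳 ⥤ᵇ 𝒴) (he : _root_.FibCat.IsEquivOver e) [CompactSpace (Points 𝒳)] : CompactSpace (Points 𝒴) :=
  Function.Surjective.compactSpace
    (continuous_points_map h𝒳 (isAlgStack_of_isEquivOver e he h𝒳) e)
    (points_map_bijective_of_isEquivOver h𝒳.isStack.1 e he).2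

/-- With quasi-compact diagonal, fibre products of quasi-compact charts are quasi-compact. -/
theorem compactSpace_points_fp_charts [QuasiSeparatedSpace S] (h𝒴 : IsAlgStack Scheme.fppfPrecoverage 𝒴)
    (hΔ : RepByAlgSpWith AlgSp.IsQuasiCompactMor (_root_.FibCat.diag (_root_.FibCat.toSelf 𝒴))) {U V : Over S}
    [CompactSpace ↥U.left] [CompactSpace ↥V.left]
    (y : _root_.FibCat.overCat V ⥤ᵇ 𝒴) (G : _root_.FibCat.overCat U ⥤ᵇ 𝒴) :
    CompactSpace (Points (_root_.FibCat.fp y G)) := by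
  obtain ⟨w, E, hE⟩ := exists_isEquivOver_fp_diag_prod h𝒴.isStack.1 G y
  obtain ⟨F, e, he, hqc⟩ := hΔ (V ⨯ U) w
  have := compactSpace_prod_left V U
  obtain ⟨V₀, p, pe, ps, hV₀⟩ := hqc (AlgSp.IsAlgSpace.yon_obj _) (isQuasiCompactSp_yon (V ⨯ U))
    (𝟙 ((AlgSp.yon S).obj (V ⨯ U))) (𝟙 F.obj)
    (spMapOfOver (BasedFunctor.comp e (_root_.FibCat.fpFst w (_root_.FibCat.diag (_root_.FibCat.toSelf 𝒴)))))
    (IsPullback.of_horiz_isIso ⟨by simp⟩)
  have hF : IsAlgStack Scheme.fppfPrecoverage (ofSp F.obj) :=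
    (isDM_of_repByAlgSp (repByAlgSp_ofSp F.property)).1
  have hid := repByAlgSpWith_id (P := AlgSp.IsSurjectiveMor (S := S)) (fun U => isSurjectiveMor_id _) (ofSp F.obj)
  have hx₀ := surjective_ofChart hF.isStack.1
    (repByAlgSpWith_comp_chart (fun _ _ _ _ _ b a _ hb ha => isSurjectiveMor_etale_comp b a hb ha) hid
      (BasedFunctor.id _) (IsEquivOver.refl _) pe ps)
  have : CompactSpace ↥V₀.left := hV₀
  have : CompactSpace (Points (ofSp F.obj)) :=
    Function.Surjective.compactSpace (continuous_ofChart hF.isStack.1 hF.atlas _) hx₀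
  exact compactSpace_points_of_isEquivOver hF (BasedFunctor.comp e E) (IsEquivOver.comp he hE)

/-- Finitely many affine charts covering a compact open set of points. -/
theorem exists_affine_chart_range (h𝒳 : IsAlgStack Scheme.fppfPrecoverage 𝒳) {K : Set (Points 𝒳)}
    (hK : IsOpen K) (hKc : IsCompact K) :
    ∃ (A : Over S) (x : _root_.FibCat.overCat A ⥤ᵇ 𝒳), IsAffine A.left ∧
      RepByAlgSpWith (AlgSp.LocP @Smooth) x ∧ Set.range (Points.ofChart x) = K := by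
  obtain ⟨U, x, hs, hj⟩ := h𝒳.atlas
  have hq := isOpenQuotientMap_ofChart h𝒳.isStack.1 hs hj
  obtain ⟨t, ht⟩ := hKc.elim_finite_subcover
    (fun V : {V : U.left.affineOpens // (V.1 : Set ↥U.left) ⊆ Points.ofChart x ⁻¹' K} =>
      Points.ofChart x '' (V.1.1 : Set ↥U.left))
    (fun V => hq.isOpenMap _ V.1.1.2) (fun p hp => by
      obtain ⟨u, rfl⟩ := hq.surjective p
      obtain ⟨_, ⟨V, hV, rfl⟩, hu, hVW⟩ :=
        U.left.isBasis_affineOpens.exists_subset_of_mem_open hp (hK.preimage hq.continuous)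
      exact Set.mem_iUnion.2 ⟨⟨⟨V, hV⟩, hVW⟩, u, hu, rfl⟩)
  have : ∀ i : t, IsAffine (i.1.1.1 : Scheme.{u}) := fun i => i.1.1.2
  let g : (∐ fun i : t => (i.1.1.1 : Scheme.{u})) ⟶ U.left := Sigma.desc fun i => i.1.1.1.ι
  have : Etale g := IsZariskiLocalAtSource.sigmaDesc fun i => inferInstance
  let g' : Over.mk (g ≫ U.hom) ⟶ U := Over.homMk g rfl
  have : Etale g'.left := ‹_›
  refine ⟨_, _, inferInstanceAs (IsAffine (∐ fun i : t => (i.1.1.1 : Scheme.{u}))),
    repByAlgSpWith_etale_comp_chart (fun _ _ _ b a hb ha => locP_etale_comp b a hb ha) g' hs,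
    Set.Subset.antisymm ?_ fun p hp => ?_⟩
  · rintro _ ⟨z, rfl⟩
    rw [ofChart_overMap]
    obtain ⟨⟨i, v⟩, rfl⟩ := (sigmaMk fun i : t => (i.1.1.1 : Scheme.{u})).surjective z
    rw [sigmaMk_mk]
    change Points.ofChart x ((Sigma.ι (fun i : t => (i.1.1.1 : Scheme.{u})) i ≫ g) v) ∈ K
    rw [Sigma.ι_desc]
    exact i.1.2 v.2
  · obtain ⟨V, hV, v, hv, rfl⟩ := Set.mem_iUnion₂.1 (ht hp)
    refine ⟨(Sigma.ι (fun i : t => (i.1.1.1 : Scheme.{u})) ⟨V, hV⟩ ⟨v, hv⟩), ?_⟩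
    rw [ofChart_overMap]
    congr 1
    change (Sigma.ι (fun i : t => (i.1.1.1 : Scheme.{u})) ⟨V, hV⟩ ≫ g) ⟨v, hv⟩ = v
    rw [Sigma.ι_desc]
    rfl

/-- The fibre of a morphism over a quasi-compact chart is quasi-compact when a quasi-compact chart covers it. -/
theorem compactSpace_points_fp_of_chart [QuasiSeparatedSpace S] (h𝒳 : IsAlgStack Scheme.fppfPrecoverage 𝒳)
    (h𝒴 : IsAlgStack Scheme.fppfPrecoverage 𝒴)
    (hΔ : RepByAlgSpWith AlgSp.IsQuasiCompactMor (_root_.FibCat.diag (_root_.FibCat.toSelf 𝒴))) (f : 𝒳 ⥤ᵇ 𝒴)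
    {A V : Over S} [CompactSpace ↥A.left] [CompactSpace ↥V.left] (y : _root_.FibCat.overCat V ⥤ᵇ 𝒴)
    (x : _root_.FibCat.overCat A ⥤ᵇ 𝒳)
    (hr : Points.map f ⁻¹' Set.range (Points.ofChart y) ⊆ Set.range (Points.ofChart x)) :
    CompactSpace (Points (_root_.FibCat.fp y f)) := by
  have hA := isAlgStack_overCat A
  have hV := isAlgStack_overCat V
  have hP := isAlgStack_fp h𝒴.isStack h𝒴.diag hV h𝒳 y f
  have hQ := isAlgStack_fp h𝒳.isStack h𝒳.diag hP hA (_root_.FibCat.fpSnd y f) x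
  have := compactSpace_points_fp_charts h𝒴 hΔ y (BasedFunctor.comp x f)
  obtain ⟨E, hE, -, -⟩ := IsEquivOver.symm (Fp.isEquivOver_pasteComp x f y)
  have : CompactSpace (Points (_root_.FibCat.fp (_root_.FibCat.fpSnd y f) x)) :=
    compactSpace_points_of_isEquivOver (isAlgStack_fp h𝒴.isStack h𝒴.diag hV hA y (BasedFunctor.comp x f)) E hE
  refine Function.Surjective.compactSpace (continuous_points_map hQ hP (_root_.FibCat.fpFst _ x)) fun r => ?_
  obtain ⟨u, hu⟩ := hr (show Points.map f (Points.map (_root_.FibCat.fpSnd y f) r) ∈ Set.range (Points.ofChart y) from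
    ⟨pointOf (Points.map (_root_.FibCat.fpFst y f) r), by
      rw [← map_eq_ofChart_pointOf, ← points_map_comp, ← points_map_comp]
      exact points_map_congr (_root_.FibCat.fpIso y f) r⟩)
  obtain ⟨w, hw, -⟩ := exists_points_fp hA.isStack.1 hP.isStack.1 h𝒳.isStack.1 x (_root_.FibCat.fpSnd y f) r
    (Points.ofChart (BasedFunctor.id _) u) (by rw [← ofChart_eq_map, hu])
  exact ⟨w, hw⟩

/-- Quasi-compactness of a morphism may be tested on affine charts of the target. -/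
theorem isQuasiCompactMor_of_charts (h𝒳 : IsAlgStack Scheme.fppfPrecoverage 𝒳)
    (h𝒴 : IsAlgStack Scheme.fppfPrecoverage 𝒴) (f : 𝒳 ⥤ᵇ 𝒴)
    (h : ∀ (V : Over S), IsAffine V.left → ∀ y : _root_.FibCat.overCat V ⥤ᵇ 𝒴,
      CompactSpace (Points (_root_.FibCat.fp y f))) : IsQuasiCompactMor Scheme.fppfPrecoverage f := by
  intro 𝒲 hW hWq g
  obtain ⟨A, w, hA, hws, hwj⟩ := hWq
  have hG := isAlgStack_fp h𝒴.isStack h𝒴.diag hW h𝒳 g f
  have hA' := isAlgStack_overCat A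
  obtain ⟨E, hE, -, -⟩ := IsEquivOver.symm (Fp.isEquivOver_paste f g w)
  have := h A hA (BasedFunctor.comp w g)
  have hP := isAlgStack_fp h𝒴.isStack h𝒴.diag hA' h𝒳 (BasedFunctor.comp w g) f
  have hQ := isAlgStack_fp hW.isStack hW.diag hA' hG w (_root_.FibCat.fpFst g f)
  have : CompactSpace (Points (_root_.FibCat.fp w (_root_.FibCat.fpFst g f))) :=
    compactSpace_points_of_isEquivOver hP E hE
  refine isQuasiCompact_of_compactSpace hG (Function.Surjective.compactSpace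
    (continuous_points_map hQ hG (_root_.FibCat.fpSnd w (_root_.FibCat.fpFst g f))) fun r => ?_)
  obtain ⟨u, hu⟩ := surjective_ofChart hW.isStack.1 hwj (Points.map (_root_.FibCat.fpFst g f) r)
  obtain ⟨q, -, hq⟩ := exists_points_fp hG.isStack.1 hA'.isStack.1 hW.isStack.1 (_root_.FibCat.fpFst g f) w
    (Points.ofChart (BasedFunctor.id _) u) r (by rw [← ofChart_eq_map, hu])
  exact ⟨q, hq⟩

/-- With quasi-compact diagonal of the target, quasi-compact means preimages of compact opens are compact. -/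
theorem isQuasiCompactMor_of_preimage [QuasiSeparatedSpace S] (h𝒳 : IsAlgStack Scheme.fppfPrecoverage 𝒳)
    (h𝒴 : IsAlgStack Scheme.fppfPrecoverage 𝒴)
    (hΔ : RepByAlgSpWith AlgSp.IsQuasiCompactMor (_root_.FibCat.diag (_root_.FibCat.toSelf 𝒴))) (f : 𝒳 ⥤ᵇ 𝒴)
    (h : ∀ K : Set (Points 𝒴), IsOpen K → IsCompact K → IsCompact (Points.map f ⁻¹' K)) :
    IsQuasiCompactMor Scheme.fppfPrecoverage f :=
  isQuasiCompactMor_of_charts h𝒳 h𝒴 f fun V hV y => by
    have := hV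
    choose K hKo hKc hKm _ using fun p : Points 𝒴 => exists_isCompact_nhd h𝒴 isOpen_univ (Set.mem_univ p)
    have hc : IsCompact (Set.range (Points.ofChart y)) :=
      isCompact_range (continuous_ofChart h𝒴.isStack.1 h𝒴.atlas y)
    obtain ⟨t, ht⟩ := hc.elim_finite_subcover K hKo fun p _ => Set.mem_iUnion.2 ⟨p, hKm p⟩
    have hUo : IsOpen (⋃ i ∈ t, K i) := isOpen_biUnion fun i _ => hKo i
    obtain ⟨A, x, hA, -, hx⟩ := exists_affine_chart_range h𝒳 (hUo.preimage (continuous_points_map h𝒳 h𝒴 f))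
      (h _ hUo (t.finite_toSet.isCompact_biUnion fun i _ => hKc i))
    have := hA
    exact compactSpace_points_fp_of_chart h𝒳 h𝒴 hΔ f y x ((Set.preimage_mono ht).trans hx.symm.subset)

theorem isCompact_preimage_of_isQuasiCompactMor (h𝒳 : IsAlgStack Scheme.fppfPrecoverage 𝒳)
    (h𝒴 : IsAlgStack Scheme.fppfPrecoverage 𝒴) {f : 𝒳 ⥤ᵇ 𝒴}
    (hf : IsQuasiCompactMor Scheme.fppfPrecoverage f) {K : Set (Points 𝒴)} (hK : IsOpen K) (hKc : IsCompact K) :
    IsCompact (Points.map f ⁻¹' K) := by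
  obtain ⟨A, y, hA, -, rfl⟩ := exists_affine_chart_range h𝒴 hK hKc
  have := hA
  have hA' := isAlgStack_overCat A
  have hqc : IsQuasiCompact (_root_.FibCat.overCat A) :=
    isQuasiCompact_of_compactSpace hA' (Function.Surjective.compactSpace
      (continuous_ofChart hA'.isStack.1 hA'.atlas (BasedFunctor.id _))
      (fun q => ⟨pointOf q, (map_eq_ofChart_pointOf (BasedFunctor.id _) q).symm.trans (by
        obtain ⟨q, rfl⟩ := Points.mk_surjective q; rfl)⟩))
  have hP := isAlgStack_fp h𝒴.isStack h𝒴.diag hA' h𝒳 y f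
  have := compactSpace_points_of_isQuasiCompact hP.isStack.1 (hf _ hA' hqc y)
  have e : Points.map f ⁻¹' Set.range (Points.ofChart y) = Set.range (Points.map (_root_.FibCat.fpSnd y f)) := by
    ext p
    refine ⟨fun ⟨u, hu⟩ => ?_, ?_⟩
    · obtain ⟨w, -, hw⟩ := exists_points_fp h𝒳.isStack.1 hA'.isStack.1 h𝒴.isStack.1 f y
        (Points.ofChart (BasedFunctor.id _) u) p (by rw [← ofChart_eq_map, hu])
      exact ⟨w, hw⟩
    · rintro ⟨r, rfl⟩
      refine ⟨pointOf (Points.map (_root_.FibCat.fpFst y f) r), ?_⟩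
      rw [← map_eq_ofChart_pointOf, ← points_map_comp, ← points_map_comp]
      exact points_map_congr (_root_.FibCat.fpIso y f) r
  rw [e]
  exact isCompact_range (continuous_points_map hP h𝒳 _)

/-- A morphism from a quasi-compact stack to a stack with quasi-compact diagonal is quasi-compact. -/
theorem isQuasiCompactMor_of_isQuasiCompact [QuasiSeparatedSpace S] (h𝒳 : IsAlgStack Scheme.fppfPrecoverage 𝒳)
    (h𝒴 : IsAlgStack Scheme.fppfPrecoverage 𝒴)
    (hΔ : RepByAlgSpWith AlgSp.IsQuasiCompactMor (_root_.FibCat.diag (_root_.FibCat.toSelf 𝒴))) (f : 𝒳 ⥤ᵇ 𝒴)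
    (hqc : IsQuasiCompact 𝒳) : IsQuasiCompactMor Scheme.fppfPrecoverage f :=
  isQuasiCompactMor_of_charts h𝒳 h𝒴 f fun V hV y => by
    obtain ⟨A, x, hA, -, hx⟩ := hqc
    have := hA
    have := hV
    exact compactSpace_points_fp_of_chart h𝒳 h𝒴 hΔ f y x (fun p _ => surjective_ofChart h𝒳.isStack.1 hx p)

open _root_.IsoNat in
theorem isQuasiCompactMor_of_fIsoSq [QuasiSeparatedSpace S] {𝒳' 𝒴' : _root_.AlgSt.Cat S}
    (h𝒳 : IsAlgStack Scheme.fppfPrecoverage 𝒳) (h𝒴 : IsAlgStack Scheme.fppfPrecoverage 𝒴)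
    (h𝒳' : IsAlgStack Scheme.fppfPrecoverage 𝒳') (h𝒴' : IsAlgStack Scheme.fppfPrecoverage 𝒴')
    (hΔ : RepByAlgSpWith AlgSp.IsQuasiCompactMor (_root_.FibCat.diag (_root_.FibCat.toSelf 𝒴')))
    {f : 𝒳 ⥤ᵇ 𝒴} {f' : 𝒳' ⥤ᵇ 𝒴'} (φ : FIsoSq f f') (hf : IsQuasiCompactMor Scheme.fppfPrecoverage f) :
    IsQuasiCompactMor Scheme.fppfPrecoverage f' :=
  isQuasiCompactMor_of_preimage h𝒳' h𝒴' hΔ f' fun K hK hKc => by
    obtain ⟨ψ, hψ⟩ := exists_fiso_symm h𝒴.isStack.1 h𝒴'.isStack.1 φ.tgt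
    have h1 : ∀ q, ptMap ψ (ptMap φ.tgt q) = q := ptMap_ptMap φ.tgt ψ fun T c => by simp [hψ]
    have h2 : ∀ q, ptMap φ.tgt (ptMap ψ q) = q := ptMap_ptMap ψ φ.tgt fun T c => by simp [hψ]
    have e : ptMap φ.tgt ⁻¹' K = ptMap ψ '' K :=
      (Set.image_eq_preimage_of_inverse h2 h1).symm ▸ rfl
    have hc := isCompact_preimage_of_isQuasiCompactMor h𝒳 h𝒴 hf
      (hK.preimage (continuous_ptMap h𝒴 h𝒴' φ.tgt)) (e ▸ hKc.image (continuous_ptMap h𝒴' h𝒴 ψ))
    have e' : Points.map f' ⁻¹' K = ptMap φ.src '' (Points.map f ⁻¹' (ptMap φ.tgt ⁻¹' K)) := by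
      ext p
      obtain ⟨q, rfl⟩ := (ptMap_bijective h𝒳.isStack.1 h𝒳'.isStack.1 φ.src).2 p
      rw [(ptMap_bijective h𝒳.isStack.1 h𝒳'.isStack.1 φ.src).1.mem_set_image]
      simp only [Set.mem_preimage, ptMap_comm φ q]
    rw [e']
    exact hc.image (continuous_ptMap h𝒳 h𝒳' φ.src)

end GrothLib.AlgSt
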