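import Groth.Agent.Lib.AlgSt.OpenSub
import Groth.Agent.Lib.AlgSt.QC

/-!
# Open substacks: quasi-compactness, subfunctors of the presheaf of isomorphism classes
-/

set_option backward.isDefEq.respectTransparency false
set_option backward.isDefEq.respectTransparency.types false

universe u

open CategoryTheory CategoryTheory.Limits AlgebraicGeometry Opposite Topology

namespace GrothLib.AlgSt

open _root_.AlgSt GrothLib.FibCat

variable {S : Scheme.{u}} {𝒳 𝒴 : _root_.AlgSt.Cat S}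

theorem isQuasiCompact_openPred (h𝒳 : IsAlgStack Scheme.fppfPrecoverage 𝒳) {K : Set (Points 𝒳)}
    (hK : IsOpen K) (hKc : IsCompact K) : IsQuasiCompact (fullSub 𝒳 (openPred K)) := by
  obtain ⟨A, x, hA, -, rfl⟩ := exists_affine_chart_range h𝒳 hK hKc
  have := hA
  have hY := (isOpenSubstack_openPred h𝒳 hK).2.1
  let x' : _root_.FibCat.overCat A ⥤ᵇ fullSub 𝒳 (openPred (Set.range (Points.ofChart x))) :=
    liftSub _ x fun a => (openPred_obj_iff h𝒳.isStack.1 x a).2 fun t => ⟨_, rfl⟩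
  refine isQuasiCompact_of_compactSpace hY (Function.Surjective.compactSpace
    (continuous_ofChart hY.isStack.1 hY.atlas x') fun q => ?_)
  obtain ⟨u, hu⟩ := (range_points_map_subIncl_openPred h𝒳.isStack.1).subset ⟨q, rfl⟩
  exact ⟨u, points_map_injective_of_full hY.isStack.1 h𝒳.isStack.1 (subIncl 𝒳 _)
    ((ofChart_comp x' _ u).symm.trans hu)⟩

theorem exists_finset_subcover (h𝒳 : IsAlgStack Scheme.fppfPrecoverage 𝒳) {Q' : 𝒳.obj → Prop}
    (hQ' : IsOpenSubstack 𝒳 Q' Scheme.fppfPrecoverage) (hqc : IsQuasiCompact (fullSub 𝒳 Q'))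
    {ι : Type*} (Q : ι → 𝒳.obj → Prop) (hQ : ∀ i, IsOpenSubstack 𝒳 (Q i) Scheme.fppfPrecoverage)
    (hcov : Set.range (Points.map (subIncl 𝒳 Q')) ⊆ ⋃ i, Set.range (Points.map (subIncl 𝒳 (Q i)))) :
    ∃ I' : Finset ι,
      Set.range (Points.map (subIncl 𝒳 Q')) ⊆ ⋃ i ∈ I', Set.range (Points.map (subIncl 𝒳 (Q i))) := by
  have := compactSpace_points_of_isQuasiCompact hQ'.2.1.isStack.1 hqc
  exact (isCompact_range (continuous_points_map hQ'.2.1 h𝒳 _)).elim_finite_subcover _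
    (fun i => isOpen_range_of_isOpenSubstack h𝒳 (hQ i)) hcov

/-- Quasi-compactness is tested on quasi-compact open substacks of the target. -/
theorem isQuasiCompactMor_iff_openImm [QuasiSeparatedSpace S] (h𝒳 : IsAlgStack Scheme.fppfPrecoverage 𝒳)
    (h𝒴 : IsAlgStack Scheme.fppfPrecoverage 𝒴)
    (hΔ : RepByAlgSpWith AlgSp.IsQuasiCompactMor (_root_.FibCat.diag (_root_.FibCat.toSelf 𝒴))) (f : 𝒳 ⥤ᵇ 𝒴) :
    IsQuasiCompactMor Scheme.fppfPrecoverage f ↔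
      ∀ (𝒴' : _root_.AlgSt.Cat S), IsAlgStack Scheme.fppfPrecoverage 𝒴' → IsQuasiCompact 𝒴' →
        ∀ (j : 𝒴' ⥤ᵇ 𝒴), IsOpenImm j → IsQuasiCompact (_root_.FibCat.fp j f) := by
  refine ⟨fun h 𝒴' h' hq j _ => h 𝒴' h' hq j, fun h => isQuasiCompactMor_of_preimage h𝒳 h𝒴 hΔ f fun K hK hKc => ?_⟩
  have hsub := isOpenSubstack_openPred h𝒴 hK
  let j := subIncl 𝒴 (openPred K)
  have hP := isAlgStack_fp h𝒴.isStack h𝒴.diag hsub.2.1 h𝒳 j f
  have := compactSpace_points_of_isQuasiCompact hP.isStack.1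
    (h _ hsub.2.1 (isQuasiCompact_openPred h𝒴 hK hKc) j hsub.2.2)
  have e : Points.map f ⁻¹' K = Set.range (Points.map (_root_.FibCat.fpSnd j f)) := by
    ext p
    refine ⟨fun hp => ?_, ?_⟩
    · obtain ⟨z, hz⟩ := (range_points_map_subIncl_openPred (W := K) h𝒴.isStack.1).superset hp
      obtain ⟨w, -, hw⟩ := exists_points_fp h𝒳.isStack.1 hsub.2.1.isStack.1 h𝒴.isStack.1 f j z p hz
      exact ⟨w, hw⟩
    · rintro ⟨r, rfl⟩
      refine (range_points_map_subIncl_openPred (W := K) h𝒴.isStack.1).subset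
        ⟨Points.map (_root_.FibCat.fpFst j f) r, ?_⟩
      rw [← points_map_comp, ← points_map_comp]
      exact points_map_congr (_root_.FibCat.fpIso j f) r
  rw [e]
  exact isCompact_range (continuous_points_map hP h𝒳 _)

open _root_.IsoNat in
theorem isOpenSubstack_of_open_subfunctor (h𝒴 : IsAlgStack Scheme.fppfPrecoverage 𝒴)
    (W : ∀ T : Over S, Set (IsoCl 𝒴 T))
    (hWpull : ∀ (T' T : Over S) (g : T' ⟶ T) (x' : 𝒴.p.Fiber T') (x : 𝒴.p.Fiber T) (a : x'.1 ⟶ x.1),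
      𝒴.p.IsHomLift g a → cls x ∈ W T → cls x' ∈ W T')
    (hWopen : ∀ (T : Over S) (x : 𝒴.p.Fiber T), ∃ V : T.left.Opens,
      ∀ (T' : Over S) (g : T' ⟶ T) (x' : 𝒴.p.Fiber T') (a : x'.1 ⟶ x.1), 𝒴.p.IsHomLift g a →
        (cls x' ∈ W T' ↔ ∃ g' : T'.left ⟶ ↑V, g' ≫ V.ι = g.left)) :
    IsOpenSubstack 𝒴 (fun η => cls (⟨η, rfl⟩ : 𝒴.p.Fiber (𝒴.p.obj η)) ∈ W (𝒴.p.obj η))
      Scheme.fppfPrecoverage := by
  have g𝒴 := h𝒴.isStack.1
  let InW : FPt 𝒴 → Prop := fun p => cls (⟨p.obj, p.lies⟩ : 𝒴.p.Fiber (Over.mk p.str)) ∈ W _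
  have hfull : ∀ {T : Over S} (x : 𝒴.p.Fiber T) (V : T.left.Opens),
      (∀ (T' : Over S) (g : T' ⟶ T) (x' : 𝒴.p.Fiber T') (a : x'.1 ⟶ x.1), 𝒴.p.IsHomLift g a →
        (cls x' ∈ W T' ↔ ∃ g' : T'.left ⟶ ↑V, g' ≫ V.ι = g.left)) → (∀ t : ↥T.left, t ∈ V) → cls x ∈ W T := by
    intro T x V hV ht
    have hr : Set.range (𝟙 T : T ⟶ T).left ⊆ Set.range V.ι := fun t _ => by
      rw [Scheme.Opens.range_ι]; exact ht t
    exact (hV T (𝟙 T) x (𝟙 x.1) (IsHomLift.id x.2)).2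
      ⟨IsOpenImmersion.lift V.ι _ hr, IsOpenImmersion.lift_fac V.ι _ hr⟩
  have hhom : ∀ {r p : FPt 𝒴}, (r.obj ⟶ p.obj) → (InW r ↔ InW p) := fun {r p} a => by
    refine ⟨fun hr => ?_, fun hp => hWpull _ _ (fptBase a) ⟨r.obj, r.lies⟩ ⟨p.obj, p.lies⟩ a (isHomLift_fptBase a) hp⟩
    obtain ⟨V, hV⟩ := hWopen _ ⟨p.obj, p.lies⟩
    obtain ⟨g', hg'⟩ := (hV _ (fptBase a) ⟨r.obj, r.lies⟩ a (isHomLift_fptBase a)).1 hr
    refine hfull _ V hV fun t => ?_
    have h := (g' (IsLocalRing.closedPoint r.K)).2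
    convert! h using 1
    exact @Subsingleton.elim _ (inferInstanceAs (Subsingleton (PrimeSpectrum p.K))) _ _
  have hrel : ∀ {p q : FPt 𝒴}, Points.mk p = Points.mk q → (InW p ↔ InW q) := fun {p q} e => by
    obtain ⟨r, a, b, -⟩ := rel_of_mk_eq g𝒴 e
    exact (hhom a).symm.trans (hhom b)
  let W₀ : Set (Points 𝒴) := {x | ∃ p, Points.mk p = x ∧ InW p}
  have hW₀ : ∀ p, Points.mk p ∈ W₀ ↔ InW p :=
    fun p => ⟨fun ⟨q, e, hq⟩ => (hrel e).1 hq, fun h => ⟨p, rfl, h⟩⟩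
  have hopen : IsOpen W₀ := Points.isOpen_iff.2 fun U y _ => by
    obtain ⟨V, hV⟩ := hWopen U ⟨y.obj (Yon.idObj U), y.w_obj _⟩
    convert! V.2 using 1
    ext t
    let g : Over.mk (U.left.fromSpecResidueField t ≫ U.hom) ⟶ U := Over.homMk (U.left.fromSpecResidueField t) rfl
    have ha : (_root_.FibCat.overCat U).p.IsHomLift g (Yon.toId (Over.mk g)) := Yon.toId_lift (Over.mk g)
    refine (hW₀ _).trans ((hV _ g ⟨y.obj (Over.mk g), y.w_obj _⟩ (y.map (Yon.toId (Over.mk g))) inferInstance).trans ?_)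
    refine ⟨fun ⟨g', hg'⟩ => ?_, fun h => ?_⟩
    · have h := (g' (IsLocalRing.closedPoint _)).2
      convert! h using 1
      exact (Scheme.fromSpecResidueField_apply _ (IsLocalRing.closedPoint _)).symm.trans
        (congrArg (fun f => f (IsLocalRing.closedPoint _)) hg').symm
    · have hr : Set.range g.left ⊆ Set.range V.ι := by
        rw [Scheme.Opens.range_ι]
        rintro _ ⟨s, rfl⟩
        exact (Scheme.fromSpecResidueField_apply t s).symm ▸ h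
      exact ⟨IsOpenImmersion.lift V.ι _ hr, IsOpenImmersion.lift_fac V.ι _ hr⟩
  have e : (fun η => cls (⟨η, rfl⟩ : 𝒴.p.Fiber (𝒴.p.obj η)) ∈ W (𝒴.p.obj η)) = openPred W₀ := by
    funext η
    refine propext ⟨fun h p a => (hW₀ p).2 ?_, fun h => ?_⟩
    · exact hWpull _ _ (eqToHom p.lies.symm ≫ 𝒴.p.map a) ⟨p.obj, p.lies⟩ ⟨η, rfl⟩ a
        (IsHomLift.of_fac' _ _ _ p.lies rfl (by simp)) h
    · obtain ⟨V, hV⟩ := hWopen _ (⟨η, rfl⟩ : 𝒴.p.Fiber (𝒴.p.obj η))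
      refine hfull _ V hV fun t => ?_
      let g : Over.mk ((𝒴.p.obj η).left.fromSpecResidueField t ≫ (𝒴.p.obj η).hom) ⟶ 𝒴.p.obj η :=
        Over.homMk ((𝒴.p.obj η).left.fromSpecResidueField t) rfl
      obtain ⟨z, φ, hφ⟩ := IsFibGrpd.exists_lift_of_eq g𝒴 (rfl : 𝒴.p.obj η = _) g
      have := hφ
      let p : FPt 𝒴 := ⟨_, _, z, IsHomLift.domain_eq 𝒴.p g φ⟩
      obtain ⟨g', hg'⟩ := (hV _ g ⟨z, IsHomLift.domain_eq 𝒴.p g φ⟩ φ hφ).1 ((hW₀ p).1 (h p φ))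
      have h' := (g' (IsLocalRing.closedPoint _)).2
      convert! h' using 1
      exact (Scheme.fromSpecResidueField_apply _ (IsLocalRing.closedPoint _)).symm.trans
        (congrArg (fun f => f (IsLocalRing.closedPoint _)) hg').symm
  rw [e]
  exact isOpenSubstack_openPred h𝒴 hopen

end GrothLib.AlgSt
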