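import Groth.Agent.Lib.AlgSp.TrivLocus
import Groth.Agent.Lib.AlgSt.OpenSubQC
import Groth.Agent.Lib.AlgSt.SepDense
import Groth.Agent.Lib.AlgSp.FpqcAffine

/-!
# The clean locus of a stack with proper inertia
-/

set_option backward.isDefEq.respectTransparency false
set_option backward.isDefEq.respectTransparency.types false

universe u

open CategoryTheory CategoryTheory.Limits AlgebraicGeometry Opposite TopologicalSpace

namespace GrothLib.AlgSt

open _root_.AlgSt GrothLib.FibCat GrothLib.AlgSp.TrivLocus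

variable {S : Scheme.{u}} {𝒳 : _root_.AlgSt.Cat S} {U : Over S} {F : _root_.AlgSp.Sp S}

local notation "ι𝒳" => _root_.FibCat.inertiaToBase (_root_.FibCat.toSelf 𝒳)

theorem secHom_eq_of_iso {x : _root_.FibCat.overCat U ⥤ᵇ 𝒳} (e : ofSp F ⥤ᵇ _root_.FibCat.fp x ι𝒳)
    {T : Over S} (sec : F.obj.obj (op T)) (O : (_root_.FibCat.fp x ι𝒳).obj) (i : e.obj ⟨T, sec⟩ ≅ O)
    (hi : (_root_.FibCat.fp x ι𝒳).p.IsHomLift (𝟙 T) i.hom) {g : T ⟶ U} (hO : O.obj.fst = Over.mk g) :
    (spMapOfOver (BasedFunctor.comp e (_root_.FibCat.fpFst x ι𝒳))).hom.app (op T) sec = ⟨g⟩ := by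
  rw [spMapOfOver_app]
  refine congrArg ULift.up ?_
  have hl := (Fp.isHomLift_iff i.hom _).1 hi
  have hw' : i.hom.hom.fst.left ≫ O.obj.fst.hom = (e.obj ⟨T, sec⟩).obj.fst.hom := Over.w i.hom.hom.fst
  have hlf := IsHomLift.fac' (_root_.FibCat.overCat U).p (𝟙 T) i.hom.hom.fst
  change eqToHom _ ≫ ((e.obj ⟨T, sec⟩).obj.fst).hom = g
  obtain ⟨⟨O1, O2, Oi⟩, hO'⟩ := O
  obtain rfl : O1 = Over.mk g := hO
  simp only at hw' hlf
  rw [← hw', show i.hom.hom.fst.left = _ from hlf]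
  simp

/-- The object of the inertia over a chart given by a vertical automorphism. -/
def inertiaObjOfAut (x : _root_.FibCat.overCat U ⥤ᵇ 𝒳) {T : Over S} (g : T ⟶ U)
    (α : x.obj (Over.mk g) ≅ x.obj (Over.mk g)) (hα : 𝒳.p.map α.hom = 𝟙 _) :
    (_root_.FibCat.fp x ι𝒳).obj :=
  Fp.mk (F := x) (G := ι𝒳) (Over.mk g) ⟨x.obj (Over.mk g), α, hα⟩ (Iso.refl _) (IsHomLift.id (x.w_obj _))

theorem exists_section (x : _root_.FibCat.overCat U ⥤ᵇ 𝒳) (e : ofSp F ⥤ᵇ _root_.FibCat.fp x ι𝒳)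
    (he : _root_.FibCat.IsEquivOver e) :
    ∃ s : (_root_.AlgSp.yon S).obj U ⟶ F, s ≫ spMapOfOver (BasedFunctor.comp e (_root_.FibCat.fpFst x ι𝒳)) = 𝟙 _ := by
  obtain ⟨sec, i, hi⟩ := exists_section_of_obj he (U := U) (inertiaObjOfAut x (𝟙 U) (Iso.refl _) (𝒳.p.map_id _)) rfl
  refine ⟨(_root_.AlgSp.J S).uliftYonedaEquiv.{u + 1}.symm sec, ?_⟩
  apply (_root_.AlgSp.J S).uliftYonedaEquiv.{u + 1}.injective
  rw [GrothendieckTopology.uliftYonedaEquiv_comp, Equiv.apply_symm_apply, secHom_eq_of_iso e sec _ i hi rfl]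
  rfl

/-- Cleanness along a chart is triviality of the inertia over it. -/
theorem isClean_iff_triv (hG : _root_.FibCat.IsFibGrpd 𝒳.p) (x : _root_.FibCat.overCat U ⥤ᵇ 𝒳)
    (e : ofSp F ⥤ᵇ _root_.FibCat.fp x ι𝒳) (he : _root_.FibCat.IsEquivOver e) {T : Over S} (g : T ⟶ U) :
    _root_.IsoNat.IsClean (x.obj (Over.mk g)) ↔
      Triv (spMapOfOver (BasedFunctor.comp e (_root_.FibCat.fpFst x ι𝒳))) g := by
  let π := spMapOfOver (BasedFunctor.comp e (_root_.FibCat.fpFst x ι𝒳))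
  let Y := fun {V : Over S} => (_root_.AlgSp.J S).uliftYonedaEquiv.{u + 1} (X := V) (F := F)
  have := IsEquivOver.full he
  constructor
  · intro hc T' l s s' hs hs'
    apply Y.injective
    have hπ : ∀ t : (_root_.AlgSp.yon S).obj T' ⟶ F, t ≫ π = (_root_.AlgSp.yon S).map (l ≫ g) →
        secHom (BasedFunctor.comp e (_root_.FibCat.fpFst x ι𝒳)) ⟨T', Y t⟩ = l ≫ g := fun t ht => by
      have h1 := congrArg (_root_.AlgSp.J S).uliftYonedaEquiv.{u + 1} ht
      rw [GrothendieckTopology.uliftYonedaEquiv_comp] at h1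
      have h2 : (⟨secHom (BasedFunctor.comp e (_root_.FibCat.fpFst x ι𝒳)) ⟨T', Y t⟩⟩ : ULift (T' ⟶ U)) =
          ⟨𝟙 _ ≫ l ≫ g⟩ := h1
      exact (congrArg ULift.down h2).trans (Category.id_comp _)
    let O := e.obj ⟨T', Y s⟩
    let O' := e.obj ⟨T', Y s'⟩
    have hO : O.obj.fst.left = T' := e.w_obj _
    have hO' : O'.obj.fst.left = T' := e.w_obj _
    have hh : O.obj.fst.hom = eqToHom hO ≫ l ≫ g := by
      rw [← hπ s hs]
      exact ((eqToHom_trans_assoc hO hO.symm _).trans (Category.id_comp _)).symm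
    have hh' : O'.obj.fst.hom = eqToHom hO' ≫ l ≫ g := by
      rw [← hπ s' hs']
      exact ((eqToHom_trans_assoc hO' hO'.symm _).trans (Category.id_comp _)).symm
    let f : O.obj.fst ⟶ O'.obj.fst := Over.homMk (eqToHom (hO.trans hO'.symm)) (by
      rw [hh, hh']; simp)
    have hcl : ∀ P : (_root_.FibCat.fp x ι𝒳).obj, (P.obj.fst ⟶ Over.mk g) →
        P.obj.snd.aut.hom = 𝟙 _ := fun P m =>
      hc _ (P.obj.iso.inv ≫ x.map m) _ P.obj.snd.map_aut
    have hs1 : O.obj.snd.aut.hom = 𝟙 _ := hcl O (Over.homMk (eqToHom hO ≫ l) (by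
      change (eqToHom hO ≫ l) ≫ g = O.obj.fst.hom
      rw [hh, Category.assoc]))
    have hs2 : O'.obj.snd.aut.hom = 𝟙 _ := hcl O' (Over.homMk (eqToHom hO' ≫ l) (by
      change (eqToHom hO' ≫ l) ≫ g = O'.obj.fst.hom
      rw [hh', Category.assoc]))
    let m : O.obj.snd ⟶ O'.obj.snd :=
      ⟨O.obj.iso.inv ≫ x.map f ≫ O'.obj.iso.hom, by rw [hs1, hs2]; exact (Category.id_comp _).trans (Category.comp_id _).symm⟩
    let φ : O ⟶ O' := Fp.homMk f m (by
      change x.map f ≫ O'.obj.iso.hom = O.obj.iso.hom ≫ m.hom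
      exact (Iso.hom_inv_id_assoc _ _).symm)
    obtain ⟨ψ, hψ⟩ := e.toFunctor.map_surjective φ
    have hl : (_root_.FibCat.fp x ι𝒳).p.IsHomLift (𝟙 T') φ :=
      (Fp.isHomLift_iff φ _).2 (IsHomLift.of_fac' (_root_.FibCat.overCat U).p (𝟙 T') φ.hom.fst hO hO' (by
        change eqToHom (hO.trans hO'.symm) = eqToHom hO ≫ 𝟙 _ ≫ eqToHom hO'.symm
        simp))
    rw [← hψ] at hl
    have hψl : (ofSp F).p.IsHomLift (𝟙 T') ψ := (e.isHomLift_iff _ ψ).1 hl
    have h3 : ψ.hom = 𝟙 T' :=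
      (IsHomLift.fac' (ofSp F).p (𝟙 T') ψ).trans
        ((Category.id_comp _).trans (Category.comp_id _))
    have h4 := ψ.map_sec
    rw [h3, op_id, F.obj.map_id] at h4
    exact h4.symm
  · intro hT y m s hs
    let T' := 𝒳.p.obj y
    let l : T' ⟶ T := 𝒳.p.map m ≫ eqToHom (x.w_obj (Over.mk g))
    let c : (Over.mk (l ≫ g) : (_root_.FibCat.overCat U).obj) ⟶ Over.mk g := Over.homMk l
    have h1 : (_root_.FibCat.overCat U).p.IsHomLift l c := IsHomLift.map (_root_.FibCat.overCat U).p c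
    have h2 : 𝒳.p.IsHomLift l (x.map c) := inferInstance
    have h3 : 𝒳.p.IsHomLift l m := IsHomLift.of_fac' _ _ _ rfl (x.w_obj (Over.mk g)) (by simp [l])
    obtain ⟨θ, hθ, -⟩ := @IsFibGrpd.exists_iso_of_lifts _ _ _ _ _ hG _ _ l _ _ _ (x.map c) m h2 h3
    have hsi : IsIso s := (IsFibGrpd.isIso_iff hG s).2 (by rw [hs]; infer_instance)
    let α : x.obj (Over.mk (l ≫ g)) ≅ x.obj (Over.mk (l ≫ g)) := θ.symm ≪≫ asIso s ≪≫ θ
    have hα : 𝒳.p.map α.hom = 𝟙 _ := by
      simp only [α, Iso.trans_hom, Iso.symm_hom, asIso_hom, Functor.map_comp, hs, Category.id_comp]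
      rw [← 𝒳.p.map_comp, θ.inv_hom_id, 𝒳.p.map_id]
    obtain ⟨a, ia, hia⟩ := exists_section_of_obj he (U := T') (inertiaObjOfAut x (l ≫ g) α hα) rfl
    obtain ⟨b, ib, hib⟩ := exists_section_of_obj he (U := T') (inertiaObjOfAut x (l ≫ g) (Iso.refl _) (𝒳.p.map_id _)) rfl
    have hab : a = b := by
      apply Y.symm.injective
      refine hT T' l _ _ ?_ ?_ <;> apply (_root_.AlgSp.J S).uliftYonedaEquiv.{u + 1}.injective <;>
        rw [GrothendieckTopology.uliftYonedaEquiv_comp, Equiv.apply_symm_apply]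
      · rw [secHom_eq_of_iso e a _ ia hia rfl]
        exact congrArg ULift.up (Category.id_comp _).symm
      · rw [secHom_eq_of_iso e b _ ib hib rfl]
        exact congrArg ULift.up (Category.id_comp _).symm
    subst hab
    let φ := ia.inv ≫ ib.hom
    have hci : IsIso φ.hom.snd.hom :=
      (_root_.FibCat.InertiaObj.forget.mapIso (Fp.isoSnd (ia.symm ≪≫ ib))).isIso_hom
    have hcomm : α.hom ≫ φ.hom.snd.hom = φ.hom.snd.hom ≫ 𝟙 _ := φ.hom.snd.comm
    have hα1 : α.hom = 𝟙 _ :=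
      (cancel_mono φ.hom.snd.hom).1 (hcomm.trans ((Category.comp_id _).trans (Category.id_comp _).symm))
    simp only [α, Iso.trans_hom, Iso.symm_hom, asIso_hom] at hα1
    have e1 : s = θ.hom ≫ (θ.inv ≫ s ≫ θ.hom) ≫ θ.inv := by simp
    rw [e1, hα1]
    simp

/-- The locus of clean points along a chart. -/
theorem exists_clean_open (hG : _root_.FibCat.IsFibGrpd 𝒳.p)
    (hlfp : RepByAlgSpWith (_root_.AlgSp.LocP @LocallyOfFinitePresentation) ι𝒳)
    (hpr : RepByAlgSpWith _root_.AlgSp.IsProperMor ι𝒳) (x : _root_.FibCat.overCat U ⥤ᵇ 𝒳) :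
    ∃ V : U.left.Opens, (∀ (T : Over S) (g : T ⟶ U),
      _root_.IsoNat.IsClean (x.obj (Over.mk g)) ↔ Set.range g.left ⊆ V) ∧
      (IsAffine U.left → IsCompact (V : Set U.left)) := by
  obtain ⟨F, e, he, hπ, hpF⟩ := repByAlgSpWith_inf isoInvariant_locP hlfp hpr U x
  obtain ⟨s, hs⟩ := exists_section x e he
  obtain ⟨W, a, ha, has⟩ := F.property.atlas
  obtain ⟨V, hV, -⟩ := exists_locus F.property s hs hpF.1 hπ hpF.2.2 a ha has
  refine ⟨V, fun T g => (isClean_iff_triv hG x e he g).trans (hV T g), fun hU => ?_⟩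
  have := hU
  obtain ⟨W', -, a', -, -, hW', -, ha', has', -⟩ :=
    GrothLib.AlgSp.exists_affine_atlas_separated F.property _ hpF.2.1.2 hpF.1
  obtain ⟨V', hV', hc⟩ := exists_locus F.property s hs hpF.1 hπ hpF.2.2 a' ha' has'
  suffices V = V' by rw [this]; exact hc hW' hU
  ext t
  have key := (hV _ (ptι U t)).symm.trans (hV' _ (ptι U t))
  have hr : Set.range (ptι U t).left = {t} := Scheme.range_fromSpecResidueField t
  rw [hr, Set.singleton_subset_iff, Set.singleton_subset_iff] at key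
  exact key

/-- The clean locus is open, with quasi-compact inclusion. -/
theorem cleanLocus_open_qc (h𝒳 : IsAlgStack Scheme.fppfPrecoverage 𝒳)
    (hlfp : RepByAlgSpWith (_root_.AlgSp.LocP @LocallyOfFinitePresentation) ι𝒳)
    (hpr : RepByAlgSpWith _root_.AlgSp.IsProperMor ι𝒳) :
    IsOpenSubstack 𝒳 (fun η => _root_.IsoNat.IsClean η) Scheme.fppfPrecoverage ∧
      RepByAlgSpWith _root_.AlgSp.IsQuasiCompactMor (subIncl 𝒳 (fun η => _root_.IsoNat.IsClean η)) := by
  have hG := h𝒳.isStack.1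
  have hmono : ∀ {η η' : 𝒳.obj}, (η' ⟶ η) → _root_.IsoNat.IsClean η → _root_.IsoNat.IsClean η' :=
    fun {η η'} a h z b => h z (b ≫ a)
  have hext : ∀ {p r : FPt 𝒳}, (r.obj ⟶ p.obj) → _root_.IsoNat.IsClean r.obj → _root_.IsoNat.IsClean p.obj := by
    intro p r a hr
    obtain ⟨y, ey, hey⟩ := Yon.exists_functor hG p.obj p.lies
    obtain ⟨V, hV, -⟩ := exists_clean_open hG hlfp hpr y
    let d : Over.mk r.str ⟶ Over.mk p.str := eqToHom r.lies.symm ≫ 𝒳.p.map a ≫ eqToHom p.lies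
    let c : (Over.mk d : (_root_.FibCat.overCat (Over.mk p.str)).obj) ⟶ Yon.idObj (Over.mk p.str) :=
      Over.homMk d (Category.comp_id d)
    have h1 : (_root_.FibCat.overCat (Over.mk p.str)).p.IsHomLift d c :=
      IsHomLift.map (_root_.FibCat.overCat (Over.mk p.str)).p c
    have h2 : 𝒳.p.IsHomLift d (y.map c) := inferInstance
    have h3 : 𝒳.p.IsHomLift d (a ≫ ey.inv) := IsHomLift.of_fac' _ _ _ r.lies (y.w_obj _) (by
      have he : 𝒳.p.map ey.inv = eqToHom (p.lies.trans (y.w_obj (Yon.idObj (Over.mk p.str))).symm) := by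
        have := hey
        have : 𝒳.p.IsHomLift (𝟙 (Over.mk p.str)) ey.inv := IsHomLift.lift_id_inv _ _ _
        simpa using IsHomLift.fac' 𝒳.p (𝟙 (Over.mk p.str)) ey.inv
      simp [d, he])
    obtain ⟨θ, -, -⟩ := @IsFibGrpd.exists_iso_of_lifts _ _ _ _ _ hG _ _ d _ _ _ (y.map c) (a ≫ ey.inv) h2 h3
    have hd := (hV _ d).1 (hmono θ.inv hr)
    refine hmono ey.inv ((hV _ (𝟙 _)).2 fun t _ => ?_)
    have hsub : ∀ z : ↥(Spec (CommRingCat.of p.K)), z = t := fun z => Subsingleton.elim _ _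
    have := hd ⟨IsLocalRing.closedPoint r.K, rfl⟩
    rwa [hsub (d.left _)] at this
  let K : Set (Points 𝒳) := {P | Quot.lift (fun p : FPt 𝒳 => _root_.IsoNat.IsClean p.obj)
    (fun p q ⟨r, a, b, _⟩ => propext ⟨fun h => hext b (hmono a h), fun h => hext a (hmono b h)⟩) P}
  have hK : ∀ {U : Over S} (y : _root_.FibCat.overCat U ⥤ᵇ 𝒳) (V : U.left.Opens), (∀ (T : Over S) (g : T ⟶ U),
      _root_.IsoNat.IsClean (y.obj (Over.mk g)) ↔ Set.range g.left ⊆ V) → ∀ t, Points.ofChart y t ∈ K ↔ t ∈ V := by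
    intro U y V hV t
    let o : FPt (_root_.FibCat.overCat U) :=
      ⟨U.left.residueField t, U.left.fromSpecResidueField t ≫ U.hom, Over.mk (ptι U t), rfl⟩
    have ho : Points.mk (o.map y) = Points.ofChart y t := by
      rw [← Points.map_mk, map_eq_ofChart_pointOf]
      refine congrArg _ ?_
      change (𝟙 _ ≫ U.left.fromSpecResidueField t) (IsLocalRing.closedPoint _) = t
      rw [Category.id_comp]
      exact Scheme.fromSpecResidueField_apply _ _
    rw [← ho]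
    refine (hV _ (ptι U t)).trans ?_
    have hr : Set.range (ptι U t).left = {t} := Scheme.range_fromSpecResidueField t
    rw [hr, Set.singleton_subset_iff]
    exact Iff.rfl
  have hKo : IsOpen K := by
    obtain ⟨U, y, hs, hj⟩ := h𝒳.atlas
    obtain ⟨V, hV, -⟩ := exists_clean_open hG hlfp hpr y
    rw [← (isOpenQuotientMap_ofChart hG hs hj).isQuotientMap.isOpen_preimage,
      show Points.ofChart y ⁻¹' K = V from Set.ext (hK y V hV)]
    exact V.2
  have hiff : ∀ η, _root_.IsoNat.IsClean η ↔ openPred K η := fun η => by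
    refine ⟨fun h p a => hmono a h, fun h => ?_⟩
    obtain ⟨y, ey, -⟩ := Yon.exists_functor hG η rfl
    obtain ⟨V, hV, -⟩ := exists_clean_open hG hlfp hpr y
    refine hmono ey.inv ((hV _ (𝟙 _)).2 fun t _ => ?_)
    exact (hK y V hV t).1 ((openPred_obj_iff hG y (Yon.idObj _)).1 (openPred_of_hom ey.hom h) t)
  rw [show (fun η => _root_.IsoNat.IsClean η) = openPred K from funext fun η => propext (hiff η)]
  refine ⟨isOpenSubstack_openPred h𝒳 hKo, repByAlgSpWith_mono
    (fun _ _ a _ _ h => GrothLib.AlgSp.isQuasiCompactMor_of_repWith h)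
    (repByAlgSpWith_repWith_subIncl_openPred h𝒳 hKo @QuasiCompact fun U y V hV => ?_)⟩
  obtain ⟨V', hV', -⟩ := exists_clean_open hG hlfp hpr y
  obtain rfl : V = V' := SetLike.coe_injective (hV.trans (Set.ext (hK y V' hV')))
  refine quasiCompact_iff_forall_isAffineOpen.2 fun W hW => ?_
  let T : Over S := Over.mk (W.ι ≫ U.hom)
  let c : T ⟶ U := Over.homMk W.ι
  obtain ⟨VT, hVT, hVTc⟩ := exists_clean_open hG hlfp hpr (BasedFunctor.comp (GrothLib.FibCat.overMap c) y)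
  have hpre : (VT : Set T.left) = W.ι ⁻¹' V := Set.ext fun t => by
    have h1 := (hVT _ (ptι T t)).symm.trans (hV' _ (ptι T t ≫ c))
    have hr : Set.range (ptι T t).left = {t} := Scheme.range_fromSpecResidueField t
    have hr' : Set.range (ptι T t ≫ c).left = {W.ι t} := by
      change Set.range (W.ι ∘ (ptι T t).left) = _
      rw [Set.range_comp, hr, Set.image_singleton]
    rw [hr, hr', Set.singleton_subset_iff, Set.singleton_subset_iff] at h1
    exact h1
  have hc : IsCompact (W.ι '' (VT : Set T.left)) := (hVTc hW).image W.ι.continuous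
  rw [hpre, Set.image_preimage_eq_range_inter, Scheme.Opens.range_ι] at hc
  rw [V.ι.isOpenEmbedding.isInducing.isCompact_iff]
  change IsCompact (V.ι '' (V.ι ⁻¹' (W : Set U.left)))
  rw [Set.image_preimage_eq_range_inter, Scheme.Opens.range_ι, Set.inter_comm]
  exact hc

end GrothLib.AlgSt
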