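import Mathlib.AlgebraicGeometry.Gluing
import Mathlib.AlgebraicGeometry.AffineScheme
import Mathlib.AlgebraicGeometry.Morphisms.SchemeTheoreticallyDominant
import Mathlib.Algebra.Polynomial.Eval.Defs
import Mathlib.Algebra.Ring.Subring.Basic
import Mathlib.RingTheory.Polynomial.Basic

/-!
# The two axes with doubled origin over an affine scheme
-/

set_option backward.isDefEq.respectTransparency false
set_option backward.isDefEq.respectTransparency.types false

universe u

open CategoryTheory CategoryTheory.Limits AlgebraicGeometry Polynomial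

namespace GrothLib.DoubledAxes

/-- The data of a scheme covered by two copies of the axes glued away from the origin. -/
structure Data {S : Scheme.{u}} (T' : Over S) where
  A : Over S
  X : Over S
  T : Over S
  W : Over S
  A' : Over S
  U : Bool → Over S
  q : T ⟶ T'
  i : Bool → (X ⟶ T)
  o : T' ⟶ A
  ax : Bool → (A ⟶ X)
  d : W ⟶ X
  v : ∀ b, U b ⟶ W
  j : A' ⟶ A
  w : ∀ b, A' ⟶ U b
  isOpenImmersion_i : ∀ b, IsOpenImmersion (i b).left
  cover_i : ∀ t : ↥T.left, ∃ b y, (i b).left y = t
  d_i : d ≫ i false = d ≫ i true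
  overlap : ∀ {Z : Over S} (g g' : Z ⟶ X), g ≫ i false = g' ≫ i true → g = g' ∧ ∃ l, l ≫ d = g
  isOpenImmersion_v : ∀ b, IsOpenImmersion (v b).left
  cover_v : ∀ z : ↥W.left, ∃ b y, (v b).left y = z
  disjoint_v : ∀ b c, b ≠ c → ∀ y z, (v b).left y ≠ (v c).left z
  o_q : ∀ b c, o ≫ ax b ≫ i c ≫ q = 𝟙 T'
  o_ax : o ≫ ax false = o ≫ ax true
  mono_d : Mono d.left
  i_q : ∀ b, i b ≫ q = i false ≫ q
  w_v : ∀ b, w b ≫ v b ≫ d = j ≫ ax b
  dominant_j : IsSchemeTheoreticallyDominant j.left
  not_factor : ∀ g : X ⟶ X, g ≫ i false ≠ i true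

variable (B : Type u) [CommRing B]

/-- The ring of the two axes. -/
noncomputable def axesRing : Subring (B[X] × B[X]) :=
  RingHom.eqLocus ((evalRingHom 0).comp (RingHom.fst B[X] B[X])) ((evalRingHom 0).comp (RingHom.snd B[X] B[X]))

/-- The axes coordinates. -/
noncomputable def coord : Bool → axesRing B
  | false => ⟨(X, 0), by change eval 0 (X : B[X]) = eval 0 0; simp⟩
  | true => ⟨(0, X), by change eval 0 (0 : B[X]) = eval 0 X; simp⟩

theorem coord_mul : coord B false * coord B true = 0 := by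
  refine Subtype.ext ?_
  change ((X : B[X]) * 0, (0 : B[X]) * X) = 0
  simp

/-- The constants. -/
noncomputable def cst : B →+* axesRing B :=
  RingHom.codRestrict ((C : B →+* B[X]).prod C) _ fun b => by
    change eval 0 (C b) = eval 0 (C b); rfl

/-- The restriction to an axis. -/
noncomputable def toAxis : Bool → (axesRing B →+* B[X])
  | false => (RingHom.fst B[X] B[X]).comp (axesRing B).subtype
  | true => (RingHom.snd B[X] B[X]).comp (axesRing B).subtype

theorem toAxis_coord (b : Bool) : toAxis B b (coord B b) = X := by cases b <;> rfl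

theorem eval_toAxis (b c : Bool) : (evalRingHom 0).comp (toAxis B b) = (evalRingHom 0).comp (toAxis B c) := by
  have h : ∀ f : axesRing B, eval 0 (toAxis B false f) = eval 0 (toAxis B true f) := fun f => f.2
  ext f
  cases b <;> cases c <;> first | rfl | exact h f | exact (h f).symm

theorem toAxis_cst (b : Bool) : (toAxis B b).comp (cst B) = C := by cases b <;> rfl

theorem eval_coord (b c : Bool) : eval 0 (toAxis B b (coord B c)) = 0 := by
  cases b <;> cases c <;> simp [toAxis, coord]

theorem isSchemeTheoreticallyDominant_specMap {R R' : CommRingCat.{u}} (f : R ⟶ R')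
    (hf : Function.Injective f) : IsSchemeTheoreticallyDominant (Spec.map f) := by
  rw [isSchemeTheoreticallyDominant_iff]
  refine Scheme.IdealSheafData.ext_of_isAffine ?_
  rw [Scheme.IdealSheafData.ideal_bot, Pi.bot_apply, Scheme.Hom.ker_apply, ← RingHom.injective_iff_ker_eq_bot]
  have key : Function.Injective ((Spec.map f).appTop) := by
    have e := Scheme.ΓSpecIso_naturality f
    intro a b hab
    apply (Scheme.ΓSpecIso R).commRingCatIsoToRingEquiv.injective
    apply hf
    have ha := congr(($e) a)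
    have hb := congr(($e) b)
    simp only [CommRingCat.comp_apply] at ha hb
    exact ha.symm.trans ((congrArg _ hab).trans hb)
  exact key

open PrimeSpectrum in
/-- Existence over a nonempty affine scheme. -/
theorem exists_data {S : Scheme.{u}} (T' : Over S) [IsAffine T'.left] [Nonempty ↥T'.left] :
    Nonempty (Data T') := by
  let B : Type u := Γ(T'.left, ⊤)
  let R : CommRingCat.{u} := CommRingCat.of (axesRing B)
  let e : T'.left ≅ Spec (CommRingCat.of B) := T'.left.isoSpec
  let st : Spec (CommRingCat.of B) ⟶ S := e.inv ≫ T'.hom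
  let rX : Spec R ⟶ Spec (CommRingCat.of B) := Spec.map (CommRingCat.ofHom (cst B))
  let O : Bool → (Spec R).Opens := fun b => PrimeSpectrum.basicOpen (coord B b : R)
  let W : (Spec R).Opens := O false ⊔ O true
  let T : Scheme.{u} := pushout W.ι W.ι
  let qT : T ⟶ Spec (CommRingCat.of B) := pushout.desc rX rX rfl
  let sT : T ⟶ S := qT ≫ st
  let X : Over S := Over.mk (rX ≫ st)
  let TT : Over S := Over.mk sT
  let i0 : X ⟶ TT := Over.homMk (pushout.inl W.ι W.ι) (by simp [X, TT, sT, qT])
  let i1 : X ⟶ TT := Over.homMk (pushout.inr W.ι W.ι) (by simp [X, TT, sT, qT])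
  let PA : CommRingCat.{u} := CommRingCat.of B[X]
  let rA : Spec PA ⟶ Spec (CommRingCat.of B) := Spec.map (CommRingCat.ofHom (C : B →+* B[X]))
  let A : Over S := Over.mk (rA ≫ st)
  let axl : Bool → (Spec PA ⟶ Spec R) := fun b => Spec.map (CommRingCat.ofHom (toAxis B b))
  have haxl : ∀ b, axl b ≫ rX = rA := fun b => by
    simp only [axl, rX, rA, R, PA, ← Spec.map_comp, ← CommRingCat.ofHom_comp, toAxis_cst]
  let ax : Bool → (A ⟶ X) := fun b => Over.homMk (axl b) (by
    change axl b ≫ rX ≫ st = rA ≫ st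
    rw [← Category.assoc, haxl])
  let ev : Spec (CommRingCat.of B) ⟶ Spec PA := Spec.map (CommRingCat.ofHom (evalRingHom 0))
  have hev : ev ≫ rA = 𝟙 _ := by
    simp only [ev, rA, PA, ← Spec.map_comp, ← CommRingCat.ofHom_comp]
    rw [show (evalRingHom (0 : B)).comp C = RingHom.id B from by ext; simp]
    exact Spec.map_id _
  let o : T' ⟶ A := Over.homMk (e.hom ≫ ev) (by
    change (e.hom ≫ ev) ≫ rA ≫ st = T'.hom
    rw [Category.assoc, reassoc_of% hev]
    simp [st])
  let D : (Spec PA).Opens := PrimeSpectrum.basicOpen (Polynomial.X : B[X])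
  let A' : Over S := Over.mk (D.ι ≫ rA ≫ st)
  have hpre : ∀ b, D ≤ axl b ⁻¹ᵁ O b := fun b p hp => by
    change (coord B b : R) ∉ ((PrimeSpectrum.comap (toAxis B b)) p).asIdeal
    rw [PrimeSpectrum.comap_asIdeal, Ideal.mem_comap, toAxis_coord]
    exact hp
  have hlift : ∀ b, ∃ l : D.toScheme ⟶ (O b).toScheme, l ≫ (O b).ι = D.ι ≫ axl b := fun b =>
    ⟨IsOpenImmersion.lift (O b).ι (D.ι ≫ axl b) (by
      rintro _ ⟨z, rfl⟩
      rw [Scheme.Opens.range_ι]
      exact hpre b z.2), IsOpenImmersion.lift_fac _ _ _⟩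
  choose w hw using hlift
  have hOW : ∀ b, O b ≤ W := fun b => by cases b; exacts [le_sup_left, le_sup_right]
  let U : Bool → Over S := fun b => Over.mk ((O b).ι ≫ rX ≫ st)
  let WW : Over S := Over.mk (W.ι ≫ rX ≫ st)
  let d : WW ⟶ X := Over.homMk W.ι rfl
  let v : ∀ b, U b ⟶ WW := fun b => Over.homMk ((Spec R).homOfLE (hOW b)) (by
    change (Spec R).homOfLE (hOW b) ≫ W.ι ≫ rX ≫ st = (O b).ι ≫ rX ≫ st
    rw [Scheme.homOfLE_ι_assoc])
  let F := span W.ι W.ι
  have hopen : ∀ b, IsOpenImmersion ((bif b then i1 else i0)).left := fun b => by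
    cases b
    · exact (inferInstance : IsOpenImmersion (pushout.inl W.ι W.ι))
    · exact (inferInstance : IsOpenImmersion (pushout.inr W.ι W.ι))
  have hmeet : ∀ (x y : ↥(Spec R)), pushout.inl W.ι W.ι x = pushout.inr W.ι W.ι y → x = y ∧ x ∈ W := by
    intro x y hxy
    obtain ⟨k, fi, fj, z, hzi, hzj⟩ :=
      (Scheme.IsLocallyDirected.ι_eq_ι_iff (F := span W.ι W.ι) (i := WalkingSpan.left) (j := WalkingSpan.right)).1 hxy
    rcases k with (_ | k)
    · obtain rfl : fi = WalkingSpan.Hom.fst := Subsingleton.elim _ _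
      obtain rfl : fj = WalkingSpan.Hom.snd := Subsingleton.elim _ _
      exact ⟨hzi.symm.trans hzj, hzi ▸ z.2⟩
    · cases fi
      cases fj
  refine ⟨⟨A, X, TT, WW, A', U, Over.homMk (qT ≫ e.inv) (by simp [TT, sT, st]), fun b => bif b then i1 else i0,
    o, ax, d, v, Over.homMk D.ι rfl, fun b => Over.homMk (w b) (by
      change w b ≫ (O b).ι ≫ rX ≫ st = D.ι ≫ rA ≫ st
      rw [reassoc_of% (hw b), reassoc_of% (haxl b)]),
    hopen, ?_, ?_, ?_, ?_, ?_, ?_, ?_, ?_, ?_, ?_, ?_, ?_, ?_⟩⟩
  · -- cover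
    intro t
    obtain ⟨k, y, rfl⟩ := Scheme.IsLocallyDirected.ι_jointly_surjective (span W.ι W.ι) t
    rcases k with (_ | _ | _)
    · refine ⟨false, W.ι y, ?_⟩
      change pushout.inl W.ι W.ι (W.ι y) = _
      rw [← Scheme.Hom.comp_apply]
      exact congrArg (fun φ : W.toScheme ⟶ T => φ y) (colimit.w (span W.ι W.ι) WalkingSpan.Hom.fst)
    · exact ⟨false, y, rfl⟩
    · exact ⟨true, y, rfl⟩
  · exact Over.OverMorphism.ext (pushout.condition (f := W.ι) (g := W.ι))
  · -- overlap
    intro Z g g' hg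
    have hg' : g.left ≫ pushout.inl W.ι W.ι = g'.left ≫ pushout.inr W.ι W.ι := congr($(hg).left)
    have hr : Set.range g.left ⊆ Set.range W.ι := by
      rintro _ ⟨z, rfl⟩
      rw [Scheme.Opens.range_ι]
      refine (hmeet (g.left z) (g'.left z) ?_).2
      change (g.left ≫ pushout.inl W.ι W.ι) z = _
      rw [hg']
      rfl
    let l := IsOpenImmersion.lift W.ι g.left hr
    have hl : l ≫ W.ι = g.left := IsOpenImmersion.lift_fac _ _ _
    have e1 : g.left = g'.left := by
      rw [← cancel_mono (pushout.inr W.ι W.ι), ← hg', ← hl, Category.assoc, Category.assoc, pushout.condition]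
    refine ⟨Over.OverMorphism.ext e1, Over.homMk l ?_, Over.OverMorphism.ext hl⟩
    change l ≫ W.ι ≫ rX ≫ st = Z.hom
    rw [reassoc_of% hl]
    exact Over.w g
  · intro b
    exact (inferInstance : IsOpenImmersion ((Spec R).homOfLE (hOW b)))
  · rintro ⟨z, hz⟩
    rcases hz' : (hz : z ∈ (O false : Set _) ∪ (O true : Set _)) with h | h
    · exact ⟨false, ⟨z, h⟩, Subtype.ext (Scheme.homOfLE_apply (hOW _) _)⟩
    · exact ⟨true, ⟨z, h⟩, Subtype.ext (Scheme.homOfLE_apply (hOW _) _)⟩
  · intro b c hbc y z hyz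
    have h1 : (O b).ι y = (O c).ι z := by
      rw [← (Spec R).homOfLE_ι (hOW b), ← (Spec R).homOfLE_ι (hOW c)]
      exact congrArg W.ι hyz
    have hy : y.1 ∈ O b ⊓ O c := ⟨y.2, (show y.1 = z.1 from h1) ▸ z.2⟩
    have h0 : O false ⊓ O true = ⊥ := by
      refine (PrimeSpectrum.basicOpen_mul (R := axesRing B) _ _).symm.trans ?_
      rw [coord_mul]
      exact PrimeSpectrum.basicOpen_zero
    have : y.1 ∈ O false ⊓ O true := by
      cases b <;> cases c
      · exact absurd rfl hbc
      · exact hy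
      · exact hy.symm
      · exact absurd rfl hbc
    rw [h0] at this
    exact this
  · intro b c
    refine Over.OverMorphism.ext ?_
    have : ∀ c, (bif c then i1 else i0).left ≫ qT = rX := fun c => by cases c <;> simp [i0, i1, qT]
    change (e.hom ≫ ev) ≫ axl b ≫ (bif c then i1 else i0).left ≫ qT ≫ e.inv = 𝟙 _
    rw [reassoc_of% (this c), reassoc_of% (haxl b), Category.assoc, reassoc_of% hev, Iso.hom_inv_id]
  · refine Over.OverMorphism.ext ?_
    change (e.hom ≫ ev) ≫ axl false = (e.hom ≫ ev) ≫ axl true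
    simp only [Category.assoc, ev, axl, R, PA, ← Spec.map_comp, ← CommRingCat.ofHom_comp, eval_toAxis B false true]
  · exact (inferInstance : Mono W.ι)
  · intro b
    refine Over.OverMorphism.ext ?_
    cases b <;> simp [i0, i1, qT]
  · intro b
    refine Over.OverMorphism.ext ?_
    change w b ≫ (Spec R).homOfLE (hOW b) ≫ W.ι = D.ι ≫ axl b
    rw [Scheme.homOfLE_ι, hw]
  · -- dominant
    change IsSchemeTheoreticallyDominant D.ι
    have hinj : Function.Injective (algebraMap B[X] (Localization.Away (Polynomial.X : B[X]))) :=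
      IsLocalization.injective _ (Submonoid.powers_le.2 (Monic.mem_nonZeroDivisors monic_X))
    let L := Localization.Away (Polynomial.X : B[X])
    have := isSchemeTheoreticallyDominant_specMap (R := PA) (CommRingCat.ofHom (algebraMap B[X] L)) hinj
    have hr : (Spec.map (CommRingCat.ofHom (algebraMap B[X] L))).opensRange = D :=
      TopologicalSpace.Opens.ext (PrimeSpectrum.localization_away_comap_range L Polynomial.X)
    have hsub : Set.range (Spec.map (CommRingCat.ofHom (algebraMap B[X] L))) ⊆ Set.range D.ι := by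
      rw [Scheme.Opens.range_ι, ← hr]; exact subset_refl _
    have hfac := IsOpenImmersion.lift_fac D.ι (Spec.map (CommRingCat.ofHom (algebraMap B[X] L))) hsub
    rw [isSchemeTheoreticallyDominant_iff, eq_bot_iff]
    refine (Scheme.Hom.le_ker_comp (IsOpenImmersion.lift D.ι (Spec.map (CommRingCat.ofHom (algebraMap B[X] L))) hsub) D.ι).trans_eq ?_
    rw [hfac]
    exact Scheme.Hom.ker_eq_bot _
  · -- not_factor
    intro g hg
    obtain ⟨p⟩ := (inferInstance : Nonempty ↥T'.left)
    let y := (o ≫ ax false).left p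
    have hy : pushout.inl W.ι W.ι (g.left y) = pushout.inr W.ι W.ι y := by
      rw [← Scheme.Hom.comp_apply]
      exact congrArg (fun φ : X ⟶ TT => φ.left y) hg
    have hyW : y ∈ W := (hmeet _ _ hy).1 ▸ (hmeet _ _ hy).2
    have key : ∀ c, y ∉ O c := fun c h => by
      change (coord B c : R) ∉ ((PrimeSpectrum.comap (toAxis B false)) (PrimeSpectrum.comap (evalRingHom 0) (e.hom p))).asIdeal at h
      apply h
      simp [PrimeSpectrum.comap_asIdeal, Ideal.mem_comap, eval_coord]
    rcases TopologicalSpace.Opens.mem_sup.1 hyW with h | h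
    · exact key _ h
    · exact key _ h

end GrothLib.DoubledAxes
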