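import Groth.Agent.Lib.AlgSt.IsoClClean
import Groth.Agent.Lib.AlgSt.SepDense
import Groth.Agent.Lib.AlgSt.OpenGlue
import Groth.Agent.Lib.AlgSt.DoubledAxes
import Groth.Agent.Lib.Stk.Twist
import Mathlib.AlgebraicGeometry.Morphisms.UnderlyingMap

/-!
# Separated isomorphism classes force the absence of automorphisms
-/

set_option backward.isDefEq.respectTransparency false
set_option backward.isDefEq.respectTransparency.types false

universe u

open CategoryTheory CategoryTheory.Limits AlgebraicGeometry Opposite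

namespace GrothLib.AlgSt

open _root_.AlgSt GrothLib.FibCat _root_.IsoNat

variable {S : Scheme.{u}} {𝒳 : _root_.AlgSt.Cat S}

/-- An endomorphism of the source compatible with a given endomorphism of the target. -/
theorem exists_endo (h : _root_.FibCat.IsFibGrpd 𝒳.p) {a x : 𝒳.obj} (p : a ⟶ x) (s : x ⟶ x)
    (hs : 𝒳.p.map s = 𝟙 _) :
    ∃ θ : a ⟶ a, 𝒳.p.map θ = 𝟙 _ ∧ θ ≫ p = p ≫ s := by
  obtain ⟨θ, h', -⟩ := IsFibGrpd.existsUnique_fac h p (p ≫ s) (𝟙 _) (by rw [𝒳.p.map_comp, hs]; simp)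
  exact ⟨θ, h'⟩

theorem exists_autOf (h : _root_.FibCat.IsFibGrpd 𝒳.p) {a : 𝒳.obj} (θ : a ⟶ a) (hθ : 𝒳.p.map θ = 𝟙 _) :
    ∃ e : Aut a, e.hom = θ := by
  have : IsIso θ := (IsFibGrpd.isIso_iff h θ).2 (by rw [hθ]; infer_instance)
  exact ⟨asIso θ, rfl⟩

section

variable {T' : Over S} (D : GrothLib.DoubledAxes.Data T')

/-- The two charts of the doubled axes. -/
abbrev axesCov : Sieve D.T := Sieve.ofArrows (fun _ : ULift.{u} Bool => D.X) (fun b => D.i b.down)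

theorem axesCov_mem : axesCov D ∈ AlgSp.J S D.T :=
  ofArrows_two_mem _ _ (fun b => D.isOpenImmersion_i b.down) fun t => by
    obtain ⟨b, y, h⟩ := D.cover_i t
    exact ⟨⟨b⟩, y, h⟩

/-- The arrow from the overlap. -/
abbrev axesD : D.W ⟶ D.T := D.d ≫ D.i false

theorem axesD_mono : Mono (D.i false).left ∧ Mono (D.i true).left := by
  have := D.isOpenImmersion_i false
  have := D.isOpenImmersion_i true
  exact ⟨inferInstance, inferInstance⟩

variable (h : _root_.Stk.IsStack (AlgSp.J S) 𝒳) (G : _root_.FibCat.overCat D.T ⥤ᵇ 𝒳) {x : 𝒳.obj}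
  (proj : ∀ z, G.obj z ⟶ x) (hproj : ∀ {z' z} (f : z' ⟶ z), G.map f ≫ proj z = proj z')
  (s : x ⟶ x) (hs : 𝒳.p.map s = 𝟙 _)

include h hproj hs

/-- The cocycle on the overlap: `s` on one component, the identity on the other. -/
theorem exists_overlap_endo : ∃ α : G.obj (Over.mk (axesD D)) ⟶ G.obj (Over.mk (axesD D)),
    𝒳.p.map α = 𝟙 _ ∧ ∀ (b : Bool), G.map (Over.homMk (D.v b) rfl :
        Over.mk (D.v b ≫ axesD D) ⟶ Over.mk (axesD D)) ≫ α ≫ proj (Over.mk (axesD D)) =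
      proj (Over.mk (D.v b ≫ axesD D)) ≫ (bif b then s else 𝟙 x) := by
  let w : ∀ b : ULift.{u} Bool, (Over.mk (D.v b.down ≫ axesD D) ⟶ Over.mk (axesD D)) :=
    fun b => Over.homMk (D.v b.down) rfl
  have hn : ∀ b : ULift.{u} Bool, ∃ n : G.obj (Over.mk (D.v b.down ≫ axesD D)) ⟶ G.obj (Over.mk (axesD D)),
      𝒳.p.map n = 𝒳.p.map (G.map (w b)) ∧
        n ≫ proj (Over.mk (axesD D)) = proj (Over.mk (D.v b.down ≫ axesD D)) ≫ (bif b.down then s else 𝟙 x) := by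
    intro b
    obtain ⟨n, hn, -⟩ := IsFibGrpd.existsUnique_fac h.1 (proj (Over.mk (axesD D)))
      (proj (Over.mk (D.v b.down ≫ axesD D)) ≫ (bif b.down then s else 𝟙 x)) (𝒳.p.map (G.map (w b))) (by
        rw [← 𝒳.p.map_comp, hproj (w b), 𝒳.p.map_comp]
        cases b.down <;> simp [hs])
    exact ⟨n, hn⟩
  choose n hn₁ hn₂ using hn
  obtain ⟨α, hα, hα'⟩ := exists_hom_of_disjoint' h (a := G.obj (Over.mk (axesD D))) (G.w_obj _) (𝟙 _)
    (fun b : ULift.{u} Bool => D.v b.down) _ (fun b => G.map (w b))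
    (fun b => have : (_root_.FibCat.overCat D.T).p.IsHomLift (D.v b.down) (w b) :=
      IsHomLift.map (_root_.FibCat.overCat D.T).p (w b)
      BasedFunctor.preserves_isHomLift G _ _)
    n (fun b => D.isOpenImmersion_v b.down)
    (fun z => by obtain ⟨b, y, hy⟩ := D.cover_v z; exact ⟨⟨b⟩, y, hy⟩)
    (fun b c hbc => D.disjoint_v b.down c.down fun e => hbc (ULift.ext _ _ e))
    (fun b => by rw [hn₁, Category.comp_id])
  refine ⟨α, hα, fun b => ?_⟩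
  refine (Category.assoc _ _ _).symm.trans ?_
  exact (congrArg (· ≫ proj (Over.mk (axesD D))) (hα' ⟨b⟩)).trans (hn₂ ⟨b⟩)

/-- The cocycle at all arrows of the cover. -/
theorem exists_cocycle : ∃ σ : ∀ z : (_root_.Stk.sieveCat (axesCov D)).obj, Aut (G.obj z.obj),
    (∀ z, 𝒳.p.map (σ z).hom = 𝟙 _) ∧
    (∀ {z'' z' : (_root_.Stk.sieveCat (axesCov D)).obj} (f : z'' ⟶ z') (l : z'.obj.left ⟶ D.W),
      l ≫ axesD D = z'.obj.hom → (σ z'').hom ≫ G.map f.hom = G.map f.hom ≫ (σ z').hom) ∧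
    (∀ (z : (_root_.Stk.sieveCat (axesCov D)).obj) (b : Bool) (l : z.obj.left ⟶ D.U b),
      l ≫ D.v b ≫ axesD D = z.obj.hom → (σ z).hom ≫ proj z.obj = proj z.obj ≫ (bif b then s else 𝟙 x)) := by
  have hG := h.1
  obtain ⟨α, hα, hα'⟩ := exists_overlap_endo D h G proj hproj s hs
  have : Mono (D.i false).left := (axesD_mono D).1
  have hmono : ∀ {Z : Over S} (l l' : Z ⟶ D.W), l ≫ axesD D = l' ≫ axesD D → l = l' := fun {Z} l l' e => by
    have hd := D.mono_d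
    apply Over.OverMorphism.ext
    have e' := congr($(e).left)
    simp only [Over.comp_left, ← Category.assoc, cancel_mono] at e'
    exact e'
  let σ0 : ∀ z : (_root_.Stk.sieveCat (axesCov D)).obj, ∃ e : Aut (G.obj z.obj), 𝒳.p.map e.hom = 𝟙 _ ∧
      ∀ (l : z.obj.left ⟶ D.W) (hl : l ≫ axesD D = z.obj.hom),
        e.hom ≫ G.map (Over.homMk l hl : z.obj ⟶ Over.mk (axesD D)) =
          G.map (Over.homMk l hl : z.obj ⟶ Over.mk (axesD D)) ≫ α := fun z => by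
    by_cases hz : ∃ l : z.obj.left ⟶ D.W, l ≫ axesD D = z.obj.hom
    · obtain ⟨l₀, hl₀⟩ := hz
      obtain ⟨θ, hθ, hθ'⟩ := exists_endo hG (G.map (Over.homMk l₀ hl₀ : z.obj ⟶ Over.mk (axesD D))) α hα
      obtain ⟨e, rfl⟩ := exists_autOf hG θ hθ
      exact ⟨e, hθ, fun l hl => by obtain rfl := hmono l l₀ (hl.trans hl₀.symm); exact hθ'⟩
    · exact ⟨1, 𝒳.p.map_id _, fun l hl => (hz ⟨l, hl⟩).elim⟩
  choose σ hσ₁ hσ₂ using σ0
  refine ⟨σ, hσ₁, fun {z'' z'} f l hl => ?_, fun z b l hl => ?_⟩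
  · have hl'' : (f.hom.left ≫ l) ≫ axesD D = z''.obj.hom := by
      rw [Category.assoc, hl]; exact Over.w f.hom
    have e : G.map (Over.homMk (f.hom.left ≫ l) hl'' : z''.obj ⟶ Over.mk (axesD D)) =
        G.map f.hom ≫ G.map (Over.homMk l hl : z'.obj ⟶ Over.mk (axesD D)) := by rw [← G.map_comp]; exact congrArg G.map (Over.OverMorphism.ext rfl)
    refine IsFibGrpd.hom_ext' hG (G.map (Over.homMk l hl : z'.obj ⟶ Over.mk (axesD D))) ?_ ?_
    · rw [𝒳.p.map_comp, 𝒳.p.map_comp, hσ₁, hσ₁, Category.id_comp, Category.comp_id]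
    · rw [Category.assoc, Category.assoc, ← e, hσ₂ z'' _ hl'', e, Category.assoc, hσ₂ z' l hl]
  · have hl' : (l ≫ D.v b) ≫ axesD D = z.obj.hom := by rw [Category.assoc, hl]
    let g : z.obj ⟶ Over.mk (D.v b ≫ axesD D) := Over.homMk l hl
    let f₀ : Over.mk (D.v b ≫ axesD D) ⟶ Over.mk (axesD D) := Over.homMk (D.v b) rfl
    have e : G.map (Over.homMk (l ≫ D.v b) hl' : z.obj ⟶ Over.mk (axesD D)) = G.map g ≫ G.map f₀ :=
      by rw [← G.map_comp]; exact congrArg G.map (Over.OverMorphism.ext rfl)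
    have k1 : G.map g ≫ G.map f₀ ≫ proj (Over.mk (axesD D)) = proj z.obj := by rw [hproj, hproj]
    calc (σ z).hom ≫ proj z.obj
        = (σ z).hom ≫ (G.map g ≫ G.map f₀) ≫ proj (Over.mk (axesD D)) := by rw [Category.assoc, k1]
      _ = (G.map g ≫ G.map f₀) ≫ α ≫ proj (Over.mk (axesD D)) := by
          rw [← e, reassoc_of% (hσ₂ z _ hl')]
      _ = G.map g ≫ proj (Over.mk (D.v b ≫ axesD D)) ≫ (bif b then s else 𝟙 x) := by
          rw [Category.assoc, hα' b]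
      _ = proj z.obj ≫ (bif b then s else 𝟙 x) := by rw [← Category.assoc, hproj]

end

/-- The label of an arrow of the cover: `0` if it factors through the first chart. -/
noncomputable def axesLabel {T' : Over S} (D : GrothLib.DoubledAxes.Data T')
    (z : (_root_.Stk.sieveCat (axesCov D)).obj) : ℤ := by
  classical exact if ∃ g : z.obj.left ⟶ D.X, g ≫ D.i false = z.obj.hom then 0 else 1

theorem exists_overlap_of_label_ne {T' : Over S} (D : GrothLib.DoubledAxes.Data T')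
    {z' z : (_root_.Stk.sieveCat (axesCov D)).obj} (g : z' ⟶ z) (hne : axesLabel D z' ≠ axesLabel D z) :
    ∃ l : z'.obj.left ⟶ D.W, l ≫ axesD D = z'.obj.hom := by
  classical
  obtain ⟨W, a, _, ⟨b⟩, hb⟩ := z.property
  have hz : ¬ ∃ a : z.obj.left ⟶ D.X, a ≫ D.i false = z.obj.hom := fun ⟨a₀, h₀⟩ => hne (by
    simp only [axesLabel]
    rw [if_pos ⟨g.hom.left ≫ a₀, by rw [Category.assoc, h₀]; exact Over.w g.hom⟩, if_pos ⟨a₀, h₀⟩])
  obtain ⟨a', ha'⟩ : ∃ a' : z'.obj.left ⟶ D.X, a' ≫ D.i false = z'.obj.hom := by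
    by_contra hz'
    apply hne
    simp only [axesLabel]
    rw [if_neg hz, if_neg hz']
  obtain ⟨_ | _⟩ := b
  · exact (hz ⟨a, hb⟩).elim
  · have hb' : a ≫ D.i true = z.obj.hom := hb
    have e : a' ≫ D.i false = (g.hom.left ≫ a) ≫ D.i true := by
      rw [ha', Category.assoc, hb']; exact (Over.w g.hom).symm
    obtain ⟨-, l, hl⟩ := D.overlap a' _ e
    exact ⟨l, by rw [← Category.assoc, hl, ha']⟩

/-- The cover of the doubled axes by the disjoint union of the charts. -/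
noncomputable abbrev axesSigma {T' : Over S} (D : GrothLib.DoubledAxes.Data T') : Over S :=
  GrothLib.AlgSp.sigmaOver (fun _ : ULift.{u} Bool => D.X)

noncomputable abbrev axesπ {T' : Over S} (D : GrothLib.DoubledAxes.Data T') : axesSigma D ⟶ D.T :=
  Over.homMk (Sigma.desc fun b : ULift.{u} Bool => (D.i b.down).left) (Sigma.hom_ext _ _ fun b => by
    simp [GrothLib.AlgSp.sigmaOver])

theorem axesπ_props {T' : Over S} (D : GrothLib.DoubledAxes.Data T') :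
    Flat (axesπ D).left ∧ Surjective (axesπ D).left ∧ LocallyOfFinitePresentation (axesπ D).left := by
  have := fun b : ULift.{u} Bool => D.isOpenImmersion_i b.down
  refine ⟨IsZariskiLocalAtSource.sigmaDesc fun b => inferInstance, ⟨fun t => ?_⟩,
    IsZariskiLocalAtSource.sigmaDesc fun b => inferInstance⟩
  obtain ⟨b, y, hy⟩ := D.cover_i t
  refine ⟨Sigma.ι (fun _ : ULift.{u} Bool => D.X.left) ⟨b⟩ y, ?_⟩
  change (Sigma.ι (fun _ : ULift.{u} Bool => D.X.left) ⟨b⟩ ≫ Sigma.desc fun b : ULift.{u} Bool => (D.i b.down).left) y = t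
  erw [Sigma.ι_desc]
  exact hy

/-- An automorphism of an object over an affine scheme is trivial if isomorphism classes are separated. -/
theorem endo_eq_id_of_separated_affine (h : _root_.Stk.IsStack (AlgSp.J S) 𝒳)
    (hd : RepByAlgSpWith AlgSp.IsSeparatedMor (_root_.FibCat.diag (_root_.FibCat.toSelf 𝒳)))
    (hsep : ∀ (T T' : Over S) (π : T' ⟶ T) [Flat π.left] [Surjective π.left] [LocallyOfFinitePresentation π.left]
        (x₁ x₂ : 𝒳.p.Fiber T) (x₁' x₂' : 𝒳.p.Fiber T') (a₁ : x₁'.1 ⟶ x₁.1) (a₂ : x₂'.1 ⟶ x₂.1),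
        𝒳.p.IsHomLift π a₁ → 𝒳.p.IsHomLift π a₂ → Nonempty (x₁' ≅ x₂') → Nonempty (x₁ ≅ x₂))
    (x : 𝒳.obj) [IsAffine (𝒳.p.obj x).left] (s : x ⟶ x) (hs : 𝒳.p.map s = 𝟙 _) : s = 𝟙 x := by
  have hG := h.1
  have hid : 𝒳.p.map (𝟙 x) = 𝟙 _ := 𝒳.p.map_id x
  cases isEmpty_or_nonempty ↥(𝒳.p.obj x).left
  · exact hom_eq_of_isEmpty h _ _ (hs.trans hid.symm)
  obtain ⟨D⟩ := GrothLib.DoubledAxes.exists_data (𝒳.p.obj x)
  obtain ⟨Gx, eX, heX⟩ := Yon.exists_functor hG x (rfl : 𝒳.p.obj x = _)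
  let G := BasedFunctor.comp (GrothLib.FibCat.overMap D.q) Gx
  let qz : ∀ z : (_root_.FibCat.overCat D.T).obj, (GrothLib.FibCat.overMap D.q).obj z ⟶ Yon.idObj (𝒳.p.obj x) :=
    fun z => Yon.toId _
  let proj : ∀ z, G.obj z ⟶ x := fun z => Gx.map (qz z) ≫ eX.hom
  have hproj : ∀ {z' z} (f : z' ⟶ z), G.map f ≫ proj z = proj z' := fun {z' z} f => by
    change Gx.map ((GrothLib.FibCat.overMap D.q).map f) ≫ Gx.map (qz z) ≫ eX.hom = Gx.map (qz z') ≫ eX.hom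
    rw [← Gx.map_comp_assoc]
    exact congrArg (fun t => Gx.map t ≫ eX.hom) (Yon.map_comp_toId _)
  have hprojl : ∀ z : (_root_.FibCat.overCat D.T).obj, 𝒳.p.IsHomLift (z.hom ≫ D.q) (proj z) := fun z => by
    have := heX
    have : (_root_.FibCat.overCat (𝒳.p.obj x)).p.IsHomLift (z.hom ≫ D.q) (qz z) := Yon.toId_lift _
    exact IsHomLift.comp_lift_id_right' 𝒳.p _ (Gx.map (qz z)) (𝒳.p.obj x) eX.hom
  obtain ⟨σ, hσ₁, hσ₂, hσ₃⟩ := exists_cocycle D h G proj hproj s hs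
  have hσl : ∀ z, 𝒳.p.IsHomLift (𝟙 ((_root_.Stk.sieveCat (axesCov D)).p.obj z)) (σ z).hom := fun z =>
    IsHomLift.of_fac' 𝒳.p _ _ (G.w_obj z.obj) (G.w_obj z.obj) (by rw [hσ₁]; simp)
  let c := GrothLib.Stk.Twist.functor (BasedFunctor.comp (_root_.Stk.sieveIncl (axesCov D)) G) σ hσl (axesLabel D)
    (fun {z'' z'} f z g hne => by
      obtain ⟨l, hl⟩ := exists_overlap_of_label_ne D g hne
      exact hσ₂ f l hl)
  have hes : (_root_.Stk.resSieve (axesCov D) 𝒳).EssSurj := by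
    have := h.2 (axesCov D) (axesCov_mem D)
    unfold _root_.Stk.IsStackFor at this
    infer_instance
  obtain ⟨x₂, hx₂, m, hm, hm'⟩ := GrothLib.Stk.Descent.exists_cocone hG hes c
  let zc : Bool → (_root_.Stk.sieveCat (axesCov D)).obj := fun b =>
    GrothLib.Stk.arrowObj (D.i b) (Sieve.ofArrows_mk _ (fun b : ULift.{u} Bool => D.i b.down) ⟨b⟩)
  -- the two objects are locally isomorphic
  obtain ⟨hπ₁, hπ₂, hπ₃⟩ := axesπ_props D
  let inj : ∀ b : ULift.{u} Bool, D.X ⟶ axesSigma D := fun b =>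
    GrothLib.AlgSp.sigmaι (fun _ : ULift.{u} Bool => D.X) b
  have hinj : ∀ b : ULift.{u} Bool, inj b ≫ axesπ D = D.i b.down := fun b =>
    Over.OverMorphism.ext (Sigma.ι_desc (fun b : ULift.{u} Bool => (D.i b.down).left) b)
  let zS : (_root_.FibCat.overCat D.T).obj := Over.mk (axesπ D)
  let gS : ∀ b : ULift.{u} Bool, (zc b.down).obj ⟶ zS := fun b => Over.homMk (inj b) (hinj b)
  obtain ⟨a₂, ha₂, -⟩ := exists_hom_of_disjoint' h (a := G.obj zS) (b := x₂) (G.w_obj zS)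
    (eqToHom (G.w_obj zS) ≫ axesπ D ≫ eqToHom hx₂.symm) inj
    _ (fun b => G.map (gS b))
    (fun b => have : (_root_.FibCat.overCat D.T).p.IsHomLift (inj b) (gS b) :=
      IsHomLift.map (_root_.FibCat.overCat D.T).p (gS b)
      BasedFunctor.preserves_isHomLift G _ _)
    (fun b => m (zc b.down))
    (fun b => (inferInstance : IsOpenImmersion (Sigma.ι (fun _ : ULift.{u} Bool => D.X.left) b)))
    (fun z => by
      obtain ⟨b, y, hy⟩ := (sigmaOpenCover (fun _ : ULift.{u} Bool => D.X.left)).exists_eq z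
      exact ⟨b, y, hy⟩)
    (fun b c hbc y z hyz => by
      have h0 := disjoint_opensRange_sigmaι (fun _ : ULift.{u} Bool => D.X.left) b c hbc
      exact Set.disjoint_left.1 (TopologicalSpace.Opens.coe_disjoint.2 h0) ⟨y, rfl⟩ ⟨z, hyz.symm⟩)
    (fun b => by
      have hmz := hm (zc b.down)
      rw [IsHomLift.fac' 𝒳.p (zc b.down).obj.hom (m (zc b.down)), p_map_map G]
      change _ ≫ D.i b.down ≫ _ = (_ ≫ inj b ≫ _) ≫ _
      rw [← hinj b]
      simp)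
  have ha₂l : 𝒳.p.IsHomLift (axesπ D) a₂ := IsHomLift.of_fac' 𝒳.p _ _ (G.w_obj zS) hx₂ ha₂
  let X₁ : 𝒳.p.Fiber D.T := ⟨G.obj (Yon.idObj D.T), G.w_obj _⟩
  let X₂ : 𝒳.p.Fiber D.T := ⟨x₂, hx₂⟩
  let X' : 𝒳.p.Fiber (axesSigma D) := ⟨G.obj zS, G.w_obj zS⟩
  obtain ⟨φi⟩ := @hsep D.T (axesSigma D) (axesπ D) hπ₁ hπ₂ hπ₃ X₁ X₂ X' X' (G.map (Yon.toId zS)) a₂
    (have : (_root_.FibCat.overCat D.T).p.IsHomLift (axesπ D) (Yon.toId zS) := Yon.toId_lift zS
     BasedFunctor.preserves_isHomLift G _ _) ha₂l ⟨Iso.refl _⟩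
  let φ : G.obj (Yon.idObj D.T) ⟶ x₂ := φi.hom.1
  have hφ : 𝒳.p.IsHomLift (𝟙 D.T) φ := φi.hom.2
  -- the components of `φ`
  have hA : ∀ z : (_root_.Stk.sieveCat (axesCov D)).obj, ∃ θ : G.obj z.obj ⟶ c.obj z,
      𝒳.p.map θ = 𝟙 _ ∧ θ ≫ m z = G.map (Yon.toId z.obj) ≫ φ := fun z => by
    have h1 := hm z
    have h2 : (_root_.FibCat.overCat D.T).p.IsHomLift z.obj.hom (Yon.toId z.obj) := Yon.toId_lift z.obj
    obtain ⟨θ, hθ, -⟩ := IsFibGrpd.existsUnique_fac hG (m z) (G.map (Yon.toId z.obj) ≫ φ) (𝟙 _) (by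
      have : 𝒳.p.IsHomLift z.obj.hom (G.map (Yon.toId z.obj) ≫ φ) :=
        IsHomLift.comp_lift_id_right' 𝒳.p _ _ D.T φ
      rw [IsHomLift.fac' 𝒳.p z.obj.hom (G.map (Yon.toId z.obj) ≫ φ), IsHomLift.fac' 𝒳.p z.obj.hom (m z)]
      exact Category.id_comp _)
    exact ⟨θ, hθ⟩
  choose A hA₁ hA₂ using hA
  have hAnat : ∀ {z' z : (_root_.Stk.sieveCat (axesCov D)).obj} (f : z' ⟶ z),
      A z' ≫ c.map f = G.map f.hom ≫ A z := fun {z' z} f => by
    have h1 : 𝒳.p.map (c.map f) = 𝒳.p.map (G.map f.hom) := (p_map_map c f).trans (p_map_map G f.hom).symm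
    refine IsFibGrpd.hom_ext' hG (m z) ?_ ?_
    · rw [𝒳.p.map_comp, 𝒳.p.map_comp, hA₁, hA₁, h1]
      exact (Category.id_comp _).trans (Category.comp_id _).symm
    · rw [Category.assoc, hm', hA₂, Category.assoc, hA₂, ← G.map_comp_assoc, Yon.map_comp_toId]
  -- comparison along the two axes
  have key : ∀ b : Bool, ∀ η₀ η₁ : x ⟶ x,
      (∀ ζ : x ⟶ G.obj (zc false).obj, 𝒳.p.map ζ = 𝒳.p.map ζ → 𝒳.p.IsHomLift (D.o ≫ D.ax b) ζ →
        ζ ≫ proj (zc false).obj = 𝟙 x → ζ ≫ A (zc false) ≫ proj (zc false).obj = η₀) →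
      (∀ ζ : x ⟶ G.obj (zc true).obj, 𝒳.p.map ζ = 𝒳.p.map ζ → 𝒳.p.IsHomLift (D.o ≫ D.ax b) ζ →
        ζ ≫ proj (zc true).obj = 𝟙 x → ζ ≫ A (zc true) ≫ proj (zc true).obj = η₁) →
      η₁ = η₀ ≫ (bif b then s else 𝟙 x) := by
    intro b η₀ η₁ hη₀ hη₁
    let ε : x ⟶ x := bif b then s else 𝟙 x
    have hε : 𝒳.p.map ε = 𝟙 _ := by cases b <;> simp [ε, hs]
    let r : D.A ⟶ 𝒳.p.obj x := D.ax b ≫ D.i false ≫ D.q
    obtain ⟨y, py, hpy⟩ := hG.exists_lift (x := x) r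
    obtain ⟨y', κ, hκ⟩ := IsFibGrpd.exists_lift_of_eq hG (IsHomLift.domain_eq 𝒳.p r py) D.j
    have hθ : ∀ cb : Bool, ∃ θ : y ⟶ G.obj (zc cb).obj, 𝒳.p.IsHomLift (D.ax b) θ ∧ θ ≫ proj (zc cb).obj = py := by
      intro cb
      have := hprojl (zc cb).obj
      have : 𝒳.p.IsHomLift (D.ax b ≫ (zc cb).obj.hom ≫ D.q) py := by
        have e : (zc cb).obj.hom ≫ D.q = D.i false ≫ D.q := D.i_q cb
        rw [e]; exact hpy
      obtain ⟨θ, hθ, -⟩ := IsFibGrpd.existsUnique_lift hG ((zc cb).obj.hom ≫ D.q) (D.ax b) (proj (zc cb).obj) py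
      exact ⟨θ, hθ⟩
    choose θ hθl hθ₂ using hθ
    have hAp : ∀ z, 𝒳.p.map (A z ≫ proj z.obj) = 𝒳.p.map (proj z.obj) := fun z => by
      rw [𝒳.p.map_comp, hA₁]; exact Category.id_comp _
    have hβ : ∀ cb : Bool, ∃ β : y ⟶ y, 𝒳.p.map β = 𝟙 _ ∧ β ≫ py = θ cb ≫ A (zc cb) ≫ proj (zc cb).obj := by
      intro cb
      obtain ⟨β, hβ, -⟩ := IsFibGrpd.existsUnique_fac hG py (θ cb ≫ A (zc cb) ≫ proj (zc cb).obj) (𝟙 _) (by
        rw [Category.id_comp, 𝒳.p.map_comp, hAp, ← 𝒳.p.map_comp, hθ₂])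
      exact ⟨β, hβ⟩
    choose β hβ₁ hβ₂ using hβ
    obtain ⟨εy, hεy₁, hεy₂⟩ := exists_endo hG py ε hε
    -- the restriction to the punctured axis
    have harr : (D.w b ≫ D.v b) ≫ axesD D = D.j ≫ D.ax b ≫ D.i false := by
      rw [← Category.assoc D.j, ← D.w_v b]; simp [axesD]
    have harr' : ∀ cb : Bool, (D.j ≫ D.ax b) ≫ D.i cb = D.j ≫ D.ax b ≫ D.i false := fun cb => by
      cases cb
      · simp
      · rw [← Category.assoc D.j, ← D.w_v b]
        simp only [Category.assoc, D.d_i]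
    let zA : (_root_.Stk.sieveCat (axesCov D)).obj := GrothLib.Stk.arrowObj (D.j ≫ D.ax b ≫ D.i false)
      ⟨_, D.j ≫ D.ax b, D.i false, Presieve.ofArrows.mk (f := fun b : ULift.{u} Bool => D.i b.down) ⟨false⟩,
        Category.assoc _ _ _⟩
    let g : ∀ cb, zA ⟶ zc cb := fun cb => ObjectProperty.homMk (Over.homMk (D.j ≫ D.ax b) (harr' cb))
    have hσA : (σ zA).hom ≫ proj zA.obj = proj zA.obj ≫ ε :=
      hσ₃ zA b (D.w b) (by rw [← Category.assoc, harr]; rfl)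
    have hk0 : axesLabel D zA = 0 := by
      classical exact if_pos ⟨D.j ≫ D.ax b, Category.assoc _ _ _⟩
    have hkc : ∀ cb, axesLabel D (zc cb) = bif cb then 1 else 0 := fun cb => by
      classical
      cases cb
      · exact if_pos ⟨𝟙 _, Category.id_comp _⟩
      · exact if_neg fun ⟨a, ha⟩ => D.not_factor a ha
    have hc : ∀ cb, c.map (g cb) ≫ proj (zc cb).obj = proj zA.obj ≫ (bif cb then ε else 𝟙 x) := by
      intro cb
      change ((σ zA ^ (axesLabel D (zc cb) - axesLabel D zA)).hom ≫ G.map (g cb).hom) ≫ proj (zc cb).obj = _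
      rw [Category.assoc, hproj, hk0, hkc]
      cases cb
      · simp only [cond_false, sub_self, zpow_zero]
        exact (Category.id_comp _).trans (Category.comp_id _).symm
      · simp only [cond_true, sub_zero, zpow_one]
        exact hσA
    -- lift of `κ` to the object at `zA`
    have hμ : ∃ μ : y' ⟶ G.obj zA.obj, 𝒳.p.IsHomLift (𝟙 D.A') μ ∧ μ ≫ proj zA.obj = κ ≫ py := by
      have := hprojl zA.obj
      have : 𝒳.p.IsHomLift (𝟙 D.A' ≫ zA.obj.hom ≫ D.q) (κ ≫ py) := by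
        have e : zA.obj.hom ≫ D.q = D.j ≫ r := by
          change (D.j ≫ D.ax b ≫ D.i false) ≫ D.q = D.j ≫ D.ax b ≫ D.i false ≫ D.q
          simp
        rw [Category.id_comp, e]
        infer_instance
      obtain ⟨μ, hμ, -⟩ := IsFibGrpd.existsUnique_lift hG (zA.obj.hom ≫ D.q) (𝟙 D.A') (proj zA.obj) (κ ≫ py)
      exact ⟨μ, hμ⟩
    obtain ⟨μ, hμl, hμ₂⟩ := hμ
    have hκθ : ∀ cb, κ ≫ θ cb = μ ≫ G.map (g cb).hom := fun cb => by
      have := hθl cb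
      have := hprojl (zc cb).obj
      have : (_root_.FibCat.overCat D.T).p.IsHomLift (D.j ≫ D.ax b) (g cb).hom :=
        IsHomLift.map (_root_.FibCat.overCat D.T).p (g cb).hom
      have h3 : 𝒳.p.IsHomLift (D.j ≫ D.ax b) (μ ≫ G.map (g cb).hom) :=
        IsHomLift.comp_lift_id_left' 𝒳.p D.A' μ _ _
      refine IsFibGrpd.hom_ext hG (D.j ≫ D.ax b) ((zc cb).obj.hom ≫ D.q) (proj (zc cb).obj) ?_
      rw [Category.assoc, hθ₂, Category.assoc, hproj, hμ₂]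
    have hκβ : ∀ cb, κ ≫ β cb ≫ py = μ ≫ A zA ≫ proj zA.obj ≫ (bif cb then ε else 𝟙 x) := fun cb => by
      rw [hβ₂, reassoc_of% (hκθ cb), ← reassoc_of% (hAnat (g cb)), hc]
    have hcomp : κ ≫ β true = κ ≫ β false ≫ εy := by
      refine IsFibGrpd.hom_ext' hG py ?_ ?_
      · simp only [𝒳.p.map_comp, hβ₁, hεy₁, Category.comp_id]
      · simp only [Category.assoc]
        rw [hκβ, hεy₂, reassoc_of% (hκβ false)]
        simp
    have : IsSchemeTheoreticallyDominant (𝒳.p.map κ).left := by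
      have := hκ
      have := D.dominant_j
      rw [IsHomLift.fac' 𝒳.p D.j κ]
      simp only [Over.comp_left]
      have : IsIso (eqToHom (IsHomLift.domain_eq 𝒳.p D.j κ)).left := inferInstanceAs (IsIso ((Over.forget S).map _))
      have : IsIso (eqToHom (IsHomLift.codomain_eq 𝒳.p D.j κ).symm).left :=
        inferInstanceAs (IsIso ((Over.forget S).map _))
      infer_instance
    have hβ' : β true = β false ≫ εy :=
      aut_eq_of_agree hd hG κ _ _ (hβ₁ true) (by rw [𝒳.p.map_comp, hβ₁, hεy₁, Category.comp_id]) hcomp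
    -- evaluation at the origin
    obtain ⟨ζ, hζl, hζ⟩ : ∃ ζ : x ⟶ y, 𝒳.p.IsHomLift D.o ζ ∧ ζ ≫ py = 𝟙 x := by
      have : 𝒳.p.IsHomLift (D.o ≫ r) (𝟙 x) := by
        rw [show D.o ≫ r = 𝟙 _ from D.o_q b false]; exact IsHomLift.id rfl
      obtain ⟨ζ, hζ, -⟩ := IsFibGrpd.existsUnique_lift hG r D.o py (𝟙 x)
      exact ⟨ζ, hζ⟩
    have := hθl false
    have := hθl true
    have e0 := hη₀ (ζ ≫ θ false) rfl inferInstance (by rw [Category.assoc, hθ₂, hζ])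
    have e1 := hη₁ (ζ ≫ θ true) rfl inferInstance (by rw [Category.assoc, hθ₂, hζ])
    rw [Category.assoc, ← hβ₂] at e0 e1
    rw [← e1, ← e0, hβ']
    simp only [Category.assoc, hεy₂]
    rfl
  have hev : ∀ cb : Bool, ∃ ζ : x ⟶ G.obj (zc cb).obj,
      𝒳.p.IsHomLift (D.o ≫ D.ax false) ζ ∧ ζ ≫ proj (zc cb).obj = 𝟙 x ∧
        ∀ ζ' : x ⟶ G.obj (zc cb).obj, 𝒳.p.IsHomLift (D.o ≫ D.ax false) ζ' →
          ζ' ≫ proj (zc cb).obj = 𝟙 x → ζ' = ζ := by
    intro cb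
    have := hprojl (zc cb).obj
    have : 𝒳.p.IsHomLift ((D.o ≫ D.ax false) ≫ (zc cb).obj.hom ≫ D.q) (𝟙 x) := by
      rw [show (D.o ≫ D.ax false) ≫ (zc cb).obj.hom ≫ D.q = 𝟙 _ from
        (Category.assoc _ _ _).trans (D.o_q false cb)]
      exact IsHomLift.id rfl
    obtain ⟨ζ, ⟨h1, h2⟩, hu⟩ := IsFibGrpd.existsUnique_lift hG ((zc cb).obj.hom ≫ D.q) (D.o ≫ D.ax false)
      (proj (zc cb).obj) (𝟙 x)
    exact ⟨ζ, h1, h2, fun ζ' h1' h2' => hu ζ' ⟨h1', h2'⟩⟩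
  choose ζ hζ₁ hζ₂ hζu using hev
  let η : Bool → (x ⟶ x) := fun cb => ζ cb ≫ A (zc cb) ≫ proj (zc cb).obj
  have hη : ∀ b cb (ζ' : x ⟶ G.obj (zc cb).obj), 𝒳.p.map ζ' = 𝒳.p.map ζ' → 𝒳.p.IsHomLift (D.o ≫ D.ax b) ζ' →
      ζ' ≫ proj (zc cb).obj = 𝟙 x → ζ' ≫ A (zc cb) ≫ proj (zc cb).obj = η cb := fun b cb ζ' _ h1 h2 => by
    have : D.o ≫ D.ax b = D.o ≫ D.ax false := by cases b <;> simp [D.o_ax]
    rw [this] at h1
    rw [hζu cb ζ' h1 h2]
  have e₀ := key false (η false) (η true) (hη false false) (hη false true)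
  have e₁ := key true (η false) (η true) (hη true false) (hη true true)
  simp only [cond_false, Category.comp_id, cond_true] at e₀ e₁
  have hηi : IsIso (η false) := by
    refine (IsFibGrpd.isIso_iff hG _).2 ?_
    have e : 𝒳.p.map (η false) = 𝟙 _ := by
      simp only [η, 𝒳.p.map_comp, hA₁]
      rw [Category.id_comp, ← 𝒳.p.map_comp, hζ₂, hid]
    rw [e]; infer_instance
  exact ((cancel_epi (η false)).1 ((Category.comp_id _).trans (e₀.symm.trans e₁))).symm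

/-- Separated isomorphism classes force every object to be clean. -/
theorem clean_of_isoCl_separated (h : _root_.Stk.IsStack (AlgSp.J S) 𝒳)
    (hd : RepByAlgSpWith AlgSp.IsSeparatedMor (_root_.FibCat.diag (_root_.FibCat.toSelf 𝒳)))
    (hsep : ∀ (T T' : Over S) (π : T' ⟶ T) [Flat π.left] [Surjective π.left] [LocallyOfFinitePresentation π.left]
        (x₁ x₂ : 𝒳.p.Fiber T) (x₁' x₂' : 𝒳.p.Fiber T') (a₁ : x₁'.1 ⟶ x₁.1) (a₂ : x₂'.1 ⟶ x₂.1),
        𝒳.p.IsHomLift π a₁ → 𝒳.p.IsHomLift π a₂ → Nonempty (x₁' ≅ x₂') → Nonempty (x₁ ≅ x₂))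
    (η : 𝒳.obj) : IsClean η := by
  intro x _ s hs
  let 𝒰 := (𝒳.p.obj x).left.affineCover
  let V : 𝒰.I₀ → Over S := fun i => Over.mk (𝒰.f i ≫ (𝒳.p.obj x).hom)
  let c : ∀ i, V i ⟶ 𝒳.p.obj x := fun i => Over.homMk (𝒰.f i)
  have hR : Sieve.ofArrows V c ∈ AlgSp.J S (𝒳.p.obj x) :=
    GrothLib.AlgSp.ofArrows_mem V c (fun i => (inferInstance : Flat (𝒰.f i)))
      (fun i => (inferInstance : LocallyOfFinitePresentation (𝒰.f i))) fun t => ⟨_, 𝒰.exists_eq t |>.choose_spec⟩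
  refine GrothLib.Stk.Descent.hom_ext h.1 (resSieve_ff h hR).2 s (𝟙 x) (hs.trans (𝒳.p.map_id x).symm) ?_
  rintro a κ ⟨W, g, _, ⟨i⟩, hg⟩
  obtain ⟨b, μ, hμ⟩ := h.1.exists_lift (x := x) (c i)
  have : IsAffine (𝒳.p.obj b).left := by
    rw [IsHomLift.domain_eq 𝒳.p (c i) μ]
    exact (inferInstance : IsAffine (𝒰.X i))
  obtain ⟨θ, hθ, hθ'⟩ := exists_endo h.1 μ s hs
  rw [endo_eq_id_of_separated_affine h hd hsep b θ hθ, Category.id_comp] at hθ'
  have := hμ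
  have : 𝒳.p.IsHomLift (g ≫ c i) κ := by rw [hg]; exact IsHomLift.map 𝒳.p κ
  obtain ⟨l, ⟨-, hl⟩, -⟩ := IsFibGrpd.existsUnique_lift h.1 (c i) g μ κ
  rw [Category.comp_id, ← hl, Category.assoc, ← hθ']

end GrothLib.AlgSt
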