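import Groth.Agent.Lib.AlgSt.Topology
import Groth.Agent.Lib.FibCat.Slice

/-!
# Open substacks and open sets of points
-/

set_option backward.isDefEq.respectTransparency false
set_option backward.isDefEq.respectTransparency.types false

universe u

open CategoryTheory CategoryTheory.Limits AlgebraicGeometry Opposite Topology

namespace GrothLib.AlgSt

open _root_.AlgSt GrothLib.FibCat

variable {S : Scheme.{u}} {𝒳 : _root_.AlgSt.Cat S}

/-- The objects all of whose points lie in `W`. -/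
def openPred (W : Set (Points 𝒳)) (η : 𝒳.obj) : Prop := ∀ (p : FPt 𝒳), (p.obj ⟶ η) → Points.mk p ∈ W

theorem openPred_of_hom {W : Set (Points 𝒳)} {η η' : 𝒳.obj} (a : η' ⟶ η) (h : openPred W η) : openPred W η' :=
  fun p b => h p (b ≫ a)

theorem isClosedUnderIsomorphisms_openPred (W : Set (Points 𝒳)) :
    ObjectProperty.IsClosedUnderIsomorphisms (openPred W) := ⟨fun e h => openPred_of_hom e.inv h⟩

/-- A point mapping to a value of a chart. -/
theorem mk_eq_ofChart (h𝒳 : _root_.FibCat.IsFibGrpd 𝒳.p) {U : Over S} (y : _root_.FibCat.overCat U ⥤ᵇ 𝒳)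
    {b : (_root_.FibCat.overCat U).obj} (p : FPt 𝒳) (a : p.obj ⟶ y.obj b) :
    ∃ t : ↥b.left.left, Points.mk p = Points.ofChart y (b.hom.left t) := by
  let d : Over.mk p.str ⟶ b.left := eqToHom p.lies.symm ≫ 𝒳.p.map a ≫ eqToHom (y.w_obj b)
  let o : FPt (_root_.FibCat.overCat U) := ⟨p.K, p.str, Over.mk (d ≫ b.hom), rfl⟩
  let c : o.obj ⟶ b := Over.homMk d
  have h1 : (_root_.FibCat.overCat U).p.IsHomLift d c := IsHomLift.map (_root_.FibCat.overCat U).p c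
  have h2 : 𝒳.p.IsHomLift d (y.map c) := inferInstance
  have h3 : 𝒳.p.IsHomLift d a := IsHomLift.of_fac' _ _ _ p.lies (y.w_obj b) (by simp [d])
  obtain ⟨e, -, -⟩ := @IsFibGrpd.exists_iso_of_lifts _ _ _ _ _ h𝒳 _ _ d _ _ _ (y.map c) a h2 h3
  refine ⟨d.left (IsLocalRing.closedPoint p.K), (Points.sound (rel_of_hom (r := p) (p := o.map y) e.hom)).trans
    ((map_eq_ofChart_pointOf y (Points.mk o)).trans (congrArg _ ?_))⟩
  change (𝟙 _ ≫ d.left ≫ b.hom.left) (IsLocalRing.closedPoint p.K) = _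
  rw [Category.id_comp]
  rfl

theorem openPred_obj_iff (h𝒳 : _root_.FibCat.IsFibGrpd 𝒳.p) {W : Set (Points 𝒳)} {U : Over S}
    (y : _root_.FibCat.overCat U ⥤ᵇ 𝒳) (b : (_root_.FibCat.overCat U).obj) :
    openPred W (y.obj b) ↔ ∀ t : ↥b.left.left, Points.ofChart y (b.hom.left t) ∈ W := by
  refine ⟨fun h t => ?_, fun h p a => ?_⟩
  · let g : Over.mk (b.left.left.fromSpecResidueField t ≫ b.left.hom) ⟶ b.left :=
      Over.homMk (b.left.left.fromSpecResidueField t) rfl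
    let o : FPt (_root_.FibCat.overCat U) := ⟨_, _, Over.mk (g ≫ b.hom), rfl⟩
    let c : o.obj ⟶ b := Over.homMk g
    have := h (o.map y) (y.map c)
    rw [← Points.map_mk, map_eq_ofChart_pointOf] at this
    convert! this using 2
    change b.hom.left t = (𝟙 _ ≫ g.left ≫ b.hom.left) (IsLocalRing.closedPoint _)
    rw [Category.id_comp, Scheme.Hom.comp_apply]
    exact (congrArg _ (Scheme.fromSpecResidueField_apply _ _)).symm
  · obtain ⟨t, ht⟩ := mk_eq_ofChart h𝒳 y p a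
    rw [ht]
    exact h t

theorem isFibGrpd_fullSub (h𝒳 : _root_.FibCat.IsFibGrpd 𝒳.p) {Q : 𝒳.obj → Prop}
    (hQ : ∀ {η η' : 𝒳.obj}, (η' ⟶ η) → Q η → Q η') : _root_.FibCat.IsFibGrpd (fullSub 𝒳 Q).p where
  exists_lift {x V} f := by
    obtain ⟨y, φ, hφ⟩ := h𝒳.exists_lift (x := x.obj) f
    refine ⟨⟨y, hQ φ x.property⟩, ObjectProperty.homMk φ, ?_⟩
    exact IsHomLift.of_fac' _ _ _ (IsHomLift.domain_eq 𝒳.p f φ) rfl (IsHomLift.fac' 𝒳.p f φ)
  isStronglyCartesian {y x} φ :=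
    { toIsHomLift := IsHomLift.map (fullSub 𝒳 Q).p φ
      universal_property' := fun {z} g ψ hψ => by
        have hψ' : 𝒳.p.IsHomLift (g ≫ 𝒳.p.map φ.hom) ψ.hom :=
          IsHomLift.of_fac' _ _ _ rfl rfl (IsHomLift.fac' (fullSub 𝒳 Q).p (g ≫ (fullSub 𝒳 Q).p.map φ) ψ)
        obtain ⟨χ, ⟨h1, h2⟩, h3⟩ := IsFibGrpd.existsUnique_lift h𝒳 (𝒳.p.map φ.hom) g φ.hom ψ.hom
        refine ⟨ObjectProperty.homMk χ, ⟨IsHomLift.of_fac' _ _ _ rfl rfl (IsHomLift.fac' 𝒳.p g χ),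
          ObjectProperty.hom_ext _ h2⟩, fun χ' hχ => ObjectProperty.hom_ext _ (h3 χ'.hom ⟨?_, ?_⟩)⟩
        · have := hχ.1
          exact IsHomLift.of_fac' _ _ _ rfl rfl (IsHomLift.fac' (fullSub 𝒳 Q).p g χ')
        · exact congrArg (fun t => t.hom) hχ.2 }

instance full_subIncl (Q : 𝒳.obj → Prop) : (subIncl 𝒳 Q).toFunctor.Full :=
  inferInstanceAs (ObjectProperty.ι Q).Full

instance faithful_subIncl (Q : 𝒳.obj → Prop) : (subIncl 𝒳 Q).toFunctor.Faithful :=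
  inferInstanceAs (ObjectProperty.ι Q).Faithful

/-- A functor with values in a full subcategory. -/
def liftSub {𝒲 : _root_.AlgSt.Cat S} (Q : 𝒳.obj → Prop) (f : 𝒲 ⥤ᵇ 𝒳) (h : ∀ w, Q (f.obj w)) :
    𝒲 ⥤ᵇ fullSub 𝒳 Q where
  toFunctor :=
    { obj := fun w => ⟨f.obj w, h w⟩
      map := fun φ => ObjectProperty.homMk (f.map φ)
      map_id := fun w => ObjectProperty.hom_ext _ (f.map_id w)
      map_comp := fun φ ψ => ObjectProperty.hom_ext _ (f.map_comp φ ψ) }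
  w := f.w

theorem liftSub_incl {𝒲 : _root_.AlgSt.Cat S} (Q : 𝒳.obj → Prop) (f : 𝒲 ⥤ᵇ 𝒳) (h : ∀ w, Q (f.obj w)) :
    BasedFunctor.comp (liftSub Q f h) (subIncl 𝒳 Q) = f := rfl

theorem repByAlgSpWith_repWith_subIncl_openPred_of_atlas (g𝒳 : _root_.FibCat.IsFibGrpd 𝒳.p)
    (hat : HasAtlas (AlgSp.LocP @Smooth) 𝒳) {W : Set (Points 𝒳)}
    (hW : IsOpen W) (P : MorphismProperty Scheme.{u}) [P.IsStableUnderBaseChange]
    (hP : ∀ (U : Over S) (y : _root_.FibCat.overCat U ⥤ᵇ 𝒳) (V : U.left.Opens),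
      (V : Set U.left) = Points.ofChart y ⁻¹' W → P V.ι) :
    RepByAlgSpWith (AlgSp.RepWith P) (subIncl 𝒳 (openPred W)) := by
  intro U y
  let V : U.left.Opens := ⟨Points.ofChart y ⁻¹' W, hW.preimage (continuous_ofChart g𝒳 hat y)⟩
  let j : Over.mk (V.ι ≫ U.hom) ⟶ U := Over.homMk V.ι rfl
  let z : _root_.FibCat.overCat (Over.mk (V.ι ≫ U.hom)) ⥤ᵇ fullSub 𝒳 (openPred W) :=
    liftSub (openPred W) (BasedFunctor.comp (GrothLib.FibCat.overMap j) y) fun a =>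
      (openPred_obj_iff g𝒳 y ((GrothLib.FibCat.overMap j).obj a)).2 fun t => (a.hom.left t).2
  let E : _root_.FibCat.overCat (Over.mk (V.ι ≫ U.hom)) ⥤ᵇ _root_.FibCat.fp y (subIncl 𝒳 (openPred W)) :=
    _root_.FibCat.fpLift (GrothLib.FibCat.overMap j) z (Iso.refl _)
  have : Mono j := (Over.forget S).mono_of_mono_map (inferInstanceAs (Mono V.ι))
  have : (_root_.FibCat.fpFst y (subIncl 𝒳 (openPred W))).toFunctor.Faithful := Fp.faithful_fpFst
  have hE : _root_.FibCat.IsEquivOver E := by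
    refine FFEssSurjOver.isEquivOver ⟨⟨fun {a b} ψ => ?_⟩, ⟨fun {a b φ φ'} h => ?_⟩, fun η => ?_⟩
    · have h1 : ψ.hom.fst.left ≫ b.hom ≫ j = a.hom ≫ j := Over.w ψ.hom.fst
      let φ : a ⟶ b := Over.homMk ψ.hom.fst.left (by rw [← cancel_mono j, Category.assoc]; exact h1)
      exact ⟨φ, (_root_.FibCat.fpFst y (subIncl 𝒳 (openPred W))).toFunctor.map_injective
        (Over.OverMorphism.ext rfl)⟩
    · exact Over.OverMorphism.ext (congrArg (fun t => t.hom.fst.left) h)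
    · have hη : openPred W (y.obj η.obj.fst) := openPred_of_hom η.obj.iso.hom η.obj.snd.property
      have hr : Set.range η.obj.fst.hom.left ⊆ Set.range V.ι := by
        rw [Scheme.Opens.range_ι]
        rintro _ ⟨t, rfl⟩
        exact (openPred_obj_iff g𝒳 y η.obj.fst).1 hη t
      let l : η.obj.fst.left ⟶ Over.mk (V.ι ≫ U.hom) :=
        Over.homMk (IsOpenImmersion.lift V.ι η.obj.fst.hom.left hr) (by
          change IsOpenImmersion.lift V.ι η.obj.fst.hom.left hr ≫ V.ι ≫ U.hom = _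
          rw [IsOpenImmersion.lift_fac_assoc]
          exact Over.w η.obj.fst.hom)
      let a : (_root_.FibCat.overCat (Over.mk (V.ι ≫ U.hom))).obj := Over.mk l
      have hl : l ≫ j = η.obj.fst.hom := Over.OverMorphism.ext (IsOpenImmersion.lift_fac V.ι _ hr)
      let i₁ : (GrothLib.FibCat.overMap j).obj a ≅ η.obj.fst := Over.isoMk (Iso.refl _) (by
        change 𝟙 _ ≫ η.obj.fst.hom = l ≫ j
        rw [Category.id_comp, hl])
      let i₂ : z.obj a ≅ η.obj.snd :=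
        (ObjectProperty.ι (openPred W)).preimageIso (y.toFunctor.mapIso i₁ ≪≫ η.obj.iso)
      refine ⟨a, Fp.isoMk i₁ i₂ ?_, (Fp.isHomLift_iff _ _).2 (IsHomLift.of_fac' _ _ _ rfl rfl (by
        change i₁.hom.left = _
        simp [i₁]
        rfl))⟩
      change y.map i₁.hom ≫ η.obj.iso.hom = 𝟙 _ ≫ (ObjectProperty.ι (openPred W)).map i₂.hom
      rw [Category.id_comp, Functor.preimageIso_hom, Functor.map_preimage]
      rfl
  refine HasRep.of_equiv E hE (π := GrothLib.FibCat.overMap j) (Iso.refl _) ?_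
  refine ⟨⟨_, AlgSp.IsAlgSpace.yon_obj _⟩, toOverCat _, isEquivOver_toOverCat _, ?_⟩
  rw [spMapOfOver_overMap]
  exact (AlgSp.repWith_yon_map_iff _ _).2 (hP U y V rfl)

theorem repByAlgSpWith_repWith_subIncl_openPred (h𝒳 : IsAlgStack Scheme.fppfPrecoverage 𝒳) {W : Set (Points 𝒳)}
    (hW : IsOpen W) (P : MorphismProperty Scheme.{u}) [P.IsStableUnderBaseChange]
    (hP : ∀ (U : Over S) (y : _root_.FibCat.overCat U ⥤ᵇ 𝒳) (V : U.left.Opens),
      (V : Set U.left) = Points.ofChart y ⁻¹' W → P V.ι) :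
    RepByAlgSpWith (AlgSp.RepWith P) (subIncl 𝒳 (openPred W)) :=
  repByAlgSpWith_repWith_subIncl_openPred_of_atlas h𝒳.isStack.1 h𝒳.atlas hW P hP

theorem isOpenImm_subIncl_openPred (h𝒳 : IsAlgStack Scheme.fppfPrecoverage 𝒳) {W : Set (Points 𝒳)}
    (hW : IsOpen W) : IsOpenImm (subIncl 𝒳 (openPred W)) :=
  repByAlgSpWith_repWith_subIncl_openPred h𝒳 hW @IsOpenImmersion fun _ _ V _ => inferInstanceAs (IsOpenImmersion V.ι)

theorem isOpenSubstack_openPred (h𝒳 : IsAlgStack Scheme.fppfPrecoverage 𝒳) {W : Set (Points 𝒳)}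
    (hW : IsOpen W) : IsOpenSubstack 𝒳 (openPred W) Scheme.fppfPrecoverage :=
  ⟨isClosedUnderIsomorphisms_openPred W,
    isAlgStack_of_repByAlgSp1 (isFibGrpd_fullSub h𝒳.isStack.1 fun a h => openPred_of_hom a h) h𝒳 _
      (repByAlgSp1_of_repByAlgSpWith (isOpenImm_subIncl_openPred h𝒳 hW)),
    isOpenImm_subIncl_openPred h𝒳 hW⟩

theorem range_points_map_subIncl_openPred (h𝒳 : _root_.FibCat.IsFibGrpd 𝒳.p) {W : Set (Points 𝒳)} :
    Set.range (Points.map (subIncl 𝒳 (openPred W))) = W := by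
  ext x
  obtain ⟨p, rfl⟩ := Points.mk_surjective x
  refine ⟨?_, fun hp => ?_⟩
  · rintro ⟨z, hz⟩
    obtain ⟨q, rfl⟩ := Points.mk_surjective z
    rw [← hz]
    exact q.obj.property ⟨q.K, q.str, q.obj.obj, q.lies⟩ (𝟙 _)
  · obtain ⟨y, ey, -⟩ := Yon.exists_functor h𝒳 p.obj p.lies
    have hQ : openPred W p.obj := by
      refine openPred_of_hom ey.inv ((openPred_obj_iff h𝒳 y _).2 fun t => ?_)
      have : Points.mk p ∈ W := hp
      obtain ⟨t', ht'⟩ := mk_eq_ofChart h𝒳 y p ey.inv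
      rw [ht'] at this
      convert! this using 3
      exact @Subsingleton.elim _ (inferInstanceAs (Subsingleton (PrimeSpectrum p.K))) _ _
    exact ⟨Points.mk ⟨p.K, p.str, ⟨p.obj, hQ⟩, p.lies⟩, rfl⟩

theorem isOpenOnPoints_openImm : IsOpenOnPoints (AlgSp.RepWith (S := S) @IsOpenImmersion) := fun _ _ _ _ _ ha =>
  GrothLib.AlgSp.isOpenMap_map_of_repWith (fun _ _ t ht => by
    have : IsOpenImmersion t := ht
    exact t.isOpenEmbedding.isOpenMap) ha

/-- The image of a representable functor that is open on points is open. -/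
theorem isOpen_range_points_map {𝒲 : _root_.AlgSt.Cat S} (h𝒲 : _root_.FibCat.IsFibGrpd 𝒲.p)
    (h𝒳 : _root_.FibCat.IsFibGrpd 𝒳.p) {P : MorphismProperty (AlgSp.Sp S)} (hP : IsOpenOnPoints P)
    (f : 𝒲 ⥤ᵇ 𝒳) (hf : RepByAlgSpWith P f) : IsOpen (Set.range (Points.map f)) :=
  Points.isOpen_iff.2 fun T y _ => by
    obtain ⟨F, e, he, ha⟩ := hf T y
    let a := spMapOfOver (BasedFunctor.comp e (_root_.FibCat.fpFst y f))
    have hrange : Points.ofChart y ⁻¹' Set.range (Points.map f) =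
        AlgSp.Points.ofScheme T ⁻¹' (Set.range (AlgSp.Points.map a)) := by
      ext t
      refine ⟨fun ⟨w, hw⟩ => ?_, fun ⟨z, hz⟩ => ?_⟩
      · obtain ⟨q, hq, -⟩ := exists_points_fp h𝒲 (isFibGrpd_overCat T) h𝒳 f y
          (Points.ofChart (BasedFunctor.id _) t) w ((ofChart_eq_map y t).symm.trans hw.symm)
        obtain ⟨r, rfl⟩ := (points_map_bijective_of_isEquivOver (isFibGrpd_ofSp F.obj) e he).2 q
        refine ⟨toSpPoints r, Function.LeftInverse.injective (AlgSp.Points.ofScheme_toScheme T) ?_⟩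
        rw [← points_map_comp] at hq
        rw [← pointOf_map, hq, pointOf_ofChart_id, AlgSp.Points.toScheme_ofScheme]
      · obtain ⟨r, rfl⟩ := toSpPoints_bijective.2 z
        refine ⟨Points.map (BasedFunctor.comp e (_root_.FibCat.fpSnd y f)) r, ?_⟩
        rw [← points_map_comp]
        refine (points_map_congr (whiskerLeftIso e (_root_.FibCat.fpIso y f)) r).symm.trans ?_
        change Points.map (BasedFunctor.comp (BasedFunctor.comp e (_root_.FibCat.fpFst y f)) y) r = _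
        rw [points_map_comp, map_eq_ofChart_pointOf]
        congr 1
        rw [pointOf_map, hz, AlgSp.Points.toScheme_ofScheme]
    rw [hrange]
    exact (hP F.property (AlgSp.IsAlgSpace.yon_obj T) a ha).isOpen_range.preimage (AlgSp.Points.continuous_ofPt _)

theorem openPred_range_iff (h𝒳 : IsAlgStack Scheme.fppfPrecoverage 𝒳) {Q : 𝒳.obj → Prop}
    (hQ : IsOpenSubstack 𝒳 Q Scheme.fppfPrecoverage) (η : 𝒳.obj) :
    openPred (Set.range (Points.map (subIncl 𝒳 Q))) η ↔ Q η := by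
  have g𝒳 := h𝒳.isStack.1
  have gQ := hQ.2.1.isStack.1
  have := hQ.1
  refine ⟨fun h => ?_, fun h p a => ?_⟩
  · obtain ⟨y, ey, -⟩ := Yon.exists_functor g𝒳 (U := 𝒳.p.obj η) η rfl
    obtain ⟨F, e, he, ha⟩ := hQ.2.2 _ y
    let a := spMapOfOver (BasedFunctor.comp e (_root_.FibCat.fpFst y (subIncl 𝒳 Q)))
    obtain ⟨R, r₁, r₂, sq⟩ :=
      GrothLib.AlgSp.exists_isPullback_of_representable ha.1 (𝟙 ((AlgSp.yon S).obj (𝒳.p.obj η)))
    have hop : IsOpenImmersion r₂.left := ha.2 _ _ r₂ sq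
    have hsur : Function.Surjective r₂.left := fun t => by
      have ht : Points.ofChart y t ∈ Set.range (Points.map (subIncl 𝒳 Q)) :=
        (openPred_obj_iff g𝒳 y (Yon.idObj _)).1 (openPred_of_hom ey.hom h) t
      obtain ⟨w, hw⟩ := ht
      obtain ⟨q, hq, -⟩ := exists_points_fp gQ (isFibGrpd_overCat _) g𝒳 (subIncl 𝒳 Q) y
        (Points.ofChart (BasedFunctor.id _) t) w ((ofChart_eq_map y t).symm.trans hw.symm)
      obtain ⟨r, rfl⟩ := (points_map_bijective_of_isEquivOver (isFibGrpd_ofSp F.obj) e he).2 q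
      rw [← points_map_comp] at hq
      have hz : AlgSp.Points.map a (toSpPoints r) = AlgSp.Points.map (𝟙 _) (AlgSp.Points.ofScheme _ t) := by
        apply Function.LeftInverse.injective (AlgSp.Points.ofScheme_toScheme _)
        rw [← pointOf_map, hq, pointOf_ofChart_id, AlgSp.Points.map_id, AlgSp.Points.toScheme_ofScheme]
      obtain ⟨x, -, hx⟩ := GrothLib.AlgSp.exists_of_isPullback sq hz
      obtain ⟨x, rfl⟩ := (AlgSp.Points.schemeEquiv R).surjective x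
      exact ⟨x, (AlgSp.Points.schemeEquiv _).injective ((GrothLib.AlgSp.map_yon_ofPt r₂ x).symm.trans hx)⟩
    have : Surjective r₂.left := ⟨hsur⟩
    have : IsIso r₂.left := (isIso_iff_isOpenImmersion_and_epi_base _).2
      ⟨hop, (TopCat.epi_iff_surjective _).2 hsur⟩
    have : IsIso r₂ := by
      have : IsIso ((Over.forget S).map r₂) := ‹IsIso r₂.left›
      exact isIso_of_reflects_iso r₂ (Over.forget S)
    have hs : (inv ((AlgSp.yon S).map r₂) ≫ r₁) ≫ a = 𝟙 _ := by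
      rw [Category.assoc, sq.w, Category.comp_id, IsIso.inv_hom_id]
    let sec := (inv ((AlgSp.yon S).map r₂) ≫ r₁).hom.app (op (𝒳.p.obj η)) ⟨𝟙 _⟩
    let o := e.obj ⟨𝒳.p.obj η, sec⟩
    have hleft : o.obj.fst.left = 𝒳.p.obj η := e.w_obj _
    have hhom : eqToHom hleft.symm ≫ o.obj.fst.hom = 𝟙 _ := by
      have h1 : a.hom.app (op (𝒳.p.obj η)) sec = ⟨𝟙 _⟩ :=
        congrArg (fun f : (AlgSp.yon S).obj (𝒳.p.obj η) ⟶ (AlgSp.yon S).obj (𝒳.p.obj η) =>
          f.hom.app (op (𝒳.p.obj η)) ⟨𝟙 _⟩) hs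
      exact congrArg ULift.down h1
    let i : o.obj.fst ≅ Yon.idObj (𝒳.p.obj η) := Over.isoMk (eqToIso hleft) (by
      change eqToHom hleft ≫ 𝟙 (𝒳.p.obj η) = o.obj.fst.hom
      refine (congrArg (eqToHom hleft ≫ ·) hhom.symm).trans ?_
      exact (eqToHom_trans_assoc _ _ _).trans (Category.id_comp _))
    exact ObjectProperty.IsClosedUnderIsomorphisms.of_iso
      (o.obj.iso.symm ≪≫ y.toFunctor.mapIso i ≪≫ ey) o.obj.snd.property
  · have hlies : 𝒳.p.obj η = 𝒳.p.obj η := rfl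
    obtain ⟨z, φ, hφ⟩ := gQ.exists_lift (x := ⟨η, h⟩) (eqToHom p.lies.symm ≫ 𝒳.p.map a)
    have := hφ
    have h1 : 𝒳.p.IsHomLift (eqToHom p.lies.symm ≫ 𝒳.p.map a) φ.hom :=
      IsHomLift.of_fac' _ _ _ (IsHomLift.domain_eq (fullSub 𝒳 Q).p (eqToHom p.lies.symm ≫ 𝒳.p.map a) φ) rfl
        (IsHomLift.fac' (fullSub 𝒳 Q).p (eqToHom p.lies.symm ≫ 𝒳.p.map a) φ)
    have h2 : 𝒳.p.IsHomLift (eqToHom p.lies.symm ≫ 𝒳.p.map a) a :=
      IsHomLift.of_fac' _ _ _ p.lies rfl (by simp)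
    obtain ⟨i, -, -⟩ := @IsFibGrpd.exists_iso_of_lifts _ _ _ _ _ g𝒳 _ _ _ _ _ _ φ.hom a h1 h2
    exact ⟨Points.mk ⟨p.K, p.str, ⟨p.obj, ObjectProperty.IsClosedUnderIsomorphisms.of_iso i.symm z.property⟩,
      p.lies⟩, rfl⟩

theorem openSubstack_le_iff (h𝒳 : IsAlgStack Scheme.fppfPrecoverage 𝒳) {Q Q' : 𝒳.obj → Prop}
    (hQ : IsOpenSubstack 𝒳 Q Scheme.fppfPrecoverage) (hQ' : IsOpenSubstack 𝒳 Q' Scheme.fppfPrecoverage) :
    (∀ y, Q y → Q' y) ↔ Set.range (Points.map (subIncl 𝒳 Q)) ⊆ Set.range (Points.map (subIncl 𝒳 Q')) := by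
  refine ⟨fun h => ?_, fun h y hy => (openPred_range_iff h𝒳 hQ' y).1 fun p a =>
    h ((openPred_range_iff h𝒳 hQ y).2 hy p a)⟩
  rintro _ ⟨q, rfl⟩
  obtain ⟨q, rfl⟩ := Points.mk_surjective q
  exact (openPred_range_iff h𝒳 hQ' _).2 (h _ q.obj.property) ⟨q.K, q.str, q.obj.obj, q.lies⟩ (𝟙 _)

theorem isOpen_range_of_isOpenSubstack (h𝒳 : IsAlgStack Scheme.fppfPrecoverage 𝒳) {Q : 𝒳.obj → Prop}
    (hQ : IsOpenSubstack 𝒳 Q Scheme.fppfPrecoverage) : IsOpen (Set.range (Points.map (subIncl 𝒳 Q))) :=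
  isOpen_range_points_map hQ.2.1.isStack.1 h𝒳.isStack.1 isOpenOnPoints_openImm _ hQ.2.2

theorem bijOn_openSubstack (h𝒳 : IsAlgStack Scheme.fppfPrecoverage 𝒳) :
    Set.BijOn (fun Q : 𝒳.obj → Prop => Set.range (Points.map (subIncl 𝒳 Q)))
      {Q | IsOpenSubstack 𝒳 Q Scheme.fppfPrecoverage} {T | IsOpen T} :=
  ⟨fun _ hQ => isOpen_range_of_isOpenSubstack h𝒳 hQ,
    fun _ hQ _ hQ' e => funext fun y => propext
      ⟨(openSubstack_le_iff h𝒳 hQ hQ').2 e.subset y, (openSubstack_le_iff h𝒳 hQ' hQ).2 e.superset y⟩,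
    fun W hW => ⟨openPred W, isOpenSubstack_openPred h𝒳 hW, range_points_map_subIncl_openPred h𝒳.isStack.1⟩⟩

end GrothLib.AlgSt
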