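import Groth.Agent.Lib.AlgSt.MonoModel
import Groth.Agent.Lib.AlgSt.OpenSub
import Groth.Agent.Lib.AlgSp.FppfDescent
import Mathlib.AlgebraicGeometry.Morphisms.ClosedImmersion

/-!
# Substacks cut out by immersions, read on charts
-/

set_option backward.isDefEq.respectTransparency false
set_option backward.isDefEq.respectTransparency.types false

universe u

open CategoryTheory CategoryTheory.Limits AlgebraicGeometry Opposite

namespace GrothLib.AlgSt

open _root_.AlgSt GrothLib.FibCat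

variable {S : Scheme.{u}} {𝒳 𝒴 : _root_.AlgSt.Cat S}

/-- A scheme model of the base change of a morphism representable by schemes. -/
theorem exists_bcModel_of_repWith {P : MorphismProperty Scheme.{u}} (f : 𝒴 ⥤ᵇ 𝒳)
    (hf : RepByAlgSpWith (AlgSp.RepWith P) f) {W : Over S} (w : _root_.FibCat.overCat W ⥤ᵇ 𝒳) :
    ∃ (V : Over S) (m : V ⟶ W), P m.left ∧ Nonempty (BCModel f w V m) := by
  obtain ⟨F, e, he, hP⟩ := hf W w
  let a := spMapOfOver (BasedFunctor.comp e (_root_.FibCat.fpFst w f))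
  obtain ⟨V, fst, m, sq⟩ := GrothLib.AlgSp.exists_isPullback_of_representable hP.1 (𝟙 _)
  have : IsIso fst := sq.isIso_fst_of_isIso
  have hw : (AlgSp.yon S).map m = fst ≫ a := (sq.w.trans (Category.comp_id _)).symm
  obtain ⟨j⟩ := iso_of_spMapOfOver_eq (Φ := BasedFunctor.comp (ofSpMap fst) (BasedFunctor.comp e (_root_.FibCat.fpFst w f)))
    (Ψ := BasedFunctor.comp (toOverCat V) (_root_.AlgSt.overMap m))
    ((spMapOfOver_ofSpMap_comp fst _).trans (hw.symm.trans (spMapOfOver_overMap m).symm))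
  exact ⟨V, m, hP.2 _ fst m sq, ⟨⟨BasedFunctor.comp (ofOverCat V) (BasedFunctor.comp (ofSpMap fst) e),
    IsEquivOver.comp (isEquivOver_ofOverCat V) (IsEquivOver.comp (isEquivOver_ofSpMap fst) he),
    whiskerLeftIso (ofOverCat V) j ≪≫ whiskerRightIso (ofOverCatCompIso V) (_root_.AlgSt.overMap m)⟩⟩⟩

variable {Q : 𝒳.obj → Prop}

/-- An isomorphism closed substack fibred in groupoids is stable under pullback. -/
theorem substack_of_hom (g𝒳 : _root_.FibCat.IsFibGrpd 𝒳.p) (hc : ObjectProperty.IsClosedUnderIsomorphisms Q)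
    (gQ : _root_.FibCat.IsFibGrpd (fullSub 𝒳 Q).p) {η η' : 𝒳.obj} (φ : η' ⟶ η) (h : Q η) : Q η' := by
  obtain ⟨z, ψ, hψ⟩ := gQ.exists_lift (x := ⟨η, h⟩) (𝒳.p.map φ)
  have := hψ
  have h1 : 𝒳.p.IsHomLift (𝒳.p.map φ) ψ.hom :=
    IsHomLift.of_fac' _ _ _ (IsHomLift.domain_eq (fullSub 𝒳 Q).p (𝒳.p.map φ) ψ) rfl
      (IsHomLift.fac' (fullSub 𝒳 Q).p (𝒳.p.map φ) ψ)
  have h2 : 𝒳.p.IsHomLift (𝒳.p.map φ) φ := IsHomLift.map _ _
  obtain ⟨i, -, -⟩ := @IsFibGrpd.exists_iso_of_lifts _ _ _ _ _ g𝒳 _ _ _ _ _ _ ψ.hom φ h1 h2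
  exact ObjectProperty.IsClosedUnderIsomorphisms.of_iso i.symm z.property

/-- Objects of a substack over a chart are the maps factoring through the model. -/
theorem BCModel.mem_iff (g𝒳 : _root_.FibCat.IsFibGrpd 𝒳.p) (hc : ObjectProperty.IsClosedUnderIsomorphisms Q)
    (gQ : _root_.FibCat.IsFibGrpd (fullSub 𝒳 Q).p) {W V : Over S} {w : _root_.FibCat.overCat W ⥤ᵇ 𝒳} {m : V ⟶ W}
    (M : BCModel (subIncl 𝒳 Q) w V m) {T : Over S} (t : T ⟶ W) :
    Q (w.obj (Over.mk t)) ↔ ∃ l : T ⟶ V, l ≫ m = t := by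
  rw [M.lift_iff t]
  let e : (_root_.AlgSt.overMap t).obj (Yon.idObj T) ≅ Over.mk t :=
    Over.isoMk (Iso.refl _) (show 𝟙 T ≫ t = 𝟙 T ≫ t from rfl)
  constructor
  · intro h
    have hall : ∀ b, Q ((BasedFunctor.comp (_root_.AlgSt.overMap t) w).obj b) := fun b =>
      substack_of_hom g𝒳 hc gQ ((BasedFunctor.comp (_root_.AlgSt.overMap t) w).map
        (Over.homMk b.hom (Category.comp_id _) : b ⟶ Yon.idObj T))
        (ObjectProperty.IsClosedUnderIsomorphisms.of_iso (w.toFunctor.mapIso e).symm h)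
    exact ⟨liftSub Q (BasedFunctor.comp (_root_.AlgSt.overMap t) w) hall, ⟨Iso.refl _⟩⟩
  · rintro ⟨y, ⟨α⟩⟩
    exact ObjectProperty.IsClosedUnderIsomorphisms.of_iso
      (isoApp α (Yon.idObj T) ≪≫ w.toFunctor.mapIso e) (y.obj (Yon.idObj T)).property

/-- The model hits every point of the chart mapped into the substack. -/
theorem BCModel.mem_range {f : 𝒴 ⥤ᵇ 𝒳} (g𝒳 : _root_.FibCat.IsFibGrpd 𝒳.p) (g𝒴 : _root_.FibCat.IsFibGrpd 𝒴.p)
    {W V : Over S} {w : _root_.FibCat.overCat W ⥤ᵇ 𝒳} {m : V ⟶ W}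
    (M : BCModel f w V m) {t : W.left} (h : Points.ofChart w t ∈ Set.range (Points.map f)) :
    t ∈ Set.range m.left := by
  obtain ⟨p, hp⟩ := h
  obtain ⟨q, hq, -⟩ := exists_points_fp g𝒴 (isFibGrpd_overCat W) g𝒳 f w (Points.ofChart (BasedFunctor.id _) t) p
    ((ofChart_eq_map w t).symm.trans hp.symm)
  obtain ⟨r, rfl⟩ := (points_map_bijective_of_isEquivOver (isFibGrpd_overCat V) M.Φ M.equiv).2 q
  rw [← points_map_comp, map_eq_ofChart_pointOf, ofChart_congr M.iso] at hq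
  refine ⟨pointOf r, ?_⟩
  have e' : Points.ofChart (_root_.AlgSt.overMap m) (pointOf r) =
      Points.ofChart (BasedFunctor.id (_root_.FibCat.overCat W)) (m.left (pointOf r)) :=
    ofChart_overMap m (BasedFunctor.id _) _
  rw [e'] at hq
  rw [← pointOf_ofChart_id t, ← hq, pointOf_ofChart_id]

/-- A reduced chart mapped pointwise into a closed substack lies in it. -/
theorem substack_of_isReduced (g𝒳 : _root_.FibCat.IsFibGrpd 𝒳.p) (hQ : IsClosedSubstack 𝒳 Q Scheme.fppfPrecoverage)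
    {U : Over S} [IsReduced U.left] (w : _root_.FibCat.overCat U ⥤ᵇ 𝒳)
    (h : ∀ t, Points.ofChart w t ∈ Set.range (Points.map (subIncl 𝒳 Q))) (b : (_root_.FibCat.overCat U).obj) :
    Q (w.obj b) := by
  obtain ⟨V, m, hm, ⟨M⟩⟩ := exists_bcModel_of_repWith (subIncl 𝒳 Q) hQ.2.2 w
  have : IsClosedImmersion m.left := hm
  have : Surjective m.left := ⟨fun t => M.mem_range g𝒳 hQ.2.1.isStack.1 (h t)⟩
  have := isIso_of_isClosedImmersion_of_surjective m.left
  have : IsIso ((Over.forget S).map m) := this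
  have : IsIso m := isIso_of_reflects_iso m (Over.forget S)
  have hb := (M.mem_iff g𝒳 hQ.1 hQ.2.1.isStack.1 b.hom).2 ⟨b.hom ≫ inv m, by simp⟩
  exact hb

/-- Membership in a closed substack is local for fppf covers. -/
theorem substack_of_cover (g𝒳 : _root_.FibCat.IsFibGrpd 𝒳.p) (hQ : IsClosedSubstack 𝒳 Q Scheme.fppfPrecoverage)
    {T V : Over S} (w : _root_.FibCat.overCat T ⥤ᵇ 𝒳) (c : V ⟶ T) [Flat c.left] [LocallyOfFinitePresentation c.left]
    [Surjective c.left] (h : Q (w.obj (Over.mk c))) : Q (w.obj (Over.mk (𝟙 T))) := by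
  obtain ⟨R, m, hm, ⟨M⟩⟩ := exists_bcModel_of_repWith (subIncl 𝒳 Q) hQ.2.2 w
  have : IsClosedImmersion m.left := hm
  obtain ⟨l, hl⟩ := (M.mem_iff g𝒳 hQ.1 hQ.2.1.isStack.1 c).1 h
  have hl' : l.left ≫ m.left = c.left := congrArg CommaMorphism.left hl
  have : IsIso (pullback.snd m.left c.left) := by
    refine ⟨pullback.lift l.left (𝟙 _) (by rw [hl', Category.id_comp]), ?_, pullback.lift_snd _ _ _⟩
    rw [← cancel_mono (pullback.snd m.left c.left), Category.assoc, pullback.lift_snd, Category.comp_id, Category.id_comp]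
  have hi : IsIso m.left := GrothLib.AlgSp.fppfDescends_isomorphisms m.left c.left _ _
    (IsPullback.of_hasPullback m.left c.left) inferInstance inferInstance inferInstance this
  have : IsIso ((Over.forget S).map m) := hi
  have : IsIso m := isIso_of_reflects_iso m (Over.forget S)
  exact (M.mem_iff g𝒳 hQ.1 hQ.2.1.isStack.1 (𝟙 T)).2 ⟨inv m, by simp⟩

/-- A morphism from a reduced stack factors through a closed substack when its points do. -/
theorem forall_substack_of_reduced (h𝒳 : IsAlgStack Scheme.fppfPrecoverage 𝒳)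
    (h𝒴 : IsAlgStack Scheme.fppfPrecoverage 𝒴) (hred : SmoothLocally (fun X => IsReduced X) 𝒴)
    (hQ : IsClosedSubstack 𝒳 Q Scheme.fppfPrecoverage) (f : 𝒴 ⥤ᵇ 𝒳)
    (h : Set.range (Points.map f) ⊆ Set.range (Points.map (subIncl 𝒳 Q))) (y : 𝒴.obj) : Q (f.obj y) := by
  have g𝒳 := h𝒳.isStack.1
  have := hQ.1
  obtain ⟨U, u, hu, hus⟩ := h𝒴.atlas
  have : IsReduced U.left := hred U u hu
  have hU := substack_of_isReduced g𝒳 hQ (BasedFunctor.comp u f) fun t => h ⟨Points.ofChart u t, by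
    rw [ofChart_comp]⟩
  obtain ⟨x, e, -⟩ := Yon.exists_functor h𝒴.isStack.1 y rfl
  obtain ⟨V, c, l, hc, hcs, ⟨j⟩⟩ := exists_lift_chart x u hu hus
  have := hc
  have := hcs
  have h1 : Q ((BasedFunctor.comp x f).obj (Over.mk c)) := by
    let o : (GrothLib.FibCat.overMap c).obj (Yon.idObj V) ≅ Over.mk c :=
      Over.isoMk (Iso.refl _) (show 𝟙 V ≫ c = 𝟙 V ≫ c from rfl)
    exact ObjectProperty.IsClosedUnderIsomorphisms.of_iso
      (f.toFunctor.mapIso ((isoApp j (Yon.idObj V)).symm ≪≫ x.toFunctor.mapIso o))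
      (hU ((GrothLib.FibCat.overMap l).obj (Yon.idObj V)))
  exact ObjectProperty.IsClosedUnderIsomorphisms.of_iso (f.toFunctor.mapIso e)
    (substack_of_cover g𝒳 hQ (BasedFunctor.comp x f) c h1)

end GrothLib.AlgSt
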