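import Groth.Agent.Lib.AlgSt.Mono
import Groth.Agent.Lib.AlgSt.DiagMor

/-!
# Fully faithful functors representable by algebraic spaces are monomorphisms
-/

set_option backward.isDefEq.respectTransparency false
set_option backward.isDefEq.respectTransparency.types false

universe v₄ u₄ v₃ u₃ v₂ u₂ v u

open CategoryTheory CategoryTheory.Limits AlgebraicGeometry Opposite

namespace GrothLib.FibCat

variable {C : Type u} [Category.{v} C] {𝒳 : BasedCategory.{v₂, u₂} C} {𝒴 : BasedCategory.{v₃, u₃} C}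
  {𝒮 : BasedCategory.{v₄, u₄} C} {F : 𝒳 ⥤ᵇ 𝒮} {G : 𝒴 ⥤ᵇ 𝒮}

theorem Fp.full_fpFst [G.toFunctor.Full] : (_root_.FibCat.fpFst F G).toFunctor.Full := by
  refine ⟨fun {a b} φ => ?_⟩
  obtain ⟨ψ, hψ⟩ := G.toFunctor.map_surjective (a.obj.iso.inv ≫ F.map φ ≫ b.obj.iso.hom)
  refine ⟨Fp.homMk φ ψ ?_, rfl⟩
  change F.map φ ≫ b.obj.iso.hom = a.obj.iso.hom ≫ G.toFunctor.map ψ
  rw [hψ, Iso.hom_inv_id_assoc]

theorem faithful_diag {f : 𝒳 ⥤ᵇ 𝒴} : (_root_.FibCat.diag f).toFunctor.Faithful :=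
  ⟨fun {_ _ _ _} h => congrArg (fun t => t.hom.fst) h⟩

theorem full_diag_of_faithful {f : 𝒳 ⥤ᵇ 𝒴} [f.toFunctor.Faithful] : (_root_.FibCat.diag f).toFunctor.Full := by
  refine ⟨fun {a b} ψ => ⟨ψ.hom.fst, Fp.hom_ext rfl ?_⟩⟩
  have hw : f.map (ψ.hom.fst : a ⟶ b) ≫ 𝟙 (f.obj b) = 𝟙 (f.obj a) ≫ f.map (ψ.hom.snd : a ⟶ b) := Fp.w ψ
  exact f.toFunctor.map_injective (((Category.comp_id _).symm.trans hw).trans (Category.id_comp _))

end GrothLib.FibCat

namespace GrothLib.AlgSt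

open _root_.AlgSt GrothLib.FibCat

variable {S : Scheme.{u}}

theorem hasRep_mono_of_full {𝒳 : BasedCategory.{v₂, u₂} (Over S)} {U : Over S}
    (π : 𝒳 ⥤ᵇ _root_.FibCat.overCat U) [π.toFunctor.Full] (h : RepByAlgSp 𝒳) :
    HasRep (MorphismProperty.monomorphisms (AlgSp.Sp S)) π := by
  obtain ⟨F, e, he⟩ := h
  have := IsEquivOver.full he
  refine ⟨F, e, he, GrothLib.AlgSp.mono_of_yon fun T p p' heq => ?_⟩
  let Φ := BasedFunctor.comp e π
  have hfull : Φ.toFunctor.Full := inferInstanceAs (e.toFunctor ⋙ π.toFunctor).Full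
  obtain ⟨x, rfl⟩ := (AlgSp.J S).uliftYonedaEquiv.{u + 1}.symm.surjective p
  obtain ⟨x', rfl⟩ := (AlgSp.J S).uliftYonedaEquiv.{u + 1}.symm.surjective p'
  congr 1
  rw [GrothendieckTopology.uliftYonedaEquiv_symm_naturality_right,
    GrothendieckTopology.uliftYonedaEquiv_symm_naturality_right] at heq
  have hx : secHom Φ ⟨T, x⟩ = secHom Φ ⟨T, x'⟩ :=
    congrArg ULift.down ((AlgSp.J S).uliftYonedaEquiv.{u + 1}.symm.injective heq)
  let a : (ofSp F.obj).obj := ⟨T, x⟩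
  let a' : (ofSp F.obj).obj := ⟨T, x'⟩
  obtain ⟨ψ, hψ⟩ := Φ.toFunctor.map_surjective (X := a) (Y := a')
    (Over.homMk (eqToHom ((Φ.w_obj a).trans (Φ.w_obj a').symm)) (by
      have h1 : eqToHom (Φ.w_obj a).symm ≫ (Φ.obj a).hom = eqToHom (Φ.w_obj a').symm ≫ (Φ.obj a').hom := hx
      rw [← cancel_epi (eqToHom (Φ.w_obj a).symm), h1, eqToHom_trans_assoc]))
  have hb : ψ.hom = 𝟙 T := by
    have h2 : (Φ.map ψ).left = eqToHom (Φ.w_obj a) ≫ ψ.hom ≫ eqToHom (Φ.w_obj a').symm :=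
      IsHomLift.fac' (_root_.FibCat.overCat U).p ((ofSp F.obj).p.map ψ) (Φ.map ψ)
    have h3 : (Φ.map ψ).left = eqToHom ((Φ.w_obj a).trans (Φ.w_obj a').symm) := congrArg (fun t => t.left) hψ
    rw [h2] at h3
    refine (cancel_epi (eqToHom (Φ.w_obj a))).1 ((cancel_mono (eqToHom (Φ.w_obj a').symm)).1 ?_)
    rw [Category.assoc, Category.assoc, h3]
    exact ((congrArg (eqToHom (Φ.w_obj a) ≫ ·) (Category.id_comp _)).trans (eqToHom_trans _ _)).symm
  have h4 : F.obj.obj.map ψ.hom.op x' = x := ψ.map_sec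
  rw [hb, op_id] at h4
  exact (((congrArg (fun t => t x') (F.obj.obj.map_id (op T))).symm.trans h4 :)).symm

variable {𝒳 : BasedCategory.{v₂, u₂} (Over S)} {𝒴 : BasedCategory.{v₃, u₃} (Over S)}

/-- A fully faithful functor representable by algebraic spaces is a monomorphism. -/
theorem isMono_of_repByAlgSp1_full (f : 𝒳 ⥤ᵇ 𝒴) [f.toFunctor.Full] (hf : RepByAlgSp1 f) : IsMono f :=
  fun U y =>
    have := Fp.full_fpFst (F := y) (G := f)
    hasRep_mono_of_full (_root_.FibCat.fpFst y f) (hf U y)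

/-- The diagonal of a morphism of algebraic stacks representable by algebraic spaces is a monomorphism. -/
theorem isMono_diag {𝒳 𝒴 : _root_.AlgSt.Cat S} (h𝒳 : IsAlgStack Scheme.fppfPrecoverage 𝒳)
    (h𝒴 : IsAlgStack Scheme.fppfPrecoverage 𝒴) (f : 𝒳 ⥤ᵇ 𝒴) (hf : RepByAlgSp1 f) :
    IsMono (_root_.FibCat.diag f) :=
  have := faithful_of_repByAlgSp1 h𝒳.isStack.1 h𝒴.isStack.1 f hf
  have := full_diag_of_faithful (f := f)
  isMono_of_repByAlgSp1_full _ (repByAlgSp1_diag h𝒳 h𝒴 f)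

end GrothLib.AlgSt
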