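import Groth.Agent.Lib.AlgSt.DiagRep
import Groth.Agent.Lib.AlgSt.SepComp
import Groth.Agent.Lib.AlgSt.MonoFF
import Groth.Agent.S9922

/-!
# Graphs, sections and comparisons of fibre products
-/

set_option backward.isDefEq.respectTransparency false
set_option backward.isDefEq.respectTransparency.types false

universe u

open CategoryTheory CategoryTheory.Limits AlgebraicGeometry Opposite

namespace GrothLib.AlgSt

open _root_.AlgSt GrothLib.FibCat

variable {S : Scheme.{u}} {P : MorphismProperty (AlgSp.Sp S)}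

theorem isProperMor_of_isClosedImmersion {X Y : AlgSp.Sp S} (hX : AlgSp.IsAlgSpace X) (hY : AlgSp.IsAlgSpace Y)
    {a : X ⟶ Y} (hc : AlgSp.RepWith @IsClosedImmersion a) : AlgSp.IsProperMor a :=
  ⟨(GrothLib.AlgSp.isSeparatedMor_iff_repWith hc.1).2
      (GrothLib.AlgSp.repWith_mono hc fun _ _ t (_ : IsClosedImmersion t) => inferInstance),
    ⟨GrothLib.AlgSp.EtLocal.locP_of_repWith GrothLib.AlgSp.EtLocal.lft hY
        (GrothLib.AlgSp.repWith_mono hc fun _ _ t (_ : IsClosedImmersion t) => inferInstance),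
      GrothLib.AlgSp.isQuasiCompactMor_of_repWith
        (GrothLib.AlgSp.repWith_mono hc fun _ _ t (_ : IsClosedImmersion t) => inferInstance)⟩,
    (Groth.Agent.S9922.result (X := ⟨X, hX⟩) (Y := ⟨Y, hY⟩) (ObjectProperty.homMk a) hc.1).1
      (GrothLib.AlgSp.repWith_mono hc fun _ _ t (_ : IsClosedImmersion t) => inferInstance)⟩

theorem locP_id {Q : MorphismProperty Scheme.{u}} (hEt : ∀ ⦃X Y : Scheme.{u}⦄ (t : X ⟶ Y), Etale t → Q t)
    (U : Over S) : AlgSp.LocP Q (𝟙 ((AlgSp.yon S).obj U)) :=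
  locP_of_repWith_etale hEt (AlgSp.repWith_id _ U)

theorem isProperMor_id (U : Over S) : AlgSp.IsProperMor (𝟙 ((AlgSp.yon S).obj U)) :=
  isProperMor_of_isClosedImmersion (AlgSp.IsAlgSpace.yon_obj U) (AlgSp.IsAlgSpace.yon_obj U) (AlgSp.repWith_id _ U)

theorem qcqs_id (U : Over S) :
    (AlgSp.IsQuasiCompactMor ⊓ AlgSp.IsQuasiSeparatedMor) (𝟙 ((AlgSp.yon S).obj U)) :=
  ⟨GrothLib.AlgSp.isQuasiCompactMor_of_repWith (AlgSp.repWith_id _ U),
    (GrothLib.AlgSp.isQuasiSeparatedMor_iff_repWith (AlgSp.repWith_id @QuasiSeparated U).1).2 (AlgSp.repWith_id _ U)⟩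

variable {𝒳 𝒴 𝒯 : _root_.AlgSt.Cat S}

/-- The graph of a morphism over a base. -/
theorem repByAlgSpWith_graphOver (h𝒴 : _root_.FibCat.IsFibGrpd 𝒴.p) (p : 𝒳 ⥤ᵇ 𝒯) (q : 𝒴 ⥤ᵇ 𝒯) (g : 𝒳 ⥤ᵇ 𝒴)
    (e : BasedFunctor.comp (BasedFunctor.id 𝒳) p ≅ BasedFunctor.comp g q)
    (h : RepByAlgSpWith P (_root_.FibCat.diag q)) :
    RepByAlgSpWith P (_root_.FibCat.fpLift (BasedFunctor.id 𝒳) g e) := by
  let e' : p ≅ BasedFunctor.comp g q := e
  let C := Fp.congr e' (Iso.refl q)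
  have hC : _root_.FibCat.IsEquivOver C := Fp.isEquivOver_congr e' (Iso.refl q)
  have := IsEquivOver.full hC
  have := IsEquivOver.faithful hC
  refine repByAlgSpWith_of_square (f := graph g q) (BasedFunctor.id 𝒳) C (IsEquivOver.refl 𝒳) ?_
    (repByAlgSpWith_graph h𝒴 g q h)
  exact natIsoOfComponents
    (fun a => Fp.isoMk (a := C.obj ((_root_.FibCat.fpLift (BasedFunctor.id 𝒳) g e).obj a))
      (b := (graph g q).obj a) (Iso.refl _) (Iso.refl _) (by
        have h1 : e'.inv.app a ≫ e'.hom.app a = 𝟙 _ := congrArg (fun t => t.app a) e'.inv_hom_id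
        change q.map (g.map (𝟙 a)) ≫ 𝟙 _ = (e'.inv.app a ≫ e'.hom.app a ≫ 𝟙 _) ≫ q.map (𝟙 (g.obj a))
        rw [g.map_id, q.map_id, Category.comp_id]
        exact ((Category.comp_id _).trans ((congrArg (e'.inv.app a ≫ ·) (Category.comp_id _)).trans h1)).symm))
    (fun a => (Fp.isHomLift_iff _ _).2 (IsHomLift.id rfl))
    (fun {a b} φ => Fp.hom_ext ((Category.comp_id _).trans (Category.id_comp _).symm)
      ((Category.comp_id _).trans (Category.id_comp _).symm))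

/-- The comparison of fibre products over two bases. -/
theorem repByAlgSpWith_fpComparison {𝒵 : _root_.AlgSt.Cat S} (h𝒴 : _root_.FibCat.IsFibGrpd 𝒴.p) (f : 𝒳 ⥤ᵇ 𝒵)
    (g : 𝒴 ⥤ᵇ 𝒵) (t : 𝒵 ⥤ᵇ 𝒯)
    (e : BasedFunctor.comp (_root_.FibCat.fpFst f g) (BasedFunctor.comp f t) ≅
      BasedFunctor.comp (_root_.FibCat.fpSnd f g) (BasedFunctor.comp g t))
    (he : ∀ x, e.hom.toNatTrans.app x = t.map x.obj.iso.hom) (h : RepByAlgSpWith P (_root_.FibCat.diag t)) :
    RepByAlgSpWith P (_root_.FibCat.fpLift (_root_.FibCat.fpFst f g) (_root_.FibCat.fpSnd f g) e) :=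
  repByAlgSpWith_of_iso (natIsoOfComponents
    (fun x => Fp.isoMk (a := (fpToFp f g t).obj x)
      (b := (_root_.FibCat.fpLift (_root_.FibCat.fpFst f g) (_root_.FibCat.fpSnd f g) e).obj x)
      (Iso.refl _) (Iso.refl _) (by
        change t.map (f.map (𝟙 _)) ≫ e.hom.toNatTrans.app x = t.map x.obj.iso.hom ≫ t.map (g.map (𝟙 _))
        rw [he, f.map_id, g.map_id, t.map_id, t.map_id]
        exact (Category.id_comp _).trans (Category.comp_id _).symm))
    (fun a => (Fp.isHomLift_iff _ _).2 (IsHomLift.id rfl))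
    (fun {a b} φ => Fp.hom_ext ((Category.comp_id _).trans (Category.id_comp _).symm)
      ((Category.comp_id _).trans (Category.id_comp _).symm))) (repByAlgSpWith_fpToFp h𝒴 f g t h)

/-- Sections. -/
theorem CompStable.repByAlgSpWith_section (hP : CompStable P) (hid : ∀ U : Over S, P (𝟙 ((AlgSp.yon S).obj U)))
    (h𝒳 : IsAlgStack Scheme.fppfPrecoverage 𝒳) (h𝒯 : IsAlgStack Scheme.fppfPrecoverage 𝒯) (f : 𝒳 ⥤ᵇ 𝒯)
    (s : 𝒯 ⥤ᵇ 𝒳) (e : BasedFunctor.comp s f ≅ BasedFunctor.id 𝒯) (h : RepByAlgSpWith P (_root_.FibCat.diag f)) :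
    RepByAlgSpWith P s :=
  hP.repByAlgSpWith_of_comp h𝒯 h𝒳 h𝒯 s f (repByAlgSpWith_of_iso e.symm (repByAlgSpWith_id hid 𝒯)) h

theorem compStable_locP_unramified :
    CompStable (AlgSp.LocP (S := S) (@LocallyOfFiniteType ⊓ @FormallyUnramified)) :=
  ⟨isoInvariant_locP,
    fun _ _ _ _ hY hZ a b ha hb => locP_comp
      (GrothLib.AlgSp.etaleSourceDescends_lft.inf GrothLib.AlgSp.etaleSourceDescends_formallyUnramified) hY hZ ha hb,
    detectedBySchemes_locP fun _ _ t _ => ⟨inferInstance, inferInstance⟩⟩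

theorem compStable_locP_lqf :
    CompStable (AlgSp.LocP (S := S) (@LocallyQuasiFinite ⊓ @LocallyOfFiniteType)) :=
  ⟨isoInvariant_locP,
    fun _ _ _ _ hY hZ a b ha hb => locP_comp
      (GrothLib.AlgSp.etaleSourceDescends_lqf.inf GrothLib.AlgSp.etaleSourceDescends_lft) hY hZ ha hb,
    detectedBySchemes_locP fun _ _ t (_ : Etale t) =>
      ⟨GrothLib.AlgSp.locallyQuasiFinite_of_unramified t, inferInstance⟩⟩

end GrothLib.AlgSt
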