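import Groth.Agent.Lib.AlgSt.Topology

/-!
# Universal properties of maps on points for representable morphisms of algebraic stacks
-/

set_option backward.isDefEq.respectTransparency false
set_option backward.isDefEq.respectTransparency.types false

universe u

open CategoryTheory CategoryTheory.Limits AlgebraicGeometry Opposite Topology

namespace GrothLib.AlgSt

open _root_.AlgSt GrothLib.FibCat

variable {S : Scheme.{u}}

theorem toSpPoints_ofChart {F : AlgSp.Sp S} {V : Over S} (p : (AlgSp.yon S).obj V ⟶ F) (t : ↥V.left) :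
    toSpPoints (Points.ofChart (BasedFunctor.comp (ofOverCat V) (ofSpMap p)) t) = AlgSp.Points.ofPt p t := by
  rw [ofChart_comp, toSpPoints_map, AlgSp.Points.ofPt_eq_map_ofScheme]
  congr 1

/-- The points of the stack of an algebraic space are the points of the space. -/
noncomputable def spPointsHomeo {F : AlgSp.Sp S} (hF : AlgSp.IsAlgSpace F) : Points (ofSp F) ≃ₜ AlgSp.Points F := by
  have key : Continuous (toSpPoints (F := F)) ∧ IsOpenMap (toSpPoints (F := F)) := by
    obtain ⟨V, p, pe, ps⟩ := hF.atlas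
    have gF : _root_.FibCat.IsFibGrpd (ofSp F).p := isFibGrpd_ofSp F
    have hid := repByAlgSpWith_id (P := AlgSp.LocP (S := S) @Smooth) locP_smooth_id (ofSp F)
    have hjd := repByAlgSpWith_id (P := AlgSp.IsSurjectiveMor (S := S)) (fun U => isSurjectiveMor_id _) (ofSp F)
    have hs := repByAlgSpWith_comp_chart (fun _ _ _ _ _ b a hb _ ha => locP_etale_comp b a hb ha) hid
      (Z := ⟨F, hF⟩) (BasedFunctor.id _) (IsEquivOver.refl _) pe ps
    have hj := repByAlgSpWith_comp_chart (fun _ _ _ _ _ b a _ hb ha => isSurjectiveMor_etale_comp b a hb ha) hjd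
      (Z := ⟨F, hF⟩) (BasedFunctor.id _) (IsEquivOver.refl _) pe ps
    have hq := isOpenQuotientMap_ofChart gF hs hj
    have hp := GrothLib.AlgSp.isOpenQuotientMap_ofPt pe ps
    have e : toSpPoints ∘ Points.ofChart (BasedFunctor.comp (BasedFunctor.comp (BasedFunctor.comp (ofOverCat V)
        (ofSpMap p)) (BasedFunctor.id (ofSp F))) (BasedFunctor.id (ofSp F))) = AlgSp.Points.ofPt p :=
      funext fun t => toSpPoints_ofChart p t
    refine ⟨hq.isQuotientMap.continuous_iff.2 (e ▸ hp.continuous), fun W hW => ?_⟩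
    rw [← hq.surjective.image_preimage W, ← Set.image_comp, e]
    exact hp.isOpenMap _ (hW.preimage hq.continuous)
  exact (Equiv.ofBijective _ toSpPoints_bijective).toHomeomorphOfContinuousOpen key.1 key.2

@[simp] theorem spPointsHomeo_apply {F : AlgSp.Sp S} (hF : AlgSp.IsAlgSpace F) (x : Points (ofSp F)) :
    spPointsHomeo hF x = toSpPoints x := rfl

/-- The points map of an equivalence as a homeomorphism. -/
noncomputable def equivPointsHomeo {𝒳 𝒴 : _root_.AlgSt.Cat S} (h𝒳 : IsAlgStack Scheme.fppfPrecoverage 𝒳)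
    (e : 𝒳 ⥤ᵇ 𝒴) (he : _root_.FibCat.IsEquivOver e) : Points 𝒳 ≃ₜ Points 𝒴 := by
  refine (Equiv.ofBijective _ (points_map_bijective_of_isEquivOver h𝒳.isStack.1 e he))
    |>.toHomeomorphOfContinuousOpen (continuous_points_map h𝒳 (isAlgStack_of_isEquivOver e he h𝒳) e) fun W hW => ?_
  obtain ⟨E, hE, ⟨η⟩, ⟨ε⟩⟩ := IsEquivOver.symm he
  have h𝒴 := isAlgStack_of_isEquivOver e he h𝒳
  have hl : ∀ x, Points.map E (Points.map e x) = x := fun x => by
    rw [← points_map_comp, points_map_congr η]
    obtain ⟨x, rfl⟩ := Points.mk_surjective x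
    rfl
  have hr : ∀ x, Points.map e (Points.map E x) = x := fun x => by
    rw [← points_map_comp, points_map_congr ε]
    obtain ⟨x, rfl⟩ := Points.mk_surjective x
    rfl
  change IsOpen (Points.map e '' W)
  rw [show Points.map e '' W = Points.map E ⁻¹' W from Set.image_eq_preimage_of_inverse hl hr ▸ rfl]
  exact hW.preimage (continuous_points_map h𝒴 h𝒳 E)

@[simp] theorem equivPointsHomeo_apply {𝒳 𝒴 : _root_.AlgSt.Cat S} (h𝒳 : IsAlgStack Scheme.fppfPrecoverage 𝒳)
    (e : 𝒳 ⥤ᵇ 𝒴) (he : _root_.FibCat.IsEquivOver e) (x : Points 𝒳) :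
    equivPointsHomeo h𝒳 e he x = Points.map e x := rfl

/-- A property of maps of topological spaces, used for maps on points. -/
abbrev MapProp : Type (u + 2) := ∀ {A B : Type (u + 1)} [TopologicalSpace A] [TopologicalSpace B], (A → B) → Prop

/-- Invariance under homeomorphisms of source and target. -/
def MapPropInv (P : MapProp.{u}) : Prop :=
  ∀ {A B A' B' : Type (u + 1)} [TopologicalSpace A] [TopologicalSpace B] [TopologicalSpace A'] [TopologicalSpace B']
    (e₁ : A' ≃ₜ A) (e₂ : B ≃ₜ B') (f : A → B), P f → P (e₂ ∘ f ∘ e₁)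

/-- Descent along open quotient maps of the target. -/
def MapPropDesc (P : MapProp.{u}) : Prop :=
  ∀ {A B A' B' : Type (u + 1)} [TopologicalSpace A] [TopologicalSpace B] [TopologicalSpace A'] [TopologicalSpace B']
    (f : A → B) (f' : A' → B') (q : A' → A) (z : B' → B), Continuous f → Continuous q → Continuous f' →
    IsOpenQuotientMap z → (∀ a', z (f' a') = f (q a')) →
    (∀ a b', f a = z b' → ∃ a', q a' = a ∧ f' a' = b') → P f' → P f

section Instances

theorem preimage_image_eq {A B A' B' : Type*} {f : A → B} {f' : A' → B'} {q : A' → A} {z : B' → B}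
    (hc : ∀ a', z (f' a') = f (q a')) (hl : ∀ a b', f a = z b' → ∃ a', q a' = a ∧ f' a' = b') (K : Set A) :
    z ⁻¹' (f '' K) = f' '' (q ⁻¹' K) := by
  ext b'
  constructor
  · rintro ⟨a, ha, e⟩
    obtain ⟨a', rfl, rfl⟩ := hl a b' e
    exact ⟨a', ha, rfl⟩
  · rintro ⟨a', ha, rfl⟩
    exact ⟨q a', ha, (hc a').symm⟩

theorem mapPropInv_isOpenMap : MapPropInv.{u} @IsOpenMap := fun e₁ e₂ _ h =>
  e₂.isOpenMap.comp (h.comp e₁.isOpenMap)

theorem mapPropDesc_isOpenMap : MapPropDesc.{u} @IsOpenMap := fun f f' q z _ hq _ hz hc hl h K hK => by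
  rw [← hz.isQuotientMap.isOpen_preimage, preimage_image_eq hc hl]
  exact h _ (hK.preimage hq)

theorem mapPropInv_isClosedMap : MapPropInv.{u} @IsClosedMap := fun e₁ e₂ _ h =>
  e₂.isClosedMap.comp (h.comp e₁.isClosedMap)

theorem mapPropDesc_isClosedMap : MapPropDesc.{u} @IsClosedMap := fun f f' q z _ hq _ hz hc hl h K hK => by
  rw [← hz.isQuotientMap.isClosed_preimage, preimage_image_eq hc hl]
  exact h _ (hK.preimage hq)

theorem mapPropInv_injective : MapPropInv.{u} (fun {A B} _ _ f => Function.Injective f) := fun e₁ e₂ _ h =>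
  e₂.injective.comp (h.comp e₁.injective)

theorem mapPropDesc_injective : MapPropDesc.{u} (fun {A B} _ _ f => Function.Injective f) :=
  fun f f' q z _ _ _ hz hc hl h a b e => by
    obtain ⟨t, ht⟩ := hz.surjective (f a)
    obtain ⟨a', rfl, ha⟩ := hl a t ht.symm
    obtain ⟨b', rfl, hb⟩ := hl b t (e.symm.trans ht.symm)
    exact congrArg q (h (ha.trans hb.symm))

theorem mapPropInv_isHomeomorph : MapPropInv.{u} @IsHomeomorph := fun e₁ e₂ _ h =>
  e₂.isHomeomorph.comp (h.comp e₁.isHomeomorph)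

theorem mapPropDesc_isHomeomorph : MapPropDesc.{u} @IsHomeomorph := fun f f' q z hf hq hf' hz hc hl h => by
  refine ⟨hf, mapPropDesc_isOpenMap f f' q z hf hq hf' hz hc hl h.isOpenMap,
    mapPropDesc_injective f f' q z hf hq hf' hz hc hl h.injective, fun b => ?_⟩
  obtain ⟨t, rfl⟩ := hz.surjective b
  obtain ⟨a', rfl⟩ := h.surjective t
  exact ⟨q a', (hc a').symm⟩

theorem mapPropInv_isQuotientMap : MapPropInv.{u} @IsQuotientMap := fun e₁ e₂ _ h =>
  e₂.isQuotientMap.comp (h.comp e₁.isQuotientMap)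

theorem mapPropDesc_isQuotientMap : MapPropDesc.{u} @IsQuotientMap := fun f f' q z hf hq _ hz hc _ h => by
  refine isQuotientMap_iff_isClosed.2 ⟨fun b => ?_, fun W => ⟨fun hW => hW.preimage hf, fun hW => ?_⟩⟩
  · obtain ⟨t, rfl⟩ := hz.surjective b
    obtain ⟨a', rfl⟩ := h.surjective t
    exact ⟨q a', (hc a').symm⟩
  · rw [← hz.isQuotientMap.isClosed_preimage, ← h.isClosed_preimage, ← Set.preimage_comp,
      show z ∘ f' = f ∘ q from funext hc, Set.preimage_comp]
    exact hW.preimage hq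

end Instances

variable {𝒳 𝒴 : _root_.AlgSt.Cat S}

/-- A universal property of maps on points holds on stacks if it holds on all base changes to schemes. -/
theorem forall_of_repByAlgSpWith (P : MapProp.{u}) (hi : MapPropInv P) (hd : MapPropDesc P)
    (h𝒳 : IsAlgStack Scheme.fppfPrecoverage 𝒳) (h𝒴 : IsAlgStack Scheme.fppfPrecoverage 𝒴) {f : 𝒳 ⥤ᵇ 𝒴}
    (hf : RepByAlgSpWith (AlgSp.UnivSp fun _ _ a => P (AlgSp.Points.map a)) f)
    (𝒵 : _root_.AlgSt.Cat S) (hZ : IsAlgStack Scheme.fppfPrecoverage 𝒵) (g : 𝒵 ⥤ᵇ 𝒴) :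
    P (Points.map (_root_.FibCat.fpFst g f)) := by
  obtain ⟨T, z, zs, zj⟩ := hZ.atlas
  obtain ⟨F, e, he, ha⟩ := hf T (BasedFunctor.comp z g)
  let a := spMapOfOver (BasedFunctor.comp e (_root_.FibCat.fpFst (BasedFunctor.comp z g) f))
  have ha' : P (AlgSp.Points.map a) :=
    ha (AlgSp.IsAlgSpace.yon_obj T) (𝟙 _) (𝟙 _) a (IsPullback.of_horiz_isIso ⟨by simp [a]⟩)
  have hT := isAlgStack_overCat' T
  have hP := isAlgStack_fp h𝒴.isStack h𝒴.diag hT h𝒳 (BasedFunctor.comp z g) f
  have hG := isAlgStack_fp h𝒴.isStack h𝒴.diag hZ h𝒳 g f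
  obtain ⟨E, hE, ⟨η⟩, ⟨ε⟩⟩ := IsEquivOver.symm (Fp.isEquivOver_paste f g z)
  let hFs : IsAlgStack Scheme.fppfPrecoverage (ofSp F.obj) := (isDM_of_repByAlgSp (repByAlgSp_ofSp F.property)).1
  let eF := equivPointsHomeo hFs e he
  let sF := spPointsHomeo F.property
  let tT := spPointsHomeo (AlgSp.IsAlgSpace.yon_obj T)
  let oT := equivPointsHomeo (isAlgStack_overCat' T) (ofOverCat T) (isEquivOver_ofOverCat T)
  let f' := Points.map (_root_.FibCat.fpFst (BasedFunctor.comp z g) f)
  have hf' : P f' := by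
    have h := hi (eF.symm.trans sF) (tT.symm.trans oT.symm) _ ha'
    convert! h using 1
    funext w
    obtain ⟨r, rfl⟩ := eF.surjective w
    apply (pointOf_bijective T).1
    apply Function.LeftInverse.injective (AlgSp.Points.toScheme_ofScheme T)
    simp only [Function.comp_apply, Homeomorph.trans_apply, Homeomorph.symm_apply_apply]
    change AlgSp.Points.ofScheme T (pointOf (f' (Points.map e r))) =
      AlgSp.Points.ofScheme T (pointOf (oT.symm (tT.symm (AlgSp.Points.map a (toSpPoints r)))))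
    rw [show f' (Points.map e r) = Points.map (BasedFunctor.comp e (_root_.FibCat.fpFst _ f)) r from
      (points_map_comp _ _ r).symm, pointOf_map]
    refine congrArg _ (congrArg (AlgSp.Points.toScheme T) ?_)
    exact ((tT.apply_symm_apply _).symm.trans (congrArg tT (oT.apply_symm_apply _).symm))
  let q := Points.map (BasedFunctor.comp E (_root_.FibCat.fpSnd z (_root_.FibCat.fpFst g f)))
  refine hd _ f' q (Points.map z) (continuous_points_map hG hZ _) (continuous_points_map hP hG _)
    (continuous_points_map hP hT _) ?_ (fun w => ?_) (fun k t hk => ?_) hf'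
  · have hq := isOpenQuotientMap_ofChart hZ.isStack.1 zs zj
    have he' : Points.map z = Points.ofChart z ∘ pointOf := funext fun x => map_eq_ofChart_pointOf z x
    rw [he']
    refine hq.comp ?_
    have : pointOf = fun x => AlgSp.Points.toScheme T (tT (oT x)) := rfl
    rw [this]
    exact (tT.isOpenQuotientMap.comp oT.isOpenQuotientMap) |> (AlgSp.Points.schemeHomeo T).symm.isOpenQuotientMap.comp
  · obtain ⟨w', rfl⟩ := (points_map_bijective_of_isEquivOver
      (isAlgStack_fp hZ.isStack hZ.diag hT hG z (_root_.FibCat.fpFst g f)).isStack.1 _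
      (Fp.isEquivOver_paste f g z)).2 w
    have h1 : f' (Points.map (Fp.paste f g z) w') = Points.map (_root_.FibCat.fpFst z (_root_.FibCat.fpFst g f)) w' :=
      (points_map_comp _ _ w').symm
    have h2 : q (Points.map (Fp.paste f g z) w') = Points.map (_root_.FibCat.fpSnd z (_root_.FibCat.fpFst g f)) w' := by
      simp only [q]
      rw [← points_map_comp]
      exact points_map_congr (whiskerRightIso η (_root_.FibCat.fpSnd z (_root_.FibCat.fpFst g f))) w'
    rw [h1, h2, ← points_map_comp, ← points_map_comp]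
    exact points_map_congr (_root_.FibCat.fpIso z (_root_.FibCat.fpFst g f)) w'
  · obtain ⟨w', h1, h2⟩ := exists_points_fp hG.isStack.1 hT.isStack.1 hZ.isStack.1 (_root_.FibCat.fpFst g f) z t k hk.symm
    refine ⟨Points.map (Fp.paste f g z) w', ?_, ?_⟩
    · simp only [q]
      rw [← points_map_comp]
      exact (points_map_congr (whiskerRightIso η (_root_.FibCat.fpSnd z (_root_.FibCat.fpFst g f))) w').trans h2
    · exact (points_map_comp _ _ w').symm.trans h1
where
  isAlgStack_overCat' (U : Over S) : IsAlgStack Scheme.fppfPrecoverage (_root_.FibCat.overCat U) :=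
    (isDM_of_repByAlgSp (repByAlgSp_overCat U)).1

/-- Conversely, base changes to schemes have the universal property. -/
theorem repByAlgSpWith_of_forall (P : MapProp.{u}) (hi : MapPropInv P)
    (h𝒳 : IsAlgStack Scheme.fppfPrecoverage 𝒳) (h𝒴 : IsAlgStack Scheme.fppfPrecoverage 𝒴) {f : 𝒳 ⥤ᵇ 𝒴}
    (hf : RepByAlgSp1 f)
    (h : ∀ (𝒵 : _root_.AlgSt.Cat S), IsAlgStack Scheme.fppfPrecoverage 𝒵 → ∀ (g : 𝒵 ⥤ᵇ 𝒴),
      P (Points.map (_root_.FibCat.fpFst g f))) :
    RepByAlgSpWith (AlgSp.UnivSp fun _ _ a => P (AlgSp.Points.map a)) f := fun U y => by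
  obtain ⟨F, e, he⟩ := hf U y
  refine ⟨F, e, he, fun Z Z' hZ g fst snd sq => ?_⟩
  let a := spMapOfOver (BasedFunctor.comp e (_root_.FibCat.fpFst y f))
  have hZ' : AlgSp.IsAlgSpace Z' :=
    (GrothLib.AlgSp.isAlgSpace_pullback' (AlgSp.IsAlgSpace.yon_obj U) F.property hZ a g).of_iso
      sq.isoPullback.symm
  have hZs : IsAlgStack Scheme.fppfPrecoverage (ofSp Z) := (isDM_of_repByAlgSp (repByAlgSp_ofSp hZ)).1
  have hZ's : IsAlgStack Scheme.fppfPrecoverage (ofSp Z') := (isDM_of_repByAlgSp (repByAlgSp_ofSp hZ')).1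
  let G₀ := BasedFunctor.comp (ofSpMap g) (toOverCat U)
  let i : BasedFunctor.comp e (_root_.FibCat.fpFst y f) ≅ BasedFunctor.comp (ofSpMap a) (toOverCat U) :=
    isoOfSpMapOfOver _
  have := IsEquivOver.full (isEquivOver_toOverCat U)
  have := IsEquivOver.faithful (isEquivOver_toOverCat U)
  let M := Fp.map (F := ofSpMap g) (G := ofSpMap a) (F' := G₀) (G' := _root_.FibCat.fpFst y f)
    (BasedFunctor.id (ofSp Z)) e (toOverCat U) (Iso.refl _) i
  let E := BasedFunctor.comp (spToFp sq.flip.w) (BasedFunctor.comp M (Fp.paste f y G₀))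
  have hE : _root_.FibCat.IsEquivOver E := IsEquivOver.comp (isEquivOver_spToFp sq.flip) (IsEquivOver.comp
    (Fp.isEquivOver_map _ _ _ _ _ (IsEquivOver.refl _) he) (Fp.isEquivOver_paste f y G₀))
  have hfst : BasedFunctor.comp E (_root_.FibCat.fpFst (BasedFunctor.comp G₀ y) f) = ofSpMap snd := rfl
  have hh := hi ((spPointsHomeo hZ').symm.trans (equivPointsHomeo hZ's E hE)) (spPointsHomeo hZ) _
    (h (ofSp Z) hZs (BasedFunctor.comp G₀ y))
  change P (AlgSp.Points.map snd)
  convert! hh using 1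
  funext w
  obtain ⟨r, rfl⟩ := (spPointsHomeo hZ').surjective w
  simp only [Function.comp_apply, Homeomorph.trans_apply, Homeomorph.symm_apply_apply, equivPointsHomeo_apply,
    spPointsHomeo_apply]
  rw [← points_map_comp, hfst, toSpPoints_map]
  exact (congrArg (fun q => AlgSp.Points.map snd (toSpPoints q)) ((spPointsHomeo hZ').symm_apply_apply r)).symm

end GrothLib.AlgSt
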