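import Groth.Agent.Lib.AlgSt.QC
import Groth.Agent.Lib.AlgSt.UnivProps
import Groth.Agent.Lib.AlgSt.SepComp
import Groth.Agent.Lib.AlgSt.DiagMor

/-!
# Quasi-compact morphisms of algebraic stacks
-/

set_option backward.isDefEq.respectTransparency false
set_option backward.isDefEq.respectTransparency.types false

universe u

open CategoryTheory CategoryTheory.Limits AlgebraicGeometry Opposite

namespace GrothLib.AlgSt

open _root_.AlgSt GrothLib.FibCat

variable {S : Scheme.{u}} {𝒳 𝒴 𝒵 : _root_.AlgSt.Cat S}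

theorem isQuasiCompact_of_surjective (h𝒳 : IsAlgStack Scheme.fppfPrecoverage 𝒳)
    (h𝒴 : IsAlgStack Scheme.fppfPrecoverage 𝒴) (f : 𝒳 ⥤ᵇ 𝒴) (hf : IsSurjective f) (h : IsQuasiCompact 𝒳) :
    IsQuasiCompact 𝒴 :=
  have := compactSpace_points_of_isQuasiCompact h𝒳.isStack.1 h
  isQuasiCompact_of_surjective_continuous h𝒴 f (continuous_points_map h𝒳 h𝒴 f) hf

theorem isQuasiCompact_ofSp {F : AlgSp.Sp S} (hF : AlgSp.IsAlgSpace F) (h : AlgSp.IsQuasiCompactSp F) :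
    IsQuasiCompact (ofSp F) := by
  have := GrothLib.AlgSp.compactSpace_points_of_isQuasiCompactSp h
  have : CompactSpace (Points (ofSp F)) := (spPointsHomeo hF).symm.compactSpace
  exact (isQuasiCompact_iff_compactSpace (isDM_of_repByAlgSp (repByAlgSp_ofSp hF)).1).2 this

theorem isQuasiCompactSp_of_isQuasiCompact_ofSp {F : AlgSp.Sp S} (hF : AlgSp.IsAlgSpace F)
    (h : IsQuasiCompact (ofSp F)) : AlgSp.IsQuasiCompactSp F := by
  have := compactSpace_points_of_isQuasiCompact (isFibGrpd_ofSp F) h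
  have : CompactSpace (AlgSp.Points F) := (spPointsHomeo hF).compactSpace
  exact GrothLib.AlgSp.isQuasiCompactSp_of_compactSpace_points hF

/-- For functors representable by algebraic spaces the two notions of quasi-compactness agree. -/
theorem isQuasiCompactMor_of_repByAlgSpWith (h𝒳 : IsAlgStack Scheme.fppfPrecoverage 𝒳)
    (h𝒴 : IsAlgStack Scheme.fppfPrecoverage 𝒴) (f : 𝒳 ⥤ᵇ 𝒴)
    (h : RepByAlgSpWith AlgSp.IsQuasiCompactMor f) : _root_.AlgSt.IsQuasiCompactMor Scheme.fppfPrecoverage f := by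
  intro 𝒲 hW hWq g
  obtain ⟨T, w, hT, h1, h2⟩ := hWq
  obtain ⟨F, e, he, hqc⟩ := h T (BasedFunctor.comp w g)
  have hTq : AlgSp.IsQuasiCompactSp ((AlgSp.yon S).obj T) := GrothLib.AlgSp.isQuasiCompactSp_yon T
  have hFq : AlgSp.IsQuasiCompactSp F.obj := hqc (AlgSp.IsAlgSpace.yon_obj T) hTq (𝟙 _) (𝟙 _)
    (spMapOfOver (BasedFunctor.comp e (_root_.FibCat.fpFst (BasedFunctor.comp w g) f)))
    (IsPullback.of_horiz_isIso ⟨by simp⟩)
  have hT' := isAlgStack_overCat T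
  have hA := isAlgStack_fp h𝒴.isStack h𝒴.diag hT' h𝒳 (BasedFunctor.comp w g) f
  have hB := isAlgStack_fp h𝒴.isStack h𝒴.diag hW h𝒳 g f
  have hC := isAlgStack_fp hW.isStack hW.diag hT' hB w (_root_.FibCat.fpFst g f)
  have hAq := isQuasiCompact_of_isEquivOver e he (isQuasiCompact_ofSp F.property hFq)
  obtain ⟨E, hE, -, -⟩ := IsEquivOver.symm (Fp.isEquivOver_paste f g w)
  have hCq := isQuasiCompact_of_isEquivOver E hE hAq
  have hws : IsSurjective w :=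
    (isSurjective_iff_repByAlgSpWith hT'.isStack.1 hW.isStack.1 w (repByAlgSp1_of_repByAlgSpWith h2)).2 h2
  refine isQuasiCompact_of_surjective hC hB (_root_.FibCat.fpSnd w (_root_.FibCat.fpFst g f)) (fun r => ?_) hCq
  obtain ⟨u, hu⟩ := hws (Points.map (_root_.FibCat.fpFst g f) r)
  obtain ⟨z, -, hz⟩ := exists_points_fp hB.isStack.1 hT'.isStack.1 hW.isStack.1 (_root_.FibCat.fpFst g f) w u r
    hu
  exact ⟨z, hz⟩

theorem repByAlgSpWith_isQuasiCompactMor_of (f : 𝒳 ⥤ᵇ 𝒴) (hf : RepByAlgSp1 f)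
    (h : _root_.AlgSt.IsQuasiCompactMor Scheme.fppfPrecoverage f) : RepByAlgSpWith AlgSp.IsQuasiCompactMor f := by
  intro U y
  obtain ⟨F, e, he⟩ := hf U y
  let a := spMapOfOver (BasedFunctor.comp e (_root_.FibCat.fpFst y f))
  refine ⟨F, e, he, GrothLib.AlgSp.isQuasiCompactMor_of_affine fun T hT g P fst snd sq => ?_⟩
  have : CompactSpace ↥T.left := inferInstance
  have hP : AlgSp.IsAlgSpace P := GrothLib.AlgSp.isAlgSpace_pullback (AlgSp.IsAlgSpace.yon_obj U).diag F.property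
    (AlgSp.IsAlgSpace.yon_obj T) sq
  refine isQuasiCompactSp_of_isQuasiCompact_ofSp hP ?_
  have := IsEquivOver.full (isEquivOver_toOverCat U)
  have := IsEquivOver.faithful (isEquivOver_toOverCat U)
  obtain ⟨c, rfl⟩ := (AlgSp.yon S).map_surjective g
  obtain ⟨iF⟩ := iso_of_spMapOfOver_eq
    (Φ := BasedFunctor.comp (toOverCat T) (GrothLib.FibCat.overMap c))
    (Ψ := BasedFunctor.comp (ofSpMap ((AlgSp.yon S).map c)) (toOverCat U))
    ((spMapOfOver_overMap c).trans (spMapOfOver_toOverCat _).symm)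
  let iG : BasedFunctor.comp e (_root_.FibCat.fpFst y f) ≅ BasedFunctor.comp (ofSpMap a) (toOverCat U) :=
    isoOfSpMapOfOver (BasedFunctor.comp e (_root_.FibCat.fpFst y f))
  obtain ⟨E, hE, -, -⟩ := IsEquivOver.symm (IsEquivOver.comp (isEquivOver_spToFp sq.flip) (IsEquivOver.comp
      (Fp.isEquivOver_map (toOverCat T) e (toOverCat U) iF iG (isEquivOver_toOverCat T) he)
      (Fp.isEquivOver_paste f y (GrothLib.FibCat.overMap c))))
  have hTq : IsQuasiCompact (_root_.FibCat.overCat T) :=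
    isQuasiCompact_of_isEquivOver (toOverCat T) (isEquivOver_toOverCat T)
      (isQuasiCompact_ofSp (AlgSp.IsAlgSpace.yon_obj T) (GrothLib.AlgSp.isQuasiCompactSp_yon T))
  exact isQuasiCompact_of_isEquivOver E hE
    (h _ (isAlgStack_overCat T) hTq (BasedFunctor.comp (GrothLib.FibCat.overMap c) y))

/-- Quasi-compactness descends along surjections of the source. -/
theorem isQuasiCompactMor_of_surjective_comp (h𝒳 : IsAlgStack Scheme.fppfPrecoverage 𝒳)
    (h𝒴 : IsAlgStack Scheme.fppfPrecoverage 𝒴) (h𝒵 : IsAlgStack Scheme.fppfPrecoverage 𝒵) (f : 𝒳 ⥤ᵇ 𝒴)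
    (q : 𝒴 ⥤ᵇ 𝒵) (hs : IsSurjective f)
    (h : _root_.AlgSt.IsQuasiCompactMor Scheme.fppfPrecoverage (BasedFunctor.comp f q)) :
    _root_.AlgSt.IsQuasiCompactMor Scheme.fppfPrecoverage q := fun 𝒲 hW hWq g => by
  have hB := isAlgStack_fp h𝒵.isStack h𝒵.diag hW h𝒴 g q
  have hC := isAlgStack_fp h𝒴.isStack h𝒴.diag hB h𝒳 (_root_.FibCat.fpSnd g q) f
  obtain ⟨E, hE, -, -⟩ := IsEquivOver.symm (Fp.isEquivOver_pasteComp f q g)
  exact isQuasiCompact_of_surjective hC hB _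
    (isSurjective_fpFst h𝒳.isStack.1 hB.isStack.1 h𝒴.isStack.1 f (_root_.FibCat.fpSnd g q) hs)
    (isQuasiCompact_of_isEquivOver E hE (h 𝒲 hW hWq g))

theorem isQuasiCompactMor_of_iso {f f' : 𝒳 ⥤ᵇ 𝒴} (α : f ≅ f')
    (h : _root_.AlgSt.IsQuasiCompactMor Scheme.fppfPrecoverage f) :
    _root_.AlgSt.IsQuasiCompactMor Scheme.fppfPrecoverage f' := fun 𝒲 hW hWq g =>
  isQuasiCompact_of_isEquivOver _ (Fp.isEquivOver_congr (Iso.refl g) α) (h 𝒲 hW hWq g)

theorem isQuasiCompactMor_fpSnd (g : 𝒳 ⥤ᵇ 𝒵) (f : 𝒴 ⥤ᵇ 𝒵)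
    (h : _root_.AlgSt.IsQuasiCompactMor Scheme.fppfPrecoverage g) :
    _root_.AlgSt.IsQuasiCompactMor Scheme.fppfPrecoverage (_root_.FibCat.fpSnd g f) := fun 𝒲 hW hWq w => by
  have := IsEquivOver.full (IsEquivOver.refl 𝒴)
  have := IsEquivOver.faithful (IsEquivOver.refl 𝒴)
  refine isQuasiCompact_of_isEquivOver
    (Fp.map (F := w) (G := _root_.FibCat.fpFst f g) (F' := w) (G' := _root_.FibCat.fpSnd g f) (BasedFunctor.id 𝒲)
      (Fp.symm f g) (BasedFunctor.id 𝒴) (Iso.refl _) (Iso.refl _))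
    (Fp.isEquivOver_map _ _ _ _ _ (IsEquivOver.refl _) (Fp.isEquivOver_symm f g))
    (isQuasiCompactMor_fpFst f h 𝒲 hW hWq w)

/-- Cancellation for quasi-compact morphisms. -/
theorem isQuasiCompactMor_of_comp_of_diag (h𝒳 : IsAlgStack Scheme.fppfPrecoverage 𝒳)
    (h𝒴 : IsAlgStack Scheme.fppfPrecoverage 𝒴) (h𝒵 : IsAlgStack Scheme.fppfPrecoverage 𝒵) (f : 𝒳 ⥤ᵇ 𝒴)
    (g : 𝒴 ⥤ᵇ 𝒵) (h : _root_.AlgSt.IsQuasiCompactMor Scheme.fppfPrecoverage (BasedFunctor.comp f g))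
    (hg : RepByAlgSpWith AlgSp.IsQuasiCompactMor (_root_.FibCat.diag g)) :
    _root_.AlgSt.IsQuasiCompactMor Scheme.fppfPrecoverage f := by
  have hP := isAlgStack_fp h𝒵.isStack h𝒵.diag h𝒳 h𝒴 (BasedFunctor.comp f g) g
  exact isQuasiCompactMor_comp hP h𝒴
    (isQuasiCompactMor_of_repByAlgSpWith h𝒳 hP (graph f g) (repByAlgSpWith_graph h𝒴.isStack.1 f g hg))
    (isQuasiCompactMor_fpSnd (BasedFunctor.comp f g) g h)

end GrothLib.AlgSt
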