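import Groth.Agent.Lib.AlgSt.DescLocQ
import Groth.Agent.Lib.AlgSt.QCMor
import Groth.Agent.Lib.AlgSt.Graph

/-!
# Descent of properties read on points, and of the absolute diagonal
-/

set_option backward.isDefEq.respectTransparency false
set_option backward.isDefEq.respectTransparency.types false

universe u

open CategoryTheory CategoryTheory.Limits AlgebraicGeometry Opposite

namespace GrothLib.AlgSt

open _root_.AlgSt GrothLib.FibCat

variable {S : Scheme.{u}} {𝒳 𝒴 𝒵 𝒲 : _root_.AlgSt.Cat S}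

theorem isSurjective_overMap {U V : Over S} (c : V ⟶ U) [Surjective c.left] :
    IsSurjective (GrothLib.FibCat.overMap c) := fun p => by
  obtain ⟨v, hv⟩ := c.left.surjective (pointOf p)
  refine ⟨Points.ofChart (BasedFunctor.id _) v, (pointOf_bijective U).1 ?_⟩
  rw [← ofChart_eq_map]
  have e : Points.ofChart (_root_.AlgSt.overMap c) v =
      Points.ofChart (BasedFunctor.id (_root_.FibCat.overCat U)) (c.left v) :=
    ofChart_overMap c (BasedFunctor.id _) v
  exact (congrArg pointOf e).trans ((pointOf_ofChart_id _).trans hv)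

/-- Quasi-compactness descends along fppf surjections. -/
theorem isQuasiCompactMor_of_fpFst_fppf (h𝒳 : IsAlgStack Scheme.fppfPrecoverage 𝒳)
    (h𝒴 : IsAlgStack Scheme.fppfPrecoverage 𝒴) (h𝒵 : IsAlgStack Scheme.fppfPrecoverage 𝒵) (f : 𝒳 ⥤ᵇ 𝒴)
    (z : 𝒵 ⥤ᵇ 𝒴) (hz : LiftsFppf z)
    (h : IsQuasiCompactMor Scheme.fppfPrecoverage (_root_.FibCat.fpFst z f)) :
    IsQuasiCompactMor Scheme.fppfPrecoverage f :=
  isQuasiCompactMor_of_charts h𝒳 h𝒴 f fun V hV y => by
    obtain ⟨V', c, l, h1, h2, h3, ⟨j⟩⟩ := hz V y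
    have := h1
    have := h2
    have := h3
    have : CompactSpace ↥V.left := inferInstance
    let 𝒰 := V'.left.affineCover
    obtain ⟨s, hs⟩ := isCompact_univ.elim_finite_subcover (fun i => Set.range (𝒰.f i ≫ c.left))
      (fun i => (𝒰.f i ≫ c.left).isOpenMap.isOpen_range) (fun x _ => by
        obtain ⟨x', rfl⟩ := c.left.surjective x
        obtain ⟨i, y, rfl⟩ := 𝒰.exists_eq x'
        exact Set.mem_iUnion.2 ⟨i, y, rfl⟩)
    let W : Over S := Over.mk ((Sigma.desc fun i : s => 𝒰.f i.1) ≫ V'.hom)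
    let k : W ⟶ V' := Over.homMk (Sigma.desc fun i : s => 𝒰.f i.1) rfl
    have : IsAffine W.left := inferInstanceAs (IsAffine (∐ fun i : s => 𝒰.X i.1 : Scheme.{u}))
    have : Surjective (k ≫ c).left := ⟨fun x => by
      obtain ⟨i, hi, y, hy⟩ := Set.mem_iUnion₂.1 (hs (Set.mem_univ x))
      refine ⟨Sigma.ι (fun i : s => 𝒰.X i.1) ⟨i, hi⟩ y, ?_⟩
      change (Sigma.ι (fun i : s => 𝒰.X i.1) ⟨i, hi⟩ ≫ (Sigma.desc fun i : s => 𝒰.f i.1) ≫ c.left) y = x
      rw [Sigma.ι_desc_assoc]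
      exact hy⟩
    have hW := isAlgStack_overCat W
    have hqW : IsQuasiCompact (_root_.FibCat.overCat W) :=
      isQuasiCompact_of_isEquivOver (toOverCat W) (isEquivOver_toOverCat W)
        (isQuasiCompact_ofSp (AlgSp.IsAlgSpace.yon_obj W) (GrothLib.AlgSp.isQuasiCompactSp_yon W))
    have hA := h _ hW hqW (BasedFunctor.comp (GrothLib.FibCat.overMap k) l)
    let i : BasedFunctor.comp (BasedFunctor.comp (GrothLib.FibCat.overMap k) l) z ≅
        BasedFunctor.comp (GrothLib.FibCat.overMap (k ≫ c)) y :=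
      whiskerLeftIso (GrothLib.FibCat.overMap k) j.symm ≪≫ whiskerRightIso (overMapCompIso k c) y
    obtain ⟨P, hP, -, -⟩ := IsEquivOver.symm (Fp.isEquivOver_paste f y (GrothLib.FibCat.overMap (k ≫ c)))
    have hB := isQuasiCompact_of_isEquivOver
      (BasedFunctor.comp (BasedFunctor.comp (Fp.paste f z (BasedFunctor.comp (GrothLib.FibCat.overMap k) l))
        (Fp.congr i (Iso.refl f))) P)
      (IsEquivOver.comp (IsEquivOver.comp (Fp.isEquivOver_paste f z _) (Fp.isEquivOver_congr _ _)) hP) hA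
    have hVA := isAlgStack_overCat V
    have hC := isAlgStack_fp h𝒴.isStack h𝒴.diag hVA h𝒳 y f
    have hD := isAlgStack_fp hVA.isStack hVA.diag hW hC (GrothLib.FibCat.overMap (k ≫ c)) (_root_.FibCat.fpFst y f)
    have := compactSpace_points_of_isQuasiCompact hD.isStack.1 hB
    refine Function.Surjective.compactSpace
      (continuous_points_map hD hC (_root_.FibCat.fpSnd (GrothLib.FibCat.overMap (k ≫ c)) (_root_.FibCat.fpFst y f)))
      fun r => ?_
    obtain ⟨p, hp⟩ := isSurjective_overMap (k ≫ c) (Points.map (_root_.FibCat.fpFst y f) r)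
    obtain ⟨w, -, hw⟩ := exists_points_fp hC.isStack.1 hW.isStack.1 hVA.isStack.1 (_root_.FibCat.fpFst y f)
      (GrothLib.FibCat.overMap (k ≫ c)) p r hp
    exact ⟨w, hw⟩

/-- Points of a base change over a point in the image of `w` are separated after base change along `w`. -/
theorem eq_of_injective_precomp (h𝒳 : _root_.FibCat.IsFibGrpd 𝒳.p) (h𝒴 : _root_.FibCat.IsFibGrpd 𝒴.p)
    (h𝒲 : _root_.FibCat.IsFibGrpd 𝒲.p) (h𝒵 : _root_.FibCat.IsFibGrpd 𝒵.p) (f : 𝒳 ⥤ᵇ 𝒴) (g : 𝒲 ⥤ᵇ 𝒴)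
    (w : 𝒵 ⥤ᵇ 𝒲)
    (hi : Function.Injective (Points.map (_root_.FibCat.fpFst (BasedFunctor.comp w g) f)))
    {p q : Points (_root_.FibCat.fp g f)}
    (e : Points.map (_root_.FibCat.fpFst g f) p = Points.map (_root_.FibCat.fpFst g f) q)
    (hr : Points.map (_root_.FibCat.fpFst g f) p ∈ Set.range (Points.map w)) : p = q := by
  obtain ⟨t, ht⟩ := hr
  have gA := Fp.isFibGrpd (F := g) (G := f) h𝒲 h𝒳 h𝒴
  obtain ⟨a, ha1, ha2⟩ := exists_points_fp gA h𝒵 h𝒲 (_root_.FibCat.fpFst g f) w t p ht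
  obtain ⟨b, hb1, hb2⟩ := exists_points_fp gA h𝒵 h𝒲 (_root_.FibCat.fpFst g f) w t q (ht.trans e)
  have hb := points_map_bijective_of_isEquivOver (Fp.isFibGrpd (F := w) (G := _root_.FibCat.fpFst g f) h𝒵 gA h𝒲)
    (Fp.paste f g w) (Fp.isEquivOver_paste f g w)
  have : Points.map (Fp.paste f g w) a = Points.map (Fp.paste f g w) b := by
    apply hi
    rw [← points_map_comp, ← points_map_comp]
    exact ha1.trans hb1.symm
  rw [← ha2, ← hb2, hb.1 this]

/-- Universal injectivity is detected on schemes. -/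
theorem isUnivInjective_of_schemes (h𝒳 : IsAlgStack Scheme.fppfPrecoverage 𝒳)
    (h𝒴 : IsAlgStack Scheme.fppfPrecoverage 𝒴) (f : 𝒳 ⥤ᵇ 𝒴)
    (h : ∀ (U : Over S) (y : _root_.FibCat.overCat U ⥤ᵇ 𝒴),
      Function.Injective (Points.map (_root_.FibCat.fpFst y f))) :
    IsUnivInjective Scheme.fppfPrecoverage f := fun 𝒲 hW g p q e => by
  obtain ⟨T, w, hs, hj⟩ := hW.atlas
  refine eq_of_injective_precomp h𝒳.isStack.1 h𝒴.isStack.1 hW.isStack.1 (isFibGrpd_overCat T) f g w (h T _) e ?_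
  exact (isSurjective_iff_repByAlgSpWith (isFibGrpd_overCat T) hW.isStack.1 w
    (repByAlgSp1_of_repByAlgSpWith hj)).2 hj _

theorem injective_points_fpFst_congr (h𝒳 : _root_.FibCat.IsFibGrpd 𝒳.p) (h𝒴 : _root_.FibCat.IsFibGrpd 𝒴.p)
    (h𝒲 : _root_.FibCat.IsFibGrpd 𝒲.p) {g g' : 𝒲 ⥤ᵇ 𝒴} (i : g ≅ g') (f : 𝒳 ⥤ᵇ 𝒴)
    (hi : Function.Injective (Points.map (_root_.FibCat.fpFst g f))) :
    Function.Injective (Points.map (_root_.FibCat.fpFst g' f)) := fun p q e => by
  have hb := points_map_bijective_of_isEquivOver (Fp.isFibGrpd (F := g) (G := f) h𝒲 h𝒳 h𝒴)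
    (Fp.congr i (Iso.refl f)) (Fp.isEquivOver_congr _ _)
  obtain ⟨p, rfl⟩ := hb.2 p
  obtain ⟨q, rfl⟩ := hb.2 q
  rw [← points_map_comp, ← points_map_comp] at e
  exact congrArg _ (hi e)

/-- Universal injectivity descends along fppf surjections. -/
theorem isUnivInjective_of_fpFst_fppf (h𝒳 : IsAlgStack Scheme.fppfPrecoverage 𝒳)
    (h𝒴 : IsAlgStack Scheme.fppfPrecoverage 𝒴) (h𝒵 : IsAlgStack Scheme.fppfPrecoverage 𝒵) (f : 𝒳 ⥤ᵇ 𝒴)
    (z : 𝒵 ⥤ᵇ 𝒴) (hz : LiftsFppf z)
    (h : IsUnivInjective Scheme.fppfPrecoverage (_root_.FibCat.fpFst z f)) :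
    IsUnivInjective Scheme.fppfPrecoverage f :=
  isUnivInjective_of_schemes h𝒳 h𝒴 f fun U y => by
    obtain ⟨V, c, l, -, -, h3, ⟨j⟩⟩ := hz U y
    have := h3
    have gV := isFibGrpd_overCat V
    have gZ := Fp.isFibGrpd (F := z) (G := f) h𝒵.isStack.1 h𝒳.isStack.1 h𝒴.isStack.1
    have hb := points_map_bijective_of_isEquivOver
      (Fp.isFibGrpd (F := l) (G := _root_.FibCat.fpFst z f) gV gZ h𝒵.isStack.1) (Fp.paste f z l)
      (Fp.isEquivOver_paste f z l)
    have hl : Function.Injective (Points.map (_root_.FibCat.fpFst (BasedFunctor.comp l z) f)) := fun p q e => by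
      obtain ⟨p, rfl⟩ := hb.2 p
      obtain ⟨q, rfl⟩ := hb.2 q
      rw [← points_map_comp, ← points_map_comp] at e
      exact congrArg _ (h _ (isAlgStack_overCat V) l e)
    intro p q e
    exact eq_of_injective_precomp h𝒳.isStack.1 h𝒴.isStack.1 (isFibGrpd_overCat U) gV f y
      (GrothLib.FibCat.overMap c) (injective_points_fpFst_congr h𝒳.isStack.1 h𝒴.isStack.1 gV j.symm f hl) e
      (isSurjective_overMap c _)

/-- Universal injectivity is detected on affine schemes. -/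
theorem isUnivInjective_of_affine (h𝒳 : IsAlgStack Scheme.fppfPrecoverage 𝒳)
    (h𝒴 : IsAlgStack Scheme.fppfPrecoverage 𝒴) (f : 𝒳 ⥤ᵇ 𝒴)
    (h : ∀ (U : Over S) [IsAffine U.left] (y : _root_.FibCat.overCat U ⥤ᵇ 𝒴),
      IsUnivInjective Scheme.fppfPrecoverage (_root_.FibCat.fpFst y f)) :
    IsUnivInjective Scheme.fppfPrecoverage f :=
  isUnivInjective_of_schemes h𝒳 h𝒴 f fun U y p q e => by
    obtain ⟨i, a, ha⟩ := U.left.affineCover.exists_eq (pointOf (Points.map (_root_.FibCat.fpFst y f) p))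
    let V : Over S := Over.mk (U.left.affineCover.f i ≫ U.hom)
    let c : V ⟶ U := Over.homMk (U.left.affineCover.f i) rfl
    have : IsAffine V.left := inferInstanceAs (IsAffine (U.left.affineCover.X i))
    have gV := isFibGrpd_overCat V
    let yV := BasedFunctor.comp (GrothLib.FibCat.overMap c) y
    have gA := Fp.isFibGrpd (F := yV) (G := f) gV h𝒳.isStack.1 h𝒴.isStack.1
    have hb := points_map_bijective_of_isEquivOver
      (Fp.isFibGrpd (F := BasedFunctor.id (_root_.FibCat.overCat V)) (G := _root_.FibCat.fpFst yV f) gV gA gV)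
      (Fp.paste f yV (BasedFunctor.id _)) (Fp.isEquivOver_paste f yV (BasedFunctor.id _))
    have hi : Function.Injective (Points.map (_root_.FibCat.fpFst yV f)) := fun p q e => by
      obtain ⟨p, rfl⟩ := hb.2 p
      obtain ⟨q, rfl⟩ := hb.2 q
      rw [← points_map_comp, ← points_map_comp] at e
      exact congrArg _ (h V yV _ (isAlgStack_overCat V) (BasedFunctor.id _) e)
    refine eq_of_injective_precomp h𝒳.isStack.1 h𝒴.isStack.1 (isFibGrpd_overCat U) gV f y
      (GrothLib.FibCat.overMap c) hi e ⟨Points.ofChart (BasedFunctor.id _) a, (pointOf_bijective U).1 ?_⟩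
    rw [← ofChart_eq_map]
    have e' : Points.ofChart (_root_.AlgSt.overMap c) a =
        Points.ofChart (BasedFunctor.id (_root_.FibCat.overCat U)) (c.left a) :=
      ofChart_overMap c (BasedFunctor.id _) a
    exact (congrArg pointOf e').trans ((pointOf_ofChart_id _).trans ha)

/-- Universally injective means surjective diagonal. -/
theorem isUnivInjective_iff_isSurjective_diag (h𝒳 : IsAlgStack Scheme.fppfPrecoverage 𝒳)
    (h𝒴 : IsAlgStack Scheme.fppfPrecoverage 𝒴) (f : 𝒳 ⥤ᵇ 𝒴) :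
    IsUnivInjective Scheme.fppfPrecoverage f ↔ IsSurjective (_root_.FibCat.diag f) := by
  refine ⟨fun h q => ⟨Points.map (_root_.FibCat.fpFst f f) q, h 𝒳 h𝒳 f ?_⟩, fun h 𝒲 hW g p q e => ?_⟩
  · rw [← points_map_comp, diag_comp_fpFst]
    obtain ⟨x, hx⟩ := Points.mk_surjective (Points.map (_root_.FibCat.fpFst f f) q)
    rw [← hx]
    rfl
  · let π := _root_.FibCat.fpFst g f
    have gA := Fp.isFibGrpd (F := g) (G := f) hW.isStack.1 h𝒳.isStack.1 h𝒴.isStack.1
    have gB := Fp.isFibGrpd (F := π) (G := π) gA gA hW.isStack.1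
    obtain ⟨r, hr1, hr2⟩ := exists_points_fp gA gA hW.isStack.1 π π p q e
    obtain ⟨x, hx⟩ := h (Points.map (diagBcMap f g) r)
    obtain ⟨w, hw, -⟩ := exists_points_fp h𝒳.isStack.1 gB
      (Fp.isFibGrpd (F := f) (G := f) h𝒳.isStack.1 h𝒳.isStack.1 h𝒴.isStack.1)
      (_root_.FibCat.diag f) (diagBcMap f g) r x hx.symm
    obtain ⟨s, rfl⟩ := (points_map_bijective_of_isEquivOver gA (diagBcLift f g) (isEquivOver_diagBcLift f g)).2 w
    rw [← points_map_comp] at hw
    change Points.map (_root_.FibCat.diag π) s = r at hw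
    subst hw
    rw [← points_map_comp] at hr1 hr2
    exact hr1.symm.trans hr2

/-- The diagonal over the base of a stack with a cover whose fibre square has a property. -/
theorem repByAlgSpWith_diag_toSelf_of_cover {P : MorphismProperty (AlgSp.Sp S)} (hP : IsoInvariant P)
    (hD : DescendsToSchemes P) (h𝒳 : IsAlgStack Scheme.fppfPrecoverage 𝒳)
    (h𝒵 : IsAlgStack Scheme.fppfPrecoverage 𝒵) (w : 𝒵 ⥤ᵇ 𝒳) (hw : LiftsFppf w)
    (hC : RepByAlgSpWith P (fpToFp w w (_root_.FibCat.toSelf 𝒳))) :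
    RepByAlgSpWith P (_root_.FibCat.diag (_root_.FibCat.toSelf 𝒳)) := by
  let t := _root_.FibCat.toSelf 𝒳
  intro U y
  let y₁ := BasedFunctor.comp y (_root_.FibCat.fpFst t t)
  let y₂ := BasedFunctor.comp y (_root_.FibCat.fpSnd t t)
  obtain ⟨V₁, c₁, l₁, a₁, b₁, s₁, ⟨j₁⟩⟩ := hw U y₁
  obtain ⟨V, c₂, l₂, a₂, b₂, s₂, ⟨j₂⟩⟩ := hw V₁ (BasedFunctor.comp (GrothLib.FibCat.overMap c₁) y₂)
  let c := c₂ ≫ c₁
  let m₁ := BasedFunctor.comp (GrothLib.FibCat.overMap c₂) l₁
  let k₁ : BasedFunctor.comp (GrothLib.FibCat.overMap c) y₁ ≅ BasedFunctor.comp m₁ w :=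
    (whiskerRightIso (overMapCompIso c₂ c₁) y₁).symm ≪≫ whiskerLeftIso (GrothLib.FibCat.overMap c₂) j₁
  let k₂ : BasedFunctor.comp (GrothLib.FibCat.overMap c) y₂ ≅ BasedFunctor.comp l₂ w :=
    (whiskerRightIso (overMapCompIso c₂ c₁) y₂).symm ≪≫ j₂
  let κ : BasedFunctor.comp m₁ (BasedFunctor.comp w t) ≅ BasedFunctor.comp l₂ (BasedFunctor.comp w t) :=
    (whiskerRightIso k₁ t).symm ≪≫
      whiskerLeftIso (BasedFunctor.comp (GrothLib.FibCat.overMap c) y) (_root_.FibCat.fpIso t t) ≪≫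
      whiskerRightIso k₂ t
  let y' := _root_.FibCat.fpLift m₁ l₂ κ
  let yc := BasedFunctor.comp (GrothLib.FibCat.overMap c) y
  let j : BasedFunctor.comp y' (fpPair w w t) ≅ yc :=
    natIsoOfComponents
      (fun x => Fp.isoMk (a := (fpPair w w t).obj (y'.obj x)) (b := yc.obj x)
        (((BasedNatTrans.forgetful _ _).mapIso k₁).app x).symm
        (((BasedNatTrans.forgetful _ _).mapIso k₂).app x).symm (by
          have h2 : k₂.hom.app x ≫ k₂.inv.app x = 𝟙 _ := congrArg (fun s => s.app x) k₂.hom_inv_id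
          change t.map (k₁.inv.app x) ≫ (yc.obj x).obj.iso.hom =
            (t.map (k₁.inv.app x) ≫ (yc.obj x).obj.iso.hom ≫ t.map (k₂.hom.app x)) ≫ t.map (k₂.inv.app x)
          rw [Category.assoc, Category.assoc, ← t.map_comp, h2]
          exact (congrArg (t.map (k₁.inv.app x) ≫ ·)
            ((congrArg ((yc.obj x).obj.iso.hom ≫ ·) (t.map_id _)).trans (Category.comp_id _))).symm))
      (fun x => (Fp.isHomLift_iff _ _).2 (BasedNatTrans.isHomLift k₁.inv rfl))
      (fun {a b} φ => Fp.hom_ext (k₁.inv.toNatTrans.naturality φ) (k₂.inv.toNatTrans.naturality φ))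
  have := IsEquivOver.full (IsEquivOver.refl (_root_.FibCat.fp (BasedFunctor.comp w t) (BasedFunctor.comp w t)))
  have := IsEquivOver.faithful (IsEquivOver.refl (_root_.FibCat.fp (BasedFunctor.comp w t) (BasedFunctor.comp w t)))
  let iG : BasedFunctor.comp (fpToFpLift w w t) (_root_.FibCat.fpFst (fpPair w w t) (_root_.FibCat.diag t)) ≅
      BasedFunctor.comp (fpToFp w w t) (BasedFunctor.id _) := Iso.refl _
  let E₁ := Fp.map (F := y') (G := fpToFp w w t) (F' := y')
    (G' := _root_.FibCat.fpFst (fpPair w w t) (_root_.FibCat.diag t))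
    (BasedFunctor.id _) (fpToFpLift w w t) (BasedFunctor.id _) (Iso.refl y') iG
  have hR : HasRep P (_root_.FibCat.fpFst yc (_root_.FibCat.diag t)) :=
    HasRep.of_equiv (BasedFunctor.comp E₁ (BasedFunctor.comp
        (Fp.paste (_root_.FibCat.diag t) (fpPair w w t) y') (Fp.congr j (Iso.refl (_root_.FibCat.diag t)))))
      (IsEquivOver.comp (Fp.isEquivOver_map _ _ _ _ _ (IsEquivOver.refl _)
          (isEquivOver_fpToFpLift h𝒵.isStack.1 w w t))
        (IsEquivOver.comp (Fp.isEquivOver_paste (_root_.FibCat.diag t) (fpPair w w t) y')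
          (Fp.isEquivOver_congr j (Iso.refl _))))
      (Iso.refl _) (hC V y')
  have := a₁; have := a₂; have := b₁; have := b₂; have := s₁; have := s₂
  exact hasRep_of_cover hP hD _ y c (by rw [Over.comp_left]; infer_instance) (by rw [Over.comp_left]; infer_instance)
    (by rw [Over.comp_left]; infer_instance) (h𝒳.diag U y) hR

/-- The absolute diagonal from a cover by a space with a composition stable property. -/
theorem repByAlgSpWith_diag_toSelf_of_space_cover {P : MorphismProperty (AlgSp.Sp S)} (hP : CompStable P)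
    (hD : DescendsToSchemes P)
    (hdiag : ∀ {𝒜 ℬ : _root_.AlgSt.Cat S} {f : 𝒜 ⥤ᵇ ℬ}, RepByAlgSp1 f →
      RepByAlgSpWith P (_root_.FibCat.diag f))
    (h𝒳 : IsAlgStack Scheme.fppfPrecoverage 𝒳) (W : AlgSp.Space S) (w : ofSp W.obj ⥤ᵇ 𝒳)
    (h1 : RepByAlgSpWith (AlgSp.LocP @Flat) w) (h2 : RepByAlgSpWith (AlgSp.LocP @LocallyOfFinitePresentation) w)
    (h3 : RepByAlgSpWith AlgSp.IsSurjectiveMor w) (h4 : RepByAlgSpWith P w) :
    RepByAlgSpWith P (_root_.FibCat.diag (_root_.FibCat.toSelf 𝒳)) := by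
  let t := _root_.FibCat.toSelf 𝒳
  have hW := (isDM_of_repByAlgSp (repByAlgSp_ofSp W.property)).1
  have hS := (isDM_of_repByAlgSp (repByAlgSp_selfOver (S := S))).1
  refine repByAlgSpWith_diag_toSelf_of_cover hP.iso hD h𝒳 hW w (liftsFppf_of_repByAlgSpWith w h1 h2 h3) ?_
  exact hP.repByAlgSpWith_of_comp (isAlgStack_fp h𝒳.isStack h𝒳.diag hW hW w w)
    (isAlgStack_fp hS.isStack hS.diag hW hW (BasedFunctor.comp w t) (BasedFunctor.comp w t)) hW _
    (_root_.FibCat.fpFst _ _) (repByAlgSpWith_fpFst w h4)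
    (hdiag (repByAlgSp1_fpFst _
      (repByAlgSp1_of_repByAlgSp (repByAlgSp_ofSp W.property) repByAlgSp_selfOver (BasedFunctor.comp w t))))

end GrothLib.AlgSt
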