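import Groth.Prelude.Def_AlgSt4
import Groth.Agent.Lib.AlgSt.OfSp

/-!
# Points of categories fibred in groupoids over `(Sch/S)`
-/

set_option backward.isDefEq.respectTransparency false
set_option backward.isDefEq.respectTransparency.types false

universe v₄ u₄ v₃ u₃ v₂ u₂ u

open CategoryTheory CategoryTheory.Limits AlgebraicGeometry Opposite

namespace GrothLib.AlgSt

open _root_.AlgSt GrothLib.FibCat

variable {S : Scheme.{u}} {𝒳 : BasedCategory.{v₂, u₂} (Over S)} {𝒴 : BasedCategory.{v₃, u₃} (Over S)}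
  {𝒵 : BasedCategory.{v₄, u₄} (Over S)}

/-- The morphism of spectra under a morphism of objects of field-valued points. -/
noncomputable def fptBase {r p : FPt 𝒳} (a : r.obj ⟶ p.obj) : Over.mk r.str ⟶ Over.mk p.str :=
  eqToHom r.lies.symm ≫ 𝒳.p.map a ≫ eqToHom p.lies

theorem isHomLift_fptBase {r p : FPt 𝒳} (a : r.obj ⟶ p.obj) : 𝒳.p.IsHomLift (fptBase a) a :=
  IsHomLift.of_fac 𝒳.p _ _ r.lies p.lies rfl

/-- Two field extensions over `S` of a field are dominated by a common one. -/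
theorem exists_common_extension {L Ω₁ Ω₂ : Type u} [Field L] [Field Ω₁] [Field Ω₂]
    {w₀ : Spec (CommRingCat.of L) ⟶ S} {w₁ : Spec (CommRingCat.of Ω₁) ⟶ S} {w₂ : Spec (CommRingCat.of Ω₂) ⟶ S}
    (b₁ : Over.mk w₁ ⟶ Over.mk w₀) (b₂ : Over.mk w₂ ⟶ Over.mk w₀) :
    ∃ (Ω : Type u) (_ : Field Ω) (w : Spec (CommRingCat.of Ω) ⟶ S) (d₁ : Over.mk w ⟶ Over.mk w₁)
      (d₂ : Over.mk w ⟶ Over.mk w₂), d₁ ≫ b₁ = d₂ ≫ b₂ := by
  obtain ⟨Ω, _, i₁, i₂, hi⟩ :=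
    AlgSp.FieldPt.exists_amalgamation (Spec.preimage b₁.left).hom (Spec.preimage b₂.left).hom
  have hL : Spec.map (CommRingCat.ofHom i₁) ≫ b₁.left = Spec.map (CommRingCat.ofHom i₂) ≫ b₂.left := by
    conv_lhs => rw [← Spec.map_preimage b₁.left]
    conv_rhs => rw [← Spec.map_preimage b₂.left]
    rw [← Spec.map_comp, ← Spec.map_comp]
    congr 1
    exact CommRingCat.hom_ext hi
  have e₁ : b₁.left ≫ w₀ = w₁ := Over.w b₁
  have e₂ : b₂.left ≫ w₀ = w₂ := Over.w b₂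
  have hw : Spec.map (CommRingCat.ofHom i₂) ≫ w₂ = Spec.map (CommRingCat.ofHom i₁) ≫ w₁ := by
    rw [← e₁, ← e₂, ← Category.assoc, ← Category.assoc, hL]
  exact ⟨Ω, inferInstance, Spec.map (CommRingCat.ofHom i₁) ≫ w₁, Over.homMk (Spec.map (CommRingCat.ofHom i₁)) rfl,
    Over.homMk (Spec.map (CommRingCat.ofHom i₂)) hw, Over.OverMorphism.ext hL⟩

theorem rel_refl (p : FPt 𝒳) : FPt.Rel p p := ⟨p, 𝟙 _, 𝟙 _, trivial⟩

theorem rel_symm {p q : FPt 𝒳} (h : FPt.Rel p q) : FPt.Rel q p :=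
  let ⟨r, a, b, _⟩ := h
  ⟨r, b, a, trivial⟩

theorem rel_of_hom {r p : FPt 𝒳} (a : r.obj ⟶ p.obj) : FPt.Rel r p := ⟨r, 𝟙 _, a, trivial⟩

theorem rel_trans (h𝒳 : _root_.FibCat.IsFibGrpd 𝒳.p) {p q s : FPt 𝒳} (h : FPt.Rel p q) (h' : FPt.Rel q s) :
    FPt.Rel p s := by
  obtain ⟨r₁, u₁, v₁, -⟩ := h
  obtain ⟨r₂, u₂, v₂, -⟩ := h'
  obtain ⟨Ω, hΩ, w, d₁, d₂, hd⟩ := exists_common_extension (fptBase v₁) (fptBase u₂)
  obtain ⟨c₁, a₁, ha₁⟩ := IsFibGrpd.exists_lift_of_eq h𝒳 r₁.lies d₁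
  obtain ⟨c₂, a₂, ha₂⟩ := IsFibGrpd.exists_lift_of_eq h𝒳 r₂.lies d₂
  have := isHomLift_fptBase v₁
  have := isHomLift_fptBase u₂
  have h2 : 𝒳.p.IsHomLift (d₁ ≫ fptBase v₁) (a₂ ≫ u₂) := by rw [hd]; infer_instance
  obtain ⟨i, -⟩ := IsFibGrpd.exists_iso_of_lifts h𝒳 (d₁ ≫ fptBase v₁) (a₁ ≫ v₁) (a₂ ≫ u₂)
  exact ⟨⟨Ω, w, c₁, IsHomLift.domain_eq 𝒳.p d₁ a₁⟩, a₁ ≫ u₁, i.inv ≫ a₂ ≫ v₂, trivial⟩

theorem equivalence_rel (h𝒳 : _root_.FibCat.IsFibGrpd 𝒳.p) : _root_.Equivalence (@FPt.Rel S 𝒳) :=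
  ⟨rel_refl, rel_symm, rel_trans h𝒳⟩

theorem rel_of_mk_eq (h𝒳 : _root_.FibCat.IsFibGrpd 𝒳.p) {p q : FPt 𝒳} (e : Points.mk p = Points.mk q) :
    FPt.Rel p q :=
  (equivalence_rel h𝒳).eqvGen_iff.1 (Quot.eqvGen_exact e)

/-- Points of a fibre product surject onto compatible pairs of points. -/
theorem exists_points_fp (h𝒳 : _root_.FibCat.IsFibGrpd 𝒳.p) (h𝒵 : _root_.FibCat.IsFibGrpd 𝒵.p)
    (h𝒴 : _root_.FibCat.IsFibGrpd 𝒴.p) (f : 𝒳 ⥤ᵇ 𝒴) (g : 𝒵 ⥤ᵇ 𝒴) (z : Points 𝒵) (x : Points 𝒳)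
    (h : Points.map g z = Points.map f x) :
    ∃ w : Points (_root_.FibCat.fp g f),
      Points.map (_root_.FibCat.fpFst g f) w = z ∧ Points.map (_root_.FibCat.fpSnd g f) w = x := by
  obtain ⟨z, rfl⟩ := Points.mk_surjective z
  obtain ⟨x, rfl⟩ := Points.mk_surjective x
  obtain ⟨r, a, b, -⟩ := rel_of_mk_eq h𝒴 h
  let da : Over.mk r.str ⟶ Over.mk z.str := fptBase a
  let db : Over.mk r.str ⟶ Over.mk x.str := fptBase b
  obtain ⟨z', az, haz⟩ := IsFibGrpd.exists_lift_of_eq h𝒵 z.lies da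
  obtain ⟨x', bx, hbx⟩ := IsFibGrpd.exists_lift_of_eq h𝒳 x.lies db
  have h1 : 𝒴.p.IsHomLift da a := isHomLift_fptBase a
  have h2 : 𝒴.p.IsHomLift db b := isHomLift_fptBase b
  have h3 : 𝒴.p.IsHomLift da (g.map az) := inferInstance
  have h4 : 𝒴.p.IsHomLift db (f.map bx) := inferInstance
  obtain ⟨i, hi, -⟩ := @IsFibGrpd.exists_iso_of_lifts _ _ _ _ _ h𝒴 _ _ da _ _ _ (g.map az) a h3 h1
  obtain ⟨j, hj, -⟩ := @IsFibGrpd.exists_iso_of_lifts _ _ _ _ _ h𝒴 _ _ db _ _ _ b (f.map bx) h2 h4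
  have hz' : 𝒵.p.obj z' = Over.mk r.str := IsHomLift.domain_eq 𝒵.p da az
  have := isHomLift_id_inv 𝒴.p (R := Over.mk r.str) i
  have := isHomLift_id_inv 𝒴.p (R := Over.mk r.str) j
  let o : (_root_.FibCat.fp g f).obj := Fp.mk z' x' (i.symm ≪≫ j.symm) (by
    have : 𝒴.p.IsHomLift (𝟙 (Over.mk r.str)) (i.symm ≪≫ j.symm).hom :=
      inferInstanceAs (𝒴.p.IsHomLift (𝟙 (Over.mk r.str)) (i.inv ≫ j.inv))
    exact isHomLift_id_of_eq 𝒴.p (R := Over.mk r.str) _ (Or.inl ((g.w_obj z'))))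
  exact ⟨Points.mk { K := r.K, str := r.str, obj := o, lies := hz' },
    Points.sound (rel_of_hom az), Points.sound (rel_of_hom bx)⟩

theorem isSurjective_fpFst (h𝒳 : _root_.FibCat.IsFibGrpd 𝒳.p) (h𝒵 : _root_.FibCat.IsFibGrpd 𝒵.p)
    (h𝒴 : _root_.FibCat.IsFibGrpd 𝒴.p) (f : 𝒳 ⥤ᵇ 𝒴) (g : 𝒵 ⥤ᵇ 𝒴) (hf : IsSurjective f) :
    IsSurjective (_root_.FibCat.fpFst g f) := fun z => by
  obtain ⟨x, hx⟩ := hf (Points.map g z)
  obtain ⟨w, hw, -⟩ := exists_points_fp h𝒳 h𝒵 h𝒴 f g z x hx.symm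
  exact ⟨w, hw⟩

theorem points_map_injective_of_full (h𝒳 : _root_.FibCat.IsFibGrpd 𝒳.p) (h𝒴 : _root_.FibCat.IsFibGrpd 𝒴.p)
    (f : 𝒳 ⥤ᵇ 𝒴) [f.toFunctor.Full] : Function.Injective (Points.map f) := by
  intro p q h
  obtain ⟨p, rfl⟩ := Points.mk_surjective p
  obtain ⟨q, rfl⟩ := Points.mk_surjective q
  obtain ⟨r, a, b, -⟩ := rel_of_mk_eq h𝒴 h
  let da : Over.mk r.str ⟶ Over.mk p.str := fptBase a
  let db : Over.mk r.str ⟶ Over.mk q.str := fptBase b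
  obtain ⟨p', ap, hap⟩ := IsFibGrpd.exists_lift_of_eq h𝒳 p.lies da
  obtain ⟨q', bq, hbq⟩ := IsFibGrpd.exists_lift_of_eq h𝒳 q.lies db
  have h1 : 𝒴.p.IsHomLift da a := isHomLift_fptBase a
  have h2 : 𝒴.p.IsHomLift db b := isHomLift_fptBase b
  have h3 : 𝒴.p.IsHomLift da (f.map ap) := inferInstance
  have h4 : 𝒴.p.IsHomLift db (f.map bq) := inferInstance
  obtain ⟨i, -, -⟩ := @IsFibGrpd.exists_iso_of_lifts _ _ _ _ _ h𝒴 _ _ da _ _ _ (f.map ap) a h3 h1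
  obtain ⟨j, -, -⟩ := @IsFibGrpd.exists_iso_of_lifts _ _ _ _ _ h𝒴 _ _ db _ _ _ b (f.map bq) h2 h4
  obtain ⟨χ, -⟩ := f.toFunctor.map_surjective (X := p') (Y := q') (i.inv ≫ j.inv)
  exact Points.sound ⟨⟨r.K, r.str, p', IsHomLift.domain_eq 𝒳.p da ap⟩, ap, χ ≫ bq, trivial⟩

theorem points_map_bijective_of_isEquivOver (h𝒳 : _root_.FibCat.IsFibGrpd 𝒳.p)
    (f : 𝒳 ⥤ᵇ 𝒴) (hf : _root_.FibCat.IsEquivOver f) : Function.Bijective (Points.map f) := by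
  have := IsEquivOver.full hf
  refine ⟨points_map_injective_of_full h𝒳 ((isFibGrpd_iff_of_isEquivOver f hf).1 h𝒳) f, fun q => ?_⟩
  obtain ⟨q, rfl⟩ := Points.mk_surjective q
  obtain ⟨x, e, he⟩ := IsEquivOver.essSurj hf q.obj
  have hx : 𝒳.p.obj x = Over.mk q.str :=
    (f.w_obj x).symm.trans ((IsHomLift.domain_eq 𝒴.p (𝟙 (𝒴.p.obj q.obj)) e.hom).trans q.lies)
  exact ⟨Points.mk ⟨q.K, q.str, x, hx⟩, Points.sound (rel_of_hom e.hom)⟩

theorem points_map_comp {𝒲 : BasedCategory.{v₄, u₄} (Over S)} (f : 𝒳 ⥤ᵇ 𝒴) (g : 𝒴 ⥤ᵇ 𝒲) (x : Points 𝒳) :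
    Points.map (BasedFunctor.comp f g) x = Points.map g (Points.map f x) := by
  obtain ⟨x, rfl⟩ := Points.mk_surjective x
  rfl

section OfSp

variable {F G : AlgSp.Sp S}

/-- The field-valued point of a sheaf defined by a field-valued point of its category. -/
noncomputable def toFieldPt (p : FPt (ofSp F)) : AlgSp.FieldPt F :=
  ⟨p.K, p.str, F.obj.map (eqToHom p.lies.symm).op p.obj.sec⟩

/-- The field-valued point of the category of a sheaf defined by a field-valued point of the sheaf. -/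
noncomputable def ofFieldPt (q : AlgSp.FieldPt F) : FPt (ofSp F) :=
  { K := q.K, str := q.str, obj := ⟨q.pt, q.val⟩, lies := rfl }

theorem toFieldPt_rel {p q : FPt (ofSp F)} (h : FPt.Rel p q) : AlgSp.FieldPt.Rel (toFieldPt p) (toFieldPt q) := by
  obtain ⟨r, a, b, -⟩ := h
  refine ⟨r.K, r.field, r.str, fptBase a, fptBase b, ?_⟩
  have key : ∀ {s : FPt (ofSp F)} (c : r.obj ⟶ s.obj),
      F.obj.map (fptBase c).op (toFieldPt s).val = F.obj.map (eqToHom r.lies.symm).op r.obj.sec := fun {s} c => by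
    rw [← c.map_sec]
    refine (map_map_sec _ _ _ ?_ _).trans (map_map_sec _ _ _ rfl _).symm
    change (eqToHom _ ≫ c.hom ≫ eqToHom _) ≫ eqToHom _ = eqToHom _ ≫ c.hom
    simp
  exact (key a).trans (key b).symm

/-- The points of the category of a sheaf map to the points of the sheaf. -/
noncomputable def toSpPoints : Points (ofSp F) → AlgSp.Points F :=
  Quot.lift (fun p => AlgSp.Points.mk (toFieldPt p)) fun _ _ h => AlgSp.Points.sound (toFieldPt_rel h)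

theorem toSpPoints_bijective : Function.Bijective (toSpPoints (F := F)) := by
  refine ⟨fun p q h => ?_, fun x => ?_⟩
  · obtain ⟨p, rfl⟩ := Points.mk_surjective p
    obtain ⟨q, rfl⟩ := Points.mk_surjective q
    obtain ⟨Ω, hΩ, w, a, b, e⟩ := AlgSp.Points.mk_eq_mk_iff.1 h
    let o : Stk.EltObj F.obj := ⟨Over.mk w, F.obj.map a.op (toFieldPt p).val⟩
    let ca : o ⟶ p.obj := ⟨a ≫ eqToHom p.lies.symm, (map_map_sec _ _ _ rfl _).symm⟩
    let cb : o ⟶ q.obj := ⟨b ≫ eqToHom q.lies.symm, (map_map_sec _ _ _ rfl _).symm.trans e.symm⟩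
    exact Points.sound ⟨⟨Ω, w, o, rfl⟩, ca, cb, trivial⟩
  · induction x using AlgSp.Points.ind with
    | _ q =>
      refine ⟨Points.mk (ofFieldPt q), congrArg AlgSp.Points.mk ?_⟩
      change AlgSp.FieldPt.mk q.K q.str (F.obj.map (𝟙 (op q.pt)) q.val) = q
      simp
      rfl

theorem toSpPoints_map (a : F ⟶ G) (p : Points (ofSp F)) :
    toSpPoints (Points.map (ofSpMap a) p) = AlgSp.Points.map a (toSpPoints p) := by
  obtain ⟨p, rfl⟩ := Points.mk_surjective p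
  exact congrArg (fun v => AlgSp.Points.mk (AlgSp.FieldPt.mk p.K p.str v))
    (NatTrans.naturality_apply a.hom (eqToHom p.lies.symm).op p.obj.sec).symm

end OfSp

end GrothLib.AlgSt
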