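import Groth.Agent.Lib.AlgSt.DiagLFT
import Groth.Agent.Lib.AlgSt.Points
import Groth.Agent.Lib.AlgSt.DescPoints
import Mathlib.AlgebraicGeometry.AlgClosed.Basic

/-!
# Isomorphisms over algebraically closed fields and surjectivity of the diagonal
-/

set_option backward.isDefEq.respectTransparency false
set_option backward.isDefEq.respectTransparency.types false

universe u

open CategoryTheory CategoryTheory.Limits AlgebraicGeometry Opposite

namespace GrothLib.AlgSt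

open _root_.AlgSt GrothLib.FibCat

variable {S : Scheme.{u}}

/-- A nonempty space locally of finite type over an algebraically closed field has a rational point. -/
theorem exists_section_of_nonempty {k : Type u} [Field k] [IsAlgClosed k] {s : Spec (CommRingCat.of k) ⟶ S}
    {F : AlgSp.Sp S} (hF : AlgSp.IsAlgSpace F) (π : F ⟶ (AlgSp.yon S).obj (Over.mk s))
    (hπ : AlgSp.LocP @LocallyOfFiniteType π) (hne : Nonempty (AlgSp.Points F)) :
    ∃ σ : (AlgSp.yon S).obj (Over.mk s) ⟶ F, σ ≫ π = 𝟙 _ := by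
  obtain ⟨W, a, ha, has⟩ := hF.atlas
  obtain ⟨h, hh⟩ := (AlgSp.yon S).map_surjective (a ≫ π)
  have hl : LocallyOfFiniteType h.left := hπ a (𝟙 _) h ha (AlgSp.repWith_id _ _) (by rw [hh, Category.comp_id])
  obtain ⟨z⟩ := hne
  obtain ⟨w, -⟩ := GrothLib.AlgSp.surjective_ofPt_of_repWith has z
  have : JacobsonSpace (Over.mk s).left := inferInstanceAs (JacobsonSpace (Spec (CommRingCat.of k)))
  have : JacobsonSpace W.left := LocallyOfFiniteType.jacobsonSpace h.left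
  obtain ⟨x, -, hx⟩ := nonempty_inter_closedPoints (Z := (Set.univ : Set W.left)) ⟨w, trivial⟩ isOpen_univ.isLocallyClosed
  let l₀ := pointOfClosedPoint h.left x hx
  let l : Over.mk s ⟶ W := Over.homMk l₀ (by
    change l₀ ≫ W.hom = s
    rw [← Over.w h]
    exact pointOfClosedPoint_comp_assoc h.left x hx s)
  refine ⟨(AlgSp.yon S).map l ≫ a, ?_⟩
  rw [Category.assoc, ← hh, ← Functor.map_comp, ← (AlgSp.yon S).map_id]
  exact congrArg _ (Over.OverMorphism.ext (pointOfClosedPoint_comp h.left x hx))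

variable {𝒳 𝒴 : _root_.AlgSt.Cat S}

/-- An arrow over an algebraically closed field whose point lies in the image of the diagonal lifts. -/
theorem exists_lift_hom_of_mem_range (h𝒳 : IsAlgStack Scheme.fppfPrecoverage 𝒳)
    (h𝒴 : IsAlgStack Scheme.fppfPrecoverage 𝒴) (f : 𝒳 ⥤ᵇ 𝒴) {k : Type u} [Field k] [IsAlgClosed k]
    {s : Spec (CommRingCat.of k) ⟶ S} {o : (_root_.FibCat.fp f f).obj}
    (ho : (_root_.FibCat.fp f f).p.obj o = Over.mk s)
    (h : Points.mk ⟨k, s, o, ho⟩ ∈ Set.range (Points.map (_root_.FibCat.diag f))) :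
    ∃ α : o.obj.fst ⟶ o.obj.snd, 𝒳.p.IsHomLift (𝟙 (Over.mk s)) α ∧ f.map α = o.obj.iso.hom := by
  have hff := isAlgStack_fp h𝒴.isStack h𝒴.diag h𝒳 h𝒳 f f
  have gff := hff.isStack.1
  obtain ⟨y, j, hj⟩ := Yon.exists_functor gff o ho
  obtain ⟨F, e, he, hπ⟩ := repByAlgSpWith_lft_diag h𝒳 h𝒴 f (Over.mk s) y
  have hG := Fp.isFibGrpd (F := y) (G := _root_.FibCat.diag f) (isFibGrpd_overCat (Over.mk s)) h𝒳.isStack.1 gff
  obtain ⟨p, hp⟩ := h
  let q : Points (_root_.FibCat.overCat (Over.mk s)) := Points.mk ⟨k, s, Yon.idObj (Over.mk s), rfl⟩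
  obtain ⟨w, -, -⟩ := exists_points_fp h𝒳.isStack.1 (isFibGrpd_overCat (Over.mk s)) gff (_root_.FibCat.diag f) y q p
    (hp.trans (Points.sound (rel_of_hom (r := FPt.map y ⟨k, s, Yon.idObj (Over.mk s), rfl⟩)
      (p := ⟨k, s, o, ho⟩) j.hom)).symm).symm
  obtain ⟨w', -⟩ := (points_map_bijective_of_isEquivOver (isFibGrpd_ofSp F.obj) e he).2 w
  obtain ⟨σ, hσ⟩ := exists_section_of_nonempty F.property _ hπ ⟨toSpPoints w'⟩
  let sec := (AlgSp.J S).uliftYonedaEquiv.{u + 1} σ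
  let O := e.obj ⟨Over.mk s, sec⟩
  have hO : O.obj.fst.left = Over.mk s := e.w_obj _
  have hh : O.obj.fst.hom = eqToHom hO := by
    have h1 := congrArg (AlgSp.J S).uliftYonedaEquiv.{u + 1} hσ
    rw [GrothendieckTopology.uliftYonedaEquiv_comp] at h1
    have h2 : secHom (BasedFunctor.comp e (_root_.FibCat.fpFst y (_root_.FibCat.diag f))) ⟨Over.mk s, sec⟩ = 𝟙 _ :=
      congrArg ULift.down h1
    have h3 : eqToHom hO.symm ≫ O.obj.fst.hom = 𝟙 _ := h2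
    exact (eqToHom_comp_iff hO.symm _ _).1 h3 |>.trans (Category.comp_id _)
  let i : O.obj.fst ≅ Yon.idObj (Over.mk s) := Over.isoMk (eqToIso hO) (by
    change eqToHom hO ≫ 𝟙 _ = O.obj.fst.hom
    rw [Category.comp_id, hh])
  let Φ : o ≅ (_root_.FibCat.diag f).obj O.obj.snd := j.symm ≪≫ (y.toFunctor.mapIso i).symm ≪≫ O.obj.iso
  have hu : IsIso (Fp.isoFst Φ).hom := inferInstance
  let u := Fp.isoFst Φ
  let v := Fp.isoSnd Φ
  have hl : (_root_.FibCat.fp f f).p.IsHomLift (𝟙 (Over.mk s)) Φ.hom := by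
    have h1 : (_root_.FibCat.fp f f).p.IsHomLift (𝟙 (Over.mk s)) j.inv :=
      IsHomLift.lift_id_inv _ _ j
    have h0 : (_root_.FibCat.overCat (Over.mk s)).p.IsHomLift (𝟙 (Over.mk s)) i.hom :=
      IsHomLift.of_fac' _ _ _ hO rfl (by simp [i]; rfl)
    have h0' : (_root_.FibCat.overCat (Over.mk s)).p.IsHomLift (𝟙 (Over.mk s)) i.inv := IsHomLift.lift_id_inv _ _ i
    have h2 : (_root_.FibCat.fp f f).p.IsHomLift (𝟙 (Over.mk s)) (y.map i.inv) :=
      BasedFunctor.preserves_isHomLift y (𝟙 (Over.mk s)) i.inv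
    have h3 : (_root_.FibCat.fp f f).p.IsHomLift (𝟙 (Over.mk s)) O.obj.iso.hom := by
      exact @isHomLift_id_of_eq _ _ _ _ _ ((_root_.FibCat.overCat (Over.mk s)).p.obj O.obj.fst) _ _ _ O.obj.iso.hom
        (Fp.iso_lift O) (Or.inl ((y.w_obj _).trans hO))
    change (_root_.FibCat.fp f f).p.IsHomLift (𝟙 (Over.mk s)) (j.inv ≫ y.map i.inv ≫ O.obj.iso.hom)
    infer_instance
  have hl' : 𝒳.p.IsHomLift (𝟙 (Over.mk s)) u.hom := (Fp.isHomLift_iff Φ.hom _).1 hl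
  have hv' : 𝒳.p.IsHomLift (𝟙 (Over.mk s)) v.hom := Fp.isHomLift_snd Φ.hom _ hl
  have hv'' : 𝒳.p.IsHomLift (𝟙 (Over.mk s)) v.inv := IsHomLift.lift_id_inv _ _ v
  refine ⟨u.hom ≫ v.inv, inferInstance, ?_⟩
  have hw : f.map u.hom ≫ 𝟙 _ = o.obj.iso.hom ≫ f.map v.hom := Fp.w Φ.hom
  have hw' := congrArg (· ≫ f.map v.inv) ((Category.comp_id _).symm.trans hw)
  rw [← f.map_comp] at hw'
  refine hw'.trans ((Category.assoc _ _ _).trans ?_)
  rw [← f.map_comp, v.hom_inv_id, f.map_id, Category.comp_id]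

/-- Surjectivity of the diagonal on algebraically closed fields. -/
theorem isSurjective_diag_of_forall_lift (h𝒳 : _root_.FibCat.IsFibGrpd 𝒳.p) (h𝒴 : _root_.FibCat.IsFibGrpd 𝒴.p)
    (f : 𝒳 ⥤ᵇ 𝒴)
    (H : ∀ (k : Type u) [Field k] [IsAlgClosed k] (s : Spec (CommRingCat.of k) ⟶ S) (a₁ a₂ : 𝒳.obj)
        (_ : 𝒳.p.obj a₁ = Over.mk s) (_ : 𝒳.p.obj a₂ = Over.mk s) (β : f.obj a₁ ⟶ f.obj a₂),
        𝒴.p.IsHomLift (𝟙 (Over.mk s)) β →
          ∃ α : a₁ ⟶ a₂, 𝒳.p.IsHomLift (𝟙 (Over.mk s)) α ∧ f.map α = β) :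
    IsSurjective (_root_.FibCat.diag f) := fun q => by
  obtain ⟨⟨K, s₀, o, ho⟩, rfl⟩ := Points.mk_surjective q
  let k := AlgebraicClosure K
  let c₀ : Spec (CommRingCat.of k) ⟶ Spec (CommRingCat.of K) := Spec.map (CommRingCat.ofHom (algebraMap K k))
  let c : Over.mk (c₀ ≫ s₀) ⟶ Over.mk s₀ := Over.homMk c₀ rfl
  have gff := Fp.isFibGrpd (F := f) (G := f) h𝒳 h𝒳 h𝒴
  obtain ⟨o', φ, hφ⟩ := IsFibGrpd.exists_lift_of_eq gff ho c
  have ho' : (_root_.FibCat.fp f f).p.obj o' = Over.mk (c₀ ≫ s₀) := IsHomLift.domain_eq _ c φ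
  have hfst : 𝒳.p.obj o'.obj.fst = Over.mk (c₀ ≫ s₀) := ho'
  have hsnd : 𝒳.p.obj o'.obj.snd = Over.mk (c₀ ≫ s₀) :=
    have := Fp.iso_lift o'
    (f.w_obj _).symm.trans ((IsHomLift.codomain_eq 𝒴.p (𝟙 (𝒳.p.obj o'.obj.fst)) o'.obj.iso.hom).trans ho')
  obtain ⟨α, hα, hαβ⟩ := H k _ o'.obj.fst o'.obj.snd hfst hsnd o'.obj.iso.hom
    (@isHomLift_id_of_eq _ _ _ _ _ (𝒳.p.obj o'.obj.fst) _ _ _ o'.obj.iso.hom (Fp.iso_lift o')
      (Or.inl ((f.w_obj _).trans hfst)))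
  refine ⟨Points.mk ⟨k, _, o'.obj.fst, hfst⟩, ?_⟩
  let ψ : (_root_.FibCat.diag f).obj o'.obj.fst ⟶ o' := Fp.homMk (𝟙 o'.obj.fst) α (by
    change f.map (𝟙 o'.obj.fst) ≫ o'.obj.iso.hom = 𝟙 _ ≫ f.map α
    rw [f.map_id, Category.id_comp, Category.id_comp, hαβ])
  exact Points.sound ⟨(⟨k, _, o'.obj.fst, hfst⟩ : FPt 𝒳).map (_root_.FibCat.diag f), 𝟙 _, ψ ≫ φ, trivial⟩

end GrothLib.AlgSt
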