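import Groth.Agent.Lib.AlgSt.DiagLFT
import Groth.Agent.Lib.AlgSt.Topology
import Groth.Prelude.Def_AlgSt3

/-!
# Properties of morphisms of algebraic stacks read on smooth chart squares
-/

set_option backward.isDefEq.respectTransparency false
set_option backward.isDefEq.respectTransparency.types false

universe u

open CategoryTheory CategoryTheory.Limits AlgebraicGeometry Opposite

namespace GrothLib.AlgSt

open _root_.AlgSt GrothLib.FibCat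

variable {S : Scheme.{u}}

/-- Smooth and surjective representable functors. -/
def SmoothSurj {𝒳 𝒴 : _root_.AlgSt.Cat S} (f : 𝒳 ⥤ᵇ 𝒴) : Prop :=
  RepByAlgSpWith (AlgSp.LocP @Smooth) f ∧ RepByAlgSpWith AlgSp.IsSurjectiveMor f

section Spaces

variable {F G H : AlgSp.Sp S}

theorem locP_smooth_of_etale (hG : AlgSp.IsAlgSpace G) {a : F ⟶ G} (ha : AlgSp.RepWith @Etale a) :
    AlgSp.LocP @Smooth a :=
  GrothLib.AlgSp.EtLocal.locP_of_repWith GrothLib.AlgSp.EtLocal.smooth hG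
    (GrothLib.AlgSp.repWith_mono ha fun _ _ t h => by
      have : Etale t := h
      exact (inferInstance : Smooth t))

theorem locP_smooth_iso (hG : AlgSp.IsAlgSpace G) (a : F ⟶ G) [IsIso a] : AlgSp.LocP @Smooth a :=
  locP_smooth_of_etale hG (GrothLib.AlgSp.repWith_iso a)

theorem isSmoothLocalST_isoInvariant {P : MorphismProperty (AlgSp.Sp S)} (hP : AlgSp.IsSmoothLocalST P) :
    IsoInvariant P :=
  fun _ _ _ hF hG φ _ a ha => hP.precomp (hF.of_iso (asIso φ).symm) hF hG φ a (locP_smooth_iso hF φ) ha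

theorem compStable_locP_smooth : CompStable (AlgSp.LocP (S := S) @Smooth) :=
  ⟨isoInvariant_locP,
    fun _ _ _ hX hY hZ _ _ ha hb => GrothLib.AlgSp.EtLocal.locP_comp GrothLib.AlgSp.EtLocal.smooth hX hY hZ ha hb,
    detectedBySchemes_locP fun _ _ t (_ : Etale t) => inferInstance⟩

theorem repByAlgSpWith_smooth_ofSpMap (hF : AlgSp.IsAlgSpace F) (hG : AlgSp.IsAlgSpace G) {a : F ⟶ G}
    (ha : AlgSp.LocP @Smooth a) : RepByAlgSpWith (AlgSp.LocP @Smooth) (ofSpMap a) :=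
  repByAlgSpWith_ofSpMap hF hG a fun U c => GrothLib.AlgSp.EtLocal.locP_of_isPullback GrothLib.AlgSp.EtLocal.smooth
    hF hG (AlgSp.IsAlgSpace.yon_obj U) (IsPullback.of_hasPullback c a).flip ha

theorem repByAlgSpWith_surjective_ofSpMap (hF : AlgSp.IsAlgSpace F) (hG : AlgSp.IsAlgSpace G) {a : F ⟶ G}
    (ha : AlgSp.IsSurjectiveMor a) : RepByAlgSpWith AlgSp.IsSurjectiveMor (ofSpMap a) :=
  (isSurjective_iff_repByAlgSpWith (isFibGrpd_ofSp F) (isFibGrpd_ofSp G) _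
    (repByAlgSp1_of_repByAlgSp (repByAlgSp_ofSp hF) (repByAlgSp_ofSp hG) _)).1 fun z => by
      obtain ⟨x, hx⟩ := ha (toSpPoints z)
      obtain ⟨r, rfl⟩ := toSpPoints_bijective.2 x
      exact ⟨r, toSpPoints_bijective.1 ((toSpPoints_map a r).trans hx)⟩

theorem smoothSurj_ofSpMap (hF : AlgSp.IsAlgSpace F) (hG : AlgSp.IsAlgSpace G) {a : F ⟶ G}
    (ha : AlgSp.LocP @Smooth a) (ha' : AlgSp.IsSurjectiveMor a) : SmoothSurj (ofSpMap a) :=
  ⟨repByAlgSpWith_smooth_ofSpMap hF hG ha, repByAlgSpWith_surjective_ofSpMap hF hG ha'⟩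

theorem iso_ofSpMap_comp (a : F ⟶ G) (b : G ⟶ H) :
    Nonempty (BasedFunctor.comp (ofSpMap a) (ofSpMap b) ≅ ofSpMap (a ≫ b)) :=
  iso_of_spHom_eq (by rw [spHom_comp, spHom_ofSpMap, spHom_ofSpMap, spHom_ofSpMap])

theorem spMapOfOver_comp_overMap {U V : Over S} (Φ : ofSp F ⥤ᵇ _root_.FibCat.overCat U) (h : U ⟶ V) :
    spMapOfOver (BasedFunctor.comp Φ (_root_.AlgSt.overMap h)) = spMapOfOver Φ ≫ (AlgSp.yon S).map h := by
  refine (spMapOfOver_congr (whiskerRightIso (isoOfSpMapOfOver Φ) (_root_.AlgSt.overMap h))).trans ?_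
  refine (spMapOfOver_comp (ofSpMap (spMapOfOver Φ))
    (BasedFunctor.comp (toOverCat U) (_root_.AlgSt.overMap h))).trans ?_
  exact (congrArg (· ≫ _) (spHom_ofSpMap _)).trans (congrArg (_ ≫ ·) (spMapOfOver_overMap h))

theorem spMapOfOver_ofSpMap_comp (a : F ⟶ G) {U : Over S} (Φ : ofSp G ⥤ᵇ _root_.FibCat.overCat U) :
    spMapOfOver (BasedFunctor.comp (ofSpMap a) Φ) = a ≫ spMapOfOver Φ :=
  (spMapOfOver_comp (ofSpMap a) Φ).trans (congrArg (· ≫ _) (spHom_ofSpMap a))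

theorem spMapOfOver_id_toOverCat (U : Over S) :
    spMapOfOver (toOverCat U) = 𝟙 ((AlgSp.yon S).obj U) :=
  (spHom_congr (toOverCatCompIso U)).trans spHom_id

/-- Functors from a slice into the category of a sheaf. -/
theorem iso_overMap_ofOverCat {U V : Over S} (h : U ⟶ V) :
    Nonempty (BasedFunctor.comp (_root_.AlgSt.overMap h) (ofOverCat V) ≅
      BasedFunctor.comp (ofOverCat U) (ofSpMap ((AlgSp.yon S).map h))) := by
  obtain ⟨i⟩ := iso_of_spHom_eq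
    (Φ := BasedFunctor.comp (BasedFunctor.comp (toOverCat U) (_root_.AlgSt.overMap h)) (ofOverCat V))
    (Ψ := ofSpMap ((AlgSp.yon S).map h))
    ((spMapOfOver_overMap h).trans (spHom_ofSpMap _).symm)
  exact ⟨(whiskerRightIso (ofOverCatCompIso U)
    (BasedFunctor.comp (_root_.AlgSt.overMap h) (ofOverCat V))).symm ≪≫ whiskerLeftIso (ofOverCat U) i⟩

end Spaces

variable {𝒳 𝒴 𝒵 : _root_.AlgSt.Cat S} {P : MorphismProperty (AlgSp.Sp S)}

theorem repByAlgSpWith_equiv_comp (e : 𝒳 ⥤ᵇ 𝒴) (he : _root_.FibCat.IsEquivOver e) {f : 𝒴 ⥤ᵇ 𝒵}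
    (hf : RepByAlgSpWith P f) : RepByAlgSpWith P (BasedFunctor.comp e f) :=
  have := IsEquivOver.full (IsEquivOver.refl 𝒵)
  have := IsEquivOver.faithful (IsEquivOver.refl 𝒵)
  repByAlgSpWith_of_square (f := f) e (BasedFunctor.id 𝒵) he (Iso.refl _) hf

theorem repByAlgSpWith_comp_equiv (e : 𝒴 ⥤ᵇ 𝒵) (he : _root_.FibCat.IsEquivOver e) {f : 𝒳 ⥤ᵇ 𝒴}
    (hf : RepByAlgSpWith P f) : RepByAlgSpWith P (BasedFunctor.comp f e) :=
  (repByAlgSpWith_iff_of_square (f := BasedFunctor.comp f e) (f' := f) (BasedFunctor.id 𝒳) e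
    (IsEquivOver.refl 𝒳) he (Iso.refl _)).2 hf

theorem SmoothSurj.comp (h𝒳 : _root_.FibCat.IsFibGrpd 𝒳.p) (h𝒴 : _root_.FibCat.IsFibGrpd 𝒴.p)
    {f : 𝒳 ⥤ᵇ 𝒴} {g : 𝒴 ⥤ᵇ 𝒵} (hf : SmoothSurj f) (hg : SmoothSurj g) : SmoothSurj (BasedFunctor.comp f g) :=
  ⟨repByAlgSpWith_smooth_comp h𝒳 h𝒴 f g hf.1 hg.1, repByAlgSpWith_surjective_comp h𝒳 h𝒴 f g hf.2 hg.2⟩

theorem SmoothSurj.equiv_comp (e : 𝒳 ⥤ᵇ 𝒴) (he : _root_.FibCat.IsEquivOver e) {f : 𝒴 ⥤ᵇ 𝒵}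
    (hf : SmoothSurj f) : SmoothSurj (BasedFunctor.comp e f) :=
  ⟨repByAlgSpWith_equiv_comp e he hf.1, repByAlgSpWith_equiv_comp e he hf.2⟩

theorem SmoothSurj.comp_equiv (e : 𝒴 ⥤ᵇ 𝒵) (he : _root_.FibCat.IsEquivOver e) {f : 𝒳 ⥤ᵇ 𝒴}
    (hf : SmoothSurj f) : SmoothSurj (BasedFunctor.comp f e) :=
  ⟨repByAlgSpWith_comp_equiv e he hf.1, repByAlgSpWith_comp_equiv e he hf.2⟩

theorem SmoothSurj.of_iso {f f' : 𝒳 ⥤ᵇ 𝒴} (α : f ≅ f') (hf : SmoothSurj f) : SmoothSurj f' :=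
  ⟨repByAlgSpWith_of_iso α hf.1, repByAlgSpWith_of_iso α hf.2⟩

theorem SmoothSurj.isEquivOver (e : 𝒳 ⥤ᵇ 𝒴) (he : _root_.FibCat.IsEquivOver e) : SmoothSurj e :=
  (show SmoothSurj (BasedFunctor.id 𝒴) from
    ⟨repByAlgSpWith_id locP_smooth_id 𝒴, repByAlgSpWith_id (fun _ => isSurjectiveMor_id _) 𝒴⟩).equiv_comp e he

/-- The map `(a, id) : 𝒜 ×_𝒵 𝒴 ⟶ 𝒳 ×_𝒵 𝒴` is a base change of `a`. -/
def leftMap {𝒜 : _root_.AlgSt.Cat S} (a : 𝒜 ⥤ᵇ 𝒳) (F : 𝒳 ⥤ᵇ 𝒵) (G : 𝒴 ⥤ᵇ 𝒵) :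
    _root_.FibCat.fp (BasedFunctor.comp a F) G ⥤ᵇ _root_.FibCat.fp F G :=
  Fp.map a (BasedFunctor.id 𝒴) (BasedFunctor.id 𝒵) (Iso.refl _) (Iso.refl _)

/-- The map `(id, a) : 𝒳 ×_𝒵 𝒜 ⟶ 𝒳 ×_𝒵 𝒴` is a base change of `a`. -/
def rightMap {𝒜 : _root_.AlgSt.Cat S} (a : 𝒜 ⥤ᵇ 𝒴) (F : 𝒳 ⥤ᵇ 𝒵) (G : 𝒴 ⥤ᵇ 𝒵) :
    _root_.FibCat.fp F (BasedFunctor.comp a G) ⥤ᵇ _root_.FibCat.fp F G :=
  Fp.map (BasedFunctor.id 𝒳) a (BasedFunctor.id 𝒵) (Iso.refl _) (Iso.refl _)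

section Maps

variable {𝒜 : _root_.AlgSt.Cat S}

theorem map_refl_iso {F' : 𝒳 ⥤ᵇ 𝒵} {G' : 𝒴 ⥤ᵇ 𝒵} {ℬ : _root_.AlgSt.Cat S} (a : 𝒜 ⥤ᵇ 𝒳) (b : ℬ ⥤ᵇ 𝒴)
    (x : (_root_.FibCat.fp (BasedFunctor.comp a F') (BasedFunctor.comp b G')).obj) :
    ((Fp.map a b (BasedFunctor.id 𝒵) (F' := F') (G' := G') (Iso.refl _) (Iso.refl _)).obj x).obj.iso.hom =
      x.obj.iso.hom := by
  change 𝟙 _ ≫ x.obj.iso.hom ≫ 𝟙 _ = _
  rw [Category.comp_id]
  exact Category.id_comp _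

theorem repByAlgSpWith_rightMap {a : 𝒜 ⥤ᵇ 𝒴} (ha : RepByAlgSpWith P a) (F : 𝒳 ⥤ᵇ 𝒵) (G : 𝒴 ⥤ᵇ 𝒵) :
    RepByAlgSpWith P (rightMap a F G) := by
  let π := _root_.FibCat.fpFst (_root_.FibCat.fpSnd F G) a
  let j : BasedFunctor.comp π (BasedFunctor.id _) ≅ BasedFunctor.comp (Fp.pasteComp a G F) (rightMap a F G) :=
    natIsoOfComponents
      (fun x => Fp.isoMk (a := x.obj.fst) (b := (rightMap a F G).obj ((Fp.pasteComp a G F).obj x))
        (Iso.refl _) x.obj.iso (by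
          erw [map_refl_iso (F' := F) (G' := G) (BasedFunctor.id 𝒳) a ((Fp.pasteComp a G F).obj x)]
          change F.map (𝟙 _) ≫ (x.obj.fst.obj.iso.hom ≫ G.map x.obj.iso.hom) = x.obj.fst.obj.iso.hom ≫ G.map x.obj.iso.hom
          rw [F.map_id]
          exact Category.id_comp _))
      (fun x => (Fp.isHomLift_iff _ _).2 (IsHomLift.id rfl))
      (fun {x y} φ => Fp.hom_ext ((Category.comp_id _).trans (Category.id_comp _).symm) (Fp.w φ))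
  exact (repByAlgSpWith_iff_of_square (f := rightMap a F G) (f' := π) (Fp.pasteComp a G F) (BasedFunctor.id _)
    (Fp.isEquivOver_pasteComp a G F) (IsEquivOver.refl _) j).2 (repByAlgSpWith_fpFst _ ha)

theorem repByAlgSpWith_leftMap {a : 𝒜 ⥤ᵇ 𝒳} (ha : RepByAlgSpWith P a) (F : 𝒳 ⥤ᵇ 𝒵) (G : 𝒴 ⥤ᵇ 𝒵) :
    RepByAlgSpWith P (leftMap a F G) := by
  let π := _root_.FibCat.fpSnd a (_root_.FibCat.fpFst F G)
  let j : BasedFunctor.comp π (BasedFunctor.id _) ≅ BasedFunctor.comp (Fp.paste G F a) (leftMap a F G) :=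
    natIsoOfComponents
      (fun x => Fp.isoMk (a := x.obj.snd) (b := (leftMap a F G).obj ((Fp.paste G F a).obj x))
        x.obj.iso.symm (Iso.refl _) (by
          let ix : a.obj x.obj.fst ≅ x.obj.snd.obj.fst := x.obj.iso
          erw [map_refl_iso (F' := F) (G' := G) a (BasedFunctor.id 𝒴) ((Fp.paste G F a).obj x)]
          change F.map ix.inv ≫ (F.map ix.hom ≫ x.obj.snd.obj.iso.hom) = x.obj.snd.obj.iso.hom ≫ G.map (𝟙 _)
          rw [G.map_id, ← Category.assoc, ← F.map_comp, ix.inv_hom_id, F.map_id]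
          exact (Category.id_comp _).trans (Category.comp_id _).symm))
      (fun x => (Fp.isHomLift_iff _ _).2 (by
        have := Fp.iso_lift x
        exact isHomLift_id_inv _ (R := 𝒜.p.obj x.obj.fst) x.obj.iso))
      (fun {x y} φ => Fp.hom_ext (by
          let ix : a.obj x.obj.fst ≅ x.obj.snd.obj.fst := x.obj.iso
          let iy : a.obj y.obj.fst ≅ y.obj.snd.obj.fst := y.obj.iso
          have hw : a.map φ.hom.fst ≫ iy.hom = ix.hom ≫ φ.hom.snd.hom.fst := Fp.w φ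
          change φ.hom.snd.hom.fst ≫ iy.inv = ix.inv ≫ a.map φ.hom.fst
          rw [Iso.comp_inv_eq, Category.assoc, hw, Iso.inv_hom_id_assoc])
        ((Category.comp_id _).trans (Category.id_comp _).symm))
  exact (repByAlgSpWith_iff_of_square (f := leftMap a F G) (f' := π) (Fp.paste G F a) (BasedFunctor.id _)
    (Fp.isEquivOver_paste G F a) (IsEquivOver.refl _) j).2 (repByAlgSpWith_fpSnd _ ha)

theorem SmoothSurj.rightMap {a : 𝒜 ⥤ᵇ 𝒴} (ha : SmoothSurj a) (F : 𝒳 ⥤ᵇ 𝒵) (G : 𝒴 ⥤ᵇ 𝒵) :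
    SmoothSurj (GrothLib.AlgSt.rightMap a F G) :=
  ⟨repByAlgSpWith_rightMap ha.1 F G, repByAlgSpWith_rightMap ha.2 F G⟩

theorem SmoothSurj.leftMap {a : 𝒜 ⥤ᵇ 𝒳} (ha : SmoothSurj a) (F : 𝒳 ⥤ᵇ 𝒵) (G : 𝒴 ⥤ᵇ 𝒵) :
    SmoothSurj (GrothLib.AlgSt.leftMap a F G) :=
  ⟨repByAlgSpWith_leftMap ha.1 F G, repByAlgSpWith_leftMap ha.2 F G⟩

/-- A functor into a fibre product as a lift of its components. -/
def isoFpLift {F : 𝒳 ⥤ᵇ 𝒵} {G : 𝒴 ⥤ᵇ 𝒵} (l : 𝒜 ⥤ᵇ _root_.FibCat.fp F G) {k : 𝒜 ⥤ᵇ 𝒴}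
    (β : BasedFunctor.comp l (_root_.FibCat.fpSnd F G) ≅ k) :
    l ≅ _root_.FibCat.fpLift (BasedFunctor.comp l (_root_.FibCat.fpFst F G)) k
      (whiskerLeftIso l (_root_.FibCat.fpIso F G) ≪≫ whiskerRightIso β G) :=
  natIsoOfComponents
    (fun x => Fp.isoMk (a := l.obj x)
      (b := (_root_.FibCat.fpLift (BasedFunctor.comp l (_root_.FibCat.fpFst F G)) k
        (whiskerLeftIso l (_root_.FibCat.fpIso F G) ≪≫ whiskerRightIso β G)).obj x)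
      (Iso.refl _) (((BasedNatTrans.forgetful _ _).mapIso β).app x) (by
        change F.map (𝟙 _) ≫ ((l.obj x).obj.iso.hom ≫ G.map (β.hom.app x)) =
          (l.obj x).obj.iso.hom ≫ G.map (β.hom.app x)
        rw [F.map_id]
        exact Category.id_comp _))
    (fun x => (Fp.isHomLift_iff _ _).2 (IsHomLift.id (l.w_obj x)))
    (fun {x y} φ => Fp.hom_ext ((Category.comp_id _).trans (Category.id_comp _).symm)
      (β.hom.toNatTrans.naturality φ))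

end Maps

/-- A square of charts from algebraic spaces gives a square of charts from schemes. -/
theorem locQ_of_spaceSquare (hP : AlgSp.IsSmoothLocalST P) {f : 𝒳 ⥤ᵇ 𝒴} {U V : AlgSp.Sp S}
    (hU : AlgSp.IsAlgSpace U) (hV : AlgSp.IsAlgSpace V) {x : ofSp U ⥤ᵇ 𝒳} {y : ofSp V ⥤ᵇ 𝒴} (h : U ⟶ V)
    (α : BasedFunctor.comp x f ≅ BasedFunctor.comp (ofSpMap h) y) (hx : SmoothSurj x)
    (hy : RepByAlgSpWith (AlgSp.LocP @Smooth) y) (hh : P h) : LocQ P f := by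
  obtain ⟨V₀, q, qe, qs⟩ := hV.atlas
  have hU₁ := GrothLib.AlgSp.isAlgSpace_pullback' hV hU (AlgSp.IsAlgSpace.yon_obj V₀) h q
  have sq := IsPullback.of_hasPullback h q
  obtain ⟨U₀, r, re, rs⟩ := hU₁.atlas
  obtain ⟨h₀, e₀⟩ := (AlgSp.yon S).map_surjective (r ≫ pullback.snd h q)
  have ce := GrothLib.AlgSp.repWith_comp re (GrothLib.AlgSp.repWith_of_isPullback sq.flip qe)
  have cs := GrothLib.AlgSp.repWith_comp rs (GrothLib.AlgSp.repWith_of_isPullback sq.flip qs)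
  have hh₀ : P ((AlgSp.yon S).map h₀) := e₀ ▸ hP.precomp (AlgSp.IsAlgSpace.yon_obj U₀) hU₁
    (AlgSp.IsAlgSpace.yon_obj V₀) r (pullback.snd h q) (locP_smooth_of_etale hU₁ re)
    (hP.baseChange hU hV hU₁ (AlgSp.IsAlgSpace.yon_obj V₀) h q (pullback.snd h q) (pullback.fst h q) sq
      (locP_smooth_of_etale hV qe) hh)
  have hc : SmoothSurj (BasedFunctor.comp (ofSpMap (r ≫ pullback.fst h q)) x) :=
    (smoothSurj_ofSpMap (AlgSp.IsAlgSpace.yon_obj U₀) hU (locP_smooth_of_etale hU ce)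
      (GrothLib.AlgSp.surjective_map_of_repWith cs)).comp (isFibGrpd_ofSp _) (isFibGrpd_ofSp _) hx
  have hd : RepByAlgSpWith (AlgSp.LocP @Smooth) (BasedFunctor.comp (ofSpMap q) y) :=
    repByAlgSpWith_smooth_comp (isFibGrpd_ofSp _) (isFibGrpd_ofSp _) _ _
      (repByAlgSpWith_smooth_ofSpMap (AlgSp.IsAlgSpace.yon_obj V₀) hV (locP_smooth_of_etale hV qe)) hy
  have hw : (r ≫ pullback.fst h q) ≫ h = (AlgSp.yon S).map h₀ ≫ q := by
    rw [e₀, Category.assoc, Category.assoc, pullback.condition]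
  obtain ⟨i₁⟩ := iso_ofSpMap_comp (r ≫ pullback.fst h q) h
  obtain ⟨i₂⟩ := iso_ofSpMap_comp ((AlgSp.yon S).map h₀) q
  obtain ⟨i₃⟩ := iso_overMap_ofOverCat h₀
  let β : BasedFunctor.comp (ofSpMap (r ≫ pullback.fst h q)) (ofSpMap h) ≅
      BasedFunctor.comp (ofSpMap ((AlgSp.yon S).map h₀)) (ofSpMap q) :=
    i₁ ≪≫ eqToIso (congrArg ofSpMap hw) ≪≫ i₂.symm
  exact ⟨U₀, V₀, BasedFunctor.comp (ofOverCat U₀) (BasedFunctor.comp (ofSpMap (r ≫ pullback.fst h q)) x),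
    BasedFunctor.comp (ofOverCat V₀) (BasedFunctor.comp (ofSpMap q) y), h₀,
    whiskerLeftIso (BasedFunctor.comp (ofOverCat U₀) (ofSpMap (r ≫ pullback.fst h q))) α ≪≫
      whiskerRightIso (whiskerLeftIso (ofOverCat U₀) β) y ≪≫
      whiskerRightIso i₃.symm (BasedFunctor.comp (ofSpMap q) y),
    repByAlgSpWith_equiv_comp _ (isEquivOver_ofOverCat U₀) hc.1,
    repByAlgSpWith_equiv_comp _ (isEquivOver_ofOverCat U₀) hc.2,
    repByAlgSpWith_equiv_comp _ (isEquivOver_ofOverCat V₀) hd, hh₀⟩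

/-- Base change of a chart square along a smooth chart `Q` of a fibre product. -/
theorem exists_chart_baseChange (h𝒴 : _root_.FibCat.IsFibGrpd 𝒴.p) (h𝒵 : _root_.FibCat.IsFibGrpd 𝒵.p)
    (h𝒳 : _root_.FibCat.IsFibGrpd 𝒳.p) (f : 𝒳 ⥤ᵇ 𝒴) (g : 𝒵 ⥤ᵇ 𝒴) {U₀ V₀ : Over S}
    (x₀ : _root_.FibCat.overCat U₀ ⥤ᵇ 𝒳) (y₀ : _root_.FibCat.overCat V₀ ⥤ᵇ 𝒴) (h₀ : U₀ ⟶ V₀)
    (α₀ : BasedFunctor.comp x₀ f ≅ BasedFunctor.comp (_root_.AlgSt.overMap h₀) y₀) (hx₀ : SmoothSurj x₀)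
    {G : AlgSp.Sp S} (Q : ofSp G ⥤ᵇ _root_.FibCat.fp g y₀) (hQ : SmoothSurj Q) :
    ∃ x₁ : ofSp (pullback (spMapOfOver (BasedFunctor.comp Q (_root_.FibCat.fpSnd g y₀))) ((AlgSp.yon S).map h₀)) ⥤ᵇ
        _root_.FibCat.fp g f,
      SmoothSurj x₁ ∧ Nonempty (BasedFunctor.comp x₁ (_root_.FibCat.fpFst g f) ≅
        BasedFunctor.comp (ofSpMap (pullback.fst (spMapOfOver (BasedFunctor.comp Q (_root_.FibCat.fpSnd g y₀)))
          ((AlgSp.yon S).map h₀))) (BasedFunctor.comp Q (_root_.FibCat.fpFst g y₀))) := by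
  let b := spMapOfOver (BasedFunctor.comp Q (_root_.FibCat.fpSnd g y₀))
  let hm := (AlgSp.yon S).map h₀
  let iF : BasedFunctor.comp (BasedFunctor.id (ofSp G)) (BasedFunctor.comp Q (_root_.FibCat.fpSnd g y₀)) ≅
      BasedFunctor.comp (ofSpMap b) (toOverCat V₀) :=
    isoOfSpMapOfOver (BasedFunctor.comp Q (_root_.FibCat.fpSnd g y₀))
  obtain ⟨iG⟩ := iso_of_spMapOfOver_eq
    (Φ := BasedFunctor.comp (toOverCat U₀) (_root_.AlgSt.overMap h₀))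
    (Ψ := BasedFunctor.comp (ofSpMap hm) (toOverCat V₀))
    ((spMapOfOver_overMap h₀).trans (spMapOfOver_toOverCat _).symm)
  let sq := IsPullback.of_hasPullback b hm
  have := IsEquivOver.full (isEquivOver_toOverCat V₀)
  have := IsEquivOver.faithful (isEquivOver_toOverCat V₀)
  let M := Fp.map (F := ofSpMap b) (G := ofSpMap hm) (BasedFunctor.id (ofSp G)) (toOverCat U₀) (toOverCat V₀) iF iG
  let A := BasedFunctor.comp (spToFp sq.w) M
  have hA : _root_.FibCat.IsEquivOver A := IsEquivOver.comp (isEquivOver_spToFp sq)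
    (Fp.isEquivOver_map _ _ _ _ _ (IsEquivOver.refl _) (isEquivOver_toOverCat U₀))
  let Qm := GrothLib.AlgSt.leftMap Q (_root_.FibCat.fpSnd g y₀) (_root_.AlgSt.overMap h₀)
  let B := BasedFunctor.comp (Fp.pasteComp (_root_.AlgSt.overMap h₀) y₀ g) (Fp.congr (Iso.refl g) α₀.symm)
  have hB : _root_.FibCat.IsEquivOver B :=
    IsEquivOver.comp (Fp.isEquivOver_pasteComp _ _ _) (Fp.isEquivOver_congr _ _)
  let R := GrothLib.AlgSt.rightMap x₀ g f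
  refine ⟨BasedFunctor.comp (BasedFunctor.comp (BasedFunctor.comp A Qm) B) R, ?_, ⟨Iso.refl _⟩⟩
  exact (((hQ.leftMap _ _).equiv_comp A hA).comp_equiv B hB).comp (isFibGrpd_ofSp _)
    (Fp.isFibGrpd h𝒵 (isFibGrpd_overCat U₀) h𝒴) (hx₀.rightMap g f)

section Algebraic

/-- The chart condition implies the property on every square whose map to the fibre product is smooth. -/
theorem mem_of_locQ (hP : AlgSp.IsSmoothLocalST P) {f : 𝒳 ⥤ᵇ 𝒴} (hq : LocQ P f)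
    (h𝒳 : IsAlgStack Scheme.fppfPrecoverage 𝒳) (h𝒴 : IsAlgStack Scheme.fppfPrecoverage 𝒴) {U V : Over S}
    (y : _root_.FibCat.overCat V ⥤ᵇ 𝒴) (hy : RepByAlgSpWith (AlgSp.LocP @Smooth) y)
    (l : _root_.FibCat.overCat U ⥤ᵇ _root_.FibCat.fp f y) (hl : RepByAlgSpWith (AlgSp.LocP @Smooth) l) (h : U ⟶ V)
    (β : BasedFunctor.comp l (_root_.FibCat.fpSnd f y) ≅ _root_.AlgSt.overMap h) :
    P ((AlgSp.yon S).map h) := by
  obtain ⟨U₀, V₀, x₀, y₀, h₀, α₀, hx₀, hx₀', hy₀, hh₀⟩ := hq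
  obtain ⟨G, e, he⟩ := repByAlgSp1_of_repByAlgSpWith hy₀ V y
  let bV := spMapOfOver (BasedFunctor.comp e (_root_.FibCat.fpFst y y₀))
  let d := spMapOfOver (BasedFunctor.comp e (_root_.FibCat.fpSnd y y₀))
  have hbV : AlgSp.LocP @Smooth bV := HasRep.mem (hy₀ V y) isoInvariant_locP G e he
  have hd : AlgSp.LocP @Smooth d := HasRep.mem (hy V₀ y₀) isoInvariant_locP G (BasedFunctor.comp e (Fp.symm y y₀))
    (IsEquivOver.comp he (Fp.isEquivOver_symm y y₀))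
  obtain ⟨x₁, hx₁, ⟨j₁⟩⟩ := exists_chart_baseChange h𝒴.isStack.1 (isFibGrpd_overCat V) h𝒳.isStack.1 f y x₀ y₀ h₀
    α₀ ⟨hx₀, hx₀'⟩ e (SmoothSurj.isEquivOver e he)
  let hm := (AlgSp.yon S).map h₀
  have hT := GrothLib.AlgSp.isAlgSpace_pullback' (AlgSp.IsAlgSpace.yon_obj V₀) G.property
    (AlgSp.IsAlgSpace.yon_obj U₀) d hm
  let t₁ := pullback.fst d hm
  have ht₁ : P t₁ := hP.baseChange (AlgSp.IsAlgSpace.yon_obj U₀) (AlgSp.IsAlgSpace.yon_obj V₀) hT G.property hm d t₁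
    (pullback.snd d hm) (IsPullback.of_hasPullback d hm).flip hd hh₀
  let T : AlgSp.Space S := ⟨_, hT⟩
  let M' := BasedFunctor.comp x₁ (Fp.symm y f)
  have hM' : SmoothSurj M' := hx₁.comp_equiv _ (Fp.isEquivOver_symm y f)
  obtain ⟨F, eF, heF, hsm, hsu⟩ := repByAlgSpWith_inf isoInvariant_locP hM'.1 hM'.2 U l
  let a := spMapOfOver (BasedFunctor.comp eF (_root_.FibCat.fpFst l M'))
  let Φ := BasedFunctor.comp eF (_root_.FibCat.fpSnd l M')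
  let k : F.obj ⟶ T.obj := spHom Φ
  have hk : AlgSp.LocP @Smooth k :=
    mem_of_repByAlgSpWith (f := l) compStable_locP_smooth.detected
      isoInvariant_locP hl M' T (BasedFunctor.id _) (IsEquivOver.refl _) F (BasedFunctor.comp eF (Fp.symm l M'))
      (IsEquivOver.comp heF (Fp.isEquivOver_symm l M')) k (isoOfSpHom Φ)
  have hPk : P (k ≫ t₁) := hP.precomp F.property hT G.property k t₁ hk ht₁
  have h1 : spMapOfOver (BasedFunctor.comp M' (_root_.FibCat.fpSnd f y)) = t₁ ≫ bV :=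
    (spMapOfOver_congr j₁).trans (spMapOfOver_ofSpMap_comp _ _)
  have key : a ≫ (AlgSp.yon S).map h = (k ≫ t₁) ≫ bV := by
    have e1 : spMapOfOver (BasedFunctor.comp (BasedFunctor.comp eF (_root_.FibCat.fpFst l M'))
        (_root_.AlgSt.overMap h)) = spMapOfOver (BasedFunctor.comp Φ (BasedFunctor.comp M' (_root_.FibCat.fpSnd f y))) :=
      spMapOfOver_congr (whiskerLeftIso (BasedFunctor.comp eF (_root_.FibCat.fpFst l M')) β.symm ≪≫
        whiskerRightIso (whiskerLeftIso eF (_root_.FibCat.fpIso l M')) (_root_.FibCat.fpSnd f y))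
    rw [spMapOfOver_comp_overMap] at e1
    refine e1.trans ?_
    rw [spMapOfOver_comp, h1, Category.assoc]
  refine (hP.locality (AlgSp.IsAlgSpace.yon_obj U) (AlgSp.IsAlgSpace.yon_obj V) _).2 fun u => ?_
  obtain ⟨v, hv⟩ := hsu u
  exact ⟨F.obj, G.obj, a, bV, k ≫ t₁, v, F.property, G.property, hsm, hbV, key, hv, hPk⟩

/-- A square with smooth comparison map to the fibre product can be read off any smooth atlas of it. -/
theorem locQ_of_forall (h𝒳 : IsAlgStack Scheme.fppfPrecoverage 𝒳) (h𝒴 : IsAlgStack Scheme.fppfPrecoverage 𝒴)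
    (f : 𝒳 ⥤ᵇ 𝒴)
    (hall : ∀ (U V : Over S) (x : _root_.FibCat.overCat U ⥤ᵇ 𝒳) (y : _root_.FibCat.overCat V ⥤ᵇ 𝒴) (h : U ⟶ V)
        (α : BasedFunctor.comp x f ≅ BasedFunctor.comp (_root_.AlgSt.overMap h) y),
        RepByAlgSpWith (AlgSp.LocP @Smooth) x → RepByAlgSpWith (AlgSp.LocP @Smooth) y →
        RepByAlgSpWith (AlgSp.LocP @Smooth) (_root_.FibCat.fpLift x (_root_.AlgSt.overMap h) α) →
          P ((AlgSp.yon S).map h)) : LocQ P f := by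
  obtain ⟨V, y, hy, hys⟩ := h𝒴.atlas
  have hV := (isDM_of_repByAlgSp (repByAlgSp_overCat V)).1
  obtain ⟨U, l, hl, hls⟩ := (isAlgStack_fp h𝒴.isStack h𝒴.diag h𝒳 hV f y).atlas
  let k := BasedFunctor.comp l (_root_.FibCat.fpSnd f y)
  let β := isoOverMap k
  let x := BasedFunctor.comp l (_root_.FibCat.fpFst f y)
  have gU := isFibGrpd_overCat U
  have gP := Fp.isFibGrpd (F := f) (G := y) h𝒳.isStack.1 (isFibGrpd_overCat V) h𝒴.isStack.1
  have hx : RepByAlgSpWith (AlgSp.LocP @Smooth) x :=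
    repByAlgSpWith_smooth_comp gU gP l _ hl (repByAlgSpWith_fpFst f hy)
  let α : BasedFunctor.comp x f ≅ BasedFunctor.comp (_root_.AlgSt.overMap (sliceHom k)) y :=
    whiskerLeftIso l (_root_.FibCat.fpIso f y) ≪≫ whiskerRightIso β y
  exact ⟨U, V, x, y, sliceHom k, α, hx,
    repByAlgSpWith_surjective_comp gU gP l _ hls (repByAlgSpWith_fpFst f hys), hy,
    hall U V x y (sliceHom k) α hx hy (repByAlgSpWith_of_iso (isoFpLift l β) hl)⟩

end Algebraic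

end GrothLib.AlgSt
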