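import Groth.Agent.Lib.AlgSt.RelationAny
import Groth.Agent.Lib.AlgSt.UnivClosedDVR.LocQAny
import Groth.Agent.Lib.AlgSt.UnivClosedDVR.BaseChange
import Groth.Agent.Lib.AlgSt.LocQChart
import Groth.Agent.Lib.AlgSp.SmoothLocalLocP
import Groth.Agent.Lib.AlgSt.Gerbe.Props
import Groth.Agent.Lib.DVRDom.Scheme
import Groth.Agent.Lib.GrpdQuot.InvariantOpen
import Mathlib.RingTheory.PowerSeries.Inverse

/-!
# Realising specializations of points of stacks by discrete valuation rings
-/

set_option backward.isDefEq.respectTransparency false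
set_option backward.isDefEq.respectTransparency.types false

universe u

open CategoryTheory CategoryTheory.Limits AlgebraicGeometry Opposite IsLocalRing

namespace GrothLib.AlgSt.DVRSpecialization

open _root_.AlgSt GrothLib.FibCat GrothLib.AlgSt.UnivClosedDVR

variable {S : Scheme.{u}} {𝒳 𝒴 : _root_.AlgSt.Cat S}

/-- A diagram over a discrete valuation ring realising `x` and `y`. -/
def Realizes (f : 𝒳 ⥤ᵇ 𝒴) (x : Points 𝒳) (y : Points 𝒴) : Prop :=
  ∃ (R : Type u) (_ : CommRing R) (_ : IsDomain R) (_ : IsDiscreteValuationRing R)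
    (sR : Spec (CommRingCat.of R) ⟶ S)
    (a : _root_.FibCat.overCat (Over.mk (Spec.map (CommRingCat.ofHom (algebraMap R (FractionRing R))) ≫ sR)) ⥤ᵇ 𝒳)
    (b : _root_.FibCat.overCat (Over.mk sR) ⥤ᵇ 𝒴),
    Nonempty (BasedFunctor.comp a f ≅
      BasedFunctor.comp (_root_.AlgSt.overMap (Over.homMk (Spec.map (CommRingCat.ofHom (algebraMap R (FractionRing R)))) rfl :
        Over.mk (Spec.map (CommRingCat.ofHom (algebraMap R (FractionRing R))) ≫ sR) ⟶ Over.mk sR)) b) ∧
    (∀ p, Points.ofChart a p = x) ∧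
    Points.ofChart b (closedPoint R) = y

/-- A square of a discrete valuation ring over a chart gives a diagram on points. -/
theorem realizes_of_square (f : 𝒳 ⥤ᵇ 𝒴) {U V : Over S} (yV : _root_.FibCat.overCat V ⥤ᵇ 𝒴)
    (uU : _root_.FibCat.overCat U ⥤ᵇ _root_.FibCat.fp yV f) {h : U ⟶ V}
    (α : BasedFunctor.comp uU (_root_.FibCat.fpFst yV f) ≅ _root_.AlgSt.overMap h)
    (R : Type u) [CommRing R] [IsDomain R] [IsDiscreteValuationRing R] (hA : Spec (CommRingCat.of R) ⟶ V.left)
    (θ : Spec (CommRingCat.of (FractionRing R)) ⟶ U.left)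
    (hθ : θ ≫ h.left = Spec.map (CommRingCat.ofHom (algebraMap R (FractionRing R))) ≫ hA) :
    Realizes f (Points.map (_root_.FibCat.fpSnd yV f) (Points.ofChart uU (θ (closedPoint (FractionRing R)))))
      (Points.ofChart yV (hA (closedPoint R))) := by
  let sR : Spec (CommRingCat.of R) ⟶ S := hA ≫ V.hom
  let ι : Over.mk (Spec.map (CommRingCat.ofHom (algebraMap R (FractionRing R))) ≫ sR) ⟶ Over.mk sR :=
    Over.homMk (Spec.map (CommRingCat.ofHom (algebraMap R (FractionRing R)))) rfl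
  let gh : Over.mk sR ⟶ V := Over.homMk hA rfl
  let gκ : Over.mk (Spec.map (CommRingCat.ofHom (algebraMap R (FractionRing R))) ≫ sR) ⟶ U :=
    Over.homMk θ (by
      change θ ≫ U.hom = Spec.map _ ≫ hA ≫ V.hom
      rw [← Over.w h, ← Category.assoc, hθ, Category.assoc])
  have hsq : gκ ≫ h = ι ≫ gh := Over.OverMorphism.ext hθ
  let L := BasedFunctor.comp (_root_.AlgSt.overMap gκ) uU
  refine ⟨R, inferInstance, inferInstance, inferInstance, sR, BasedFunctor.comp L (_root_.FibCat.fpSnd yV f),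
    BasedFunctor.comp (_root_.AlgSt.overMap gh) yV,
    ⟨(whiskerLeftIso L (_root_.FibCat.fpIso yV f)).symm ≪≫
      whiskerRightIso (whiskerLeftIso (_root_.AlgSt.overMap gκ) α ≪≫ sliceSquareIso hsq) yV⟩,
    fun p => ?_, ?_⟩
  · have hp : p = closedPoint (FractionRing R) :=
      @Subsingleton.elim _ (inferInstanceAs (Subsingleton (PrimeSpectrum (FractionRing R)))) _ _
    rw [hp, ofChart_comp, ofChart_overMap]
    rfl
  · rw [ofChart_overMap]
    rfl

set_option maxHeartbeats 800000 in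
/-- Specializations of points are realised by discrete valuation rings. -/
theorem realizes_of_specializes [QuasiSeparatedSpace S] (h𝒳 : IsAlgStack Scheme.etalePrecoverage 𝒳)
    (h𝒴 : IsAlgStack Scheme.etalePrecoverage 𝒴) (hn𝒴 : SmoothLocally (fun T => IsLocallyNoetherian T) 𝒴)
    (hΔ : RepByAlgSpWith AlgSp.IsQuasiCompactMor (_root_.FibCat.diag (_root_.FibCat.toSelf 𝒴)))
    (f : 𝒳 ⥤ᵇ 𝒴) (hft : LocQ (AlgSp.LocP @LocallyOfFiniteType) f)
    (hqc : IsQuasiCompactMor Scheme.etalePrecoverage f) (x : Points 𝒳) (y₀ : Points 𝒴)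
    (hsp : Points.map f x ⤳ y₀) : Realizes f x y₀ := by
  obtain ⟨V, w, hw, hws⟩ := h𝒴.atlas
  haveI : IsLocallyNoetherian V.left := hn𝒴 V w hw
  obtain ⟨v, hv⟩ := surjective_ofChart h𝒴.isStack.1 hws y₀
  obtain ⟨_, ⟨O, hO, rfl⟩, hvO, -⟩ :=
    V.left.isBasis_affineOpens.exists_subset_of_mem_open (Set.mem_univ v) isOpen_univ
  let O' : V.left.Opens := O
  let Vo : Over S := Over.mk (O'.ι ≫ V.hom)
  let j : Vo ⟶ V := Over.homMk O'.ι rfl
  haveI : Etale j.left := inferInstanceAs (Etale O'.ι)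
  have hy := repByAlgSpWith_etale_comp_chart (fun _ _ _ b a hb ha => locP_etale_comp b a hb ha) j hw
  let yV := BasedFunctor.comp (_root_.AlgSt.overMap j) w
  haveI : IsAffine Vo.left := hO
  haveI : CompactSpace ↥Vo.left := inferInstance
  haveI : IsLocallyNoetherian Vo.left := LocallyOfFiniteType.isLocallyNoetherian O'.ι
  let v₀ : ↥Vo.left := ⟨v, hvO⟩
  have hv₀ : Points.ofChart yV v₀ = y₀ := (ofChart_overMap j w v₀).trans hv
  have hopen := isOpenMap_ofChart h𝒴.isStack.1 hy
  obtain ⟨v₂, hv₂⟩ : Points.map f x ∈ Set.range (Points.ofChart yV) :=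
    hsp.mem_open hopen.isOpen_range ⟨v₀, hv₀⟩
  obtain ⟨Z, s, t, hZ, hR⟩ := exists_affine_relation_of_diag h𝒴.isStack.1 h𝒴.diag hΔ yV
  haveI := hZ
  let k := pullback.fst t.left (Vo.left.fromSpecResidueField v₂)
  haveI : QuasiCompact (Vo.left.fromSpecResidueField v₂) := inferInstance
  haveI : QuasiCompact k := inferInstance
  haveI : QuasiCompact s.left := inferInstance
  have hk : Set.range k = t.left ⁻¹' {v₂} := by
    rw [Scheme.Pullback.range_fst, Scheme.range_fromSpecResidueField]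
  have hv₀c : v₀ ∈ closure (Points.ofChart yV ⁻¹' {Points.map f x}) :=
    hopen.preimage_closure_subset_closure_preimage
      (show Points.ofChart yV v₀ ∈ closure {Points.map f x} from hv₀ ▸ specializes_iff_mem_closure.1 hsp)
  have hsub : Points.ofChart yV ⁻¹' {Points.map f x} = (k ≫ s.left) '' Set.univ := by
    ext v₁
    constructor
    · intro h1
      obtain ⟨z, hz1, hz2⟩ := (hR v₁ v₂).1 ((Set.mem_singleton_iff.1 h1).trans hv₂.symm)
      have hz : z ∈ Set.range k := hk.symm ▸ hz2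
      obtain ⟨e, he⟩ := hz
      exact ⟨e, trivial, (congrArg s.left he).trans hz1⟩
    · rintro ⟨e, -, rfl⟩
      have he : t.left (k e) = v₂ := by
        have : k e ∈ t.left ⁻¹' {v₂} := hk ▸ Set.mem_range_self e
        exact this
      exact ((hR _ v₂).2 ⟨k e, rfl, he⟩).trans hv₂
  rw [hsub] at hv₀c
  obtain ⟨e, -, he⟩ := GrothLib.GrpdQuot.exists_specializes_of_mem_closure (k ≫ s.left) Set.univ isClosed_univ v₀ hv₀c
  generalize hv₁ : (k ≫ s.left) e = v₁ at he
  have hyv₁ : Points.ofChart yV v₁ = Points.map f x := by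
    have : v₁ ∈ Points.ofChart yV ⁻¹' {Points.map f x} := hsub ▸ ⟨e, trivial, hv₁⟩
    exact this
  -- the fibre
  have hV := isAlgStack_overCat_jet Vo
  have hVq : IsQuasiCompact (_root_.FibCat.overCat Vo) :=
    ⟨Vo, BasedFunctor.id _, hO, repByAlgSpWith_id locP_smooth_id _,
      repByAlgSpWith_id (fun _ => isSurjectiveMor_id _) _⟩
  obtain ⟨U, uU, hU, hus, huj⟩ := hqc _ hV hVq yV
  let h : U ⟶ Vo := sliceHom (BasedFunctor.comp uU (_root_.FibCat.fpFst yV f))
  let α : BasedFunctor.comp uU (_root_.FibCat.fpFst yV f) ≅ _root_.AlgSt.overMap h := isoOverMap _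
  haveI : LocallyOfFiniteType h.left :=
    left_of_locP_yon (mem_of_locQ_of_isFibGrpd GrothLib.AlgSp.isSmoothLocalST_lft hft h𝒳.isStack.1 h𝒴.isStack.1 yV hy
      (BasedFunctor.comp uU (Fp.symm yV f)) (repByAlgSpWith_comp_equiv _ (Fp.isEquivOver_symm yV f) hus) h α)
  have gV := isFibGrpd_overCat Vo
  obtain ⟨P, hP1, hP2⟩ := exists_points_fp h𝒳.isStack.1 gV h𝒴.isStack.1 f yV
    (Points.ofChart (BasedFunctor.id (_root_.FibCat.overCat Vo)) v₁) x
    ((ofChart_eq_map yV v₁).symm.trans hyv₁)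
  obtain ⟨ξ, rfl⟩ := surjective_ofChart (Fp.isFibGrpd gV h𝒳.isStack.1 h𝒴.isStack.1) huj P
  have hξ : h.left ξ = v₁ := by
    have h1 := congrArg pointOf hP1
    rw [pointOf_ofChart_id, ← ofChart_comp, ofChart_congr α] at h1
    rw [show Points.ofChart (_root_.AlgSt.overMap h) ξ =
      Points.ofChart (BasedFunctor.id (_root_.FibCat.overCat Vo)) (h.left ξ) from
      ofChart_overMap h (BasedFunctor.id (_root_.FibCat.overCat Vo)) ξ, pointOf_ofChart_id] at h1
    exact h1
  rw [← hP2, ← hv₀]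
  by_cases hne : v₀ = h.left ξ
  · let κ := U.left.residueField ξ
    let R := PowerSeries κ
    let θ : Spec (CommRingCat.of (FractionRing R)) ⟶ U.left :=
      Spec.map (CommRingCat.ofHom ((algebraMap R (FractionRing R)).comp (PowerSeries.C (R := κ)))) ≫
        U.left.fromSpecResidueField ξ
    let hA : Spec (CommRingCat.of R) ⟶ Vo.left :=
      Spec.map (CommRingCat.ofHom (PowerSeries.C (R := κ))) ≫ U.left.fromSpecResidueField ξ ≫ h.left
    have hθ : θ ≫ h.left = Spec.map (CommRingCat.ofHom (algebraMap R (FractionRing R))) ≫ hA := by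
      simp only [θ, hA, CommRingCat.ofHom_comp, Spec.map_comp, Category.assoc]
    have e1 : θ (closedPoint (FractionRing R)) = ξ := by
      rw [Scheme.Hom.comp_apply]
      exact Scheme.fromSpecResidueField_apply _ _
    have e2 : hA (closedPoint R) = v₀ := by
      rw [Scheme.Hom.comp_apply, Scheme.Hom.comp_apply, hne]
      exact congrArg h.left (Scheme.fromSpecResidueField_apply _ _)
    have := realizes_of_square f yV uU α R hA θ hθ
    rwa [e1, e2] at this
  · obtain ⟨A, hA, hdvr, hclosed, hgen⟩ := GrothLib.DVRDom.exists_dvr_over h.left ξ v₀ (hξ.symm ▸ he) hne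
    haveI := hdvr
    let eK := FractionRing.algEquiv A (U.left.residueField ξ)
    let θ₀ : Spec (CommRingCat.of (FractionRing A)) ⟶ Spec (U.left.residueField ξ) :=
      Spec.map (CommRingCat.ofHom eK.symm.toAlgHom.toRingHom)
    have h₀ : θ₀ ≫ Spec.map (CommRingCat.ofHom A.subtype) =
        Spec.map (CommRingCat.ofHom (algebraMap A (FractionRing A))) := by
      rw [← Spec.map_comp]
      congr 1
      exact CommRingCat.hom_ext (RingHom.ext fun z => eK.symm.commutes z)
    have hθ : (θ₀ ≫ U.left.fromSpecResidueField ξ) ≫ h.left =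
        Spec.map (CommRingCat.ofHom (algebraMap A (FractionRing A))) ≫ hA := by
      rw [← h₀, Category.assoc, Category.assoc, hgen]
    have e1 : (θ₀ ≫ U.left.fromSpecResidueField ξ) (closedPoint (FractionRing A)) = ξ := by
      rw [Scheme.Hom.comp_apply, Scheme.fromSpecResidueField_apply]
    have := realizes_of_square f yV uU α A hA _ hθ
    rwa [e1, hclosed] at this

end GrothLib.AlgSt.DVRSpecialization
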