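import Groth.Agent.Lib.AlgSt.DescRep
import Groth.Agent.Lib.AlgSt.LocQChart

/-!
# Lifting charts through flat, locally finitely presented surjections read on charts
-/

set_option backward.isDefEq.respectTransparency false
set_option backward.isDefEq.respectTransparency.types false

universe u

open CategoryTheory CategoryTheory.Limits AlgebraicGeometry Opposite

namespace GrothLib.AlgSt

open _root_.AlgSt GrothLib.FibCat

variable {S : Scheme.{u}} {𝒴 𝒵 : _root_.AlgSt.Cat S}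

theorem liftsFppf_of_locQ_surjective (h𝒴 : IsAlgStack Scheme.fppfPrecoverage 𝒴)
    (h𝒵 : IsAlgStack Scheme.fppfPrecoverage 𝒵) (z : 𝒵 ⥤ᵇ 𝒴) (hz₁ : LocQ (AlgSp.LocP @Flat) z)
    (hz₂ : LocQ (AlgSp.LocP @LocallyOfFinitePresentation) z) (hz₃ : IsSurjective z) : LiftsFppf z := by
  refine liftsFppf_of_locQ h𝒴 h𝒵 z fun U y hy => ?_
  obtain ⟨W, l, h, hl, ⟨β⟩, -, -, hs⟩ := exists_atlas_over h𝒵 h𝒴 z y
  exact ⟨W, BasedFunctor.comp l (_root_.FibCat.fpFst z y), h,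
    left_of_locP_yon (mem_of_locQ GrothLib.AlgSp.isSmoothLocalST_flat hz₁ h𝒵 h𝒴 y hy l hl.1 h β),
    left_of_locP_yon (mem_of_locQ GrothLib.AlgSp.isSmoothLocalST_lfp hz₂ h𝒵 h𝒴 y hy l hl.1 h β), hs hz₃,
    ⟨whiskerRightIso β.symm y ≪≫ (whiskerLeftIso l (_root_.FibCat.fpIso z y)).symm⟩⟩

end GrothLib.AlgSt
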