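import Groth.Agent.Lib.AlgSt.Setoid
import Groth.Agent.Lib.AlgSt.InertiaDiag
import Groth.Agent.Lib.FibCat.Diag
import Groth.Agent.Lib.AlgSt.DescRep
import Groth.Agent.Lib.AlgSt.Mono
import Groth.Agent.Lib.Stk.Glue
import Groth.Agent.Lib.Stk.Descent

/-!
# Criteria for a morphism of stacks to be faithful
-/

set_option backward.isDefEq.respectTransparency false
set_option backward.isDefEq.respectTransparency.types false

universe v₃ u₃ v₂ u₂ v u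

open CategoryTheory CategoryTheory.Functor CategoryTheory.Limits AlgebraicGeometry

namespace GrothLib.FibCat

variable {C : Type u} [Category.{v} C] {𝒳 : BasedCategory.{v₂, u₂} C} {𝒴 : BasedCategory.{v₃, u₃} C}

/-- Trivial automorphism kernels: every automorphism over the identity killed by `f` is trivial. -/
def TrivKernel (f : 𝒳 ⥤ᵇ 𝒴) : Prop :=
  ∀ (a : 𝒳.obj) (φ : a ⟶ a), 𝒳.p.map φ = 𝟙 (𝒳.p.obj a) → f.map φ = 𝟙 (f.obj a) → φ = 𝟙 a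

theorem trivKernel_of_faithful (f : 𝒳 ⥤ᵇ 𝒴) [f.toFunctor.Faithful] : TrivKernel f :=
  fun a φ _ h => f.toFunctor.map_injective (h.trans (f.toFunctor.map_id a).symm)

theorem faithful_of_trivKernel (h𝒳 : _root_.FibCat.IsFibGrpd 𝒳.p) (h𝒴 : _root_.FibCat.IsFibGrpd 𝒴.p)
    (f : 𝒳 ⥤ᵇ 𝒴) (H : TrivKernel f) : f.toFunctor.Faithful := by
  refine ⟨fun {a b ψ₁ ψ₂} e => ?_⟩
  have e' : f.map ψ₁ = f.map ψ₂ := e
  have he : 𝒳.p.map ψ₁ = 𝒳.p.map ψ₂ := by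
    have := congrArg (fun t => eqToHom (f.w_obj a).symm ≫ 𝒴.p.map t ≫ eqToHom (f.w_obj b)) e'
    simpa [p_map_map] using this
  let g := 𝒳.p.map ψ₂
  have hψ₂ : 𝒳.p.IsHomLift g ψ₂ := IsHomLift.map _ _
  have hψ₁ : 𝒳.p.IsHomLift (𝟙 (𝒳.p.obj a) ≫ g) ψ₁ := by
    rw [Category.id_comp]; change 𝒳.p.IsHomLift (𝒳.p.map ψ₂) ψ₁; rw [← he]; exact IsHomLift.map _ _
  obtain ⟨χ, ⟨hχ, hχψ⟩, -⟩ := IsFibGrpd.existsUnique_lift h𝒳 g (𝟙 (𝒳.p.obj a)) ψ₂ ψ₁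
  have hfχ : f.map χ = 𝟙 (f.obj a) := by
    have h1 : 𝒴.p.IsHomLift g (f.map ψ₂) := inferInstance
    have h2 : 𝒴.p.IsHomLift (𝟙 (𝒳.p.obj a) ≫ g) (f.map ψ₁) := inferInstance
    have h3 : 𝒴.p.IsHomLift (𝟙 (𝒳.p.obj a)) (f.map χ) := inferInstance
    have h4 : 𝒴.p.IsHomLift (𝟙 (𝒳.p.obj a)) (𝟙 (f.obj a)) := IsHomLift.id (f.w_obj a)
    obtain ⟨t, -, hu⟩ := IsFibGrpd.existsUnique_lift h𝒴 g (𝟙 (𝒳.p.obj a)) (f.map ψ₂) (f.map ψ₁)
    rw [hu (f.map χ) ⟨h3, by rw [← f.map_comp, hχψ]⟩, hu (𝟙 _) ⟨h4, by rw [Category.id_comp, e']⟩]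
  have hp : 𝒳.p.map χ = 𝟙 (𝒳.p.obj a) := by
    simpa using map_eq_eqToHom 𝒳.p (R := 𝒳.p.obj a) χ
  rw [← hχψ, H a χ hp hfχ, Category.id_comp]

theorem map_p_eq_id (f : 𝒳 ⥤ᵇ 𝒴) {a : 𝒳.obj} {φ : a ⟶ a} (h : f.map φ = 𝟙 (f.obj a)) :
    𝒳.p.map φ = 𝟙 (𝒳.p.obj a) := by
  have := congrArg (fun t => eqToHom (f.w_obj a).symm ≫ 𝒴.p.map t ≫ eqToHom (f.w_obj a)) h
  simpa [p_map_map] using this

theorem isEquivOver_inertiaToBase_iff (h𝒳 : _root_.FibCat.IsFibGrpd 𝒳.p) (f : 𝒳 ⥤ᵇ 𝒴) :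
    _root_.FibCat.IsEquivOver (_root_.FibCat.inertiaToBase f) ↔ TrivKernel f := by
  refine ⟨fun h a φ hp hf => ?_, fun H => ?_⟩
  · have : 𝒳.p.IsHomLift (𝟙 (𝒳.p.obj a)) φ := by rw [← hp]; exact IsHomLift.map _ _
    have := IsFibGrpd.isIso_of_isHomLift_id h𝒳 (R := 𝒳.p.obj a) φ
    have := IsEquivOver.full h
    let x : (_root_.FibCat.inertia f).obj := ⟨a, asIso φ, hf⟩
    let y : (_root_.FibCat.inertia f).obj := ⟨a, Iso.refl _, f.map_id _⟩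
    obtain ⟨χ, hχ⟩ := (_root_.FibCat.inertiaToBase f).toFunctor.map_surjective (X := x) (Y := y) (𝟙 a)
    have hc := χ.comm
    change χ.hom = 𝟙 a at hχ
    rw [hχ] at hc
    simpa [x, y] using hc
  · have triv : ∀ x : (_root_.FibCat.inertia f).obj, x.aut.hom = 𝟙 x.pt := fun x =>
      H x.pt x.aut.hom (map_p_eq_id f x.map_aut) x.map_aut
    refine FFEssSurjOver.isEquivOver ⟨⟨fun {x y} g => ⟨⟨g, by simp [triv]⟩, rfl⟩⟩, ⟨fun {x y φ ψ} h =>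
      _root_.FibCat.InertiaObj.hom_ext h⟩, fun η => ⟨⟨η, Iso.refl η, f.map_id η⟩, Iso.refl η, IsHomLift.id rfl⟩⟩

theorem trivKernel_of_full_diag (f : 𝒳 ⥤ᵇ 𝒴) [(_root_.FibCat.diag f).toFunctor.Full] : TrivKernel f := by
  intro a φ _ hf
  obtain ⟨χ, hχ⟩ := (_root_.FibCat.diag f).toFunctor.map_surjective (X := a) (Y := a)
    (Fp.homMk φ (𝟙 a) (by
      change f.map φ ≫ 𝟙 (f.obj a) = 𝟙 (f.obj a) ≫ f.map (𝟙 a)
      rw [hf, f.map_id]))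
  have h1 : χ = φ := congrArg (fun t => t.hom.fst) hχ
  have h2 : χ = 𝟙 a := congrArg (fun t => t.hom.snd) hχ
  exact h1.symm.trans h2

theorem trivKernel_of_isEquivOver_diag_diag (h𝒳 : _root_.FibCat.IsFibGrpd 𝒳.p) (f : 𝒳 ⥤ᵇ 𝒴)
    (h : _root_.FibCat.IsEquivOver (_root_.FibCat.diag (_root_.FibCat.diag f))) : TrivKernel f := by
  intro a φ hp hf
  have : 𝒳.p.IsHomLift (𝟙 (𝒳.p.obj a)) φ := by rw [← hp]; exact IsHomLift.map _ _
  have := IsFibGrpd.isIso_of_isHomLift_id h𝒳 (R := 𝒳.p.obj a) φ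
  obtain ⟨b, i, -⟩ := IsEquivOver.essSurj h ((inertiaToFp f).obj ⟨a, asIso φ, hf⟩)
  have hp' : IsIso i.hom.hom.fst := (Fp.isoFst i).isIso_hom
  have h1 : (i.hom.hom.fst : b ⟶ a) ≫ φ = 𝟙 b ≫ (i.hom.hom.snd : b ⟶ a) := congrArg (fun t => t.hom.fst) (Fp.w i.hom)
  have h2 : (i.hom.hom.fst : b ⟶ a) ≫ 𝟙 a = 𝟙 b ≫ (i.hom.hom.snd : b ⟶ a) := congrArg (fun t => t.hom.snd) (Fp.w i.hom)
  exact (cancel_epi (i.hom.hom.fst : b ⟶ a)).1 (h1.trans h2.symm)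

end GrothLib.FibCat

namespace GrothLib.AlgSt

open _root_.AlgSt GrothLib.FibCat Opposite

universe w

variable {S : Scheme.{w}} {𝒳 𝒴 : _root_.AlgSt.Cat S}

theorem repByAlgSp1_iff_trivKernel (h𝒳 : IsAlgStack Scheme.fppfPrecoverage 𝒳)
    (h𝒴 : IsAlgStack Scheme.fppfPrecoverage 𝒴) (f : 𝒳 ⥤ᵇ 𝒴) : RepByAlgSp1 f ↔ TrivKernel f :=
  (repByAlgSp1_iff_faithful h𝒳 h𝒴 f).trans
    ⟨fun _ => trivKernel_of_faithful f, faithful_of_trivKernel h𝒳.isStack.1 h𝒴.isStack.1 f⟩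

/-- Faithfulness is checked after base change along a map lifting charts fppf locally. -/
theorem trivKernel_of_isFibSetoid_fp {𝒵 : _root_.AlgSt.Cat S} (h𝒳 : _root_.Stk.IsStack (AlgSp.J S) 𝒳)
    (h𝒴 : _root_.FibCat.IsFibGrpd 𝒴.p) (f : 𝒳 ⥤ᵇ 𝒴) {z : 𝒵 ⥤ᵇ 𝒴} (hz : LiftsFppf z)
    (hset : _root_.FibCat.IsFibSetoid (_root_.FibCat.fp z f).p) : TrivKernel f := by
  intro a φ hp hf
  obtain ⟨y, j, hj⟩ := Yon.exists_functor h𝒴 (f.obj a) (f.w_obj a)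
  obtain ⟨V, c, l, hfl, hfp, hs, ⟨i⟩⟩ := hz _ y
  have hR : Sieve.ofArrows (fun _ : PUnit.{w + 1} => V) (fun _ => c) ∈ AlgSp.J S (𝒳.p.obj a) :=
    GrothLib.AlgSp.ofArrows_mem _ _ (fun _ => hfl) (fun _ => hfp) fun x => ⟨PUnit.unit, hs.surj x⟩
  have : 𝒳.p.IsHomLift (𝟙 (𝒳.p.obj a)) φ := by rw [← hp]; exact IsHomLift.map _ _
  have : 𝒳.p.IsHomLift (𝟙 (𝒳.p.obj a)) (𝟙 a) := IsHomLift.id rfl
  refine GrothLib.Stk.hom_ext_cover_id h𝒳.1 ((GrothLib.Stk.IsStack.isPrestack h𝒳).2 _ hR).2 φ (𝟙 a) ?_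
  rintro V' g ⟨_, k, _, ⟨⟨⟩⟩, hk⟩
  obtain ⟨a', κ, hκ⟩ := IsFibGrpd.exists_lift_of_eq h𝒳.1 (rfl : 𝒳.p.obj a = _) g
  refine ⟨a', κ, hκ, ?_⟩
  have hl1 : 𝒳.p.IsHomLift (𝟙 V' ≫ g) (κ ≫ φ) := by rw [Category.id_comp]; infer_instance
  obtain ⟨φ', ⟨hφ', eφ⟩, -⟩ := IsFibGrpd.existsUnique_lift h𝒳.1 g (𝟙 V') κ (κ ≫ φ)
  have ha' : 𝒳.p.obj a' = V' := IsHomLift.domain_eq 𝒳.p g κ
  have hfφ' : f.map φ' = 𝟙 (f.obj a') := by
    have h1 : 𝒴.p.IsHomLift g (f.map κ) := inferInstance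
    have h2 : 𝒴.p.IsHomLift (𝟙 V') (𝟙 (f.obj a')) := IsHomLift.id ((f.w_obj a').trans ha')
    have h3 : 𝒴.p.IsHomLift (𝟙 V' ≫ g) (f.map κ) := by rw [Category.id_comp]; infer_instance
    obtain ⟨t, -, hu⟩ := IsFibGrpd.existsUnique_lift h𝒴 g (𝟙 V') (f.map κ) (f.map κ)
    rw [hu (f.map φ') ⟨inferInstance, by rw [← f.map_comp, eφ, f.map_comp, hf, Category.comp_id]⟩,
      hu (𝟙 _) ⟨h2, Category.id_comp _⟩]
  suffices h : φ' = 𝟙 a' by rw [← eφ, h, Category.id_comp, Category.comp_id]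
  let W : (_root_.FibCat.overCat V).obj := Over.mk k
  let m : (GrothLib.FibCat.overMap c).obj W ⟶ Yon.idObj (𝒳.p.obj a) := Over.homMk (k ≫ c) (Category.comp_id (k ≫ c))
  have hym : 𝒴.p.IsHomLift (k ≫ c) (y.map m) := by
    have : (_root_.FibCat.overCat (𝒳.p.obj a)).p.IsHomLift (k ≫ c) m := IsHomLift.map (_root_.FibCat.overCat (𝒳.p.obj a)).p m
    infer_instance
  have hg : 𝒴.p.IsHomLift g (y.map m ≫ j.hom) := by
    have : 𝒴.p.IsHomLift ((k ≫ c) ≫ 𝟙 _) (y.map m ≫ j.hom) := inferInstance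
    rw [Category.comp_id, hk] at this
    exact this
  obtain ⟨e, he, -⟩ := IsFibGrpd.exists_iso_of_lifts h𝒴 g (y.map m ≫ j.hom) (f.map κ)
  let q : z.obj (l.obj W) ≅ f.obj a' := (isoApp i W).symm ≪≫ e.symm
  have hl : 𝒵.p.obj (l.obj W) = V' := l.w_obj W
  have hq : 𝒴.p.IsHomLift (𝟙 (𝒵.p.obj (l.obj W))) q.hom := by
    rw [hl]
    have h1 : 𝒴.p.IsHomLift (𝟙 V') (isoApp i W).inv := i.inv.isHomLift' W
    have h2 : 𝒴.p.IsHomLift (𝟙 V') e.inv := IsHomLift.lift_id_inv 𝒴.p V' e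
    change 𝒴.p.IsHomLift (𝟙 V') ((isoApp i W).inv ≫ e.inv)
    infer_instance
  let o : (_root_.FibCat.fp z f).obj := Fp.mk (l.obj W) a' q hq
  let ω : o ⟶ o := Fp.homMk (𝟙 o.obj.fst) φ' (by
    change z.map (𝟙 _) ≫ q.hom = q.hom ≫ f.map φ'
    rw [hfφ', z.map_id, Category.id_comp, Category.comp_id])
  have hω : ω = 𝟙 o := IsFibSetoid.hom_ext hset rfl
  exact congrArg (fun t => t.hom.snd) hω

theorem repByAlgSp1_of_repByAlgSp_fp {𝒵 : _root_.AlgSt.Cat S} (h𝒳 : IsAlgStack Scheme.fppfPrecoverage 𝒳)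
    (h𝒴 : IsAlgStack Scheme.fppfPrecoverage 𝒴) (f : 𝒳 ⥤ᵇ 𝒴) {z : 𝒵 ⥤ᵇ 𝒴} (hz : LiftsFppf z)
    (h : RepByAlgSp (_root_.FibCat.fp z f)) : RepByAlgSp1 f :=
  (repByAlgSp1_iff_trivKernel h𝒳 h𝒴 f).2
    (trivKernel_of_isFibSetoid_fp h𝒳.isStack h𝒴.isStack.1 f hz (isFibSetoid_of_repByAlgSp h))

/-- Monomorphisms of sheaves descend along fppf covers of schemes. -/
theorem descendsToSchemes_monomorphisms :
    DescendsToSchemes (MorphismProperty.monomorphisms (AlgSp.Sp S)) := fun F _ U V c h1 h2 h3 b h => by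
  refine GrothLib.AlgSp.mono_of_yon fun T p q e => ?_
  obtain ⟨m, hm⟩ := (AlgSp.yon S).map_surjective (p ≫ b)
  let d : pullback m c ⟶ T := pullback.fst m c
  have sq := (IsPullback.of_hasPullback m c).map (Over.forget S)
  have hd1 : Flat d.left := MorphismProperty.of_isPullback (P := @Flat) sq.flip h1
  have hd2 : LocallyOfFinitePresentation d.left :=
    MorphismProperty.of_isPullback (P := @LocallyOfFinitePresentation) sq.flip h2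
  have hd3 : Surjective d.left := MorphismProperty.of_isPullback (P := @Surjective) sq.flip h3
  have : Sheaf.IsLocallySurjective ((AlgSp.yon S).map d) := GrothLib.AlgSp.isLocallySurjective_of_repWith
    ((AlgSp.repWith_yon_map_iff _ _).2 hd1) ((AlgSp.repWith_yon_map_iff _ _).2 hd2)
    ((AlgSp.repWith_yon_map_iff _ _).2 hd3)
  rw [← cancel_epi ((AlgSp.yon S).map d)]
  have hw : ∀ r : (AlgSp.yon S).obj T ⟶ F, r ≫ b = (AlgSp.yon S).map m →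
      (AlgSp.yon S).map (pullback.snd m c) ≫ (AlgSp.yon S).map c = ((AlgSp.yon S).map d ≫ r) ≫ b := fun r hr => by
    rw [Category.assoc, hr, ← Functor.map_comp, ← Functor.map_comp, pullback.condition]
  have : Mono (pullback.fst ((AlgSp.yon S).map c) b) := h
  have hl : pullback.lift _ _ (hw p hm.symm) = pullback.lift _ _ (hw q (e.symm.trans hm.symm)) := by
    rw [← cancel_mono (pullback.fst ((AlgSp.yon S).map c) b), pullback.lift_fst, pullback.lift_fst]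
  have := congrArg (fun t => t ≫ pullback.snd ((AlgSp.yon S).map c) b) hl
  simpa using this

theorem isMono_of_fpFst {𝒵 : _root_.AlgSt.Cat S} {f : 𝒳 ⥤ᵇ 𝒴} (hf : RepByAlgSp1 f) {z : 𝒵 ⥤ᵇ 𝒴} (hz : LiftsFppf z)
    (h : IsMono (_root_.FibCat.fpFst z f)) : IsMono f :=
  repByAlgSpWith_of_fpFst isoInvariant_monomorphisms descendsToSchemes_monomorphisms hf hz h

theorem mono_of_full_faithful_ofSpMap {F G : AlgSp.Sp S} (a : F ⟶ G) [(ofSpMap a).toFunctor.Full] : Mono a := by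
  refine GrothLib.AlgSp.mono_of_yon fun T p p' heq => ?_
  obtain ⟨x, rfl⟩ := (AlgSp.J S).uliftYonedaEquiv.{w + 1}.symm.surjective p
  obtain ⟨x', rfl⟩ := (AlgSp.J S).uliftYonedaEquiv.{w + 1}.symm.surjective p'
  congr 1
  rw [GrothendieckTopology.uliftYonedaEquiv_symm_naturality_right,
    GrothendieckTopology.uliftYonedaEquiv_symm_naturality_right] at heq
  have hx := (AlgSp.J S).uliftYonedaEquiv.{w + 1}.symm.injective heq
  obtain ⟨ψ, hψ⟩ := (ofSpMap a).toFunctor.map_surjective (X := (⟨T, x⟩ : (ofSp F).obj)) (Y := ⟨T, x'⟩)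
    ⟨𝟙 T, by
      change G.obj.map (𝟙 T).op (a.hom.app (op T) x') = a.hom.app (op T) x
      rw [op_id, G.obj.map_id]
      exact hx.symm⟩
  have hh : ψ.hom = 𝟙 T := congrArg (fun t => t.hom) hψ
  have h4 : F.obj.map ψ.hom.op x' = x := ψ.map_sec
  rw [hh, op_id] at h4
  exact (((congrArg (fun t => t x') (F.obj.map_id (op T))).symm.trans h4 :)).symm

theorem full_ofSpMap_of_mono {F G : AlgSp.Sp S} (a : F ⟶ G) [Mono a] : (ofSpMap a).toFunctor.Full := by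
  refine ⟨fun {x y} ψ => ?_⟩
  have hinj : ∀ (T : Over S) (x x' : F.obj.obj (op T)), a.hom.app (op T) x = a.hom.app (op T) x' → x = x' :=
    fun T x x' e => by
      apply (AlgSp.J S).uliftYonedaEquiv.{w + 1}.symm.injective
      rw [← cancel_mono a, GrothendieckTopology.uliftYonedaEquiv_symm_naturality_right,
        GrothendieckTopology.uliftYonedaEquiv_symm_naturality_right, e]
  have h1 : F.obj.map ψ.hom.op y.sec = x.sec := hinj _ _ _ (by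
    rw [NatTrans.naturality_apply]; exact ψ.map_sec)
  exact ⟨⟨ψ.hom, h1⟩, GrothLib.FibCat.ofPsh_hom_ext rfl⟩

end GrothLib.AlgSt
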