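import Groth.Agent.Lib.AlgSp.TrivSection
import Groth.Agent.Lib.AlgSt.CleanLocus
import Groth.Agent.Lib.AlgSt.RepKernel
import Groth.Agent.Lib.AlgSt.DiagLFT

/-!
# Morphisms with trivial relative stabilizers at field-valued points
-/

set_option backward.isDefEq.respectTransparency false
set_option backward.isDefEq.respectTransparency.types false

universe u

open CategoryTheory CategoryTheory.Limits AlgebraicGeometry Opposite TopologicalSpace

namespace GrothLib.AlgSt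

open _root_.AlgSt GrothLib.FibCat GrothLib.AlgSp.TrivLocus

variable {S : Scheme.{u}} {𝒳 𝒴 : _root_.AlgSt.Cat S} {f : 𝒳 ⥤ᵇ 𝒴} {U : Over S} {F : _root_.AlgSp.Sp S}

/-- All automorphisms killed by `f` over `η` and its pullbacks are trivial. -/
def IsRelClean (f : 𝒳 ⥤ᵇ 𝒴) (η : 𝒳.obj) : Prop :=
  ∀ (z : 𝒳.obj) (_ : z ⟶ η) (s : z ⟶ z), 𝒳.p.map s = 𝟙 (𝒳.p.obj z) → f.map s = 𝟙 (f.obj z) → s = 𝟙 z

theorem secHom_eq_of_iso_rel {x : _root_.FibCat.overCat U ⥤ᵇ 𝒳} (e : ofSp F ⥤ᵇ _root_.FibCat.fp x (_root_.FibCat.inertiaToBase f))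
    {T : Over S} (sec : F.obj.obj (op T)) (O : (_root_.FibCat.fp x (_root_.FibCat.inertiaToBase f)).obj) (i : e.obj ⟨T, sec⟩ ≅ O)
    (hi : (_root_.FibCat.fp x (_root_.FibCat.inertiaToBase f)).p.IsHomLift (𝟙 T) i.hom) {g : T ⟶ U} (hO : O.obj.fst = Over.mk g) :
    (spMapOfOver (BasedFunctor.comp e (_root_.FibCat.fpFst x (_root_.FibCat.inertiaToBase f)))).hom.app (op T) sec = ⟨g⟩ := by
  rw [spMapOfOver_app]
  refine congrArg ULift.up ?_
  have hl := (Fp.isHomLift_iff i.hom _).1 hi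
  have hw' : i.hom.hom.fst.left ≫ O.obj.fst.hom = (e.obj ⟨T, sec⟩).obj.fst.hom := Over.w i.hom.hom.fst
  have hlf := IsHomLift.fac' (_root_.FibCat.overCat U).p (𝟙 T) i.hom.hom.fst
  change eqToHom _ ≫ ((e.obj ⟨T, sec⟩).obj.fst).hom = g
  obtain ⟨⟨O1, O2, Oi⟩, hO'⟩ := O
  obtain rfl : O1 = Over.mk g := hO
  simp only at hw' hlf
  rw [← hw', show i.hom.hom.fst.left = _ from hlf]
  simp

/-- The object of the inertia over a chart given by a vertical automorphism. -/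
def relInertiaObjOfAut (x : _root_.FibCat.overCat U ⥤ᵇ 𝒳) {T : Over S} (g : T ⟶ U)
    (α : x.obj (Over.mk g) ≅ x.obj (Over.mk g)) (hα : f.map α.hom = 𝟙 _) :
    (_root_.FibCat.fp x (_root_.FibCat.inertiaToBase f)).obj :=
  Fp.mk (F := x) (G := (_root_.FibCat.inertiaToBase f)) (Over.mk g) ⟨x.obj (Over.mk g), α, hα⟩ (Iso.refl _) (IsHomLift.id (x.w_obj _))

theorem exists_rel_section (x : _root_.FibCat.overCat U ⥤ᵇ 𝒳) (e : ofSp F ⥤ᵇ _root_.FibCat.fp x (_root_.FibCat.inertiaToBase f))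
    (he : _root_.FibCat.IsEquivOver e) :
    ∃ s : (_root_.AlgSp.yon S).obj U ⟶ F, s ≫ spMapOfOver (BasedFunctor.comp e (_root_.FibCat.fpFst x (_root_.FibCat.inertiaToBase f))) = 𝟙 _ := by
  obtain ⟨sec, i, hi⟩ := exists_section_of_obj he (U := U) (relInertiaObjOfAut x (𝟙 U) (Iso.refl _) (f.map_id _)) rfl
  refine ⟨(_root_.AlgSp.J S).uliftYonedaEquiv.{u + 1}.symm sec, ?_⟩
  apply (_root_.AlgSp.J S).uliftYonedaEquiv.{u + 1}.injective
  rw [GrothendieckTopology.uliftYonedaEquiv_comp, Equiv.apply_symm_apply, secHom_eq_of_iso_rel e sec _ i hi rfl]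
  rfl

/-- Sections over a scheme agree when the automorphisms of objects over it killed by `f` are trivial. -/
theorem rel_sections_eq (x : _root_.FibCat.overCat U ⥤ᵇ 𝒳)
    (e : ofSp F ⥤ᵇ _root_.FibCat.fp x (_root_.FibCat.inertiaToBase f)) (he : _root_.FibCat.IsEquivOver e)
    {T' : Over S} (p : T' ⟶ U)
    (H : ∀ (z : 𝒳.obj), 𝒳.p.obj z = T' → (z ⟶ x.obj (Over.mk p)) → ∀ (a : z ⟶ z), f.map a = 𝟙 (f.obj z) → a = 𝟙 z)
    (s s' : (_root_.AlgSp.yon S).obj T' ⟶ F)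
    (hs : s ≫ spMapOfOver (BasedFunctor.comp e (_root_.FibCat.fpFst x (_root_.FibCat.inertiaToBase f))) = (_root_.AlgSp.yon S).map p)
    (hs' : s' ≫ spMapOfOver (BasedFunctor.comp e (_root_.FibCat.fpFst x (_root_.FibCat.inertiaToBase f))) = (_root_.AlgSp.yon S).map p) :
    s = s' := by
  let π := spMapOfOver (BasedFunctor.comp e (_root_.FibCat.fpFst x (_root_.FibCat.inertiaToBase f)))
  let Y := fun {V : Over S} => (_root_.AlgSp.J S).uliftYonedaEquiv.{u + 1} (X := V) (F := F)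
  have := IsEquivOver.full he
  apply Y.injective
  have hπ : ∀ t : (_root_.AlgSp.yon S).obj T' ⟶ F, t ≫ π = (_root_.AlgSp.yon S).map p →
      secHom (BasedFunctor.comp e (_root_.FibCat.fpFst x (_root_.FibCat.inertiaToBase f))) ⟨T', Y t⟩ = p := fun t ht => by
    have h1 := congrArg (_root_.AlgSp.J S).uliftYonedaEquiv.{u + 1} ht
    rw [GrothendieckTopology.uliftYonedaEquiv_comp] at h1
    have h2 : (⟨secHom (BasedFunctor.comp e (_root_.FibCat.fpFst x (_root_.FibCat.inertiaToBase f))) ⟨T', Y t⟩⟩ : ULift (T' ⟶ U)) =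
        ⟨𝟙 _ ≫ p⟩ := h1
    exact (congrArg ULift.down h2).trans (Category.id_comp _)
  let O := e.obj ⟨T', Y s⟩
  let O' := e.obj ⟨T', Y s'⟩
  have hO : O.obj.fst.left = T' := e.w_obj _
  have hO' : O'.obj.fst.left = T' := e.w_obj _
  have := Fp.iso_lift O
  have := Fp.iso_lift O'
  have hh : O.obj.fst.hom = eqToHom hO ≫ p := by
    rw [← hπ s hs]
    exact ((eqToHom_trans_assoc hO hO.symm _).trans (Category.id_comp _)).symm
  have hh' : O'.obj.fst.hom = eqToHom hO' ≫ p := by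
    rw [← hπ s' hs']
    exact ((eqToHom_trans_assoc hO' hO'.symm _).trans (Category.id_comp _)).symm
  let f₀ : O.obj.fst ⟶ O'.obj.fst := Over.homMk (eqToHom (hO.trans hO'.symm)) (by
    rw [hh, hh']; simp)
  have hs1 : O.obj.snd.aut.hom = 𝟙 _ :=
    H _ ((IsHomLift.codomain_eq 𝒳.p (𝟙 ((_root_.FibCat.overCat U).p.obj O.obj.fst)) O.obj.iso.hom).trans hO)
      (O.obj.iso.inv ≫ x.map (Over.homMk (eqToHom hO) hh.symm : O.obj.fst ⟶ Over.mk p)) _ O.obj.snd.map_aut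
  have hs2 : O'.obj.snd.aut.hom = 𝟙 _ :=
    H _ ((IsHomLift.codomain_eq 𝒳.p (𝟙 ((_root_.FibCat.overCat U).p.obj O'.obj.fst)) O'.obj.iso.hom).trans hO')
      (O'.obj.iso.inv ≫ x.map (Over.homMk (eqToHom hO') hh'.symm : O'.obj.fst ⟶ Over.mk p)) _ O'.obj.snd.map_aut
  let m : O.obj.snd ⟶ O'.obj.snd :=
    ⟨O.obj.iso.inv ≫ x.map f₀ ≫ O'.obj.iso.hom, by rw [hs1, hs2]; exact (Category.id_comp _).trans (Category.comp_id _).symm⟩
  let φ : O ⟶ O' := Fp.homMk f₀ m (by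
    change x.map f₀ ≫ O'.obj.iso.hom = O.obj.iso.hom ≫ m.hom
    exact (Iso.hom_inv_id_assoc _ _).symm)
  obtain ⟨ψ, hψ⟩ := e.toFunctor.map_surjective φ
  have hl : (_root_.FibCat.fp x (_root_.FibCat.inertiaToBase f)).p.IsHomLift (𝟙 T') φ :=
    (Fp.isHomLift_iff φ _).2 (IsHomLift.of_fac' (_root_.FibCat.overCat U).p (𝟙 T') φ.hom.fst hO hO' (by
      change eqToHom (hO.trans hO'.symm) = eqToHom hO ≫ 𝟙 _ ≫ eqToHom hO'.symm
      simp))
  rw [← hψ] at hl
  have hψl : (ofSp F).p.IsHomLift (𝟙 T') ψ := (e.isHomLift_iff _ ψ).1 hl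
  have h3 : ψ.hom = 𝟙 T' :=
    (IsHomLift.fac' (ofSp F).p (𝟙 T') ψ).trans
      ((Category.id_comp _).trans (Category.comp_id _))
  have h4 := ψ.map_sec
  rw [h3, op_id, F.obj.map_id] at h4
  exact h4.symm

/-- Cleanness along a chart is triviality of the inertia over it. -/
theorem isRelClean_iff_triv (hG : _root_.FibCat.IsFibGrpd 𝒳.p) (x : _root_.FibCat.overCat U ⥤ᵇ 𝒳)
    (e : ofSp F ⥤ᵇ _root_.FibCat.fp x (_root_.FibCat.inertiaToBase f)) (he : _root_.FibCat.IsEquivOver e) {T : Over S} (g : T ⟶ U) :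
    IsRelClean f (x.obj (Over.mk g)) ↔
      Triv (spMapOfOver (BasedFunctor.comp e (_root_.FibCat.fpFst x (_root_.FibCat.inertiaToBase f)))) g := by
  let π := spMapOfOver (BasedFunctor.comp e (_root_.FibCat.fpFst x (_root_.FibCat.inertiaToBase f)))
  let Y := fun {V : Over S} => (_root_.AlgSp.J S).uliftYonedaEquiv.{u + 1} (X := V) (F := F)
  have := IsEquivOver.full he
  constructor
  · intro hc T' l s s' hs hs'
    refine rel_sections_eq x e he (l ≫ g) (fun z _ i a hfa => ?_) s s' hs hs'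
    exact hc z (i ≫ x.map (Over.homMk l rfl : Over.mk (l ≫ g) ⟶ Over.mk g)) a (map_p_eq_id f hfa) hfa
  · intro hT y m s hs hsf
    let T' := 𝒳.p.obj y
    let l : T' ⟶ T := 𝒳.p.map m ≫ eqToHom (x.w_obj (Over.mk g))
    let c : (Over.mk (l ≫ g) : (_root_.FibCat.overCat U).obj) ⟶ Over.mk g := Over.homMk l
    have h1 : (_root_.FibCat.overCat U).p.IsHomLift l c := IsHomLift.map (_root_.FibCat.overCat U).p c
    have h2 : 𝒳.p.IsHomLift l (x.map c) := inferInstance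
    have h3 : 𝒳.p.IsHomLift l m := IsHomLift.of_fac' _ _ _ rfl (x.w_obj (Over.mk g)) (by simp [l])
    obtain ⟨θ, hθ, -⟩ := @IsFibGrpd.exists_iso_of_lifts _ _ _ _ _ hG _ _ l _ _ _ (x.map c) m h2 h3
    have hsi : IsIso s := (IsFibGrpd.isIso_iff hG s).2 (by rw [hs]; infer_instance)
    let α : x.obj (Over.mk (l ≫ g)) ≅ x.obj (Over.mk (l ≫ g)) := θ.symm ≪≫ asIso s ≪≫ θ
    have hα : f.map α.hom = 𝟙 _ := by
      simp only [α, Iso.trans_hom, Iso.symm_hom, asIso_hom, Functor.map_comp, hsf, Category.id_comp]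
      exact ((f.map_comp θ.inv θ.hom).symm.trans ((congrArg f.map θ.inv_hom_id).trans (f.map_id _)))
    obtain ⟨a, ia, hia⟩ := exists_section_of_obj he (U := T') (relInertiaObjOfAut x (l ≫ g) α hα) rfl
    obtain ⟨b, ib, hib⟩ := exists_section_of_obj he (U := T') (relInertiaObjOfAut x (l ≫ g) (Iso.refl _) (f.map_id _)) rfl
    have hab : a = b := by
      apply Y.symm.injective
      refine hT T' l _ _ ?_ ?_ <;> apply (_root_.AlgSp.J S).uliftYonedaEquiv.{u + 1}.injective <;>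
        rw [GrothendieckTopology.uliftYonedaEquiv_comp, Equiv.apply_symm_apply]
      · rw [secHom_eq_of_iso_rel e a _ ia hia rfl]
        exact congrArg ULift.up (Category.id_comp _).symm
      · rw [secHom_eq_of_iso_rel e b _ ib hib rfl]
        exact congrArg ULift.up (Category.id_comp _).symm
    subst hab
    let φ := ia.inv ≫ ib.hom
    have hci : IsIso φ.hom.snd.hom :=
      (_root_.FibCat.InertiaObj.forget.mapIso (Fp.isoSnd (ia.symm ≪≫ ib))).isIso_hom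
    have hcomm : α.hom ≫ φ.hom.snd.hom = φ.hom.snd.hom ≫ 𝟙 _ := φ.hom.snd.comm
    have hα1 : α.hom = 𝟙 _ :=
      (cancel_mono φ.hom.snd.hom).1 (hcomm.trans ((Category.comp_id _).trans (Category.id_comp _).symm))
    simp only [α, Iso.trans_hom, Iso.symm_hom, asIso_hom] at hα1
    have e1 : s = θ.hom ≫ (θ.inv ≫ s ≫ θ.hom) ≫ θ.inv := by simp
    rw [e1, hα1]
    simp

/-- The automorphisms killed by `f` form a space locally of finite type over each chart. -/
theorem repByAlgSpWith_lft_inertiaToBase (h𝒳 : IsAlgStack Scheme.fppfPrecoverage 𝒳)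
    (h𝒴 : IsAlgStack Scheme.fppfPrecoverage 𝒴) (f : 𝒳 ⥤ᵇ 𝒴) :
    RepByAlgSpWith (_root_.AlgSp.LocP @LocallyOfFiniteType) (_root_.FibCat.inertiaToBase f) :=
  (repByAlgSpWith_inertiaToBase_iff f).2 (repByAlgSpWith_fpFst _ (repByAlgSpWith_lft_diag h𝒳 h𝒴 f))

theorem trivKernel_of_forall_triv (h𝒳 : IsAlgStack Scheme.fppfPrecoverage 𝒳)
    (P : MorphismProperty (_root_.AlgSp.Sp S)) (hP : RepByAlgSpWith P (_root_.FibCat.inertiaToBase f))
    (H : ∀ {U : Over S} {F : _root_.AlgSp.Sp S} (x : _root_.FibCat.overCat U ⥤ᵇ 𝒳)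
      (e : ofSp F ⥤ᵇ _root_.FibCat.fp x (_root_.FibCat.inertiaToBase f)), _root_.FibCat.IsEquivOver e →
      _root_.AlgSp.IsAlgSpace F → P (spMapOfOver (BasedFunctor.comp e (_root_.FibCat.fpFst x (_root_.FibCat.inertiaToBase f)))) →
      ∀ s : (_root_.AlgSp.yon S).obj U ⟶ F,
        s ≫ spMapOfOver (BasedFunctor.comp e (_root_.FibCat.fpFst x (_root_.FibCat.inertiaToBase f))) = 𝟙 _ →
      Triv (spMapOfOver (BasedFunctor.comp e (_root_.FibCat.fpFst x (_root_.FibCat.inertiaToBase f)))) (𝟙 U)) :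
    TrivKernel f := by
  intro a φ hp hf
  have hG := h𝒳.isStack.1
  obtain ⟨x, j, -⟩ := Yon.exists_functor hG a rfl
  obtain ⟨F, e, he, hπ⟩ := hP (𝒳.p.obj a) x
  obtain ⟨s, hs⟩ := exists_rel_section x e he
  exact (isRelClean_iff_triv hG x e he (𝟙 _)).2 (H x e he F.property hπ s hs) a j.inv φ hp hf

/-- Trivial stabilizers over all field-valued points and their pullbacks make `f` faithful. -/
theorem trivKernel_of_fields (h𝒳 : IsAlgStack Scheme.fppfPrecoverage 𝒳) (h𝒴 : IsAlgStack Scheme.fppfPrecoverage 𝒴)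
    (f : 𝒳 ⥤ᵇ 𝒴) (H : ∀ (K : Type u) [Field K] (s : Spec (CommRingCat.of K) ⟶ S) (η : 𝒳.obj),
      𝒳.p.obj η = Over.mk s → IsRelClean f η) : TrivKernel f :=
  trivKernel_of_forall_triv h𝒳 _ (repByAlgSpWith_lft_inertiaToBase h𝒳 h𝒴 f) fun {U _} x e he hF hlft s hs =>
    triv_of_fibres hF s hs hlft fun t => (isRelClean_iff_triv h𝒳.isStack.1 x e he _).1
      (H (U.left.residueField t) _ _ (x.w_obj (Over.mk (ptι U t))))

/-- For separated diagonals it suffices to look at geometric points. -/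
theorem trivKernel_of_geom_separated (h𝒳 : IsAlgStack Scheme.fppfPrecoverage 𝒳)
    (h𝒴 : IsAlgStack Scheme.fppfPrecoverage 𝒴) (f : 𝒳 ⥤ᵇ 𝒴)
    (hsep : RepByAlgSpWith _root_.AlgSp.IsSeparatedMor (_root_.FibCat.diag f))
    (H : ∀ (K : Type u) [Field K] [IsAlgClosed K] (s : Spec (CommRingCat.of K) ⟶ S) (η : 𝒳.obj),
      𝒳.p.obj η = Over.mk s → IsRelClean f η) : TrivKernel f :=
  trivKernel_of_forall_triv h𝒳 _ (repByAlgSpWith_inf isoInvariant_locP
    (repByAlgSpWith_lft_inertiaToBase h𝒳 h𝒴 f)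
    ((repByAlgSpWith_inertiaToBase_iff f).2 (repByAlgSpWith_fpFst _ hsep))) fun {U _} x e he hF h s hs =>
    triv_of_fibres hF s hs h.1 fun t => by
      let K := AlgebraicClosure (U.left.residueField t)
      let g₀ : Spec (CommRingCat.of K) ⟶ U.left :=
        Spec.map (CommRingCat.ofHom (algebraMap (U.left.residueField t) K)) ≫ U.left.fromSpecResidueField t
      let g : Over.mk (g₀ ≫ U.hom) ⟶ U := Over.homMk g₀ rfl
      have ht : g.left (IsLocalRing.closedPoint K) = t :=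
        (Scheme.Hom.comp_apply _ _ _).trans (Scheme.fromSpecResidueField_apply _ _)
      have hg := (isRelClean_iff_triv h𝒳.isStack.1 x e he g).1 (H K _ _ (x.w_obj (Over.mk g)))
      exact ht ▸ triv_pt h.2 hg (IsLocalRing.closedPoint K)

/-- For unramified diagonals it suffices to look at geometric objects. -/
theorem trivKernel_of_geom_unramified (h𝒳 : IsAlgStack Scheme.fppfPrecoverage 𝒳) (f : 𝒳 ⥤ᵇ 𝒴)
    (hu : RepByAlgSpWith (_root_.AlgSp.LocP (@LocallyOfFiniteType ⊓ @FormallyUnramified)) (_root_.FibCat.diag f))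
    (H : ∀ (K : Type u) [Field K] [IsAlgClosed K] (s : Spec (CommRingCat.of K) ⟶ S) (η : 𝒳.obj),
      𝒳.p.obj η = Over.mk s → ∀ (a : η ⟶ η), f.map a = 𝟙 (f.obj η) → a = 𝟙 η) : TrivKernel f :=
  trivKernel_of_forall_triv h𝒳 _ ((repByAlgSpWith_inertiaToBase_iff f).2 (repByAlgSpWith_fpFst _ hu))
    fun {U _} x e he hF h s hs => triv_of_unramified hF s hs h fun k _ _ sk p t t' ht ht' =>
      rel_sections_eq x e he p (fun z hz _ a ha => H k sk z hz a ha) t t' ht ht'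

end GrothLib.AlgSt
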