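import Groth.Agent.Lib.AlgSt.EtaleAtlas
import Groth.Agent.Lib.AlgSt.StabTriv
import Groth.Agent.Lib.FibCat.FiberFunctor
import Groth.Prelude.Def_StGerb

/-!
# Etale algebraic stacks with trivial stabilisers
-/

set_option backward.isDefEq.respectTransparency false
set_option backward.isDefEq.respectTransparency.types false

universe u

open CategoryTheory CategoryTheory.Limits AlgebraicGeometry Opposite

namespace GrothLib.AlgSt

open _root_.AlgSt GrothLib.FibCat GrothLib.AlgSp.TrivLocus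

variable {S : Scheme.{u}} {𝒳 : _root_.AlgSt.Cat S}

/-- The absolute diagonal of an etale algebraic stack is locally of finite type. -/
theorem repByAlgSpWith_lft_diag_toSelf_jet (h𝒳 : IsAlgStack Scheme.etalePrecoverage 𝒳) :
    RepByAlgSpWith (AlgSp.LocP @LocallyOfFiniteType) (_root_.FibCat.diag (_root_.FibCat.toSelf 𝒳)) := by
  obtain ⟨W, w, hw, hws⟩ := h𝒳.atlas
  let t := _root_.FibCat.toSelf 𝒳
  have hW := (isDM_of_repByAlgSp (repByAlgSp_overCat W)).1
  have hS := (isDM_of_repByAlgSp (repByAlgSp_selfOver (S := S))).1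
  have hC : RepByAlgSpWith (AlgSp.LocP @LocallyOfFiniteType) (fpToFp w w t) := by
    refine compStable_locP_lft.repByAlgSpWith_of_comp ((isDM_of_repByAlgSp (repByAlgSp1_of_repByAlgSpWith hw W w)).1)
      (isAlgStack_fp hS.isStack hS.diag hW hW (BasedFunctor.comp w t) (BasedFunctor.comp w t)) hW _
      (_root_.FibCat.fpFst _ _) ?_
      (repByAlgSpWith_lft_diag_of_rep (repByAlgSp1_fpFst _
        (repByAlgSp1_of_repByAlgSp (repByAlgSp_overCat W) repByAlgSp_selfOver (BasedFunctor.comp w t))))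
    exact repByAlgSpWith_mono (fun _ _ _ _ _ h => GrothLib.AlgSp.locP_mono
      (fun _ _ g (hg : Smooth g) => (inferInstance : LocallyOfFiniteType g)) h) (repByAlgSpWith_fpFst w hw)
  intro U y
  obtain ⟨F, e, he⟩ := h𝒳.diag U y
  refine ⟨F, e, he, ?_⟩
  let y₁ := BasedFunctor.comp y (_root_.FibCat.fpFst t t)
  let y₂ := BasedFunctor.comp y (_root_.FibCat.fpSnd t t)
  obtain ⟨V₁, c₁, l₁, hc₁, hc₁s, ⟨j₁⟩⟩ := exists_lift_chart y₁ w hw hws
  obtain ⟨V, c₂, l₂, hc₂, hc₂s, ⟨j₂⟩⟩ :=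
    exists_lift_chart (BasedFunctor.comp (GrothLib.FibCat.overMap c₁) y₂) w hw hws
  let c := c₂ ≫ c₁
  let k₁ : BasedFunctor.comp (GrothLib.FibCat.overMap c) y₁ ≅
      BasedFunctor.comp (GrothLib.FibCat.overMap (c₂ ≫ l₁)) w :=
    (whiskerRightIso (overMapCompIso c₂ c₁) y₁).symm ≪≫ whiskerLeftIso (GrothLib.FibCat.overMap c₂) j₁ ≪≫
      whiskerRightIso (overMapCompIso c₂ l₁) w
  let k₂ : BasedFunctor.comp (GrothLib.FibCat.overMap c) y₂ ≅ BasedFunctor.comp (GrothLib.FibCat.overMap l₂) w :=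
    (whiskerRightIso (overMapCompIso c₂ c₁) y₂).symm ≪≫ j₂
  let κ : BasedFunctor.comp (GrothLib.FibCat.overMap (c₂ ≫ l₁)) (BasedFunctor.comp w t) ≅
      BasedFunctor.comp (GrothLib.FibCat.overMap l₂) (BasedFunctor.comp w t) :=
    (whiskerRightIso k₁ t).symm ≪≫
      whiskerLeftIso (BasedFunctor.comp (GrothLib.FibCat.overMap c) y) (_root_.FibCat.fpIso t t) ≪≫
      whiskerRightIso k₂ t
  let y' := _root_.FibCat.fpLift (GrothLib.FibCat.overMap (c₂ ≫ l₁)) (GrothLib.FibCat.overMap l₂) κ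
  let yc := BasedFunctor.comp (GrothLib.FibCat.overMap c) y
  let j : BasedFunctor.comp y' (fpPair w w t) ≅ yc :=
    natIsoOfComponents
      (fun x => Fp.isoMk (a := (fpPair w w t).obj (y'.obj x)) (b := yc.obj x)
        (((BasedNatTrans.forgetful _ _).mapIso k₁).app x).symm
        (((BasedNatTrans.forgetful _ _).mapIso k₂).app x).symm (by
          have h2 : k₂.hom.app x ≫ k₂.inv.app x = 𝟙 _ := congrArg (fun s => s.app x) k₂.hom_inv_id
          change t.map (k₁.inv.app x) ≫ (yc.obj x).obj.iso.hom =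
            (t.map (k₁.inv.app x) ≫ (yc.obj x).obj.iso.hom ≫ t.map (k₂.hom.app x)) ≫ t.map (k₂.inv.app x)
          rw [Category.assoc, Category.assoc, ← t.map_comp, h2]
          exact (congrArg (t.map (k₁.inv.app x) ≫ ·)
            ((congrArg ((yc.obj x).obj.iso.hom ≫ ·) (t.map_id _)).trans (Category.comp_id _))).symm))
      (fun x => (Fp.isHomLift_iff _ _).2
        (BasedNatTrans.isHomLift k₁.inv ((GrothLib.FibCat.overMap (c₂ ≫ l₁)).w_obj x).symm))
      (fun {a b} φ => Fp.hom_ext (k₁.inv.toNatTrans.naturality φ) (k₂.inv.toNatTrans.naturality φ))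
  have hR : HasRep (AlgSp.LocP @LocallyOfFiniteType) (_root_.FibCat.fpFst yc (_root_.FibCat.diag t)) := by
    have := IsEquivOver.full (IsEquivOver.refl (_root_.FibCat.fp (BasedFunctor.comp w t) (BasedFunctor.comp w t)))
    have := IsEquivOver.faithful (IsEquivOver.refl (_root_.FibCat.fp (BasedFunctor.comp w t) (BasedFunctor.comp w t)))
    let iG : BasedFunctor.comp (fpToFpLift w w t) (_root_.FibCat.fpFst (fpPair w w t) (_root_.FibCat.diag t)) ≅
        BasedFunctor.comp (fpToFp w w t) (BasedFunctor.id _) := Iso.refl _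
    let E₁ := Fp.map (F := y') (G := fpToFp w w t) (F' := y')
      (G' := _root_.FibCat.fpFst (fpPair w w t) (_root_.FibCat.diag t))
      (BasedFunctor.id _) (fpToFpLift w w t) (BasedFunctor.id _) (Iso.refl y') iG
    exact HasRep.of_equiv (BasedFunctor.comp E₁ (BasedFunctor.comp
        (Fp.paste (_root_.FibCat.diag t) (fpPair w w t) y') (Fp.congr j (Iso.refl (_root_.FibCat.diag t)))))
      (IsEquivOver.comp (Fp.isEquivOver_map _ _ _ _ _ (IsEquivOver.refl _)
          (isEquivOver_fpToFpLift hW.isStack.1 w w t))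
        (IsEquivOver.comp (Fp.isEquivOver_paste (_root_.FibCat.diag t) (fpPair w w t) y')
          (Fp.isEquivOver_congr j (Iso.refl _))))
      (Iso.refl _) (hC V y')
  let b := spMapOfOver (BasedFunctor.comp e (_root_.FibCat.fpFst y (_root_.FibCat.diag t)))
  have : Smooth c.left := by
    have := hc₁
    have := hc₂
    rw [Over.comp_left]; infer_instance
  have : Surjective c.left := by
    have := hc₁s
    have := hc₂s
    rw [Over.comp_left]; infer_instance
  refine locP_of_fppf_base GrothLib.AlgSp.EtLocal.lft GrothLib.AlgSp.fppfDescends_lft F.property c b ?_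
  obtain ⟨iF⟩ := iso_of_spMapOfOver_eq
    (Φ := BasedFunctor.comp (toOverCat V) (GrothLib.FibCat.overMap c))
    (Ψ := BasedFunctor.comp (ofSpMap ((AlgSp.yon S).map c)) (toOverCat U))
    ((spMapOfOver_overMap c).trans (spMapOfOver_toOverCat _).symm)
  have := IsEquivOver.full (isEquivOver_toOverCat U)
  have := IsEquivOver.faithful (isEquivOver_toOverCat U)
  let iG : BasedFunctor.comp e (_root_.FibCat.fpFst y (_root_.FibCat.diag t)) ≅
      BasedFunctor.comp (ofSpMap b) (toOverCat U) :=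
    isoOfSpMapOfOver (BasedFunctor.comp e (_root_.FibCat.fpFst y (_root_.FibCat.diag t)))
  let sq := IsPullback.of_hasPullback ((AlgSp.yon S).map c) b
  have hm := HasRep.mem hR isoInvariant_locP
    ⟨_, GrothLib.AlgSp.isAlgSpace_pullback' (AlgSp.IsAlgSpace.yon_obj U) (AlgSp.IsAlgSpace.yon_obj V) F.property
      ((AlgSp.yon S).map c) b⟩
    (BasedFunctor.comp (spToFp sq.w) (BasedFunctor.comp (Fp.map (toOverCat V) e (toOverCat U) iF iG)
      (Fp.paste (_root_.FibCat.diag t) y (GrothLib.FibCat.overMap c))))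
    (IsEquivOver.comp (isEquivOver_spToFp sq) (IsEquivOver.comp
      (Fp.isEquivOver_map _ _ _ _ _ (isEquivOver_toOverCat V) he)
      (Fp.isEquivOver_paste (_root_.FibCat.diag t) y (GrothLib.FibCat.overMap c))))
  exact spMapOfOver_toOverCat (pullback.fst ((AlgSp.yon S).map c) b) ▸ hm

theorem trivKernel_toSelf_of_fields_jet (h𝒳 : IsAlgStack Scheme.etalePrecoverage 𝒳)
    (H : ∀ (K : Type u) [Field K] (s : Spec (CommRingCat.of K) ⟶ S) (η : 𝒳.obj),
      𝒳.p.obj η = Over.mk s → IsRelClean (_root_.FibCat.toSelf 𝒳) η) : TrivKernel (_root_.FibCat.toSelf 𝒳) := by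
  intro a φ hp hf
  have hG := h𝒳.isStack.1
  obtain ⟨x, j, -⟩ := Yon.exists_functor hG a rfl
  obtain ⟨F, e, he, hπ⟩ := (repByAlgSpWith_inertiaToBase_iff (_root_.FibCat.toSelf 𝒳)).2
    (repByAlgSpWith_fpFst _ (repByAlgSpWith_lft_diag_toSelf_jet h𝒳)) (𝒳.p.obj a) x
  obtain ⟨s, hs⟩ := exists_rel_section x e he
  refine (isRelClean_iff_triv hG x e he (𝟙 _)).2 (triv_of_fibres F.property s hs hπ fun t => ?_) a j.inv φ hp hf
  exact (isRelClean_iff_triv hG x e he _).1
    (H ((𝒳.p.obj a).left.residueField t) _ _ (x.w_obj (Over.mk (ptι (𝒳.p.obj a) t))))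

theorem repByAlgSp_iff_autO_subsingleton (h𝒳 : IsAlgStack Scheme.etalePrecoverage 𝒳) :
    RepByAlgSp 𝒳 ↔ ∀ (k : Type u) [Field k] (sk : Spec (CommRingCat.of k) ⟶ S)
      (x : _root_.FibCat.overCat (Over.mk sk) ⥤ᵇ 𝒳) (T : Over (Over.mk sk)),
      Subsingleton (_root_.Gerb.AutO (x.obj T)) := by
  have hG := h𝒳.isStack.1
  refine ⟨fun h k _ sk x T => ?_, fun H => ?_⟩
  · have := (isFibSetoid_of_repByAlgSp h).2 (𝒳.p.obj (x.obj T))
    exact ⟨fun α β => Iso.ext ((this _ _).allEq _ _)⟩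
  have hset : _root_.FibCat.IsFibSetoid 𝒳.p := by
    refine ⟨hG, fun U a b => ⟨fun φ ψ => Functor.Fiber.hom_ext ?_⟩⟩
    have hk : TrivKernel (_root_.FibCat.toSelf 𝒳) := trivKernel_toSelf_of_fields_jet h𝒳 fun K _ s η hη z m t ht _ => by
      obtain ⟨x, j, -⟩ := Yon.exists_functor hG η hη
      let g : 𝒳.p.obj z ⟶ Over.mk s := 𝒳.p.map (m ≫ j.inv) ≫ eqToHom (x.w_obj _)
      let T : (_root_.FibCat.overCat (Over.mk s)).obj := Over.mk g
      let c : T ⟶ Yon.idObj (Over.mk s) := Over.homMk g (Category.comp_id g)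
      have h1 : (_root_.FibCat.overCat (Over.mk s)).p.IsHomLift g c := IsHomLift.map (_root_.FibCat.overCat (Over.mk s)).p c
      have h2 : 𝒳.p.IsHomLift g (x.map c) := inferInstance
      have h3 : 𝒳.p.IsHomLift g (m ≫ j.inv) := IsHomLift.of_fac' _ _ _ rfl (x.w_obj _) (by simp [g])
      obtain ⟨θ, hθ, -⟩ := @IsFibGrpd.exists_iso_of_lifts _ _ _ _ _ hG _ _ g _ _ _ (x.map c) (m ≫ j.inv) h2 h3
      have hti : IsIso t := (IsFibGrpd.isIso_iff hG t).2 (by rw [ht]; infer_instance)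
      let α : x.obj T ≅ x.obj T := θ.symm ≪≫ asIso t ≪≫ θ
      have hθi : 𝒳.p.IsHomLift (𝟙 (𝒳.p.obj z)) θ.hom := hθ
      have : 𝒳.p.IsHomLift (𝟙 (𝒳.p.obj z)) θ.inv := IsHomLift.lift_id_inv 𝒳.p _ θ
      have : 𝒳.p.IsHomLift (𝟙 (𝒳.p.obj z)) t := by rw [← ht]; exact IsHomLift.map _ _
      have hα : 𝒳.p.IsHomLift (𝟙 (𝒳.p.obj (x.obj T))) α.hom := by
        have : 𝒳.p.IsHomLift (𝟙 (𝒳.p.obj z)) α.hom := by
          simp only [α, Iso.trans_hom, Iso.symm_hom, asIso_hom]
          infer_instance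
        exact isHomLift_id_domain 𝒳.p (R := 𝒳.p.obj z) α.hom
      have := H K s x T
      let A : _root_.Gerb.AutO (x.obj T) :=
        GrothLib.FibCat.fiberIso (a := _root_.Gerb.fib (x.obj T)) (b := _root_.Gerb.fib (x.obj T)) α hα
      have hA : α.hom = 𝟙 _ := congrArg (fun B : _root_.Gerb.AutO (x.obj T) => B.hom.1) (Subsingleton.elim A (Iso.refl _))
      simp only [α, Iso.trans_hom, Iso.symm_hom, asIso_hom] at hA
      have e1 : t = θ.hom ≫ (θ.inv ≫ t ≫ θ.hom) ≫ θ.inv := by simp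
      rw [e1, hA]
      simp
    have : 𝒳.p.IsHomLift (𝟙 U) φ.1 := φ.2
    have : 𝒳.p.IsHomLift (𝟙 U) ψ.1 := ψ.2
    have hiφ := IsFibGrpd.isIso_of_isHomLift_id hG (R := U) φ.1
    have hiψ := IsFibGrpd.isIso_of_isHomLift_id hG (R := U) ψ.1
    let e := φ.1 ≫ inv ψ.1
    have he : 𝒳.p.map e = 𝟙 _ := by
      simp only [e, Functor.map_comp, Functor.map_inv]
      rw [IsIso.comp_inv_eq, Category.id_comp, map_eq_eqToHom 𝒳.p (R := U) φ.1, map_eq_eqToHom 𝒳.p (R := U) ψ.1]
    have hfe : (_root_.FibCat.toSelf 𝒳).map e = 𝟙 _ := he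
    have := hk _ e he hfe
    simp only [e, IsIso.comp_inv_eq, Category.id_comp] at this
    exact this
  obtain ⟨U, w, hw, hws⟩ := h𝒳.atlas
  have := IsEquivOver.full (IsEquivOver.refl 𝒳)
  have := IsEquivOver.faithful (IsEquivOver.refl 𝒳)
  exact repByAlgSp_of_setoid_cover_jet h𝒳.isStack hset (Z := ⟨(AlgSp.yon S).obj U, AlgSp.IsAlgSpace.yon_obj U⟩)
    (BasedFunctor.comp (toOverCat U) w) (repByAlgSpWith_of_square (f := w) (toOverCat U) (BasedFunctor.id 𝒳)
      (isEquivOver_toOverCat U) (Iso.refl _) (repByAlgSpWith_inf isoInvariant_surjective hws hw))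

end GrothLib.AlgSt
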