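import Groth.Agent.Lib.AlgSt.DiagDM
import Groth.Agent.Lib.AlgSt.EtaleSetoid
import Groth.Agent.Lib.AlgSt.DiagLFT
import Groth.Agent.Lib.AlgSt.EtaleDiag
import Groth.Agent.Lib.AlgSp.UnramMono

/-!
# The diagonal of a Deligne–Mumford stack is unramified
-/

set_option backward.isDefEq.respectTransparency false
set_option backward.isDefEq.respectTransparency.types false

universe u

open CategoryTheory CategoryTheory.Limits AlgebraicGeometry Opposite

namespace GrothLib.AlgSt

open _root_.AlgSt GrothLib.FibCat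

variable {S : Scheme.{u}} {𝒳 𝒴 : _root_.AlgSt.Cat S}

/-- The absolute diagonal of an etale Deligne–Mumford stack is unramified. -/
theorem repByAlgSpWith_unramified_diag_toSelf_jet (hDM : IsDM Scheme.etalePrecoverage 𝒳) :
    RepByAlgSpWith (AlgSp.LocP UnrP) (_root_.FibCat.diag (_root_.FibCat.toSelf 𝒳)) := by
  have h𝒳 := hDM.1
  obtain ⟨W, w, hwe, hws⟩ := hDM.2
  have hw : RepByAlgSpWith (AlgSp.LocP @Smooth) w := repByAlgSpWith_mono (fun _ _ _ hX hY h =>
    locP_smooth_of_isEtaleMor hX hY h) hwe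
  let t := _root_.FibCat.toSelf 𝒳
  have hW := (isDM_of_repByAlgSp (repByAlgSp_overCat W)).1
  have hS := (isDM_of_repByAlgSp (repByAlgSp_selfOver (S := S))).1
  have hC : RepByAlgSpWith (AlgSp.LocP UnrP) (fpToFp w w t) := by
    refine compStable_locP_unramified.repByAlgSpWith_of_comp ((isDM_of_repByAlgSp (repByAlgSp1_of_repByAlgSpWith hw W w)).1)
      (isAlgStack_fp hS.isStack hS.diag hW hW (BasedFunctor.comp w t) (BasedFunctor.comp w t)) hW _
      (_root_.FibCat.fpFst _ _) ?_
      (repByAlgSpWith_unramified_diag_of_rep (repByAlgSp1_fpFst _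
        (repByAlgSp1_of_repByAlgSp (repByAlgSp_overCat W) repByAlgSp_selfOver (BasedFunctor.comp w t))))
    exact repByAlgSpWith_mono (fun _ _ _ hX hY h => locP_unramified_of_isEtaleMor hX hY h) (repByAlgSpWith_fpFst w hwe)
  intro U y
  obtain ⟨F, e, he⟩ := h𝒳.diag U y
  refine ⟨F, e, he, ?_⟩
  let y₁ := BasedFunctor.comp y (_root_.FibCat.fpFst t t)
  let y₂ := BasedFunctor.comp y (_root_.FibCat.fpSnd t t)
  obtain ⟨V₁, c₁, l₁, hc₁, hc₁s, ⟨j₁⟩⟩ := exists_lift_chart y₁ w hw hws
  obtain ⟨V, c₂, l₂, hc₂, hc₂s, ⟨j₂⟩⟩ :=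
    exists_lift_chart (BasedFunctor.comp (GrothLib.FibCat.overMap c₁) y₂) w hw hws
  let c := c₂ ≫ c₁
  let k₁ : BasedFunctor.comp (GrothLib.FibCat.overMap c) y₁ ≅
      BasedFunctor.comp (GrothLib.FibCat.overMap (c₂ ≫ l₁)) w :=
    (whiskerRightIso (overMapCompIso c₂ c₁) y₁).symm ≪≫ whiskerLeftIso (GrothLib.FibCat.overMap c₂) j₁ ≪≫
      whiskerRightIso (overMapCompIso c₂ l₁) w
  let k₂ : BasedFunctor.comp (GrothLib.FibCat.overMap c) y₂ ≅ BasedFunctor.comp (GrothLib.FibCat.overMap l₂) w :=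
    (whiskerRightIso (overMapCompIso c₂ c₁) y₂).symm ≪≫ j₂
  let κ : BasedFunctor.comp (GrothLib.FibCat.overMap (c₂ ≫ l₁)) (BasedFunctor.comp w t) ≅
      BasedFunctor.comp (GrothLib.FibCat.overMap l₂) (BasedFunctor.comp w t) :=
    (whiskerRightIso k₁ t).symm ≪≫
      whiskerLeftIso (BasedFunctor.comp (GrothLib.FibCat.overMap c) y) (_root_.FibCat.fpIso t t) ≪≫
      whiskerRightIso k₂ t
  let y' := _root_.FibCat.fpLift (GrothLib.FibCat.overMap (c₂ ≫ l₁)) (GrothLib.FibCat.overMap l₂) κ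
  let yc := BasedFunctor.comp (GrothLib.FibCat.overMap c) y
  let j : BasedFunctor.comp y' (fpPair w w t) ≅ yc :=
    natIsoOfComponents
      (fun x => Fp.isoMk (a := (fpPair w w t).obj (y'.obj x)) (b := yc.obj x)
        (((BasedNatTrans.forgetful _ _).mapIso k₁).app x).symm
        (((BasedNatTrans.forgetful _ _).mapIso k₂).app x).symm (by
          have h2 : k₂.hom.app x ≫ k₂.inv.app x = 𝟙 _ := congrArg (fun s => s.app x) k₂.hom_inv_id
          change t.map (k₁.inv.app x) ≫ (yc.obj x).obj.iso.hom =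
            (t.map (k₁.inv.app x) ≫ (yc.obj x).obj.iso.hom ≫ t.map (k₂.hom.app x)) ≫ t.map (k₂.inv.app x)
          rw [Category.assoc, Category.assoc, ← t.map_comp, h2]
          exact (congrArg (t.map (k₁.inv.app x) ≫ ·)
            ((congrArg ((yc.obj x).obj.iso.hom ≫ ·) (t.map_id _)).trans (Category.comp_id _))).symm))
      (fun x => (Fp.isHomLift_iff _ _).2
        (BasedNatTrans.isHomLift k₁.inv ((GrothLib.FibCat.overMap (c₂ ≫ l₁)).w_obj x).symm))
      (fun {a b} φ => Fp.hom_ext (k₁.inv.toNatTrans.naturality φ) (k₂.inv.toNatTrans.naturality φ))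
  have hR : HasRep (AlgSp.LocP UnrP) (_root_.FibCat.fpFst yc (_root_.FibCat.diag t)) := by
    have := IsEquivOver.full (IsEquivOver.refl (_root_.FibCat.fp (BasedFunctor.comp w t) (BasedFunctor.comp w t)))
    have := IsEquivOver.faithful (IsEquivOver.refl (_root_.FibCat.fp (BasedFunctor.comp w t) (BasedFunctor.comp w t)))
    let iG : BasedFunctor.comp (fpToFpLift w w t) (_root_.FibCat.fpFst (fpPair w w t) (_root_.FibCat.diag t)) ≅
        BasedFunctor.comp (fpToFp w w t) (BasedFunctor.id _) := Iso.refl _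
    let E₁ := Fp.map (F := y') (G := fpToFp w w t) (F' := y')
      (G' := _root_.FibCat.fpFst (fpPair w w t) (_root_.FibCat.diag t))
      (BasedFunctor.id _) (fpToFpLift w w t) (BasedFunctor.id _) (Iso.refl y') iG
    exact HasRep.of_equiv (BasedFunctor.comp E₁ (BasedFunctor.comp
        (Fp.paste (_root_.FibCat.diag t) (fpPair w w t) y') (Fp.congr j (Iso.refl (_root_.FibCat.diag t)))))
      (IsEquivOver.comp (Fp.isEquivOver_map _ _ _ _ _ (IsEquivOver.refl _)
          (isEquivOver_fpToFpLift hW.isStack.1 w w t))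
        (IsEquivOver.comp (Fp.isEquivOver_paste (_root_.FibCat.diag t) (fpPair w w t) y')
          (Fp.isEquivOver_congr j (Iso.refl _))))
      (Iso.refl _) (hC V y')
  let b := spMapOfOver (BasedFunctor.comp e (_root_.FibCat.fpFst y (_root_.FibCat.diag t)))
  have : Smooth c.left := by
    have := hc₁
    have := hc₂
    rw [Over.comp_left]; infer_instance
  have : Surjective c.left := by
    have := hc₁s
    have := hc₂s
    rw [Over.comp_left]; infer_instance
  refine locP_of_fppf_base (GrothLib.AlgSp.EtLocal.lft.inf GrothLib.AlgSp.EtLocal.formallyUnramified)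
    (GrothLib.AlgSp.fppfDescends_lft.inf GrothLib.AlgSp.fppfDescends_formallyUnramified) F.property c b ?_
  obtain ⟨iF⟩ := iso_of_spMapOfOver_eq
    (Φ := BasedFunctor.comp (toOverCat V) (GrothLib.FibCat.overMap c))
    (Ψ := BasedFunctor.comp (ofSpMap ((AlgSp.yon S).map c)) (toOverCat U))
    ((spMapOfOver_overMap c).trans (spMapOfOver_toOverCat _).symm)
  have := IsEquivOver.full (isEquivOver_toOverCat U)
  have := IsEquivOver.faithful (isEquivOver_toOverCat U)
  let iG : BasedFunctor.comp e (_root_.FibCat.fpFst y (_root_.FibCat.diag t)) ≅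
      BasedFunctor.comp (ofSpMap b) (toOverCat U) :=
    isoOfSpMapOfOver (BasedFunctor.comp e (_root_.FibCat.fpFst y (_root_.FibCat.diag t)))
  let sq := IsPullback.of_hasPullback ((AlgSp.yon S).map c) b
  have hm := HasRep.mem hR isoInvariant_locP
    ⟨_, GrothLib.AlgSp.isAlgSpace_pullback' (AlgSp.IsAlgSpace.yon_obj U) (AlgSp.IsAlgSpace.yon_obj V) F.property
      ((AlgSp.yon S).map c) b⟩
    (BasedFunctor.comp (spToFp sq.w) (BasedFunctor.comp (Fp.map (toOverCat V) e (toOverCat U) iF iG)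
      (Fp.paste (_root_.FibCat.diag t) y (GrothLib.FibCat.overMap c))))
    (IsEquivOver.comp (isEquivOver_spToFp sq) (IsEquivOver.comp
      (Fp.isEquivOver_map _ _ _ _ _ (isEquivOver_toOverCat V) he)
      (Fp.isEquivOver_paste (_root_.FibCat.diag t) y (GrothLib.FibCat.overMap c))))
  exact spMapOfOver_toOverCat (pullback.fst ((AlgSp.yon S).map c) b) ▸ hm

end GrothLib.AlgSt
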