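import Groth.Agent.Lib.AlgSt.EtaleDiag

/-!
# The diagonal of a map of fibre products
-/

set_option backward.isDefEq.respectTransparency false
set_option backward.isDefEq.respectTransparency.types false

universe u

open CategoryTheory CategoryTheory.Limits AlgebraicGeometry Opposite

namespace GrothLib.AlgSt

open _root_.AlgSt GrothLib.FibCat

variable {S : Scheme.{u}} {P : MorphismProperty (AlgSp.Sp S)}

section Transfer

variable {𝒳 𝒴 𝒳' 𝒴' : _root_.AlgSt.Cat S} {f : 𝒳 ⥤ᵇ 𝒴} {f' : 𝒳' ⥤ᵇ 𝒴'}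

/-- The square of diagonals of equivalent functors. -/
def diagSquareIso (a : 𝒳' ⥤ᵇ 𝒳) (b : 𝒴' ⥤ᵇ 𝒴) (i : BasedFunctor.comp a f ≅ BasedFunctor.comp f' b) :
    BasedFunctor.comp (_root_.FibCat.diag f') (Fp.map a a b i i) ≅ BasedFunctor.comp a (_root_.FibCat.diag f) :=
  natIsoOfComponents
    (fun x => Fp.isoMk (a := (Fp.map a a b i i).obj ((_root_.FibCat.diag f').obj x))
      (b := (_root_.FibCat.diag f).obj (a.obj x)) (Iso.refl _) (Iso.refl _) (by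
        have hi' : i.hom.app x ≫ i.inv.app x = 𝟙 _ := congrArg (fun t => t.app x) i.hom_inv_id
        change f.map (𝟙 (a.obj x)) ≫ 𝟙 _ =
          (i.hom.app x ≫ b.map (𝟙 (f'.obj x)) ≫ i.inv.app x) ≫ f.map (𝟙 (a.obj x))
        rw [f.map_id, b.map_id]
        exact (Category.comp_id _).trans (((Category.comp_id _).trans
          ((congrArg (i.hom.app x ≫ ·) (Category.id_comp _)).trans hi')).symm)))
    (fun x => (Fp.isHomLift_iff _ _).2 (IsHomLift.id (a.w_obj x)))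
    (fun {x y} φ => Fp.hom_ext ((Category.comp_id _).trans (Category.id_comp _).symm)
      ((Category.comp_id _).trans (Category.id_comp _).symm))

/-- Equivalent functors have diagonals with the same properties. -/
theorem repByAlgSpWith_diag_iff_of_square (a : 𝒳' ⥤ᵇ 𝒳) (b : 𝒴' ⥤ᵇ 𝒴)
    (ha : _root_.FibCat.IsEquivOver a) (hb : _root_.FibCat.IsEquivOver b)
    (i : BasedFunctor.comp a f ≅ BasedFunctor.comp f' b) :
    RepByAlgSpWith P (_root_.FibCat.diag f) ↔ RepByAlgSpWith P (_root_.FibCat.diag f') :=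
  have := IsEquivOver.full hb
  have := IsEquivOver.faithful hb
  repByAlgSpWith_iff_of_square a (Fp.map a a b i i) ha (Fp.isEquivOver_map _ _ _ _ _ ha ha)
    (diagSquareIso a b i)

end Transfer

section FpMap

variable {𝒳 𝒳' 𝒴 𝒴' 𝒵 : _root_.AlgSt.Cat S}

/-- `𝒳 ×_𝒵 𝒴 ⟶ 𝒳' ×_𝒵 𝒴` given by `f : 𝒳 ⟶ 𝒳'`. -/
def fpMapLeft (f : 𝒳 ⥤ᵇ 𝒳') (p' : 𝒳' ⥤ᵇ 𝒵) (r : 𝒴 ⥤ᵇ 𝒵) :
    _root_.FibCat.fp (BasedFunctor.comp f p') r ⥤ᵇ _root_.FibCat.fp p' r :=
  _root_.FibCat.fpLift (BasedFunctor.comp (_root_.FibCat.fpFst (BasedFunctor.comp f p') r) f)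
    (_root_.FibCat.fpSnd (BasedFunctor.comp f p') r) (_root_.FibCat.fpIso (BasedFunctor.comp f p') r)

/-- `𝒳' ×_𝒵 𝒴 ⟶ 𝒳' ×_𝒵 𝒴'` given by `g : 𝒴 ⟶ 𝒴'`. -/
def fpMapRight (g : 𝒴 ⥤ᵇ 𝒴') (q' : 𝒴' ⥤ᵇ 𝒵) (p' : 𝒳' ⥤ᵇ 𝒵) :
    _root_.FibCat.fp p' (BasedFunctor.comp g q') ⥤ᵇ _root_.FibCat.fp p' q' :=
  _root_.FibCat.fpLift (_root_.FibCat.fpFst p' (BasedFunctor.comp g q'))
    (BasedFunctor.comp (_root_.FibCat.fpSnd p' (BasedFunctor.comp g q')) g)
    (_root_.FibCat.fpIso p' (BasedFunctor.comp g q'))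

/-- `fpMapLeft` is a base change of `f`. -/
def fpMapLeftSquare (f : 𝒳 ⥤ᵇ 𝒳') (p' : 𝒳' ⥤ᵇ 𝒵) (r : 𝒴 ⥤ᵇ 𝒵) :
    BasedFunctor.comp (BasedFunctor.comp (Fp.pasteComp f p' r) (Fp.symm r (BasedFunctor.comp f p')))
        (fpMapLeft f p' r) ≅
      BasedFunctor.comp (_root_.FibCat.fpFst (_root_.FibCat.fpSnd r p') f) (Fp.symm r p') :=
  (natIsoOfComponents
    (F := BasedFunctor.comp (_root_.FibCat.fpFst (_root_.FibCat.fpSnd r p') f) (Fp.symm r p'))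
    (G := BasedFunctor.comp (BasedFunctor.comp (Fp.pasteComp f p' r) (Fp.symm r (BasedFunctor.comp f p')))
      (fpMapLeft f p' r))
    (fun x => Fp.isoMk
      (a := (Fp.symm r p').obj ((_root_.FibCat.fpFst (_root_.FibCat.fpSnd r p') f).obj x))
      (b := (fpMapLeft f p' r).obj ((Fp.symm r (BasedFunctor.comp f p')).obj ((Fp.pasteComp f p' r).obj x)))
      x.obj.iso (Iso.refl _) (by
        let κ : x.obj.fst.obj.snd ≅ f.obj x.obj.snd := x.obj.iso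
        let ι : r.obj x.obj.fst.obj.fst ≅ p'.obj x.obj.fst.obj.snd := x.obj.fst.obj.iso
        change p'.map κ.hom ≫ (p'.map κ.inv ≫ ι.inv) = ι.inv ≫ r.map (𝟙 _)
        rw [r.map_id, ← Category.assoc, ← p'.map_comp, κ.hom_inv_id, p'.map_id]
        exact (Category.id_comp _).trans (Category.comp_id _).symm))
    (fun x => (Fp.isHomLift_iff _ _).2 (Fp.iso_lift x))
    (fun {a b} φ => Fp.hom_ext (Fp.w φ) ((Category.comp_id _).trans (Category.id_comp _).symm))).symm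

/-- `fpMapRight` is a base change of `g`. -/
def fpMapRightSquare (g : 𝒴 ⥤ᵇ 𝒴') (q' : 𝒴' ⥤ᵇ 𝒵) (p' : 𝒳' ⥤ᵇ 𝒵) :
    BasedFunctor.comp (Fp.pasteComp g q' p') (fpMapRight g q' p') ≅
      BasedFunctor.comp (_root_.FibCat.fpFst (_root_.FibCat.fpSnd p' q') g) (BasedFunctor.id _) :=
  (natIsoOfComponents
    (F := BasedFunctor.comp (_root_.FibCat.fpFst (_root_.FibCat.fpSnd p' q') g) (BasedFunctor.id _))
    (G := BasedFunctor.comp (Fp.pasteComp g q' p') (fpMapRight g q' p'))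
    (fun x => Fp.isoMk
      (a := (_root_.FibCat.fpFst (_root_.FibCat.fpSnd p' q') g).obj x)
      (b := (fpMapRight g q' p').obj ((Fp.pasteComp g q' p').obj x))
      (Iso.refl _) x.obj.iso (by
        let κ : x.obj.fst.obj.snd ≅ g.obj x.obj.snd := x.obj.iso
        let ι : p'.obj x.obj.fst.obj.fst ≅ q'.obj x.obj.fst.obj.snd := x.obj.fst.obj.iso
        change p'.map (𝟙 _) ≫ (ι.hom ≫ q'.map κ.hom) = ι.hom ≫ q'.map κ.hom
        rw [p'.map_id]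
        exact Category.id_comp _))
    (fun x => (Fp.isHomLift_iff _ _).2 (IsHomLift.id rfl))
    (fun {a b} φ => Fp.hom_ext ((Category.comp_id _).trans (Category.id_comp _).symm) (Fp.w φ))).symm

theorem repByAlgSpWith_diag_fpMapLeft (f : 𝒳 ⥤ᵇ 𝒳') (p' : 𝒳' ⥤ᵇ 𝒵) (r : 𝒴 ⥤ᵇ 𝒵)
    (hf : RepByAlgSpWith P (_root_.FibCat.diag f)) :
    RepByAlgSpWith P (_root_.FibCat.diag (fpMapLeft f p' r)) :=
  (repByAlgSpWith_diag_iff_of_square (f := fpMapLeft f p' r)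
    (f' := _root_.FibCat.fpFst (_root_.FibCat.fpSnd r p') f)
    (BasedFunctor.comp (Fp.pasteComp f p' r) (Fp.symm r (BasedFunctor.comp f p'))) (Fp.symm r p')
    (IsEquivOver.comp (Fp.isEquivOver_pasteComp f p' r) (Fp.isEquivOver_symm r (BasedFunctor.comp f p')))
    (Fp.isEquivOver_symm r p') (fpMapLeftSquare f p' r)).2 (repByAlgSpWith_diag_fpFst f _ hf)

theorem repByAlgSpWith_diag_fpMapRight (g : 𝒴 ⥤ᵇ 𝒴') (q' : 𝒴' ⥤ᵇ 𝒵) (p' : 𝒳' ⥤ᵇ 𝒵)
    (hg : RepByAlgSpWith P (_root_.FibCat.diag g)) :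
    RepByAlgSpWith P (_root_.FibCat.diag (fpMapRight g q' p')) :=
  (repByAlgSpWith_diag_iff_of_square (f := fpMapRight g q' p')
    (f' := _root_.FibCat.fpFst (_root_.FibCat.fpSnd p' q') g)
    (Fp.pasteComp g q' p') (BasedFunctor.id _) (Fp.isEquivOver_pasteComp g q' p')
    (IsEquivOver.refl _) (fpMapRightSquare g q' p')).2 (repByAlgSpWith_diag_fpFst g _ hg)

/-- The map of fibre products is the composite of the two partial maps. -/
def fpMapCompIso (p' : 𝒳' ⥤ᵇ 𝒵) (q' : 𝒴' ⥤ᵇ 𝒵) (f : 𝒳 ⥤ᵇ 𝒳') (g : 𝒴 ⥤ᵇ 𝒴')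
    (e : BasedFunctor.comp (BasedFunctor.comp
        (_root_.FibCat.fpFst (BasedFunctor.comp f p') (BasedFunctor.comp g q')) f) p' ≅
      BasedFunctor.comp (BasedFunctor.comp
        (_root_.FibCat.fpSnd (BasedFunctor.comp f p') (BasedFunctor.comp g q')) g) q')
    (he : ∀ x, e.hom.toNatTrans.app x = x.obj.iso.hom) :
    BasedFunctor.comp (fpMapLeft f p' (BasedFunctor.comp g q')) (fpMapRight g q' p') ≅
      _root_.FibCat.fpLift (BasedFunctor.comp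
          (_root_.FibCat.fpFst (BasedFunctor.comp f p') (BasedFunctor.comp g q')) f)
        (BasedFunctor.comp (_root_.FibCat.fpSnd (BasedFunctor.comp f p') (BasedFunctor.comp g q')) g) e :=
  natIsoOfComponents
    (fun x => Fp.isoMk
      (a := (fpMapRight g q' p').obj ((fpMapLeft f p' (BasedFunctor.comp g q')).obj x))
      (b := (_root_.FibCat.fpLift (BasedFunctor.comp
          (_root_.FibCat.fpFst (BasedFunctor.comp f p') (BasedFunctor.comp g q')) f)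
        (BasedFunctor.comp (_root_.FibCat.fpSnd (BasedFunctor.comp f p') (BasedFunctor.comp g q')) g) e).obj x)
      (Iso.refl _) (Iso.refl _) (by
        change p'.map (𝟙 (f.obj x.obj.fst)) ≫ e.hom.toNatTrans.app x =
          x.obj.iso.hom ≫ q'.map (𝟙 (g.obj x.obj.snd))
        rw [he x, p'.map_id, q'.map_id]
        exact (Category.id_comp _).trans (Category.comp_id _).symm))
    (fun x => (Fp.isHomLift_iff _ _).2 (IsHomLift.id (f.w_obj x.obj.fst)))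
    (fun {a b} φ => Fp.hom_ext ((Category.comp_id _).trans (Category.id_comp _).symm)
      ((Category.comp_id _).trans (Category.id_comp _).symm))

theorem repByAlgSpWith_fpMapLeft (f : 𝒳 ⥤ᵇ 𝒳') (p' : 𝒳' ⥤ᵇ 𝒵) (r : 𝒴 ⥤ᵇ 𝒵) (hf : RepByAlgSpWith P f) :
    RepByAlgSpWith P (fpMapLeft f p' r) :=
  (repByAlgSpWith_iff_of_square (f := fpMapLeft f p' r)
    (f' := _root_.FibCat.fpFst (_root_.FibCat.fpSnd r p') f)
    (BasedFunctor.comp (Fp.pasteComp f p' r) (Fp.symm r (BasedFunctor.comp f p'))) (Fp.symm r p')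
    (IsEquivOver.comp (Fp.isEquivOver_pasteComp f p' r) (Fp.isEquivOver_symm r (BasedFunctor.comp f p')))
    (Fp.isEquivOver_symm r p') (fpMapLeftSquare f p' r).symm).2 (repByAlgSpWith_fpFst _ hf)

theorem repByAlgSpWith_fpMapRight (g : 𝒴 ⥤ᵇ 𝒴') (q' : 𝒴' ⥤ᵇ 𝒵) (p' : 𝒳' ⥤ᵇ 𝒵) (hg : RepByAlgSpWith P g) :
    RepByAlgSpWith P (fpMapRight g q' p') :=
  (repByAlgSpWith_iff_of_square (f := fpMapRight g q' p')
    (f' := _root_.FibCat.fpFst (_root_.FibCat.fpSnd p' q') g)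
    (Fp.pasteComp g q' p') (BasedFunctor.id _) (Fp.isEquivOver_pasteComp g q' p')
    (IsEquivOver.refl _) (fpMapRightSquare g q' p').symm).2 (repByAlgSpWith_fpFst _ hg)

end FpMap

section Prod

variable {𝒳₁ 𝒳₂ 𝒴₁ 𝒴₂ : _root_.AlgSt.Cat S}

/-- `f` commutes with the structure functors. -/
def toSelfCompIso (f : 𝒳₁ ⥤ᵇ 𝒴₁) :
    _root_.FibCat.toSelf 𝒳₁ ≅ BasedFunctor.comp f (_root_.FibCat.toSelf 𝒴₁) :=
  (natIsoOfComponents (F := BasedFunctor.comp f (_root_.FibCat.toSelf 𝒴₁)) (G := _root_.FibCat.toSelf 𝒳₁)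
    (fun a => eqToIso (f.w_obj a))
    (fun a => IsHomLift.of_fac' _ _ _ (f.w_obj a) rfl (by simp; rfl))
    (fun {a b} φ => by
      change 𝒴₁.p.map (f.map φ) ≫ eqToHom (f.w_obj b) = eqToHom (f.w_obj a) ≫ 𝒳₁.p.map φ
      rw [p_map_map]
      simp)).symm

/-- The product of two functors factors through the partial maps. -/
def prodMapSquare (f₁ : 𝒳₁ ⥤ᵇ 𝒴₁) (f₂ : 𝒳₂ ⥤ᵇ 𝒴₂)
    (e : BasedFunctor.comp (BasedFunctor.comp
        (_root_.FibCat.fpFst (_root_.FibCat.toSelf 𝒳₁) (_root_.FibCat.toSelf 𝒳₂)) f₁) (_root_.FibCat.toSelf 𝒴₁) ≅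
      BasedFunctor.comp (BasedFunctor.comp
        (_root_.FibCat.fpSnd (_root_.FibCat.toSelf 𝒳₁) (_root_.FibCat.toSelf 𝒳₂)) f₂) (_root_.FibCat.toSelf 𝒴₂)) :
    BasedFunctor.comp (_root_.FibCat.fpLift (BasedFunctor.comp
          (_root_.FibCat.fpFst (_root_.FibCat.toSelf 𝒳₁) (_root_.FibCat.toSelf 𝒳₂)) f₁)
        (BasedFunctor.comp (_root_.FibCat.fpSnd (_root_.FibCat.toSelf 𝒳₁) (_root_.FibCat.toSelf 𝒳₂)) f₂) e)
        (BasedFunctor.id _) ≅
      BasedFunctor.comp (Fp.congr (toSelfCompIso f₁) (toSelfCompIso f₂))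
        (BasedFunctor.comp (fpMapLeft f₁ (_root_.FibCat.toSelf 𝒴₁) (BasedFunctor.comp f₂ (_root_.FibCat.toSelf 𝒴₂)))
          (fpMapRight f₂ (_root_.FibCat.toSelf 𝒴₂) (_root_.FibCat.toSelf 𝒴₁))) :=
  let L := _root_.FibCat.fpLift (BasedFunctor.comp
          (_root_.FibCat.fpFst (_root_.FibCat.toSelf 𝒳₁) (_root_.FibCat.toSelf 𝒳₂)) f₁)
        (BasedFunctor.comp (_root_.FibCat.fpSnd (_root_.FibCat.toSelf 𝒳₁) (_root_.FibCat.toSelf 𝒳₂)) f₂) e
  let R := BasedFunctor.comp (Fp.congr (toSelfCompIso f₁) (toSelfCompIso f₂))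
        (BasedFunctor.comp (fpMapLeft f₁ (_root_.FibCat.toSelf 𝒴₁) (BasedFunctor.comp f₂ (_root_.FibCat.toSelf 𝒴₂)))
          (fpMapRight f₂ (_root_.FibCat.toSelf 𝒴₂) (_root_.FibCat.toSelf 𝒴₁)))
  natIsoOfComponents
    (fun x => Fp.isoMk (a := L.obj x) (b := R.obj x) (Iso.refl _) (Iso.refl _) (by
      have h : (L.obj x).obj.iso.hom = (R.obj x).obj.iso.hom := selfOver_hom_ext _ _
        (R := 𝒳₁.p.obj x.obj.fst)
        (isHomLift_id_of_eq (_root_.FibCat.selfOver (Over S)).p _ (Or.inl (f₁.w_obj x.obj.fst))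
          (h := Fp.iso_lift (L.obj x)))
        (isHomLift_id_of_eq (_root_.FibCat.selfOver (Over S)).p _ (Or.inl (f₁.w_obj x.obj.fst))
          (h := Fp.iso_lift (R.obj x)))
      change 𝒴₁.p.map (𝟙 _) ≫ (R.obj x).obj.iso.hom = (L.obj x).obj.iso.hom ≫ 𝒴₂.p.map (𝟙 _)
      rw [𝒴₁.p.map_id, 𝒴₂.p.map_id, ← h]
      exact (Category.id_comp _).trans (Category.comp_id _).symm))
    (fun x => (Fp.isHomLift_iff _ _).2 (IsHomLift.id (f₁.w_obj x.obj.fst)))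
    (fun {a b} φ => Fp.hom_ext ((Category.comp_id _).trans (Category.id_comp _).symm)
      ((Category.comp_id _).trans (Category.id_comp _).symm))

end Prod


end GrothLib.AlgSt
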