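import Groth.Agent.Lib.AlgSt.FibreProduct
import Groth.Prelude.Def_AlgSpRep

/-!
# Maps of presheaves representable by algebraic spaces and the functors they induce
-/

set_option backward.isDefEq.respectTransparency false
set_option backward.isDefEq.respectTransparency.types false

universe u

open CategoryTheory CategoryTheory.Limits AlgebraicGeometry Opposite

namespace GrothLib.AlgSt

open _root_.AlgSt GrothLib.FibCat

variable {S : Scheme.{u}} {F G : AlgSp.PSp S} (a : F ⟶ G)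

/-- The category of a presheaf fibre product `h_U ×_G F` is the 2-fibre product over `(Sch/U)`. -/
theorem exists_isEquivOver_pyon {U : Over S} (y : _root_.FibCat.overCat U ⥤ᵇ Stk.ofPsh G)
    (ξ : (AlgSp.pyon S).obj U ⟶ G)
    (iF : BasedFunctor.comp (toOverCat U) y ≅ BasedFunctor.comp (Stk.ofPshMap ξ) (BasedFunctor.id (Stk.ofPsh G)))
    {F' : AlgSp.PSp S} {snd : F' ⟶ (AlgSp.pyon S).obj U} {fst : F' ⟶ F} (sq : IsPullback snd fst ξ a) :
    ∃ E : Stk.ofPsh F' ⥤ᵇ _root_.FibCat.fp y (Stk.ofPshMap a), _root_.FibCat.IsEquivOver E ∧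
      BasedFunctor.comp E (_root_.FibCat.fpFst y (Stk.ofPshMap a)) =
        BasedFunctor.comp (Stk.ofPshMap snd) (toOverCat U) := by
  let iG : BasedFunctor.comp (BasedFunctor.id (Stk.ofPsh F)) (Stk.ofPshMap a) ≅
      BasedFunctor.comp (Stk.ofPshMap a) (BasedFunctor.id (Stk.ofPsh G)) := Iso.refl _
  have := IsEquivOver.full (IsEquivOver.refl (Stk.ofPsh G))
  have := IsEquivOver.faithful (IsEquivOver.refl (Stk.ofPsh G))
  exact ⟨BasedFunctor.comp (pshToFp sq.w)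
      (Fp.map (toOverCat U) (BasedFunctor.id _) (BasedFunctor.id (Stk.ofPsh G)) iF iG),
    IsEquivOver.comp (isEquivOver_pshToFp sq)
      (Fp.isEquivOver_map _ _ _ _ _ (isEquivOver_toOverCat U) (IsEquivOver.refl _)), rfl⟩

theorem repByAlgSpWith_ofPshMap_of_repBySpWith (Q : MorphismProperty (AlgSp.Sp S)) (h : AlgSp.RepBySpWith Q a) :
    RepByAlgSpWith Q (Stk.ofPshMap a) := by
  intro U y
  let ξ : (AlgSp.pyon S).obj U ⟶ G := pshHom (BasedFunctor.comp (toOverCat U) y)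
  have sq := IsPullback.of_hasPullback ξ a
  obtain ⟨hs, hA, hQ⟩ := h ξ _ _ sq.flip
  obtain ⟨E, hE, hfst⟩ := exists_isEquivOver_pyon a y ξ (isoOfPshHom (BasedFunctor.comp (toOverCat U) y)) sq
  refine ⟨⟨⟨_, hs⟩, hA⟩, E, hE, ?_⟩
  rw [hfst]
  exact (spMapOfOver_toOverCat (F := (⟨_, hs⟩ : AlgSp.Sp S))
    (ObjectProperty.homMk (pullback.fst ξ a))).symm ▸ hQ

theorem repBySpWith_of_repByAlgSpWith_ofPshMap (Q : MorphismProperty (AlgSp.Sp S)) (hQ : IsoInvariant Q)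
    (h : RepByAlgSpWith Q (Stk.ofPshMap a)) : AlgSp.RepBySpWith Q a := by
  intro U ξ F' fst snd sq
  let y : _root_.FibCat.overCat U ⥤ᵇ Stk.ofPsh G := BasedFunctor.comp (ofOverCat U) (Stk.ofPshMap ξ)
  obtain ⟨E, hE, hfst⟩ := exists_isEquivOver_pyon a y ξ
    (whiskerRightIso (toOverCatCompIso U) (Stk.ofPshMap ξ)) sq.flip
  have hm := h U y
  obtain ⟨F₀, e₀, he₀, -⟩ := h U y
  obtain ⟨E', hE', -, -⟩ := IsEquivOver.symm hE
  have := isIso_pshHom (IsEquivOver.comp he₀ hE')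
  let φ : F₀.obj.obj ≅ F' := asIso (pshHom (BasedFunctor.comp e₀ E'))
  have hs : Presheaf.IsSheaf (AlgSp.J S) F' := (Presheaf.isSheaf_of_iso_iff φ).1 F₀.obj.property
  have hA : AlgSp.IsAlgSpace (⟨F', hs⟩ : AlgSp.Sp S) :=
    F₀.property.of_iso (ObjectProperty.isoMk _ φ : F₀.obj ≅ (⟨F', hs⟩ : AlgSp.Sp S))
  refine ⟨hs, hA, ?_⟩
  have := HasRep.mem hm hQ ⟨⟨F', hs⟩, hA⟩ E hE
  rw [hfst] at this
  exact spMapOfOver_toOverCat (F := (⟨F', hs⟩ : AlgSp.Sp S)) (ObjectProperty.homMk snd) ▸ this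

theorem repBySp_iff_repByAlgSp1_ofPshMap : AlgSp.RepBySp a ↔ RepByAlgSp1 (Stk.ofPshMap a) := by
  refine ⟨fun h => repByAlgSpWith_top_iff.1 (repByAlgSpWith_ofPshMap_of_repBySpWith a ⊤
    fun U ξ F' fst snd sq => ?_), fun h => (repBySpWith_of_repByAlgSpWith_ofPshMap a ⊤
      (fun _ _ _ _ _ _ _ _ _ => trivial) (repByAlgSpWith_top_iff.2 h)).repBySp⟩
  obtain ⟨hs, hA⟩ := h ξ fst snd sq
  exact ⟨hs, hA, trivial⟩

end GrothLib.AlgSt
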