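import Groth.Agent.Lib.AlgSt.Setoid
import Groth.Agent.Lib.AlgSt.DiagLFT
import Groth.Agent.Lib.AlgSt.DiagSpaces
import Groth.Agent.Lib.AlgSt.LocQRep
import Groth.Agent.Lib.Stk.Descent
import Groth.Agent.Lib.AlgSt.AtlasDiag
import Groth.Agent.Lib.AlgSt.RepBySpPsh
import Groth.Agent.Lib.AlgSp.EtaleSheaf

/-!
# An etale stack with a smooth atlas is an algebraic stack
-/

set_option backward.isDefEq.respectTransparency false
set_option backward.isDefEq.respectTransparency.types false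

universe u

open CategoryTheory CategoryTheory.Limits AlgebraicGeometry Opposite

namespace GrothLib.AlgSt

open _root_.AlgSt GrothLib.FibCat

variable {S : Scheme.{u}} {𝒳 : _root_.AlgSt.Cat S}

theorem isStack_jet_of_fppf (h : _root_.Stk.IsStack (AlgSp.J S) 𝒳) : _root_.Stk.IsStack (GrothLib.AlgSp.Jet S) 𝒳 :=
  ⟨h.1, fun _ R hR => h.2 R (GrothLib.AlgSp.jet_le _ hR)⟩

theorem isoInvariant_smoothSurj : IsoInvariant (AlgSp.IsSurjectiveMor ⊓ AlgSp.LocP @Smooth : MorphismProperty (AlgSp.Sp S)) :=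
  fun _ _ _ hF hG φ _ a ha => ⟨isoInvariant_surjective hF hG φ a ha.1, isoInvariant_locP hF hG φ a ha.2⟩

theorem repByAlgSpWith_smoothSurj_overMap {U V : Over S} (c : V ⟶ U) [Smooth c.left] [Surjective c.left] :
    RepByAlgSpWith (AlgSp.IsSurjectiveMor ⊓ AlgSp.LocP @Smooth) (GrothLib.FibCat.overMap c) := by
  have hc : RepByAlgSpWith (AlgSp.IsSurjectiveMor ⊓ AlgSp.LocP @Smooth) (ofSpMap ((AlgSp.yon S).map c)) :=
    repByAlgSpWith_ofSpMap (AlgSp.IsAlgSpace.yon_obj V) (AlgSp.IsAlgSpace.yon_obj U) _ fun T g =>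
      have sq := (IsPullback.of_hasPullback g ((AlgSp.yon S).map c)).flip
      ⟨fun y => GrothLib.AlgSp.surjective_map_of_repWith
        (GrothLib.AlgSp.repWith_of_isPullback sq ((AlgSp.repWith_yon_map_iff _ _).2 inferInstance)) y,
        GrothLib.AlgSp.EtLocal.locP_of_repWith GrothLib.AlgSp.EtLocal.smooth (AlgSp.IsAlgSpace.yon_obj T)
          (GrothLib.AlgSp.repWith_of_isPullback sq ((AlgSp.repWith_yon_map_iff _ _).2 inferInstance))⟩
  obtain ⟨ic⟩ := iso_toOverCat_overMap c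
  exact (repByAlgSpWith_iff_of_square (toOverCat V) (toOverCat U) (isEquivOver_toOverCat V)
    (isEquivOver_toOverCat U) ic.symm).2 hc

/-- An etale stack in setoids with a smooth cover by an algebraic space is an algebraic space. -/
theorem repByAlgSp_of_setoid_cover_jet (hst : _root_.Stk.IsStack (GrothLib.AlgSp.Jet S) 𝒳)
    (hset : _root_.FibCat.IsFibSetoid 𝒳.p) {Z : AlgSp.Space S} (u : ofSp Z.obj ⥤ᵇ 𝒳)
    (hu : RepByAlgSpWith (AlgSp.IsSurjectiveMor ⊓ AlgSp.LocP @Smooth) u) : RepByAlgSp 𝒳 := by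
  obtain ⟨Q₀, e, he⟩ := exists_ofPsh hset
  have hQ₀ : Presheaf.IsSheaf (GrothLib.AlgSp.Jet S) Q₀ :=
    (isSheaf_iff_isSheaf_of_type _ _).2 ((GrothLib.Stk.isStack_ofPsh_iff _).1
      ((GrothLib.Stk.isStack_iff_of_isEquivOver _ e he).2 hst))
  obtain ⟨e', he', -, ⟨ε⟩⟩ := IsEquivOver.symm he
  have hu' : RepByAlgSpWith (AlgSp.IsSurjectiveMor ⊓ AlgSp.LocP @Smooth) (BasedFunctor.comp u e') := by
    have := IsEquivOver.full he
    have := IsEquivOver.faithful he
    exact repByAlgSpWith_of_square (f := u) (BasedFunctor.id (ofSp Z.obj)) e (IsEquivOver.refl _)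
      (whiskerLeftIso u ε) hu
  let p : Z.obj.obj ⟶ Q₀ := pshHom (BasedFunctor.comp u e')
  have hp : RepByAlgSpWith (AlgSp.IsSurjectiveMor ⊓ AlgSp.LocP @Smooth) (Stk.ofPshMap p) :=
    repByAlgSpWith_of_iso (isoOfPshHom (BasedFunctor.comp u e')) hu'
  obtain ⟨hs, hA⟩ := GrothLib.AlgSp.isAlgSpaceP_of_smooth_cover hQ₀ Z.property (p := p)
    (repBySpWith_of_repByAlgSpWith_ofPshMap p _ isoInvariant_smoothSurj hp)
  exact ⟨⟨⟨Q₀, hs⟩, hA⟩, e, he⟩

/-- The diagonal of a etale stack with a smooth atlas is representable by algebraic spaces. -/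
theorem repByAlgSp1_diag_of_atlas_jet (h𝒳 : _root_.Stk.IsStack (GrothLib.AlgSp.Jet S) 𝒳) {W : Over S}
    (w : _root_.FibCat.overCat W ⥤ᵇ 𝒳) (hw : RepByAlgSpWith (AlgSp.LocP @Smooth) w)
    (hws : RepByAlgSpWith AlgSp.IsSurjectiveMor w) :
    RepByAlgSp1 (_root_.FibCat.diag (_root_.FibCat.toSelf 𝒳)) := by
  intro U y
  let t := _root_.FibCat.toSelf 𝒳
  have hW := (isDM_of_repByAlgSp (repByAlgSp_overCat W)).1
  have hC : RepByAlgSp1 (fpToFp w w t) := repByAlgSp1_of_repByAlgSp (repByAlgSp1_of_repByAlgSpWith hw W w)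
    (repByAlgSp_fp (repByAlgSp_overCat W) (repByAlgSp_overCat W) repByAlgSp_selfOver _ _) _
  let y₁ := BasedFunctor.comp y (_root_.FibCat.fpFst t t)
  let y₂ := BasedFunctor.comp y (_root_.FibCat.fpSnd t t)
  obtain ⟨V₁, c₁, l₁, hc₁, hc₁s, ⟨j₁⟩⟩ := exists_lift_chart y₁ w hw hws
  obtain ⟨V, c₂, l₂, hc₂, hc₂s, ⟨j₂⟩⟩ :=
    exists_lift_chart (BasedFunctor.comp (GrothLib.FibCat.overMap c₁) y₂) w hw hws
  let c := c₂ ≫ c₁
  let k₁ : BasedFunctor.comp (GrothLib.FibCat.overMap c) y₁ ≅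
      BasedFunctor.comp (GrothLib.FibCat.overMap (c₂ ≫ l₁)) w :=
    (whiskerRightIso (overMapCompIso c₂ c₁) y₁).symm ≪≫ whiskerLeftIso (GrothLib.FibCat.overMap c₂) j₁ ≪≫
      whiskerRightIso (overMapCompIso c₂ l₁) w
  let k₂ : BasedFunctor.comp (GrothLib.FibCat.overMap c) y₂ ≅ BasedFunctor.comp (GrothLib.FibCat.overMap l₂) w :=
    (whiskerRightIso (overMapCompIso c₂ c₁) y₂).symm ≪≫ j₂
  let κ : BasedFunctor.comp (GrothLib.FibCat.overMap (c₂ ≫ l₁)) (BasedFunctor.comp w t) ≅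
      BasedFunctor.comp (GrothLib.FibCat.overMap l₂) (BasedFunctor.comp w t) :=
    (whiskerRightIso k₁ t).symm ≪≫
      whiskerLeftIso (BasedFunctor.comp (GrothLib.FibCat.overMap c) y) (_root_.FibCat.fpIso t t) ≪≫
      whiskerRightIso k₂ t
  let y' := _root_.FibCat.fpLift (GrothLib.FibCat.overMap (c₂ ≫ l₁)) (GrothLib.FibCat.overMap l₂) κ
  let yc := BasedFunctor.comp (GrothLib.FibCat.overMap c) y
  let j : BasedFunctor.comp y' (fpPair w w t) ≅ yc :=
    natIsoOfComponents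
      (fun x => Fp.isoMk (a := (fpPair w w t).obj (y'.obj x)) (b := yc.obj x)
        (((BasedNatTrans.forgetful _ _).mapIso k₁).app x).symm
        (((BasedNatTrans.forgetful _ _).mapIso k₂).app x).symm (by
          have h2 : k₂.hom.app x ≫ k₂.inv.app x = 𝟙 _ := congrArg (fun s => s.app x) k₂.hom_inv_id
          change t.map (k₁.inv.app x) ≫ (yc.obj x).obj.iso.hom =
            (t.map (k₁.inv.app x) ≫ (yc.obj x).obj.iso.hom ≫ t.map (k₂.hom.app x)) ≫ t.map (k₂.inv.app x)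
          rw [Category.assoc, Category.assoc, ← t.map_comp, h2]
          exact (congrArg (t.map (k₁.inv.app x) ≫ ·)
            ((congrArg ((yc.obj x).obj.iso.hom ≫ ·) (t.map_id _)).trans (Category.comp_id _))).symm))
      (fun x => (Fp.isHomLift_iff _ _).2
        (BasedNatTrans.isHomLift k₁.inv ((GrothLib.FibCat.overMap (c₂ ≫ l₁)).w_obj x).symm))
      (fun {a b} φ => Fp.hom_ext (k₁.inv.toNatTrans.naturality φ) (k₂.inv.toNatTrans.naturality φ))
  have hR : RepByAlgSp (_root_.FibCat.fp yc (_root_.FibCat.diag t)) := by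
    have := IsEquivOver.full (IsEquivOver.refl (_root_.FibCat.fp (BasedFunctor.comp w t) (BasedFunctor.comp w t)))
    have := IsEquivOver.faithful (IsEquivOver.refl (_root_.FibCat.fp (BasedFunctor.comp w t) (BasedFunctor.comp w t)))
    let iG : BasedFunctor.comp (fpToFpLift w w t) (_root_.FibCat.fpFst (fpPair w w t) (_root_.FibCat.diag t)) ≅
        BasedFunctor.comp (fpToFp w w t) (BasedFunctor.id _) := Iso.refl _
    let E₁ := Fp.map (F := y') (G := fpToFp w w t) (F' := y')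
      (G' := _root_.FibCat.fpFst (fpPair w w t) (_root_.FibCat.diag t))
      (BasedFunctor.id _) (fpToFpLift w w t) (BasedFunctor.id _) (Iso.refl y') iG
    exact repByAlgSp_of_isEquivOver (BasedFunctor.comp E₁ (BasedFunctor.comp
        (Fp.paste (_root_.FibCat.diag t) (fpPair w w t) y') (Fp.congr j (Iso.refl (_root_.FibCat.diag t)))))
      (IsEquivOver.comp (Fp.isEquivOver_map _ _ _ _ _ (IsEquivOver.refl _)
          (isEquivOver_fpToFpLift hW.isStack.1 w w t))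
        (IsEquivOver.comp (Fp.isEquivOver_paste (_root_.FibCat.diag t) (fpPair w w t) y')
          (Fp.isEquivOver_congr j (Iso.refl _)))) (hC V y')
  have : Smooth c.left := by
    have := hc₁
    have := hc₂
    rw [Over.comp_left]; infer_instance
  have : Surjective c.left := by
    have := hc₁s
    have := hc₂s
    rw [Over.comp_left]; infer_instance
  obtain ⟨Z, eZ, hZ⟩ := repByAlgSp_of_isEquivOver'
    (Fp.paste (_root_.FibCat.diag t) y (GrothLib.FibCat.overMap c))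
    (Fp.isEquivOver_paste (_root_.FibCat.diag t) y (GrothLib.FibCat.overMap c)) hR
  let p := _root_.FibCat.fpSnd (GrothLib.FibCat.overMap c) (_root_.FibCat.fpFst y (_root_.FibCat.diag t))
  have hp : RepByAlgSpWith (AlgSp.IsSurjectiveMor ⊓ AlgSp.LocP @Smooth) p :=
    repByAlgSpWith_fpSnd _ (repByAlgSpWith_smoothSurj_overMap c)
  have hS := (isDM_of_repByAlgSp (repByAlgSp_selfOver (S := S))).1
  have gt : _root_.FibCat.IsFibGrpd (_root_.FibCat.fp t t).p := Fp.isFibGrpd h𝒳.1 h𝒳.1 hS.isStack.1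
  have hU := (isDM_of_repByAlgSp (repByAlgSp_overCat U)).1
  have : (_root_.FibCat.diag t).toFunctor.Faithful := faithful_diag
  have hst : _root_.Stk.IsStack (GrothLib.AlgSp.Jet S) (_root_.FibCat.fp y (_root_.FibCat.diag t)) :=
    ⟨Fp.isFibGrpd hU.isStack.1 h𝒳.1 gt, fun T R hR => GrothLib.Stk.isStackFor_fp _ _ (hU.isStack.2 R (GrothLib.AlgSp.jet_le _ hR))
      (h𝒳.2 R hR) ((GrothLib.Stk.IsStack.isPrestack (⟨gt, fun T R hR => GrothLib.Stk.isStackFor_fp _ _ (h𝒳.2 R hR)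
        (h𝒳.2 R hR) ((GrothLib.Stk.IsStack.isPrestack (isStack_jet_of_fppf hS.isStack)).2 R hR)⟩ :
          _root_.Stk.IsStack (GrothLib.AlgSp.Jet S) (_root_.FibCat.fp t t))).2 R hR)⟩
  have := IsEquivOver.full (IsEquivOver.refl (_root_.FibCat.fp y (_root_.FibCat.diag t)))
  have := IsEquivOver.faithful (IsEquivOver.refl (_root_.FibCat.fp y (_root_.FibCat.diag t)))
  exact repByAlgSp_of_setoid_cover_jet hst
    (Fp.isFibSetoid_of_faithful (isFibSetoid_of_repByAlgSp (repByAlgSp_overCat U)) h𝒳.1 gt)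
    (BasedFunctor.comp eZ p) (repByAlgSpWith_of_square (f := p) eZ (BasedFunctor.id _) hZ (Iso.refl _) hp)

/-- An etale stack with a smooth atlas is an algebraic stack. -/
theorem isAlgStack_jet_of_atlas (h𝒳 : _root_.Stk.IsStack (GrothLib.AlgSp.Jet S) 𝒳) (h : HasAtlas (AlgSp.LocP @Smooth) 𝒳) :
    IsAlgStack Scheme.etalePrecoverage 𝒳 :=
  let ⟨_, w, hw, hws⟩ := h
  ⟨h𝒳, repByAlgSp1_diag_of_atlas_jet h𝒳 w hw hws, h⟩

end GrothLib.AlgSt
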