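import Groth.Agent.Lib.AlgSt.FibreProduct
import Groth.Agent.Lib.Stk.Psh

/-!
# Stack conditions for categories representable by algebraic spaces
-/

set_option backward.isDefEq.respectTransparency false
set_option backward.isDefEq.respectTransparency.types false

universe v₃ u₃ v₂ u₂ u

open CategoryTheory CategoryTheory.Limits AlgebraicGeometry Opposite

namespace GrothLib.AlgSt

open _root_.AlgSt GrothLib.FibCat

variable {S : Scheme.{u}} {𝒳 : BasedCategory.{v₂, u₂} (Over S)} {𝒴 : BasedCategory.{v₃, u₃} (Over S)}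

theorem isStack_ofSp (F : AlgSp.Sp S) : _root_.Stk.IsStack (AlgSp.J S) (ofSp F) :=
  (GrothLib.Stk.isStack_ofPsh_iff _).2 ((isSheaf_iff_isSheaf_of_type _ _).1 F.property)

theorem isStack_of_repByAlgSp (h : RepByAlgSp 𝒳) : _root_.Stk.IsStack (AlgSp.J S) 𝒳 := by
  obtain ⟨F, e, he⟩ := h
  exact (GrothLib.Stk.isStack_iff_of_isEquivOver _ e he).1 (isStack_ofSp F.obj)

theorem isStack_of_repByAlgSp1 (h𝒳 : _root_.FibCat.IsFibGrpd 𝒳.p) (h𝒴 : _root_.Stk.IsStack (AlgSp.J S) 𝒴)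
    (j : 𝒳 ⥤ᵇ 𝒴) (hj : RepByAlgSp1 j) : _root_.Stk.IsStack (AlgSp.J S) 𝒳 :=
  have := faithful_of_repByAlgSp1 h𝒳 h𝒴.1 j hj
  ⟨h𝒳, fun U R hR => GrothLib.Stk.isStackFor_of_fibres j h𝒳 h𝒴.1 (h𝒴.2 R hR)
    fun y => (isStack_of_repByAlgSp (hj U y)).2 R hR⟩

end GrothLib.AlgSt
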