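import Groth.Agent.Lib.AlgSp.Bootstrap
import Groth.Agent.Lib.AlgSt.RepBySpPsh
import Groth.Agent.Lib.AlgSt.LocP
import Groth.Agent.Lib.AlgSt.Stack
import Groth.Agent.Lib.AlgSt.FpStack
import Groth.Agent.Lib.AlgSt.MonoFF
import Groth.Agent.Lib.AlgSt.QC
import Groth.Agent.Lib.FibCat.FibSet
import Groth.Agent.Lib.FibCat.Setoid
import Groth.Agent.Lib.Stk.Psh

/-!
# Algebraic stacks in setoids are algebraic spaces; faithful morphisms are representable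
-/

set_option backward.isDefEq.respectTransparency false
set_option backward.isDefEq.respectTransparency.types false

universe u

open CategoryTheory CategoryTheory.Limits AlgebraicGeometry Opposite

namespace GrothLib.AlgSt

open _root_.AlgSt GrothLib.FibCat

variable {S : Scheme.{u}}

theorem isoInvariant_fppfMor : IsoInvariant (GrothLib.AlgSp.FppfMor (S := S)) := fun F F' G hF hG φ _ a ha => by
  refine ⟨⟨fun y => ?_, isoInvariant_locP hF hG φ a ha.1.2⟩, isoInvariant_locP hF hG φ a ha.2⟩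
  obtain ⟨x, rfl⟩ := ha.1.1 y
  refine ⟨AlgSp.Points.map (inv φ) x, ?_⟩
  rw [← AlgSp.Points.map_comp, IsIso.inv_hom_id_assoc]

/-- A stack in setoids with an fppf cover by an algebraic space is an algebraic space. -/
theorem repByAlgSp_of_setoid_cover {𝒳 : _root_.AlgSt.Cat S} (hst : _root_.Stk.IsStack (AlgSp.J S) 𝒳)
    (hset : _root_.FibCat.IsFibSetoid 𝒳.p) {Z : AlgSp.Space S} (u : ofSp Z.obj ⥤ᵇ 𝒳)
    (hu : RepByAlgSpWith GrothLib.AlgSp.FppfMor u) : RepByAlgSp 𝒳 := by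
  obtain ⟨Q₀, e, he⟩ := exists_ofPsh hset
  have hQ₀ : Presheaf.IsSheaf (AlgSp.J S) Q₀ :=
    (isSheaf_iff_isSheaf_of_type _ _).2 ((GrothLib.Stk.isStack_ofPsh_iff _).1
      ((GrothLib.Stk.isStack_iff_of_isEquivOver _ e he).2 hst))
  let Q : AlgSp.Sp S := ⟨Q₀, hQ₀⟩
  obtain ⟨e', he', -, ⟨ε⟩⟩ := IsEquivOver.symm he
  have hu' : RepByAlgSpWith GrothLib.AlgSp.FppfMor (BasedFunctor.comp u e') := by
    have := IsEquivOver.full he
    have := IsEquivOver.faithful he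
    exact repByAlgSpWith_of_square (f := u) (BasedFunctor.id (ofSp Z.obj)) e (IsEquivOver.refl _)
      (whiskerLeftIso u ε) hu
  let p : Z.obj ⟶ Q := ObjectProperty.homMk (pshHom (BasedFunctor.comp u e'))
  have hp : RepByAlgSpWith GrothLib.AlgSp.FppfMor (Stk.ofPshMap p.hom) :=
    repByAlgSpWith_of_iso (isoOfPshHom (BasedFunctor.comp u e')) hu'
  exact ⟨⟨Q, GrothLib.AlgSp.isAlgSpace_of_repBySpWith_fppf (F := Q) Z.property (p := p)
    (repBySpWith_of_repByAlgSpWith_ofPshMap p.hom _ isoInvariant_fppfMor hp)⟩, e, he⟩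

theorem locP_flat_of_smooth {X Y : AlgSp.Sp S} {f : X ⟶ Y} (h : AlgSp.LocP @Smooth f) : AlgSp.LocP @Flat f :=
  GrothLib.AlgSp.locP_mono (fun _ _ g hg => by have : Smooth g := hg; infer_instance) h

theorem locP_lfp_of_smooth {X Y : AlgSp.Sp S} {f : X ⟶ Y} (h : AlgSp.LocP @Smooth f) :
    AlgSp.LocP @LocallyOfFinitePresentation f :=
  GrothLib.AlgSp.locP_mono (fun _ _ g hg => by have : Smooth g := hg; infer_instance) h

theorem repByAlgSpWith_fppfMor_of_smooth {𝒳 𝒴 : _root_.AlgSt.Cat S} {u : 𝒳 ⥤ᵇ 𝒴}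
    (hsm : RepByAlgSpWith (AlgSp.LocP @Smooth) u) (hs : RepByAlgSpWith AlgSp.IsSurjectiveMor u) :
    RepByAlgSpWith GrothLib.AlgSp.FppfMor u :=
  repByAlgSpWith_mono (fun _ _ _ _ _ h => ⟨⟨h.2, locP_flat_of_smooth h.1⟩, locP_lfp_of_smooth h.1⟩)
    (repByAlgSpWith_inf isoInvariant_locP hsm hs)

/-- An algebraic stack in setoids is an algebraic space. -/
theorem repByAlgSp_of_isFibSetoid {𝒳 : _root_.AlgSt.Cat S} (h : IsAlgStack Scheme.fppfPrecoverage 𝒳)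
    (hset : _root_.FibCat.IsFibSetoid 𝒳.p) : RepByAlgSp 𝒳 := by
  obtain ⟨U, x, hx, hxs⟩ := h.atlas
  have := IsEquivOver.full (IsEquivOver.refl 𝒳)
  have := IsEquivOver.faithful (IsEquivOver.refl 𝒳)
  refine repByAlgSp_of_setoid_cover h.isStack hset (Z := ⟨(AlgSp.yon S).obj U, AlgSp.IsAlgSpace.yon_obj U⟩)
    (BasedFunctor.comp (toOverCat U) x) ?_
  exact repByAlgSpWith_of_square (f := x) (toOverCat U) (BasedFunctor.id 𝒳) (isEquivOver_toOverCat U) (Iso.refl _)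
    (repByAlgSpWith_fppfMor_of_smooth hx hxs)

theorem repByAlgSp_iff_isFibSetoid {𝒳 : _root_.AlgSt.Cat S} (h : IsAlgStack Scheme.fppfPrecoverage 𝒳) :
    RepByAlgSp 𝒳 ↔ _root_.FibCat.IsFibSetoid 𝒳.p :=
  ⟨isFibSetoid_of_repByAlgSp, repByAlgSp_of_isFibSetoid h⟩

/-- A faithful morphism of algebraic stacks is representable by algebraic spaces. -/
theorem repByAlgSp1_of_faithful {𝒳 𝒴 : _root_.AlgSt.Cat S} (h𝒳 : IsAlgStack Scheme.fppfPrecoverage 𝒳)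
    (h𝒴 : IsAlgStack Scheme.fppfPrecoverage 𝒴) (f : 𝒳 ⥤ᵇ 𝒴) [f.toFunctor.Faithful] : RepByAlgSp1 f :=
  fun U y => repByAlgSp_of_isFibSetoid
    (isAlgStack_fp h𝒴.isStack h𝒴.diag (isAlgStack_overCat U) h𝒳 y f)
    (Fp.isFibSetoid_of_faithful (isFibSetoid_overCat U) h𝒳.isStack.1 h𝒴.isStack.1)

theorem repByAlgSp1_iff_faithful {𝒳 𝒴 : _root_.AlgSt.Cat S} (h𝒳 : IsAlgStack Scheme.fppfPrecoverage 𝒳)
    (h𝒴 : IsAlgStack Scheme.fppfPrecoverage 𝒴) (f : 𝒳 ⥤ᵇ 𝒴) : RepByAlgSp1 f ↔ f.toFunctor.Faithful :=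
  ⟨faithful_of_repByAlgSp1 h𝒳.isStack.1 h𝒴.isStack.1 f, fun _ => repByAlgSp1_of_faithful h𝒳 h𝒴 f⟩

end GrothLib.AlgSt
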