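import Groth.Agent.Lib.AlgSt.FieldCover
import Groth.Agent.Lib.AlgSt.SmoothLocally
import Groth.Agent.Lib.AlgSt.Gerbe.Section
import Groth.Agent.Lib.RedSmooth.Basic
import Groth.Agent.Lib.TotalFrac.Converse
import Groth.Agent.Lib.InjSky20.Basic

/-!
# Reduced one-point stacks and charts from fields
-/

set_option autoImplicit false
set_option linter.style.haveILetI false
set_option backward.isDefEq.respectTransparency false
set_option backward.isDefEq.respectTransparency.types false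

universe u

open CategoryTheory CategoryTheory.Limits AlgebraicGeometry Opposite

namespace GrothLib.AlgSt

open _root_.AlgSt GrothLib.FibCat

variable {S : Scheme.{u}} {𝒵 : _root_.AlgSt.Cat S}

theorem repByAlgSpWith_overMap_comp {Q : MorphismProperty Scheme.{u}} (hQ : GrothLib.AlgSp.EtLocal Q)
    (h𝒵 : _root_.FibCat.IsFibGrpd 𝒵.p) {T T' : Over S} (c : T' ⟶ T) (hc : Q c.left)
    (w : _root_.FibCat.overCat T ⥤ᵇ 𝒵) (hw : RepByAlgSpWith (AlgSp.LocP Q) w) :
    RepByAlgSpWith (AlgSp.LocP Q) (BasedFunctor.comp (GrothLib.FibCat.overMap c) w) := by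
  have := hQ.baseChange
  have : Q.IsStableUnderComposition := ⟨fun f g => hQ.comp_mem f g⟩
  exact repByAlgSpWith_locP_comp (fun _ _ t ht => hQ.of_etale t ht) hQ.descend (isFibGrpd_overCat _)
    (isFibGrpd_overCat _) _ w (Section.repByAlgSpWith_overMap_locP hQ c hc) hw

/-- A reduced one-point stack has a flat surjective chart from a field. -/
theorem exists_flat_surjective_fieldChart (h𝒵 : IsAlgStack Scheme.fppfPrecoverage 𝒵)
    (hred : SmoothLocally (fun T => IsReduced T) 𝒵) (hne : Nonempty (Points 𝒵))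
    (hsub : Subsingleton (Points 𝒵)) :
    ∃ (k : Type u) (_ : Field k) (a : Spec (CommRingCat.of k) ⟶ S)
      (z : _root_.FibCat.overCat (Over.mk a) ⥤ᵇ 𝒵),
      RepByAlgSpWith AlgSp.IsSurjectiveMor z ∧ RepByAlgSpWith (AlgSp.LocP @Flat) z := by
  have g𝒵 := h𝒵.isStack.1
  obtain ⟨W, w, hw, hws⟩ := h𝒵.atlas
  obtain ⟨p⟩ := hne
  obtain ⟨q, -⟩ := (isSurjective_iff_repByAlgSpWith (isFibGrpd_overCat W) g𝒵 w
    (repByAlgSp1_of_repByAlgSpWith hw)).2 hws p
  obtain ⟨V, hV, hx, -⟩ := exists_isAffineOpen_mem_and_subset (x := pointOf q) (U := (⊤ : W.left.Opens)) trivial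
  haveI : IsReduced W.left := hred W w hw
  haveI : _root_.IsReduced Γ(W.left, V) := IsReduced.component_reduced V
  haveI : Nonempty (V : Scheme.{u}) := ⟨⟨_, hx⟩⟩
  haveI : Nontrivial Γ(W.left, V) := Scheme.component_nontrivial W.left V
  obtain ⟨P, hP⟩ := Ideal.nonempty_minimalPrimes (I := (⊥ : Ideal Γ(W.left, V))) bot_ne_top
  haveI : P.IsPrime := hP.1.1
  letI : Field (Localization.AtPrime P) :=
    (_root_.GrothLib.TotalFrac.isField_localization_of_mem_minimalPrimes P hP).toField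
  let j : Spec (CommRingCat.of (Localization.AtPrime P)) ⟶ W.left :=
    Spec.map (CommRingCat.ofHom (algebraMap Γ(W.left, V) (Localization.AtPrime P))) ≫ hV.fromSpec
  let c : Over.mk (j ≫ W.hom) ⟶ W := Over.homMk j rfl
  haveI : Flat (Spec.map (CommRingCat.ofHom (algebraMap Γ(W.left, V) (Localization.AtPrime P)))) :=
    Flat.SpecMap_iff.2 (RingHom.flat_algebraMap_iff.2 (IsLocalization.flat _ P.primeCompl))
  haveI hj : Flat c.left := inferInstanceAs (Flat j)
  let z := BasedFunctor.comp (GrothLib.FibCat.overMap c) w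
  have hz : RepByAlgSpWith (AlgSp.LocP @Flat) z :=
    repByAlgSpWith_overMap_comp GrothLib.AlgSp.EtLocal.flat g𝒵 c hj w
      (repByAlgSpWith_mono (fun _ _ _ _ _ h => GrothLib.AlgSp.locP_mono
        (fun _ _ g (_ : Smooth g) => (inferInstance : Flat g)) h) hw)
  haveI := hsub
  haveI := (nonempty_subsingleton_points_overCat_field (k := Localization.AtPrime P) (j ≫ W.hom)).1
  exact ⟨Localization.AtPrime P, inferInstance, j ≫ W.hom, z,
    repByAlgSpWith_surjective_of_subsingleton (isFibGrpd_overCat _) g𝒵 z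
      (repByAlgSp1_of_repByAlgSpWith hz), hz⟩

/-- A flat surjective chart from a field gives one locally of finite type. -/
theorem exists_lft_fieldChart (h𝒵 : IsAlgStack Scheme.fppfPrecoverage 𝒵) {k : Type u} [Field k]
    (a : Spec (CommRingCat.of k) ⟶ S) (z : _root_.FibCat.overCat (Over.mk a) ⥤ᵇ 𝒵)
    (hs : RepByAlgSpWith AlgSp.IsSurjectiveMor z) (hf : RepByAlgSpWith (AlgSp.LocP @Flat) z) :
    ∃ (k' : Type u) (_ : Field k') (a' : Spec (CommRingCat.of k') ⟶ S)
      (z' : _root_.FibCat.overCat (Over.mk a') ⥤ᵇ 𝒵),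
      RepByAlgSpWith (AlgSp.LocP @LocallyOfFiniteType) z' ∧ RepByAlgSpWith AlgSp.IsSurjectiveMor z' ∧
        RepByAlgSpWith (AlgSp.LocP @Flat) z' := by
  have g𝒵 := h𝒵.isStack.1
  obtain ⟨⟨p⟩, hsub⟩ := nonempty_subsingleton_points_of_fieldCover g𝒵 z hs
  obtain ⟨W, w, hw, hws⟩ := h𝒵.atlas
  obtain ⟨q, -⟩ := (isSurjective_iff_repByAlgSpWith (isFibGrpd_overCat W) g𝒵 w
    (repByAlgSp1_of_repByAlgSpWith hw)).2 hws p
  obtain ⟨V, hV, hx, -⟩ := exists_isAffineOpen_mem_and_subset (x := pointOf q) (U := (⊤ : W.left.Opens)) trivial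
  haveI : Nonempty (V : Scheme.{u}) := ⟨⟨_, hx⟩⟩
  haveI : Nontrivial Γ(W.left, V) := Scheme.component_nontrivial W.left V
  obtain ⟨M, hM⟩ := Ideal.exists_maximal Γ(W.left, V)
  letI : Field (Γ(W.left, V) ⧸ M) := Ideal.Quotient.field M
  haveI : IsClosedImmersion (Spec.map (CommRingCat.ofHom (Ideal.Quotient.mk M))) :=
    IsClosedImmersion.spec_of_surjective _ Ideal.Quotient.mk_surjective
  let j : Spec (CommRingCat.of (Γ(W.left, V) ⧸ M)) ⟶ W.left :=
    Spec.map (CommRingCat.ofHom (Ideal.Quotient.mk M)) ≫ hV.fromSpec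
  let c : Over.mk (j ≫ W.hom) ⟶ W := Over.homMk j rfl
  haveI hj : LocallyOfFiniteType c.left := inferInstanceAs (LocallyOfFiniteType j)
  let z' := BasedFunctor.comp (GrothLib.FibCat.overMap c) w
  have hz' : RepByAlgSpWith (AlgSp.LocP @LocallyOfFiniteType) z' :=
    repByAlgSpWith_overMap_comp GrothLib.AlgSp.EtLocal.lft g𝒵 c hj w
      (repByAlgSpWith_mono (fun _ _ _ _ _ h => GrothLib.AlgSp.locP_mono
        (fun _ _ g (_ : Smooth g) => (inferInstance : LocallyOfFiniteType g)) h) hw)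
  haveI := hsub
  haveI := (nonempty_subsingleton_points_overCat_field (k := Γ(W.left, V) ⧸ M) (j ≫ W.hom)).1
  have hr := repByAlgSp1_of_repByAlgSpWith hz'
  exact ⟨Γ(W.left, V) ⧸ M, inferInstance, j ≫ W.hom, z', hz',
    repByAlgSpWith_surjective_of_subsingleton (isFibGrpd_overCat _) g𝒵 z' hr,
    repByAlgSpWith_flat_of_fieldCover z hf hs z' hr⟩

/-- A stack with a flat surjective chart from a field is reduced with one point. -/
theorem reduced_singleton_of_fieldChart (h𝒵 : IsAlgStack Scheme.fppfPrecoverage 𝒵) {k : Type u} [Field k]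
    (a : Spec (CommRingCat.of k) ⟶ S) (z : _root_.FibCat.overCat (Over.mk a) ⥤ᵇ 𝒵)
    (hs : RepByAlgSpWith AlgSp.IsSurjectiveMor z) (hf : RepByAlgSpWith (AlgSp.LocP @Flat) z) :
    SmoothLocally (fun T => IsReduced T) 𝒵 ∧ Nonempty (Points 𝒵) ∧ Subsingleton (Points 𝒵) := by
  refine ⟨fun U y hy => ?_, nonempty_subsingleton_points_of_fieldCover h𝒵.isStack.1 z hs⟩
  let T : Over S := Over.mk a
  obtain ⟨F, e, he, hfl, hsu⟩ := repByAlgSpWith_inf isoInvariant_locP hf hs U y
  have hsm' := HasRep.mem (hy T z) isoInvariant_locP F (BasedFunctor.comp e (Fp.symm y z))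
    (IsEquivOver.comp he (Fp.isEquivOver_symm y z))
  obtain ⟨V, q, qe, qs⟩ := F.property.atlas
  obtain ⟨c, hc⟩ := (AlgSp.yon S).map_surjective (q ≫ spMapOfOver (BasedFunctor.comp e (_root_.FibCat.fpFst y z)))
  obtain ⟨l, hl⟩ := (AlgSp.yon S).map_surjective (q ≫ spMapOfOver (BasedFunctor.comp
    (BasedFunctor.comp e (Fp.symm y z)) (_root_.FibCat.fpFst z y)))
  haveI : Flat c.left := hfl q (𝟙 _) c qe (AlgSp.repWith_id _ U) (by rw [Category.comp_id, hc])
  haveI : Smooth l.left := hsm' q (𝟙 _) l qe (AlgSp.repWith_id _ T) (by rw [Category.comp_id, hl])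
  haveI : Surjective c.left := by
    refine ⟨fun x => ?_⟩
    obtain ⟨t, ht⟩ := hsu (AlgSp.Points.schemeHomeo U x)
    obtain ⟨v, rfl⟩ := GrothLib.AlgSp.surjective_map_of_repWith qs t
    obtain ⟨v, rfl⟩ := (AlgSp.Points.schemeHomeo V).surjective v
    rw [← AlgSp.Points.map_comp, ← hc, AlgSp.Points.map_yon_map_apply] at ht
    exact ⟨v, (AlgSp.Points.schemeHomeo U).injective ht⟩
  haveI : IsReduced T.left := inferInstanceAs (IsReduced (Spec (CommRingCat.of k)))
  haveI : IsReduced V.left := _root_.GrothLib.RedSmooth.isReduced_of_smooth l.left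
  exact _root_.GrothLib.RedSmooth.isReduced_of_flat_surjective_family (ι := PUnit.{u + 1}) (fun _ => c.left)
    (fun _ => inferInstance) (fun s => ⟨PUnit.unit, c.left.surjective s⟩) (fun _ => inferInstance)

end GrothLib.AlgSt
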