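import Groth.Agent.Lib.AlgSt.DescLocQ
import Groth.Agent.Lib.AlgSt.DescPoints
import Groth.Agent.Lib.DiagGrp.TrivOver

/-!
# Flat surjective charts from the spectrum of a field
-/

set_option autoImplicit false
set_option backward.isDefEq.respectTransparency false
set_option backward.isDefEq.respectTransparency.types false

universe u

open CategoryTheory CategoryTheory.Limits AlgebraicGeometry Opposite

namespace GrothLib.AlgSt

open _root_.AlgSt GrothLib.FibCat

variable {S : Scheme.{u}} {𝒳 𝒵 𝒲 : _root_.AlgSt.Cat S}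

theorem nonempty_subsingleton_points_overCat_field {k : Type u} [Field k] (a : Spec (CommRingCat.of k) ⟶ S) :
    Nonempty (Points (_root_.FibCat.overCat (Over.mk a))) ∧
      Subsingleton (Points (_root_.FibCat.overCat (Over.mk a))) := by
  have : Subsingleton ↥(Over.mk a).left := inferInstanceAs (Subsingleton ↥(Spec (CommRingCat.of k)))
  exact ⟨⟨Points.ofChart (BasedFunctor.id _) (default : ↥(Spec (CommRingCat.of k)))⟩,
    (pointOf_bijective _).1.subsingleton⟩

/-- A stack with a surjection from a field has one point. -/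
theorem nonempty_subsingleton_points_of_fieldCover (h𝒵 : _root_.FibCat.IsFibGrpd 𝒵.p) {k : Type u} [Field k]
    {a : Spec (CommRingCat.of k) ⟶ S} (z : _root_.FibCat.overCat (Over.mk a) ⥤ᵇ 𝒵)
    (hz : RepByAlgSpWith AlgSp.IsSurjectiveMor z) : Nonempty (Points 𝒵) ∧ Subsingleton (Points 𝒵) := by
  obtain ⟨⟨p⟩, hs⟩ := nonempty_subsingleton_points_overCat_field a
  exact ⟨⟨Points.map z p⟩,
    ((isSurjective_iff_repByAlgSpWith (isFibGrpd_overCat _) h𝒵 z (repByAlgSp1_of_repByAlgSpWith hz)).2 hz).subsingleton⟩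

/-- Flatness descends along a flat surjection of the base. -/
theorem locP_flat_of_flat_base {F : AlgSp.Sp S} (hF : AlgSp.IsAlgSpace F) {U V : Over S} (c : V ⟶ U)
    [Flat c.left] [Surjective c.left] (b : F ⟶ (AlgSp.yon S).obj U)
    (h : AlgSp.LocP @Flat (pullback.fst ((AlgSp.yon S).map c) b)) : AlgSp.LocP @Flat b := by
  obtain ⟨T, a, ae, as⟩ := hF.atlas
  obtain ⟨g, hg⟩ := (AlgSp.yon S).map_surjective (a ≫ b)
  have sq : IsPullback ((AlgSp.yon S).map (pullback.fst g c)) ((AlgSp.yon S).map (pullback.snd g c))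
      ((AlgSp.yon S).map g) ((AlgSp.yon S).map c) :=
    GrothLib.AlgSp.isPullback_yon (IsPullback.of_hasPullback g c)
  rw [hg] at sq
  have sqb := (IsPullback.of_hasPullback ((AlgSp.yon S).map c) b).flip
  let l : (AlgSp.yon S).obj (pullback g c) ⟶ pullback ((AlgSp.yon S).map c) b :=
    sqb.lift ((AlgSp.yon S).map (pullback.fst g c) ≫ a) ((AlgSp.yon S).map (pullback.snd g c))
      (by rw [Category.assoc]; exact sq.w)
  have sql : IsPullback ((AlgSp.yon S).map (pullback.fst g c)) l a (pullback.snd ((AlgSp.yon S).map c) b) := by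
    refine IsPullback.of_bot ?_ (sqb.lift_fst _ _ _).symm sqb
    simpa only [l, IsPullback.lift_snd] using sq
  have hl : AlgSp.RepWith @Etale l := GrothLib.AlgSp.repWith_of_isPullback sql ae
  have : Flat (pullback.snd g c).left := h l (𝟙 _) (pullback.snd g c) hl (AlgSp.repWith_id _ V)
    (by rw [Category.comp_id]; exact sqb.lift_snd _ _ _)
  have sqS := GrothLib.AlgSp.isPullback_left (IsPullback.of_hasPullback g c)
  have : Flat (pullback.fst g c).left := MorphismProperty.of_isPullback sqS.flip (inferInstance : Flat c.left)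
  have : Surjective (pullback.fst g c).left :=
    MorphismProperty.of_isPullback sqS.flip (inferInstance : Surjective c.left)
  have : Flat ((pullback.fst g c).left ≫ g.left) := by rw [sqS.w]; infer_instance
  exact GrothLib.AlgSp.EtLocal.locP_of_chart GrothLib.AlgSp.EtLocal.flat ae as (AlgSp.repWith_id _ U) (h := g)
    (by rw [Category.comp_id, hg]) (flat_of_comp_of_flat_surjective (pullback.fst g c).left g.left)

/-- Lifting through flat surjections. -/
theorem exists_lift_of_flat_surjective (z : 𝒲 ⥤ᵇ 𝒵) (h1 : RepByAlgSpWith (AlgSp.LocP @Flat) z)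
    (h2 : RepByAlgSpWith AlgSp.IsSurjectiveMor z) {U : Over S} (y : _root_.FibCat.overCat U ⥤ᵇ 𝒵) :
    ∃ (V : Over S) (c : V ⟶ U) (l : _root_.FibCat.overCat V ⥤ᵇ 𝒲), Flat c.left ∧ Surjective c.left ∧
      Nonempty (BasedFunctor.comp (GrothLib.FibCat.overMap c) y ≅ BasedFunctor.comp l z) := by
  obtain ⟨F, e, he, hfl, hsu⟩ := repByAlgSpWith_inf isoInvariant_locP h1 h2 U y
  obtain ⟨V, q, qe, qs⟩ := F.property.atlas
  let a := spMapOfOver (BasedFunctor.comp e (_root_.FibCat.fpFst y z))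
  obtain ⟨c, hc⟩ := (AlgSp.yon S).map_surjective (q ≫ a)
  obtain ⟨i⟩ := iso_of_spMapOfOver_eq
    (Φ := BasedFunctor.comp (toOverCat V) (_root_.AlgSt.overMap c))
    (Ψ := BasedFunctor.comp (ofSpMap q) (BasedFunctor.comp e (_root_.FibCat.fpFst y z)))
    ((spMapOfOver_overMap c).trans (hc.trans (spMapOfOver_ofSpMap_comp q _).symm))
  refine ⟨V, c, BasedFunctor.comp (ofOverCat V) (BasedFunctor.comp (ofSpMap q)
    (BasedFunctor.comp e (_root_.FibCat.fpSnd y z))), ?_, ?_, ⟨?_⟩⟩
  · exact hfl q (𝟙 _) c qe (AlgSp.repWith_id _ U) (by rw [Category.comp_id, hc])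
  · refine ⟨fun x => ?_⟩
    obtain ⟨t, ht⟩ := hsu (AlgSp.Points.schemeHomeo U x)
    obtain ⟨v, rfl⟩ := GrothLib.AlgSp.surjective_map_of_repWith qs t
    obtain ⟨v, rfl⟩ := (AlgSp.Points.schemeHomeo V).surjective v
    rw [← AlgSp.Points.map_comp, ← hc, AlgSp.Points.map_yon_map_apply] at ht
    exact ⟨v, (AlgSp.Points.schemeHomeo U).injective ht⟩
  · exact (whiskerRightIso (ofOverCatCompIso V) (BasedFunctor.comp (_root_.AlgSt.overMap c) y)).symm ≪≫
      whiskerRightIso (whiskerLeftIso (ofOverCat V) i) y ≪≫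
      whiskerLeftIso (BasedFunctor.comp (ofOverCat V) (BasedFunctor.comp (ofSpMap q) e)) (_root_.FibCat.fpIso y z)

/-- Anything over the spectrum of a field is flat. -/
theorem locP_flat_to_field {k : Type u} [Field k] (a : Spec (CommRingCat.of k) ⟶ S) {P : AlgSp.Sp S}
    (hP : AlgSp.IsAlgSpace P) (p : P ⟶ (AlgSp.yon S).obj (Over.mk a)) : AlgSp.LocP @Flat p := by
  obtain ⟨W, q, qe, qs⟩ := hP.atlas
  obtain ⟨h, hh⟩ := (AlgSp.yon S).map_surjective (q ≫ p)
  exact GrothLib.AlgSp.EtLocal.locP_of_chart GrothLib.AlgSp.EtLocal.flat qe qs (AlgSp.repWith_id _ _) (h := h)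
    (by rw [Category.comp_id, hh]) (GrothLib.DiagGrp.flat_of_field (L := k) h.left)

/-- Every morphism to a stack with a flat surjective chart from a field is flat. -/
theorem repByAlgSpWith_flat_of_fieldCover {k : Type u} [Field k] {a : Spec (CommRingCat.of k) ⟶ S}
    (z : _root_.FibCat.overCat (Over.mk a) ⥤ᵇ 𝒵) (hz : RepByAlgSpWith (AlgSp.LocP @Flat) z)
    (hzs : RepByAlgSpWith AlgSp.IsSurjectiveMor z) (f : 𝒳 ⥤ᵇ 𝒵) (hf : RepByAlgSp1 f) :
    RepByAlgSpWith (AlgSp.LocP @Flat) f := by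
  let T : Over S := Over.mk a
  have hT := AlgSp.IsAlgSpace.yon_obj T
  obtain ⟨P, E, hE⟩ := hf T z
  let p := spMapOfOver (BasedFunctor.comp E (_root_.FibCat.fpFst z f))
  have hπ : RepByAlgSpWith (AlgSp.LocP @Flat) (_root_.FibCat.fpFst z f) :=
    (repByAlgSpWith_iff_of_square (f := _root_.FibCat.fpFst z f) (f' := ofSpMap p) E (toOverCat T) hE
      (isEquivOver_toOverCat T) (isoOfSpMapOfOver (BasedFunctor.comp E (_root_.FibCat.fpFst z f))).symm).2
      (repByAlgSpWith_ofSpMap P.property hT p fun U d =>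
        locP_of_isPullback (Q := @Flat) (fun _ _ t (_ : Etale t) => inferInstance) GrothLib.AlgSp.etaleSourceDescends_flat
          P.property hT (AlgSp.IsAlgSpace.yon_obj U)
          (GrothLib.AlgSp.isAlgSpace_pullback' hT (AlgSp.IsAlgSpace.yon_obj U) P.property d p)
          (IsPullback.of_hasPullback d p).flip (locP_flat_to_field a P.property p))
  intro U y
  obtain ⟨V, c, l, h1, h2, ⟨j⟩⟩ := exists_lift_of_flat_surjective z hz hzs y
  obtain ⟨F, e, he⟩ := hf U y
  let b := spMapOfOver (BasedFunctor.comp e (_root_.FibCat.fpFst y f))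
  let cm := (AlgSp.yon S).map c
  obtain ⟨ic⟩ := iso_toOverCat_overMap c
  have := IsEquivOver.full (isEquivOver_toOverCat U)
  have := IsEquivOver.faithful (isEquivOver_toOverCat U)
  let sq := IsPullback.of_hasPullback cm b
  let M := Fp.map (F := ofSpMap cm) (G := ofSpMap b) (toOverCat V) e (toOverCat U) ic
    (isoOfSpMapOfOver (BasedFunctor.comp e (_root_.FibCat.fpFst y f)))
  let E' := BasedFunctor.comp (spToFp sq.w) (BasedFunctor.comp M (Fp.paste f y (GrothLib.FibCat.overMap c)))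
  have hE' : _root_.FibCat.IsEquivOver E' := IsEquivOver.comp (isEquivOver_spToFp sq) (IsEquivOver.comp
    (Fp.isEquivOver_map _ _ _ _ _ (isEquivOver_toOverCat V) he)
    (Fp.isEquivOver_paste f y (GrothLib.FibCat.overMap c)))
  have h : HasRep (AlgSp.LocP @Flat) (_root_.FibCat.fpFst (BasedFunctor.comp (GrothLib.FibCat.overMap c) y) f) :=
    HasRep.of_equiv (BasedFunctor.comp (Fp.paste f z l) (Fp.congr j.symm (Iso.refl f)))
      (IsEquivOver.comp (Fp.isEquivOver_paste f z l) (Fp.isEquivOver_congr _ _)) (Iso.refl _) (hπ V l)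
  have hm : AlgSp.LocP @Flat (pullback.fst cm b) := spMapOfOver_toOverCat (pullback.fst cm b) ▸
    h.mem isoInvariant_locP ⟨_, GrothLib.AlgSp.isAlgSpace_pullback' (AlgSp.IsAlgSpace.yon_obj U)
      (AlgSp.IsAlgSpace.yon_obj V) F.property cm b⟩ E' hE'
  exact ⟨F, e, he, locP_flat_of_flat_base F.property c b hm⟩

/-- Every morphism from a nonempty stack to a one-point stack is surjective. -/
theorem repByAlgSpWith_surjective_of_subsingleton (h𝒳 : _root_.FibCat.IsFibGrpd 𝒳.p)
    (h𝒵 : _root_.FibCat.IsFibGrpd 𝒵.p) [Nonempty (Points 𝒳)] [Subsingleton (Points 𝒵)] (f : 𝒳 ⥤ᵇ 𝒵)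
    (hf : RepByAlgSp1 f) : RepByAlgSpWith AlgSp.IsSurjectiveMor f :=
  (isSurjective_iff_repByAlgSpWith h𝒳 h𝒵 f hf).1 fun q =>
    ⟨Classical.arbitrary _, Subsingleton.elim _ q⟩

end GrothLib.AlgSt
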