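import Groth.Agent.Lib.AlgSt.SmoothLocally
import Groth.Agent.Lib.AlgSt.Topology
import Groth.Agent.Lib.AlgSt.LocQChart
import Groth.Agent.Lib.FppfSource.Scheme
import Groth.Agent.Lib.LocProp.Stalk

/-!
# Locally Noetherian algebraic stacks; properties descending along fppf covers of the source
-/

set_option backward.isDefEq.respectTransparency false
set_option backward.isDefEq.respectTransparency.types false

universe u

open CategoryTheory CategoryTheory.Limits AlgebraicGeometry Opposite Topology TopologicalSpace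

namespace GrothLib.AlgSt

open _root_.AlgSt GrothLib.FibCat

variable {S : Scheme.{u}} {𝒳 𝒴 𝒵 : _root_.AlgSt.Cat S}

/-- One locally Noetherian smooth surjective chart makes the stack locally Noetherian. -/
theorem smoothLocally_isLocallyNoetherian_of_chart {W : Over S} (w : _root_.FibCat.overCat W ⥤ᵇ 𝒳)
    (hw : RepByAlgSpWith (AlgSp.LocP @Smooth) w) (hws : RepByAlgSpWith AlgSp.IsSurjectiveMor w)
    (h : IsLocallyNoetherian W.left) : SmoothLocally (fun T ↦ IsLocallyNoetherian T) 𝒳 := fun U y hy => by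
  obtain ⟨V, c, l, hc, hcs, hl⟩ := exists_lift_chart_smooth y w hy hw hws
  have := LocallyOfFiniteType.isLocallyNoetherian l.left
  exact GrothLib.FppfSource.isLocallyNoetherian_of_fppf c.left

theorem smoothLocally_isLocallyNoetherian_of_lft (h𝒳 : IsAlgStack Scheme.fppfPrecoverage 𝒳)
    (h𝒴 : IsAlgStack Scheme.fppfPrecoverage 𝒴) (f : 𝒳 ⥤ᵇ 𝒴) (hf : LocQ (AlgSp.LocP @LocallyOfFiniteType) f)
    (hN : SmoothLocally (fun T ↦ IsLocallyNoetherian T) 𝒴) :
    SmoothLocally (fun T ↦ IsLocallyNoetherian T) 𝒳 := by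
  obtain ⟨V, y, hy, hys⟩ := h𝒴.atlas
  obtain ⟨U, l, h, hl, ⟨β⟩, hx, hxs, -⟩ := exists_atlas_over h𝒳 h𝒴 f y
  have : LocallyOfFiniteType h.left :=
    left_of_locP_yon (mem_of_locQ GrothLib.AlgSp.isSmoothLocalST_lft hf h𝒳 h𝒴 y hy l hl.1 h β)
  have : IsLocallyNoetherian V.left := hN V y hy
  exact smoothLocally_isLocallyNoetherian_of_chart _ (hx hy) (hxs hys) (LocallyOfFiniteType.isLocallyNoetherian h.left)

theorem locQ_lfp_of_lft_of_noetherian (h𝒳 : IsAlgStack Scheme.fppfPrecoverage 𝒳)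
    (h𝒴 : IsAlgStack Scheme.fppfPrecoverage 𝒴) (f : 𝒳 ⥤ᵇ 𝒴) (hf : LocQ (AlgSp.LocP @LocallyOfFiniteType) f)
    (hN : SmoothLocally (fun T ↦ IsLocallyNoetherian T) 𝒴) :
    LocQ (AlgSp.LocP @LocallyOfFinitePresentation) f := by
  obtain ⟨V, y, hy, hys⟩ := h𝒴.atlas
  obtain ⟨U, l, h, hl, ⟨β⟩, hx, hxs, -⟩ := exists_atlas_over h𝒳 h𝒴 f y
  have : LocallyOfFiniteType h.left :=
    left_of_locP_yon (mem_of_locQ GrothLib.AlgSp.isSmoothLocalST_lft hf h𝒳 h𝒴 y hy l hl.1 h β)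
  have : IsLocallyNoetherian V.left := hN V y hy
  exact locQ_of_atlas_square hy β (hx hy) (hxs hys)
    (locP_yon_of_left GrothLib.AlgSp.EtLocal.lfp
      (GrothLib.LocProp.locallyOfFinitePresentation_of_isLocallyNoetherian h.left))

theorem exists_noetherian_nhd (h𝒳 : IsAlgStack Scheme.fppfPrecoverage 𝒳)
    (hN : SmoothLocally (fun T ↦ IsLocallyNoetherian T) 𝒳) (p : Points 𝒳) :
    ∃ W : Set (Points 𝒳), IsOpen W ∧ p ∈ W ∧ NoetherianSpace W := by
  obtain ⟨U, x, hx, hs⟩ := h𝒳.atlas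
  have : IsLocallyNoetherian U.left := hN U x hx
  obtain ⟨u, rfl⟩ := surjective_ofChart h𝒳.isStack.1 hs p
  obtain ⟨O, hO, hu, -⟩ := exists_isAffineOpen_mem_and_subset (x := u) (U := ⊤) trivial
  have : IsAffine O.toScheme := hO
  have : IsNoetherian O.toScheme := { }
  have hc : Continuous fun o : ↥O.toScheme => Points.ofChart x (O.ι o) :=
    (continuous_ofChart h𝒳.isStack.1 h𝒳.atlas x).comp O.ι.continuous
  refine ⟨Points.ofChart x '' (O : Set ↥U.left), isOpenMap_ofChart h𝒳.isStack.1 hx _ O.isOpen, ⟨u, hu, rfl⟩, ?_⟩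
  have e : Points.ofChart x '' (O : Set ↥U.left) = Set.range fun o : ↥O.toScheme => Points.ofChart x (O.ι o) := by
    ext q
    exact ⟨fun ⟨a, ha, e⟩ => ⟨⟨a, ha⟩, e⟩, fun ⟨o, e⟩ => ⟨_, o.2, e⟩⟩
  exact e ▸ NoetherianSpace.range _ hc

theorem noetherianSpace_points (h𝒳 : IsAlgStack Scheme.fppfPrecoverage 𝒳) (hq : IsQuasiCompact 𝒳)
    (hN : SmoothLocally (fun T ↦ IsLocallyNoetherian T) 𝒳) : NoetherianSpace (Points 𝒳) := by
  obtain ⟨U, x, hU, hx, hs⟩ := hq
  have : IsLocallyNoetherian U.left := hN U x hx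
  have : IsNoetherian U.left := { }
  exact noetherianSpace_of_surjective _ (continuous_ofChart h𝒳.isStack.1 h𝒳.atlas x)
    (surjective_ofChart h𝒳.isStack.1 hs)

/-- An open continuous surjective image of a locally Noetherian quasi-sober space is quasi-sober. -/
theorem quasiSober_of_isOpenMap {X Y : Type*} [TopologicalSpace X] [TopologicalSpace Y] (f : X → Y)
    (hc : Continuous f) (ho : IsOpenMap f) (hs : Function.Surjective f)
    (hX : ∀ x : X, ∃ O : Set X, IsOpen O ∧ x ∈ O ∧ NoetherianSpace O ∧ QuasiSober O) : QuasiSober Y := by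
  refine ⟨fun {Z} hZ hZc => ?_⟩
  obtain ⟨z, hz⟩ := hZ.nonempty
  obtain ⟨x, rfl⟩ := hs z
  obtain ⟨O, hO, hxO, hN, hQ⟩ := hX x
  let g : O → Y := fun o => f o.1
  have hg : Continuous g := hc.comp continuous_subtype_val
  obtain ⟨C, hCf, hCc, hCi, hC⟩ :=
    NoetherianSpace.exists_finite_set_isClosed_irreducible (hZc.preimage hg)
  classical
  have hsub : Z ⊆ ⋃₀ ((hCf.toFinset.image fun c => closure (g '' c) : Finset (Set Y)) : Set (Set Y)) := by
    refine (subset_closure_inter_of_isPreirreducible_of_isOpen hZ.2 (ho O hO)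
      ⟨_, hz, x, hxO, rfl⟩).trans (closure_minimal ?_ ?_)
    · rintro _ ⟨hyZ, o, ho', rfl⟩
      have h' : (⟨o, ho'⟩ : O) ∈ g ⁻¹' Z := hyZ
      rw [hC] at h'
      obtain ⟨c, hc', hoc⟩ := h'
      exact ⟨_, Finset.mem_image.2 ⟨c, hCf.mem_toFinset.2 hc', rfl⟩, subset_closure ⟨_, hoc, rfl⟩⟩
    · rw [Set.sUnion_eq_biUnion]
      refine Set.Finite.isClosed_biUnion (Finset.finite_toSet _) fun t ht => ?_
      obtain ⟨c, -, rfl⟩ := Finset.mem_image.1 ht
      exact isClosed_closure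
  obtain ⟨t, ht, hZt⟩ := (isIrreducible_iff_sUnion_isClosed.1 hZ) _ (fun t ht => by
    obtain ⟨c, -, rfl⟩ := Finset.mem_image.1 ht
    exact isClosed_closure) hsub
  obtain ⟨c, hc', rfl⟩ := Finset.mem_image.1 ht
  have hc' := hCf.mem_toFinset.1 hc'
  obtain ⟨η, hη⟩ := hQ.sober (hCi c hc') (hCc c hc')
  refine ⟨g η, subset_antisymm (closure_minimal (Set.singleton_subset_iff.2 ?_) hZc) (hZt.trans ?_)⟩
  · have : η ∈ g ⁻¹' Z := hC ▸ Set.mem_sUnion_of_mem hη.mem hc'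
    exact this
  · refine closure_minimal ?_ isClosed_closure
    rintro _ ⟨o, ho', rfl⟩
    have : o ∈ closure {η} := hη.symm ▸ ho'
    simpa [Set.image_singleton] using image_closure_subset_closure_image hg ⟨o, this, rfl⟩

theorem quasiSober_points (h𝒳 : IsAlgStack Scheme.fppfPrecoverage 𝒳)
    (hN : SmoothLocally (fun T ↦ IsLocallyNoetherian T) 𝒳) : QuasiSober (Points 𝒳) := by
  obtain ⟨U, x, hx, hs⟩ := h𝒳.atlas
  have : IsLocallyNoetherian U.left := hN U x hx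
  refine quasiSober_of_isOpenMap (Points.ofChart x) (continuous_ofChart h𝒳.isStack.1 h𝒳.atlas x)
    (isOpenMap_ofChart h𝒳.isStack.1 hx) (surjective_ofChart h𝒳.isStack.1 hs) fun u => ?_
  obtain ⟨O, hO, hu, -⟩ := exists_isAffineOpen_mem_and_subset (x := u) (U := ⊤) trivial
  have : IsAffine O.toScheme := hO
  have : IsNoetherian O.toScheme := { }
  exact ⟨O, O.isOpen, hu, (inferInstance : NoetherianSpace ↥O.toScheme), (inferInstance : QuasiSober ↥O.toScheme)⟩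

theorem locQ_of_precomp_fppf {Q : MorphismProperty Scheme.{u}} (hQ : GrothLib.AlgSp.EtLocal Q)
    (hST : AlgSp.IsSmoothLocalST (AlgSp.LocP (S := S) Q)) (hD : GrothLib.FppfSource.FppfSourceDescends Q)
    (h𝒳 : IsAlgStack Scheme.fppfPrecoverage 𝒳) (h𝒴 : IsAlgStack Scheme.fppfPrecoverage 𝒴)
    (h𝒵 : IsAlgStack Scheme.fppfPrecoverage 𝒵) (f : 𝒳 ⥤ᵇ 𝒴) (g : 𝒴 ⥤ᵇ 𝒵)
    (hf₁ : LocQ (AlgSp.LocP @Flat) f) (hf₂ : LocQ (AlgSp.LocP @LocallyOfFinitePresentation) f)
    (hf₃ : IsSurjective f) (h : LocQ (AlgSp.LocP Q) (BasedFunctor.comp f g)) : LocQ (AlgSp.LocP Q) g := by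
  obtain ⟨U, V, W, a, b, hsurj, hm, -, hg⟩ := exists_comp_square h𝒳 h𝒴 h𝒵 f g
  have h1 := left_of_locP_yon ((hm hST).2.2 h)
  rw [Over.comp_left] at h1
  exact hg (locP_yon_of_left hQ (hD a.left b.left
    (left_of_locP_yon ((hm GrothLib.AlgSp.isSmoothLocalST_flat).1 hf₁))
    (left_of_locP_yon ((hm GrothLib.AlgSp.isSmoothLocalST_lfp).1 hf₂)) (hsurj hf₃) h1))

end GrothLib.AlgSt
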