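import Groth.Agent.Lib.AlgSt.FieldChart
import Groth.Agent.Lib.AlgSt.Mono
import Groth.Agent.Lib.AlgSt.NoethStack
import Groth.Agent.Lib.AlgSp.SingletonSpace
import Groth.Agent.Lib.AlgMisc.GeomRegAt
import Groth.Agent.Lib.Serre.Regular

/-!
# Monomorphisms to one-point stacks with an fppf chart from a field
-/

set_option autoImplicit false
set_option linter.style.haveILetI false
set_option backward.isDefEq.respectTransparency false
set_option backward.isDefEq.respectTransparency.types false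

universe u

open CategoryTheory CategoryTheory.Limits AlgebraicGeometry Opposite

namespace GrothLib.AlgSt

open _root_.AlgSt GrothLib.FibCat

variable {S : Scheme.{u}} {𝒳 𝒵 : _root_.AlgSt.Cat S}

/-- A morphism representable by isomorphisms is an equivalence. -/
theorem isEquivOver_of_repByAlgSpWith_iso (h𝒳 : _root_.FibCat.IsFibGrpd 𝒳.p) (h𝒵 : _root_.FibCat.IsFibGrpd 𝒵.p)
    (f : 𝒳 ⥤ᵇ 𝒵) (hf : RepByAlgSpWith (MorphismProperty.isomorphisms (AlgSp.Sp S)) f) :
    _root_.FibCat.IsEquivOver f := by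
  have hm : IsMono f := repByAlgSpWith_mono
    (fun _ _ b _ _ (h : IsIso b) => (inferInstance : Mono b)) hf
  obtain ⟨hfu, hfa⟩ := full_faithful_of_isMono h𝒳 h𝒵 f hm
  refine FFEssSurjOver.isEquivOver ⟨hfu, hfa, fun η => ?_⟩
  let U := 𝒵.p.obj η
  obtain ⟨y, i, hi⟩ := Yon.exists_functor h𝒵 η (rfl : 𝒵.p.obj η = U)
  obtain ⟨F, e, he, ha⟩ := hf U y
  let π := _root_.FibCat.fpFst y f
  let a := spMapOfOver (BasedFunctor.comp e π)
  haveI : IsIso a := ha
  obtain ⟨δ₀⟩ := iso_of_spMapOfOver_eq (Φ := toOverCat U)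
    (Ψ := BasedFunctor.comp (ofSpMap (inv a)) (BasedFunctor.comp e π))
    ((spMapOfOver_id_toOverCat U).trans ((IsIso.inv_hom_id a).symm.trans (spMapOfOver_ofSpMap_comp _ _).symm))
  let Φ := BasedFunctor.comp (ofOverCat U) (BasedFunctor.comp (ofSpMap (inv a)) e)
  let δ : BasedFunctor.comp Φ π ≅ BasedFunctor.id _ :=
    (whiskerLeftIso (ofOverCat U) δ₀).symm ≪≫ ofOverCatCompIso U
  let o := Φ.obj (Yon.idObj U)
  let d : o.obj.fst ≅ Yon.idObj U := ((BasedNatTrans.forgetful _ _).mapIso δ).app (Yon.idObj U)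
  have hd : (_root_.FibCat.overCat U).p.IsHomLift (𝟙 U) d.hom := BasedNatTrans.isHomLift δ.hom rfl
  let yd : y.obj o.obj.fst ≅ y.obj (Yon.idObj U) := y.toFunctor.mapIso d
  have hyd : 𝒵.p.IsHomLift (𝟙 U) yd.hom :=
    @BasedFunctor.preserves_isHomLift _ _ _ _ y _ _ _ _ (𝟙 U) d.hom hd
  have hU : (_root_.FibCat.overCat U).p.obj o.obj.fst = U := IsHomLift.domain_eq _ (𝟙 U) d.hom
  have ho := Fp.iso_lift o
  refine ⟨o.obj.snd, o.obj.iso.symm ≪≫ yd ≪≫ i, ?_⟩
  haveI : 𝒵.p.IsHomLift (𝟙 U) o.obj.iso.hom :=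
    @isHomLift_id_of_eq _ _ _ _ 𝒵.p _ U _ _ o.obj.iso.hom ho (Or.inl ((y.w_obj _).trans hU))
  haveI : 𝒵.p.IsHomLift (𝟙 U) o.obj.iso.inv := isHomLift_id_inv 𝒵.p (R := U) o.obj.iso
  exact inferInstanceAs (𝒵.p.IsHomLift (𝟙 U) (o.obj.iso.inv ≫ yd.hom ≫ i.hom))

/-- Isomorphisms descend along fppf covers of schemes among monomorphisms. -/
theorem isIso_of_fppf_base {U V : Over S} (c : V ⟶ U) [Flat c.left] [LocallyOfFinitePresentation c.left]
    [Surjective c.left] {F : AlgSp.Sp S} (b : F ⟶ (AlgSp.yon S).obj U) [Mono b]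
    [IsIso (pullback.fst ((AlgSp.yon S).map c) b)] : IsIso b := by
  have hU := AlgSp.IsAlgSpace.yon_obj U
  haveI : Epi ((AlgSp.yon S).map c) := GrothLib.AlgSp.epi_of_fppf_point hU
    (locP_yon_of_left GrothLib.AlgSp.EtLocal.lfp ‹_›) (locP_yon_of_left GrothLib.AlgSp.EtLocal.flat ‹_›)
    (fun x => GrothLib.AlgSp.surjective_map_of_repWith ((AlgSp.repWith_yon_map_iff _ _).2 ‹_›) x)
  haveI : Epi (pullback.snd ((AlgSp.yon S).map c) b ≫ b) := by rw [← pullback.condition]; infer_instance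
  haveI : Epi b := epi_of_epi (pullback.snd ((AlgSp.yon S).map c) b) b
  exact isIso_of_mono_of_epi b

/-- A nonempty monomorphism to a stack with an fppf chart from a field is an equivalence. -/
theorem isEquivOver_of_isMono_fieldChart (h𝒳 : IsAlgStack Scheme.fppfPrecoverage 𝒳)
    (h𝒵 : IsAlgStack Scheme.fppfPrecoverage 𝒵) (f : 𝒳 ⥤ᵇ 𝒵) (hf : IsMono f) [Nonempty (Points 𝒳)]
    {k : Type u} [Field k] {a : Spec (CommRingCat.of k) ⟶ S} (z : _root_.FibCat.overCat (Over.mk a) ⥤ᵇ 𝒵)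
    (hzp : RepByAlgSpWith (AlgSp.LocP @LocallyOfFinitePresentation) z)
    (hzs : RepByAlgSpWith AlgSp.IsSurjectiveMor z) (hzf : RepByAlgSpWith (AlgSp.LocP @Flat) z) :
    _root_.FibCat.IsEquivOver f := by
  haveI := (nonempty_subsingleton_points_of_fieldCover h𝒵.isStack.1 z hzs).2
  have hfr := repByAlgSp1_of_repByAlgSpWith hf
  have hfs := repByAlgSpWith_surjective_of_subsingleton h𝒳.isStack.1 h𝒵.isStack.1 f hfr
  refine isEquivOver_of_repByAlgSpWith_iso h𝒳.isStack.1 h𝒵.isStack.1 f fun U y => ?_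
  obtain ⟨V, c, l, h1, h2, h3, ⟨j⟩⟩ := liftsFppf_of_repByAlgSpWith z hzf hzp hzs U y
  haveI := h1; haveI := h2; haveI := h3
  obtain ⟨F, e, he, hm⟩ := hf U y
  let b := spMapOfOver (BasedFunctor.comp e (_root_.FibCat.fpFst y f))
  haveI : Mono b := hm
  have hU := AlgSp.IsAlgSpace.yon_obj U
  -- the base change to the field
  let T : Over S := Over.mk a
  obtain ⟨P, E, hE, hp⟩ := hf T z
  let p := spMapOfOver (BasedFunctor.comp E (_root_.FibCat.fpFst z f))
  haveI : Mono p := hp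
  haveI : Nonempty (AlgSp.Points P.obj) := by
    have hs := HasRep.mem (hfs T z) isoInvariant_surjective P E hE
    obtain ⟨t, -⟩ := hs (AlgSp.Points.schemeHomeo T (default : ↥(Spec (CommRingCat.of k))))
    exact ⟨t⟩
  haveI : IsIso p := GrothLib.AlgSp.isIso_of_mono_to_field_space P.property p
  have hπ : RepByAlgSpWith (MorphismProperty.isomorphisms (AlgSp.Sp S)) (_root_.FibCat.fpFst z f) :=
    (repByAlgSpWith_iff_of_square (f := _root_.FibCat.fpFst z f) (f' := ofSpMap p) E (toOverCat T) hE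
      (isEquivOver_toOverCat T) (isoOfSpMapOfOver (BasedFunctor.comp E (_root_.FibCat.fpFst z f))).symm).2
      (repByAlgSpWith_ofSpMap P.property (AlgSp.IsAlgSpace.yon_obj T) p fun W d =>
        (inferInstance : IsIso (pullback.fst d p)))
  let cm := (AlgSp.yon S).map c
  obtain ⟨ic⟩ := iso_toOverCat_overMap c
  have := IsEquivOver.full (isEquivOver_toOverCat U)
  have := IsEquivOver.faithful (isEquivOver_toOverCat U)
  let sq := IsPullback.of_hasPullback cm b
  let M := Fp.map (F := ofSpMap cm) (G := ofSpMap b) (toOverCat V) e (toOverCat U) ic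
    (isoOfSpMapOfOver (BasedFunctor.comp e (_root_.FibCat.fpFst y f)))
  let E' := BasedFunctor.comp (spToFp sq.w) (BasedFunctor.comp M (Fp.paste f y (GrothLib.FibCat.overMap c)))
  have hE' : _root_.FibCat.IsEquivOver E' := IsEquivOver.comp (isEquivOver_spToFp sq) (IsEquivOver.comp
    (Fp.isEquivOver_map _ _ _ _ _ (isEquivOver_toOverCat V) he)
    (Fp.isEquivOver_paste f y (GrothLib.FibCat.overMap c)))
  have hc : HasRep (MorphismProperty.isomorphisms (AlgSp.Sp S))
      (_root_.FibCat.fpFst (BasedFunctor.comp (GrothLib.FibCat.overMap c) y) f) :=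
    HasRep.of_equiv (BasedFunctor.comp (Fp.paste f z l) (Fp.congr j.symm (Iso.refl f)))
      (IsEquivOver.comp (Fp.isEquivOver_paste f z l) (Fp.isEquivOver_congr _ _)) (Iso.refl _) (hπ V l)
  have hi : IsIso (pullback.fst cm b) := spMapOfOver_toOverCat (pullback.fst cm b) ▸
    (hc.mem (fun _ _ _ _ _ φ _ t (ht : IsIso t) => (inferInstance : IsIso (φ ≫ t)))
      ⟨_, GrothLib.AlgSp.isAlgSpace_pullback' hU (AlgSp.IsAlgSpace.yon_obj V) F.property cm b⟩ E' hE' : IsIso _)
  haveI := hi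
  exact ⟨F, e, he, isIso_of_fppf_base c b⟩

/-- A smooth chart of a one-point stack and the field chart are dominated. -/
theorem exists_smooth_over_field {k : Type u} [Field k]
    {a : Spec (CommRingCat.of k) ⟶ S} (z : _root_.FibCat.overCat (Over.mk a) ⥤ᵇ 𝒵)
    (hzp : RepByAlgSpWith (AlgSp.LocP @LocallyOfFinitePresentation) z)
    (hzs : RepByAlgSpWith AlgSp.IsSurjectiveMor z) (hzf : RepByAlgSpWith (AlgSp.LocP @Flat) z)
    {U : Over S} (y : _root_.FibCat.overCat U ⥤ᵇ 𝒵) (hy : RepByAlgSpWith (AlgSp.LocP @Smooth) y) :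
    ∃ (V : Over S) (c : V ⟶ U) (l : V ⟶ Over.mk a),
      Flat c.left ∧ LocallyOfFinitePresentation c.left ∧ Surjective c.left ∧ Smooth l.left := by
  let T : Over S := Over.mk a
  obtain ⟨F, e, he, hfl, hfp, hsu⟩ :=
    repByAlgSpWith_inf isoInvariant_locP hzf (repByAlgSpWith_inf isoInvariant_locP hzp hzs) U y
  have hsm' := HasRep.mem (hy T z) isoInvariant_locP F (BasedFunctor.comp e (Fp.symm y z))
    (IsEquivOver.comp he (Fp.isEquivOver_symm y z))
  obtain ⟨V, q, qe, qs⟩ := F.property.atlas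
  obtain ⟨c, hc⟩ := (AlgSp.yon S).map_surjective (q ≫ spMapOfOver (BasedFunctor.comp e (_root_.FibCat.fpFst y z)))
  obtain ⟨l, hl⟩ := (AlgSp.yon S).map_surjective (q ≫ spMapOfOver (BasedFunctor.comp
    (BasedFunctor.comp e (Fp.symm y z)) (_root_.FibCat.fpFst z y)))
  haveI : Flat c.left := hfl q (𝟙 _) c qe (AlgSp.repWith_id _ U) (by rw [Category.comp_id, hc])
  haveI : LocallyOfFinitePresentation c.left :=
    hfp q (𝟙 _) c qe (AlgSp.repWith_id _ U) (by rw [Category.comp_id, hc])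
  haveI : Smooth l.left := hsm' q (𝟙 _) l qe (AlgSp.repWith_id _ T) (by rw [Category.comp_id, hl])
  haveI : Surjective c.left := by
    refine ⟨fun x => ?_⟩
    obtain ⟨t, ht⟩ := hsu (AlgSp.Points.schemeHomeo U x)
    obtain ⟨v, rfl⟩ := GrothLib.AlgSp.surjective_map_of_repWith qs t
    obtain ⟨v, rfl⟩ := (AlgSp.Points.schemeHomeo V).surjective v
    rw [← AlgSp.Points.map_comp, ← hc, AlgSp.Points.map_yon_map_apply] at ht
    exact ⟨v, (AlgSp.Points.schemeHomeo U).injective ht⟩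
  exact ⟨V, c, l, ‹_›, ‹_›, ‹_›, ‹_›⟩

/-- One-point stacks with an fppf chart from a field are locally Noetherian. -/
theorem smoothLocally_isLocallyNoetherian_of_fieldChart {k : Type u} [Field k]
    {a : Spec (CommRingCat.of k) ⟶ S} (z : _root_.FibCat.overCat (Over.mk a) ⥤ᵇ 𝒵)
    (hzp : RepByAlgSpWith (AlgSp.LocP @LocallyOfFinitePresentation) z)
    (hzs : RepByAlgSpWith AlgSp.IsSurjectiveMor z) (hzf : RepByAlgSpWith (AlgSp.LocP @Flat) z) :
    SmoothLocally (fun T => IsLocallyNoetherian T) 𝒵 := fun U y hy => by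
  obtain ⟨V, c, l, h1, h2, h3, h4⟩ := exists_smooth_over_field z hzp hzs hzf y hy
  haveI := h1; haveI := h2; haveI := h3; haveI := h4
  haveI : IsLocallyNoetherian (Over.mk a).left := inferInstanceAs (IsLocallyNoetherian (Spec (CommRingCat.of k)))
  haveI := LocallyOfFiniteType.isLocallyNoetherian l.left
  exact GrothLib.FppfSource.isLocallyNoetherian_of_fppf c.left

/-- One-point stacks with an fppf chart from a field are regular. -/
theorem smoothLocally_isRegularLocalRing_of_fieldChart {k : Type u} [Field k]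
    {a : Spec (CommRingCat.of k) ⟶ S} (z : _root_.FibCat.overCat (Over.mk a) ⥤ᵇ 𝒵)
    (hzp : RepByAlgSpWith (AlgSp.LocP @LocallyOfFinitePresentation) z)
    (hzs : RepByAlgSpWith AlgSp.IsSurjectiveMor z) (hzf : RepByAlgSpWith (AlgSp.LocP @Flat) z) :
    SmoothLocally (fun T => ∀ t : T, IsRegularLocalRing (T.presheaf.stalk t)) 𝒵 := fun U y hy t => by
  haveI : IsLocallyNoetherian U.left := smoothLocally_isLocallyNoetherian_of_fieldChart z hzp hzs hzf U y hy
  obtain ⟨V, c, l, h1, -, h3, h4⟩ := exists_smooth_over_field z hzp hzs hzf y hy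
  haveI := h1; haveI := h3; haveI := h4
  obtain ⟨v, rfl⟩ := c.left.surjective t
  haveI : Smooth (l.left : V.left ⟶ Spec (CommRingCat.of k)) := h4
  haveI : IsRegularLocalRing (V.left.presheaf.stalk v) :=
    Groth.Agent.Lib.AlgMisc.GeomRegAt.isRegularLocalRing_stalk_of_mem_smoothLocus (k := k) l.left
      (by rw [Scheme.Hom.smoothLocus_eq_top_iff.2 (inferInstance : Smooth l.left)]; trivial)
  letI := ((c.left.stalkMap v).hom).toAlgebra
  haveI : Module.Flat (U.left.presheaf.stalk (c.left v)) (V.left.presheaf.stalk v) := Flat.stalkMap c.left v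
  haveI : IsLocalHom (algebraMap (U.left.presheaf.stalk (c.left v)) (V.left.presheaf.stalk v)) :=
    c.left.toLRSHom.prop v
  exact GrothLib.Serre.isRegularLocalRing_of_flat _ (V.left.presheaf.stalk v)

/-- A reduced locally Noetherian one-point stack has an fppf chart from a field. -/
theorem exists_fppf_fieldChart (h𝒵 : IsAlgStack Scheme.fppfPrecoverage 𝒵)
    (hred : SmoothLocally (fun T => IsReduced T) 𝒵) (hN : SmoothLocally (fun T => IsLocallyNoetherian T) 𝒵)
    (hne : Nonempty (Points 𝒵)) (hsub : Subsingleton (Points 𝒵)) :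
    ∃ (k : Type u) (_ : Field k) (a : Spec (CommRingCat.of k) ⟶ S)
      (z : _root_.FibCat.overCat (Over.mk a) ⥤ᵇ 𝒵), RepByAlgSpWith (AlgSp.LocP @LocallyOfFinitePresentation) z ∧
        RepByAlgSpWith AlgSp.IsSurjectiveMor z ∧ RepByAlgSpWith (AlgSp.LocP @Flat) z := by
  obtain ⟨k₀, hk₀, a₀, z₀, h1, h2⟩ := exists_flat_surjective_fieldChart h𝒵 hred hne hsub
  obtain ⟨k, hk, a, z, hl, hs, hf⟩ := exists_lft_fieldChart h𝒵 a₀ z₀ h1 h2
  refine ⟨k, hk, a, z, ?_, hs, hf⟩
  obtain ⟨W, w, hw, hws⟩ := h𝒵.atlas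
  haveI : IsLocallyNoetherian W.left := hN W w hw
  have hlift : LiftsFppf w := liftsFppf_of_repByAlgSpWith w
    (repByAlgSpWith_mono (fun _ _ _ _ _ h => GrothLib.AlgSp.locP_mono
      (fun _ _ g (_ : Smooth g) => (inferInstance : Flat g)) h) hw)
    (repByAlgSpWith_mono (fun _ _ _ _ _ h => GrothLib.AlgSp.locP_mono
      (fun _ _ g (_ : Smooth g) => (inferInstance : LocallyOfFinitePresentation g)) h) hw) hws
  refine repByAlgSpWith_of_fpFst isoInvariant_locP
    (descendsToSchemes_locP GrothLib.AlgSp.EtLocal.lfp GrothLib.AlgSp.fppfDescends_lfp)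
    (repByAlgSp1_of_repByAlgSpWith hl) hlift ?_
  obtain ⟨F, e, he, hbl⟩ := hl W w
  let b := spMapOfOver (BasedFunctor.comp e (_root_.FibCat.fpFst w z))
  have hb : AlgSp.LocP @LocallyOfFinitePresentation b := by
    obtain ⟨V, q, qe, qs⟩ := F.property.atlas
    obtain ⟨g, hg⟩ := (AlgSp.yon S).map_surjective (q ≫ b)
    haveI : LocallyOfFiniteType g.left := hbl q (𝟙 _) g qe (AlgSp.repWith_id _ W) (by rw [Category.comp_id, hg])
    exact GrothLib.AlgSp.EtLocal.locP_of_chart GrothLib.AlgSp.EtLocal.lfp qe qs (AlgSp.repWith_id _ W) (h := g)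
      (by rw [Category.comp_id, hg]) (GrothLib.LocProp.locallyOfFinitePresentation_of_isLocallyNoetherian g.left)
  exact (repByAlgSpWith_iff_of_square (f := _root_.FibCat.fpFst w z) (f' := ofSpMap b) e (toOverCat W) he
    (isEquivOver_toOverCat W) (isoOfSpMapOfOver (BasedFunctor.comp e (_root_.FibCat.fpFst w z))).symm).2
    (repByAlgSpWith_ofSpMap F.property (AlgSp.IsAlgSpace.yon_obj W) b fun U d =>
      GrothLib.AlgSp.EtLocal.locP_of_isPullback GrothLib.AlgSp.EtLocal.lfp F.property (AlgSp.IsAlgSpace.yon_obj W)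
        (AlgSp.IsAlgSpace.yon_obj U) (IsPullback.of_hasPullback d b).flip hb)

end GrothLib.AlgSt

namespace GrothLib.AlgSt

open _root_.AlgSt GrothLib.FibCat

variable {S : Scheme.{u}} {𝒳 : _root_.AlgSt.Cat S}

/-- Field-valued charts at the point of a one-point full substack factor through it. -/
theorem exists_factor_fullSub_field (h𝒳 : IsAlgStack Scheme.fppfPrecoverage 𝒳) (Q : 𝒳.obj → Prop)
    (hQ : IsAlgStack Scheme.fppfPrecoverage (_root_.AlgSt.fullSub 𝒳 Q)) (hi : IsMono (_root_.AlgSt.subIncl 𝒳 Q))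
    {K : Type u} [Field K] {a : Spec (CommRingCat.of K) ⟶ S} (p : _root_.FibCat.overCat (Over.mk a) ⥤ᵇ 𝒳)
    (hp : ∃ (o : Points (_root_.FibCat.overCat (Over.mk a))) (z : Points (_root_.AlgSt.fullSub 𝒳 Q)),
      Points.map p o = Points.map (_root_.AlgSt.subIncl 𝒳 Q) z) :
    ∃ q : _root_.FibCat.overCat (Over.mk a) ⥤ᵇ _root_.AlgSt.fullSub 𝒳 Q,
      Nonempty (BasedFunctor.comp q (_root_.AlgSt.subIncl 𝒳 Q) ≅ p) := by
  let T : Over S := Over.mk a
  let i := _root_.AlgSt.subIncl 𝒳 Q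
  obtain ⟨P, E, hE, hm⟩ := hi T p
  let π := _root_.FibCat.fpFst p i
  let b := spMapOfOver (BasedFunctor.comp E π)
  haveI : Mono b := hm
  haveI : Nonempty (AlgSp.Points P.obj) := by
    obtain ⟨o, z, e⟩ := hp
    obtain ⟨r, -, -⟩ := exists_points_fp hQ.isStack.1 (isFibGrpd_overCat T) h𝒳.isStack.1 i p o z e
    obtain ⟨s, -⟩ := (points_map_bijective_of_isEquivOver (isFibGrpd_ofSp P.obj) E hE).2 r
    exact ⟨toSpPoints s⟩
  haveI : IsIso b := GrothLib.AlgSp.isIso_of_mono_to_field_space P.property b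
  obtain ⟨δ₀⟩ := iso_of_spMapOfOver_eq (Φ := toOverCat T)
    (Ψ := BasedFunctor.comp (ofSpMap (inv b)) (BasedFunctor.comp E π))
    ((spMapOfOver_id_toOverCat T).trans ((IsIso.inv_hom_id b).symm.trans (spMapOfOver_ofSpMap_comp _ _).symm))
  let Φ := BasedFunctor.comp (ofOverCat T) (BasedFunctor.comp (ofSpMap (inv b)) E)
  let δ : BasedFunctor.comp Φ π ≅ BasedFunctor.id _ :=
    (whiskerLeftIso (ofOverCat T) δ₀).symm ≪≫ ofOverCatCompIso T
  exact ⟨BasedFunctor.comp Φ (_root_.FibCat.fpSnd p i),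
    ⟨(whiskerLeftIso Φ (_root_.FibCat.fpIso p i)).symm ≪≫ whiskerRightIso δ p⟩⟩

end GrothLib.AlgSt
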