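import Groth.Agent.Lib.AlgSt.FieldImage
import Groth.Agent.Lib.AlgSt.MonoIso
import Groth.Agent.Lib.AlgSt.Setoid
import Groth.Agent.Lib.AlgSt.Gerbe.Lifting
import Groth.Agent.Lib.AlgSt.DescFamily
import Groth.Agent.Lib.AlgSt.DiagLFP

/-!
# The image of a chart with fppf fibre square
-/

set_option autoImplicit false
set_option linter.style.haveILetI false
set_option backward.isDefEq.respectTransparency false
set_option backward.isDefEq.respectTransparency.types false

universe u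

open CategoryTheory CategoryTheory.Limits AlgebraicGeometry Opposite

namespace GrothLib.AlgSt

open _root_.AlgSt GrothLib.FibCat

variable {S : Scheme.{u}} {𝒳 : _root_.AlgSt.Cat S} {T : Over S}

/-- Base change of the chart to an object of the image is fppf. -/
theorem hasRep_fppf_of_chartImage_of_sq (h𝒳 : IsAlgStack Scheme.fppfPrecoverage 𝒳)
    (z : _root_.FibCat.overCat T ⥤ᵇ 𝒳) (hrep : RepByAlgSp1 z)
    (hfl : RepByAlgSpWith (AlgSp.LocP @Flat) (_root_.FibCat.fpFst z z))
    (hlfp : RepByAlgSpWith (AlgSp.LocP @LocallyOfFinitePresentation) (_root_.FibCat.fpFst z z))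
    {U : Over S} (y : _root_.FibCat.overCat U ⥤ᵇ 𝒳) (hy : chartImage z (y.obj (Yon.idObj U))) :
    HasRep GrothLib.AlgSp.FppfMor (_root_.FibCat.fpFst y z) := by
  have g𝒳 := h𝒳.isStack.1
  have gT := isFibGrpd_overCat T
  have gU := isFibGrpd_overCat U
  let ξ := y.obj (Yon.idObj U)
  have hξ : 𝒳.p.obj ξ = U := y.w_obj (Yon.idObj U)
  obtain ⟨V, c, hc, hcf, hcp, hcs⟩ := exists_family_of_mem_J
    (GrothendieckTopology.pullback_stable (AlgSp.J S) (eqToHom hξ.symm) hy)
  have hl : ∀ i, ∃ l : _root_.FibCat.overCat (V i) ⥤ᵇ _root_.FibCat.overCat T,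
      Nonempty (BasedFunctor.comp (GrothLib.FibCat.overMap (c i)) y ≅ BasedFunctor.comp l z) := fun i => by
    obtain ⟨x, g, hg⟩ : ∃ (x : (_root_.FibCat.overCat T).obj) (g : z.obj x ⟶ ξ),
        𝒳.p.IsHomLift (c i ≫ eqToHom hξ.symm) g := hc i
    refine exists_lift_of_obj gT g𝒳 z y (c i) x g ?_
    exact IsHomLift.of_fac' _ _ _ (IsHomLift.domain_eq 𝒳.p (c i ≫ eqToHom hξ.symm) g) hξ (by
      rw [IsHomLift.fac' 𝒳.p (c i ≫ eqToHom hξ.symm) g]
      simp)
  choose l j using hl
  have hr : RepByAlgSp1 z := hrep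
  have hp : HasRep (AlgSp.LocP @LocallyOfFinitePresentation) (_root_.FibCat.fpFst y z) :=
    hasRep_of_family isoInvariant_locP isLocalOnBase_fppf_locP_lfp z y V c hcf hcp
      (fun x => ⟨x, hcs x⟩) (hr U y) fun i =>
        HasRep.of_equiv (BasedFunctor.comp (Fp.paste z z (l i)) (Fp.congr (j i).some.symm (Iso.refl z)))
          (IsEquivOver.comp (Fp.isEquivOver_paste z z (l i)) (Fp.isEquivOver_congr _ _)) (Iso.refl _)
          (hlfp (V i) (l i))
  have hs1 : RepByAlgSpWith AlgSp.IsSurjectiveMor (_root_.FibCat.fpFst y z) := by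
    refine (isSurjective_iff_repByAlgSpWith (Fp.isFibGrpd gU gT g𝒳) gU _
      (repByAlgSpWith_top_iff.1 (repByAlgSpWith_fpFst y (repByAlgSpWith_top_iff.2 hr)))).1 fun o => ?_
    obtain ⟨v, hv⟩ := hcs (pointOf o)
    let o' := Points.ofChart (BasedFunctor.id (_root_.FibCat.overCat (V (pointOf o)))) v
    have ho : Points.map (GrothLib.FibCat.overMap (c (pointOf o))) o' = o := by
      refine (pointOf_bijective U).1 (Eq.trans ?_ hv)
      change pointOf (Points.map (GrothLib.FibCat.overMap (c (pointOf o))) o') = _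
      rw [← ofChart_eq_map, show Points.ofChart (GrothLib.FibCat.overMap (c (pointOf o))) v =
        Points.ofChart (BasedFunctor.id (_root_.FibCat.overCat U)) ((c (pointOf o)).left v) from
          ofChart_overMap (c (pointOf o)) (BasedFunctor.id _) v]
      exact pointOf_ofChart_id _
    have e : Points.map y o = Points.map z (Points.map (l (pointOf o)) o') := by
      have := points_map_congr (j (pointOf o)).some o'
      rw [points_map_comp, points_map_comp, ho] at this
      exact this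
    obtain ⟨w, hw, -⟩ := exists_points_fp gT gU g𝒳 z y o _ e
    exact ⟨w, hw⟩
  have hs : HasRep AlgSp.IsSurjectiveMor (_root_.FibCat.fpFst y z) :=
    HasRep.of_equiv (Fp.paste z y (BasedFunctor.id (_root_.FibCat.overCat U)))
      (Fp.isEquivOver_paste z y (BasedFunctor.id _)) (Iso.refl _) (hs1 U (BasedFunctor.id _))
  have : IsZariskiLocalAtTarget (@Flat : MorphismProperty Scheme.{u}) := inferInstance
  have := GrothLib.AlgSp.descendsAlong_flat_fpqc.{u}
  have hf : HasRep (AlgSp.LocP @Flat) (_root_.FibCat.fpFst y z) :=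
    hasRep_of_family isoInvariant_locP (GrothLib.SpQuot.isLocalOnBase_fppf_locP GrothLib.AlgSp.EtLocal.flat) z y V c
      hcf hcp (fun x => ⟨x, hcs x⟩) (hr U y) fun i =>
        HasRep.of_equiv (BasedFunctor.comp (Fp.paste z z (l i)) (Fp.congr (j i).some.symm (Iso.refl z)))
          (IsEquivOver.comp (Fp.isEquivOver_paste z z (l i)) (Fp.isEquivOver_congr _ _)) (Iso.refl _)
          (hfl (V i) (l i))
  obtain ⟨F, e, he, hpF⟩ := hp
  exact ⟨F, e, he, ⟨hs.mem isoInvariant_surjective F e he,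
    hf.mem isoInvariant_locP F e he⟩, hpF⟩

/-- The chart is fppf onto its image. -/
theorem repByAlgSpWith_fppf_toChartImage_of_sq (h𝒳 : IsAlgStack Scheme.fppfPrecoverage 𝒳)
    (z : _root_.FibCat.overCat T ⥤ᵇ 𝒳) (hrep : RepByAlgSp1 z)
    (hfl : RepByAlgSpWith (AlgSp.LocP @Flat) (_root_.FibCat.fpFst z z))
    (hlfp : RepByAlgSpWith (AlgSp.LocP @LocallyOfFinitePresentation) (_root_.FibCat.fpFst z z)) :
    RepByAlgSpWith GrothLib.AlgSp.FppfMor (toChartImage z) := fun U y => by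
  let Q := chartImage z
  let E := Fp.map (F := y) (G := toChartImage z) (F' := BasedFunctor.comp y (subIncl 𝒳 Q)) (G' := z)
    (BasedFunctor.id _) (BasedFunctor.id _) (subIncl 𝒳 Q) (Iso.refl _) (Iso.refl _)
  exact HasRep.of_equiv' E (Fp.isEquivOver_map _ _ _ _ _ (IsEquivOver.refl _) (IsEquivOver.refl _))
    (Iso.refl _) (hasRep_fppf_of_chartImage_of_sq h𝒳 z hrep hfl hlfp (BasedFunctor.comp y (subIncl 𝒳 Q))
      (y.obj (Yon.idObj U)).property)

/-- The inclusion of the image is representable by algebraic spaces. -/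
theorem repByAlgSp1_subIncl_chartImage_of_sq (h𝒳 : IsAlgStack Scheme.fppfPrecoverage 𝒳)
    (z : _root_.FibCat.overCat T ⥤ᵇ 𝒳) (hrep : RepByAlgSp1 z)
    (hfl : RepByAlgSpWith (AlgSp.LocP @Flat) (_root_.FibCat.fpFst z z))
    (hlfp : RepByAlgSpWith (AlgSp.LocP @LocallyOfFinitePresentation) (_root_.FibCat.fpFst z z)) :
    RepByAlgSp1 (subIncl 𝒳 (chartImage z)) := by
  intro U y
  let Q := chartImage z
  let i := subIncl 𝒳 Q
  let z' := toChartImage z
  have g𝒳 := h𝒳.isStack.1
  have gU := isFibGrpd_overCat U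
  have hQ : _root_.Stk.IsStack (AlgSp.J S) (fullSub 𝒳 Q) := isStack_locImage z (isFibGrpd_overCat T) h𝒳.isStack
  have hU : _root_.Stk.IsStack (AlgSp.J S) (_root_.FibCat.overCat U) :=
    isStack_of_repByAlgSp (repByAlgSp_overCat U)
  have hK : _root_.Stk.IsStack (AlgSp.J S) (_root_.FibCat.fp y i) :=
    ⟨Fp.isFibGrpd gU hQ.1 g𝒳, fun V R hR => GrothLib.Stk.isStackFor_fp y i (hU.2 R hR) (hQ.2 R hR)
      ((GrothLib.Stk.IsStack.isPrestack h𝒳.isStack).2 R hR)⟩
  obtain ⟨F, e, he⟩ := hrep U y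
  let Φ := Fp.map (F := y) (G := z) (F' := y) (G' := i) (BasedFunctor.id _) z' (BasedFunctor.id 𝒳)
    (Iso.refl _) (Iso.refl _)
  have hΦ : RepByAlgSpWith GrothLib.AlgSp.FppfMor Φ :=
    (repByAlgSpWith_iff_of_square (f := Φ) (f' := _root_.FibCat.fpFst (_root_.FibCat.fpSnd y i) z')
      (Fp.pasteComp z' i y) (BasedFunctor.id _) (Fp.isEquivOver_pasteComp z' i y) (IsEquivOver.refl _)
      (chartImageSquare z y)).2 (repByAlgSpWith_fpFst _ (repByAlgSpWith_fppf_toChartImage_of_sq h𝒳 z hrep hfl hlfp))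
  exact repByAlgSp_of_setoid_cover hK (Fp.isFibSetoid_of_faithful (isFibSetoid_overCat U) hQ.1 g𝒳)
    (Z := F) (BasedFunctor.comp e Φ) (repByAlgSpWith_equiv_comp e he hΦ)

/-- The image of a chart with fppf fibre square is an algebraic substack. -/
theorem isAlgStack_chartImage_of_sq (h𝒳 : IsAlgStack Scheme.fppfPrecoverage 𝒳)
    (z : _root_.FibCat.overCat T ⥤ᵇ 𝒳) (hrep : RepByAlgSp1 z)
    (hfl : RepByAlgSpWith (AlgSp.LocP @Flat) (_root_.FibCat.fpFst z z))
    (hlfp : RepByAlgSpWith (AlgSp.LocP @LocallyOfFinitePresentation) (_root_.FibCat.fpFst z z)) :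
    IsAlgStack Scheme.fppfPrecoverage (fullSub 𝒳 (chartImage z)) ∧ IsMono (subIncl 𝒳 (chartImage z)) :=
  have h := repByAlgSp1_subIncl_chartImage_of_sq h𝒳 z hrep hfl hlfp
  ⟨isAlgStack_of_repByAlgSp1 (isStack_locImage z (isFibGrpd_overCat T) h𝒳.isStack).1 h𝒳 _ h,
    isMono_of_repByAlgSp1_full _ h⟩

end GrothLib.AlgSt
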