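import Groth.Agent.Lib.AlgSt.FpStack
import Groth.Agent.Lib.AlgSp.LocP

/-!
# Fibre products of algebraic and Deligne-Mumford stacks, for any topology
-/

set_option backward.isDefEq.respectTransparency false
set_option backward.isDefEq.respectTransparency.types false

universe u

open CategoryTheory CategoryTheory.Limits AlgebraicGeometry Opposite

namespace GrothLib.AlgSt

open _root_.AlgSt GrothLib.FibCat

variable {S : Scheme.{u}}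

/-- An atlas of a fibre product. -/
theorem hasAtlas_fp {P : MorphismProperty (AlgSp.Sp S)} (hiso : IsoInvariant P)
    (hPc : ∀ ⦃X Y Z : AlgSp.Sp S⦄, AlgSp.IsAlgSpace X → AlgSp.IsAlgSpace Y → AlgSp.IsAlgSpace Z →
      ∀ (a : X ⟶ Y) (b : Y ⟶ Z), P a → P b → P (a ≫ b))
    (hdet : DetectedBySchemes P)
    (hch : ∀ ⦃F₂ F₁ G : AlgSp.Sp S⦄ (b : F₂ ⟶ F₁) (a : F₁ ⟶ G), AlgSp.RepWith @Etale b → P a → P (b ≫ a))
    {𝒳 𝒴 𝒵 : _root_.AlgSt.Cat S} (g𝒵 : _root_.FibCat.IsFibGrpd 𝒵.p)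
    (hΔ : RepByAlgSp1 (_root_.FibCat.diag (_root_.FibCat.toSelf 𝒵)))
    (g𝒳 : _root_.FibCat.IsFibGrpd 𝒳.p) (g𝒴 : _root_.FibCat.IsFibGrpd 𝒴.p)
    (f : 𝒳 ⥤ᵇ 𝒵) (g : 𝒴 ⥤ᵇ 𝒵) (hX : HasAtlas P 𝒳) (hY : HasAtlas P 𝒴) :
    HasAtlas P (_root_.FibCat.fp f g) := by
  obtain ⟨U, x, xs, xj⟩ := hX
  obtain ⟨V, y, ys, yj⟩ := hY
  have gU := (isFibSetoid_of_repByAlgSp (repByAlgSp_overCat U)).1
  have gV := (isFibSetoid_of_repByAlgSp (repByAlgSp_overCat V)).1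
  obtain ⟨E, hE, ⟨η⟩, ⟨ε⟩⟩ := IsEquivOver.symm (Fp.isEquivOver_paste g f x)
  let π := BasedFunctor.comp E (_root_.FibCat.fpSnd x (_root_.FibCat.fpFst f g))
  have := IsEquivOver.full (IsEquivOver.refl (_root_.FibCat.fp f g))
  have := IsEquivOver.faithful (IsEquivOver.refl (_root_.FibCat.fp f g))
  have hπs : RepByAlgSpWith P π :=
    repByAlgSpWith_of_square E (BasedFunctor.id _) hE (Iso.refl _) (repByAlgSpWith_fpSnd _ xs)
  have hπj : RepByAlgSpWith AlgSp.IsSurjectiveMor π :=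
    repByAlgSpWith_of_square E (BasedFunctor.id _) hE (Iso.refl _) (repByAlgSpWith_fpSnd _ xj)
  let σ := _root_.FibCat.fpFst (_root_.FibCat.fpSnd (BasedFunctor.comp x f) g) y
  have gB := Fp.isFibGrpd (F := BasedFunctor.comp x f) (G := g) gU g𝒴 g𝒵
  have gC := Fp.isFibGrpd (F := _root_.FibCat.fpSnd (BasedFunctor.comp x f) g) (G := y) gB gV g𝒴
  have hC : RepByAlgSp (_root_.FibCat.fp (_root_.FibCat.fpSnd (BasedFunctor.comp x f) g) y) :=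
    repByAlgSp_of_isEquivOver' (Fp.pasteComp y g (BasedFunctor.comp x f))
      (Fp.isEquivOver_pasteComp y g (BasedFunctor.comp x f))
      (repByAlgSp1_of_diag hΔ g𝒵 (BasedFunctor.comp y g) U (BasedFunctor.comp x f))
  obtain ⟨Z, eZ, hZ⟩ := hC
  obtain ⟨W, p, pe, ps⟩ := Z.property.atlas
  exact ⟨W, _, repByAlgSpWith_comp_chart (fun _ _ _ _ _ b a hb _ ha => hch b a hb ha)
      (repByAlgSpWith_comp' gC gB hiso hPc hdet σ π (repByAlgSpWith_fpFst _ ys) hπs) eZ hZ pe ps,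
    repByAlgSpWith_comp_chart (fun _ _ _ _ _ b a _ hb ha => isSurjectiveMor_etale_comp b a hb ha)
      (repByAlgSpWith_surjective_comp gC gB σ π (repByAlgSpWith_fpFst _ yj) hπj) eZ hZ pe ps⟩

/-- The fibre product of algebraic stacks over a stack with diagonal representable by algebraic spaces. -/
theorem isAlgStack_fp_of {K : Precoverage Scheme.{u}} {𝒳 𝒴 𝒵 : _root_.AlgSt.Cat S}
    (h𝒵 : _root_.Stk.IsStack (QuotSh.J K S) 𝒵) (hΔ : RepByAlgSp1 (_root_.FibCat.diag (_root_.FibCat.toSelf 𝒵)))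
    (h𝒳 : IsAlgStack K 𝒳) (h𝒴 : IsAlgStack K 𝒴)
    (f : 𝒳 ⥤ᵇ 𝒵) (g : 𝒴 ⥤ᵇ 𝒵) : IsAlgStack K (_root_.FibCat.fp f g) := by
  have g𝒳 := h𝒳.isStack.1
  have g𝒴 := h𝒴.isStack.1
  have gA := Fp.isFibGrpd (F := f) (G := g) g𝒳 g𝒴 h𝒵.1
  refine ⟨⟨gA, fun U R hR => GrothLib.Stk.isStackFor_fp f g (h𝒳.isStack.2 R hR) (h𝒴.isStack.2 R hR)
    ((GrothLib.Stk.IsStack.isPrestack h𝒵).2 R hR)⟩, repByAlgSp1_diag_of (fun U G => ?_) gA, ?_⟩
  · let G₁ := BasedFunctor.comp G (_root_.FibCat.fpFst f g)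
    have gU := (isFibSetoid_of_repByAlgSp (repByAlgSp_overCat U)).1
    let z : _root_.FibCat.overCat U ⥤ᵇ _root_.FibCat.fp G₁ (_root_.FibCat.fpFst f g) :=
      _root_.FibCat.fpLift (BasedFunctor.id _) G (Iso.refl _)
    have gB := Fp.isFibGrpd (F := G₁) (G := _root_.FibCat.fpFst f g) gU gA g𝒳
    have := IsEquivOver.full (IsEquivOver.refl 𝒴)
    have := IsEquivOver.faithful (IsEquivOver.refl 𝒴)
    have hsnd : RepByAlgSp1 (_root_.FibCat.fpSnd (BasedFunctor.comp G₁ f) g) :=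
      repByAlgSp1_fpSnd g (repByAlgSp1_of_diag hΔ h𝒵.1 (BasedFunctor.comp G₁ f))
    have hj : RepByAlgSp1 (BasedFunctor.comp (Fp.paste g f G₁) (_root_.FibCat.fpSnd (BasedFunctor.comp G₁ f) g)) :=
      repByAlgSp1_of_square (Fp.paste g f G₁) (BasedFunctor.id 𝒴) (Fp.isEquivOver_paste g f G₁) (Iso.refl _) hsnd
    have hz : RepByAlgSp1 z :=
      repByAlgSp1_of_diag (repByAlgSp1_diag_of_repByAlgSp1 gB g𝒴 h𝒴.diag _ hj) gB z
    exact repByAlgSp1_comp gU gB z (_root_.FibCat.fpSnd G₁ (_root_.FibCat.fpFst f g)) hz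
      (repByAlgSp1_fpSnd (_root_.FibCat.fpFst f g) (repByAlgSp1_of_diag h𝒳.diag g𝒳 G₁))
  · exact hasAtlas_fp isoInvariant_locP
      (fun _ _ _ _ hY hZ _ _ ha hb => locP_comp GrothLib.AlgSp.etaleSourceDescends_smooth hY hZ ha hb)
      (detectedBySchemes_locP fun _ _ t (h : Etale t) => (inferInstance : Smooth t))
      (fun _ _ _ b a hb ha => locP_etale_comp b a hb ha)
      h𝒵.1 hΔ g𝒳 g𝒴 f g h𝒳.atlas h𝒴.atlas

/-- The fibre product of Deligne-Mumford stacks. -/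
theorem isDM_fp_of {K : Precoverage Scheme.{u}} {𝒳 𝒴 𝒵 : _root_.AlgSt.Cat S}
    (h𝒵 : _root_.Stk.IsStack (QuotSh.J K S) 𝒵) (hΔ : RepByAlgSp1 (_root_.FibCat.diag (_root_.FibCat.toSelf 𝒵)))
    (h𝒳 : IsDM K 𝒳) (h𝒴 : IsDM K 𝒴)
    (f : 𝒳 ⥤ᵇ 𝒵) (g : 𝒴 ⥤ᵇ 𝒵) : IsDM K (_root_.FibCat.fp f g) :=
  ⟨isAlgStack_fp_of h𝒵 hΔ h𝒳.1 h𝒴.1 f g,
    hasAtlas_fp
      (fun _ _ _ _ _ φ _ a ha => isEtaleMor_etale_comp φ a (GrothLib.AlgSp.repWith_iso φ) ha)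
      (fun X Y Z _ hY hZ a b ha hb => GrothLib.AlgSp.isEtaleMor_of_locP hZ
        (locP_comp GrothLib.AlgSp.etaleSourceDescends_etale hY hZ
          (GrothLib.AlgSp.locP_of_isEtaleMor hY ha) (GrothLib.AlgSp.locP_of_isEtaleMor hZ hb)))
      (fun F₂ F₁ h₂ h₁ b hb => GrothLib.AlgSp.isEtaleMor_of_locP h₁
        (detectedBySchemes_locP (fun _ _ _ h => h) h₂ h₁ b fun V p =>
          GrothLib.AlgSp.locP_of_isEtaleMor (AlgSp.IsAlgSpace.yon_obj V) (hb V p)))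
      (fun _ _ _ b a hb ha => isEtaleMor_etale_comp b a hb ha)
      h𝒵.1 hΔ h𝒳.1.isStack.1 h𝒴.1.isStack.1 f g h𝒳.2 h𝒴.2⟩

end GrothLib.AlgSt
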