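import Groth.Agent.Lib.AlgSt.IsoClPoints
import Groth.Agent.Lib.AlgSt.RepBy
import Groth.Agent.Lib.Stk.Descent
import Groth.Agent.Lib.AlgSp.Descent

/-!
# Stacks without automorphisms and their presheaves of isomorphism classes
-/

set_option backward.isDefEq.respectTransparency false
set_option backward.isDefEq.respectTransparency.types false

universe u

open CategoryTheory CategoryTheory.Limits AlgebraicGeometry Opposite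

namespace GrothLib.AlgSt

open _root_.AlgSt GrothLib.FibCat _root_.IsoNat

variable {S : Scheme.{u}} {𝒳 𝒴 : _root_.AlgSt.Cat S}

/-- The sieve generated by a flat surjective morphism locally of finite presentation covers. -/
theorem generate_singleton_mem_J {T T' : Over S} (π : T' ⟶ T) [Flat π.left] [Surjective π.left]
    [LocallyOfFinitePresentation π.left] :
    Sieve.generate (Presieve.singleton π) ∈ QuotSh.J Scheme.fppfPrecoverage S T := by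
  rw [GrothendieckTopology.mem_over_iff]
  refine GrothendieckTopology.superset_covering _ ?_
    (Precoverage.generate_mem_toGrothendieck (Scheme.Hom.singleton_mem_fppfPrecoverage π.left))
  rw [Sieve.generate_le_iff]
  rintro Z f ⟨⟩
  rw [Sieve.overEquiv_generate]
  exact ⟨_, 𝟙 _, π.left, ⟨T', π, 𝟙 _, ⟨⟩, (Category.id_comp _).symm⟩, Category.id_comp _⟩

/-- Parallel morphisms over one base morphism agree when all objects are clean. -/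
theorem hom_eq_of_clean (h : _root_.FibCat.IsFibGrpd 𝒳.p) (hc : ∀ η : 𝒳.obj, IsClean η)
    {a b : 𝒳.obj} (φ ψ : a ⟶ b) (hp : 𝒳.p.map φ = 𝒳.p.map ψ) : φ = ψ := by
  obtain ⟨θ, ⟨h1, h2⟩, -⟩ := IsFibGrpd.existsUnique_fac h φ ψ (𝟙 _) (by rw [Category.id_comp]; exact hp)
  rw [hc a a (𝟙 a) θ h1, Category.id_comp] at h2
  exact h2

theorem isFibSetoid_of_clean (h : _root_.FibCat.IsFibGrpd 𝒳.p) (hc : ∀ η : 𝒳.obj, IsClean η) :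
    _root_.FibCat.IsFibSetoid 𝒳.p := by
  refine ⟨h, fun U a b => ⟨fun φ ψ => Functor.Fiber.hom_ext (hom_eq_of_clean h hc _ _ ?_)⟩⟩
  have h1 : 𝒳.p.IsHomLift (𝟙 U) φ.1 := φ.2
  have h2 : 𝒳.p.IsHomLift (𝟙 U) ψ.1 := ψ.2
  exact (IsHomLift.fac' 𝒳.p (𝟙 U) φ.1).trans (IsHomLift.fac' 𝒳.p (𝟙 U) ψ.1).symm

theorem clean_of_isFibSetoid (h : _root_.FibCat.IsFibSetoid 𝒳.p) (η : 𝒳.obj) : IsClean η := by
  intro x _ s hs
  have : 𝒳.p.IsHomLift (𝟙 (𝒳.p.obj x)) s := by rw [← hs]; exact IsHomLift.map 𝒳.p s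
  let X : 𝒳.p.Fiber (𝒳.p.obj x) := ⟨x, rfl⟩
  have : 𝒳.p.IsHomLift (𝟙 (𝒳.p.obj x)) (𝟙 x) := IsHomLift.id rfl
  exact congrArg Subtype.val ((h.2 (𝒳.p.obj x) X X).elim ⟨s, inferInstance⟩ ⟨𝟙 x, inferInstance⟩)

/-- An isomorphism in a fibre from a vertical morphism. -/
theorem nonempty_fiber_iso (h : _root_.FibCat.IsFibGrpd 𝒳.p) {T : Over S} {x y : 𝒳.p.Fiber T} (α : x.1 ⟶ y.1)
    (hα : 𝒳.p.IsHomLift (𝟙 T) α) : Nonempty (x ≅ y) := by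
  have := IsFibGrpd.isGroupoid_fiber h T
  let f : x ⟶ y := ⟨α, hα⟩
  exact ⟨asIso f⟩

/-- Isomorphism classes are separated when all objects are clean. -/
theorem isoCl_separated_of_clean (h𝒳 : IsAlgStack Scheme.fppfPrecoverage 𝒳) (hc : ∀ η : 𝒳.obj, IsClean η)
    {T T' : Over S} (π : T' ⟶ T) [Flat π.left] [Surjective π.left] [LocallyOfFinitePresentation π.left]
    (x₁ x₂ : 𝒳.p.Fiber T) (x₁' x₂' : 𝒳.p.Fiber T') (a₁ : x₁'.1 ⟶ x₁.1) (a₂ : x₂'.1 ⟶ x₂.1)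
    (h₁ : 𝒳.p.IsHomLift π a₁) (h₂ : 𝒳.p.IsHomLift π a₂) (he : Nonempty (x₁' ≅ x₂')) : Nonempty (x₁ ≅ x₂) := by
  have hG := h𝒳.isStack.1
  obtain ⟨e⟩ := he
  have he' : 𝒳.p.IsHomLift (𝟙 T') e.hom.1 := e.hom.2
  have := h₁
  have := h₂
  let a : x₁'.1 ⟶ x₂.1 := e.hom.1 ≫ a₂
  have ha : 𝒳.p.IsHomLift π a := IsHomLift.comp_lift_id_left' 𝒳.p T' e.hom.1 π a₂
  let R : Sieve (𝒳.p.obj x₁.1) := (Sieve.generate (Presieve.singleton π)).pullback (eqToHom x₁.2)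
  let χ : 𝒳.p.obj x₁.1 ⟶ 𝒳.p.obj x₂.1 := eqToHom (x₁.2.trans x₂.2.symm)
  have hex : ∀ {a' : 𝒳.obj} (κ : a' ⟶ x₁.1), R (𝒳.p.map κ) →
      ∃ n : a' ⟶ x₂.1, 𝒳.p.map n = 𝒳.p.map κ ≫ χ := by
    rintro a' κ ⟨W, g, _, ⟨⟩, hg⟩
    have : 𝒳.p.IsHomLift (g ≫ π) κ := IsHomLift.of_fac' 𝒳.p _ _ rfl x₁.2 (by simp [hg])
    obtain ⟨m, ⟨hm, -⟩, -⟩ := IsFibGrpd.existsUnique_lift hG π g a₁ κ
    have : 𝒳.p.IsHomLift (g ≫ π) (m ≫ a) := inferInstance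
    refine ⟨m ≫ a, ?_⟩
    rw [IsHomLift.fac' 𝒳.p (g ≫ π) (m ≫ a)]
    simp [χ, reassoc_of% hg]
  choose n hn using @hex
  have hJ : R ∈ QuotSh.J Scheme.fppfPrecoverage S (𝒳.p.obj x₁.1) :=
    GrothendieckTopology.pullback_stable _ _ (generate_singleton_mem_J π)
  have hfull : (_root_.Stk.resSieve R 𝒳).Full := by
    have := h𝒳.isStack.2 R hJ
    unfold _root_.Stk.IsStackFor at this
    infer_instance
  obtain ⟨α, hα, -⟩ := GrothLib.Stk.Descent.exists_hom hG hfull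
    (L := { n := fun κ hκ => n κ hκ
            map_n := fun κ hκ => hn κ hκ
            comp := fun l κ hκ h' => hom_eq_of_clean hG hc _ _ (by
              rw [𝒳.p.map_comp, hn κ hκ, hn (l ≫ κ) h', 𝒳.p.map_comp, Category.assoc]) })
  exact nonempty_fiber_iso hG α (IsHomLift.of_fac' 𝒳.p _ _ x₁.2 x₂.2 (by simp [hα, χ]))

theorem clean_of_repByAlgSp (h : RepByAlgSp 𝒳) (η : 𝒳.obj) : IsClean η :=
  clean_of_isFibSetoid (isFibSetoid_of_repByAlgSp h) η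

/-- Separatedness of isomorphism classes transports along an isomorphism of their presheaves. -/
theorem isoCl_separated_of_fIso (h𝒳 : _root_.FibCat.IsFibGrpd 𝒳.p) (h𝒴 : _root_.FibCat.IsFibGrpd 𝒴.p)
    (φ : FIso 𝒳 𝒴) {T T' : Over S} (π : T' ⟶ T)
    (hs : ∀ (x₁ x₂ : 𝒳.p.Fiber T) (x₁' x₂' : 𝒳.p.Fiber T') (a₁ : x₁'.1 ⟶ x₁.1) (a₂ : x₂'.1 ⟶ x₂.1),
        𝒳.p.IsHomLift π a₁ → 𝒳.p.IsHomLift π a₂ → Nonempty (x₁' ≅ x₂') → Nonempty (x₁ ≅ x₂))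
    (y₁ y₂ : 𝒴.p.Fiber T) (y₁' y₂' : 𝒴.p.Fiber T') (b₁ : y₁'.1 ⟶ y₁.1) (b₂ : y₂'.1 ⟶ y₂.1)
    (h₁ : 𝒴.p.IsHomLift π b₁) (h₂ : 𝒴.p.IsHomLift π b₂) (he : Nonempty (y₁' ≅ y₂')) : Nonempty (y₁ ≅ y₂) := by
  obtain ⟨ψ, hψ⟩ := exists_fiso_symm h𝒳 h𝒴 φ
  obtain ⟨x₁', x₁, a₁, ha₁, e₁', e₁⟩ := ψ.natural π y₁' y₁ b₁ h₁
  obtain ⟨x₂', x₂, a₂, ha₂, e₂', e₂⟩ := ψ.natural π y₂' y₂ b₂ h₂
  have h' : cls y₁' = cls y₂' := Quotient.sound (s := isIsomorphicSetoid (𝒴.p.Fiber T')) he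
  obtain ⟨i⟩ := hs x₁ x₂ x₁' x₂' a₁ a₂ ha₁ ha₂ (Quotient.exact (e₁'.symm.trans ((congrArg _ h').trans e₂')))
  have h : cls x₁ = cls x₂ := Quotient.sound (s := isIsomorphicSetoid (𝒳.p.Fiber T)) ⟨i⟩
  exact Quotient.exact ((ψ.toEquiv T).injective (e₁.trans (h.trans e₂.symm)))

/-- A clean stack with the isomorphism classes of an algebraic space is one. -/
theorem repByAlgSp_of_fIso_clean (h𝒴 : _root_.FibCat.IsFibGrpd 𝒴.p)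
    (hc : ∀ η : 𝒴.obj, IsClean η) (φ : FIso 𝒳 𝒴) (hsp : RepByAlgSp 𝒳) : RepByAlgSp 𝒴 := by
  have hXs := isFibSetoid_of_repByAlgSp hsp
  have hX := hXs.1
  have hcX : ∀ η : 𝒳.obj, IsClean η := clean_of_isFibSetoid hXs
  have hobj : ∀ x : 𝒳.obj, ∃ y : 𝒴.p.Fiber (𝒳.p.obj x), φ.toEquiv _ (cls ⟨x, rfl⟩) = cls y := fun x => by
    obtain ⟨y, hy⟩ := Quotient.exists_rep (φ.toEquiv _ (cls (⟨x, rfl⟩ : 𝒳.p.Fiber (𝒳.p.obj x))))
    exact ⟨y, hy.symm⟩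
  choose F hF using hobj
  have hmor : ∀ {x x' : 𝒳.obj} (a : x' ⟶ x), ∃ b : (F x').1 ⟶ (F x).1, 𝒴.p.IsHomLift (𝒳.p.map a) b := by
    intro x x' a
    obtain ⟨y', y, b, hb, e', e⟩ := φ.natural (𝒳.p.map a) ⟨x', rfl⟩ ⟨x, rfl⟩ a (IsHomLift.map 𝒳.p a)
    obtain ⟨i⟩ := Quotient.exact (e'.symm.trans (hF x'))
    obtain ⟨j⟩ := Quotient.exact (e.symm.trans (hF x))
    have := i.inv.2
    have := j.hom.2
    exact ⟨i.inv.1 ≫ b ≫ j.hom.1, inferInstance⟩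
  choose Fm hFm using @hmor
  have huniq : ∀ {a b : 𝒴.obj} {R R' : Over S} (g : R ⟶ R') (s t : a ⟶ b),
      𝒴.p.IsHomLift g s → 𝒴.p.IsHomLift g t → s = t := fun {a b R R'} g s t hs ht =>
    hom_eq_of_clean h𝒴 hc s t ((IsHomLift.fac' 𝒴.p g s).trans (IsHomLift.fac' 𝒴.p g t).symm)
  let Φ₀ : 𝒳.obj ⥤ 𝒴.obj :=
    { obj := fun x => (F x).1
      map := fun a => Fm a
      map_id := fun x => huniq (𝟙 (𝒳.p.obj x)) _ _ (by rw [← 𝒳.p.map_id]; exact hFm _)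
        (IsHomLift.id (F x).2)
      map_comp := fun {x x' x''} a b => huniq (𝒳.p.map a ≫ 𝒳.p.map b) _ _
        (by rw [← 𝒳.p.map_comp]; exact hFm _)
        (have := hFm a; have := hFm b; inferInstance) }
  have hw : Φ₀ ⋙ 𝒴.p = 𝒳.p := CategoryTheory.Functor.ext (fun x => (F x).2) (fun x x' a =>
    have := hFm a
    IsHomLift.fac' 𝒴.p (𝒳.p.map a) (Fm a))
  let Φ : 𝒳 ⥤ᵇ 𝒴 := ⟨Φ₀, hw⟩
  refine repByAlgSp_of_isEquivOver Φ (FFEssSurjOver.isEquivOver ⟨⟨fun {x x'} b => ?_⟩, ⟨fun {x x' a a'} e => ?_⟩,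
    fun η => ?_⟩) hsp
  · -- full
    obtain ⟨ψ, hψ⟩ := exists_fiso_symm hX h𝒴 φ
    let g : 𝒳.p.obj x ⟶ 𝒳.p.obj x' := eqToHom (F x).2.symm ≫ 𝒴.p.map b ≫ eqToHom (F x').2
    have hb : 𝒴.p.IsHomLift g b := IsHomLift.of_fac 𝒴.p _ _ (F x).2 (F x').2 rfl
    obtain ⟨w, w', c, hc', e, e'⟩ := ψ.natural g (F x) (F x') b hb
    rw [← hF x, hψ, Equiv.symm_apply_apply] at e
    rw [← hF x', hψ, Equiv.symm_apply_apply] at e'
    obtain ⟨i⟩ := Quotient.exact e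
    obtain ⟨j⟩ := Quotient.exact e'
    have h1 : 𝒳.p.IsHomLift (𝟙 (𝒳.p.obj x)) i.hom.1 := i.hom.2
    have h2 : 𝒳.p.IsHomLift (𝟙 (𝒳.p.obj x')) j.inv.1 := j.inv.2
    have := hc'
    let a : x ⟶ x' := i.hom.1 ≫ c ≫ j.inv.1
    have ha : 𝒳.p.IsHomLift g a :=
      IsHomLift.comp_lift_id_left' 𝒳.p (𝒳.p.obj x) i.hom.1 g (c ≫ j.inv.1)
    have hag : 𝒳.p.map a = g := (IsHomLift.eq_of_isHomLift 𝒳.p g a).symm
    exact ⟨a, huniq g _ _ (hag ▸ hFm a) hb⟩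
  · -- faithful
    have h1 := hFm a
    have h2 := hFm a'
    have e' : Fm a = Fm a' := e
    refine hom_eq_of_clean hX hcX a a' ?_
    have k := congrArg 𝒴.p.map e'
    rw [IsHomLift.fac' 𝒴.p (𝒳.p.map a) (Fm a), IsHomLift.fac' 𝒴.p (𝒳.p.map a') (Fm a'), cancel_epi,
      cancel_mono] at k
    exact k
  · -- essentially surjective
    obtain ⟨x, hx⟩ := Quotient.exists_rep ((φ.toEquiv (𝒴.p.obj η)).symm (cls (⟨η, rfl⟩ : 𝒴.p.Fiber (𝒴.p.obj η))))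
    have hx' : φ.toEquiv (𝒴.p.obj η) (cls x) = cls ⟨η, rfl⟩ := by
      rw [show cls x = _ from hx, Equiv.apply_symm_apply]
    obtain ⟨x₀, hx₀⟩ := x
    refine ⟨x₀, ?_⟩
    suffices H : ∀ (U : Over S) (hU : 𝒳.p.obj x₀ = U) (z : 𝒴.p.Fiber U),
        φ.toEquiv U (cls ⟨x₀, hU⟩) = cls z → ∃ i : (F x₀).1 ≅ z.1, 𝒴.p.IsHomLift (𝟙 U) i.hom from
      H _ hx₀ ⟨η, rfl⟩ hx'
    rintro U rfl z hz
    obtain ⟨i⟩ := Quotient.exact ((hF x₀).symm.trans hz)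
    exact ⟨Functor.Fiber.fiberInclusion.mapIso i, i.hom.2⟩

end GrothLib.AlgSt
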