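import Groth.Agent.Lib.AlgSt.FpStack
import Groth.Agent.Lib.AlgSt.Points

/-!
# Morphisms of algebraic stacks defined through points
-/

set_option backward.isDefEq.respectTransparency false
set_option backward.isDefEq.respectTransparency.types false

universe u

open CategoryTheory CategoryTheory.Limits AlgebraicGeometry Opposite

namespace GrothLib.AlgSt

open _root_.AlgSt GrothLib.FibCat

variable {S : Scheme.{u}} {𝒳 𝒴 𝒵 : _root_.AlgSt.Cat S}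

theorem isQuasiCompact_of_isEquivOver (e : 𝒳 ⥤ᵇ 𝒴) (he : _root_.FibCat.IsEquivOver e) (h : IsQuasiCompact 𝒳) :
    IsQuasiCompact 𝒴 := by
  obtain ⟨U, x, hU, h1, h2⟩ := h
  exact ⟨U, BasedFunctor.comp x e, hU,
    (repByAlgSpWith_iff_of_square (f := BasedFunctor.comp x e) (BasedFunctor.id _) e (IsEquivOver.refl _) he
      (Iso.refl _)).2 h1,
    (repByAlgSpWith_iff_of_square (f := BasedFunctor.comp x e) (BasedFunctor.id _) e (IsEquivOver.refl _) he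
      (Iso.refl _)).2 h2⟩

/-- Base change of quasi-compact morphisms. -/
theorem isQuasiCompactMor_fpFst {K : Precoverage Scheme.{u}} {f : 𝒳 ⥤ᵇ 𝒴} (g : 𝒵 ⥤ᵇ 𝒴)
    (hf : IsQuasiCompactMor K f) : IsQuasiCompactMor K (_root_.FibCat.fpFst g f) := fun 𝒲 hW hWq w => by
  obtain ⟨e', he', -, -⟩ := IsEquivOver.symm (Fp.isEquivOver_paste f g w)
  exact isQuasiCompact_of_isEquivOver e' he' (hf 𝒲 hW hWq (BasedFunctor.comp w g))

/-- Composition of quasi-compact morphisms. -/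
theorem isQuasiCompactMor_comp (h𝒴 : IsAlgStack Scheme.fppfPrecoverage 𝒴) (h𝒵 : IsAlgStack Scheme.fppfPrecoverage 𝒵)
    {f : 𝒳 ⥤ᵇ 𝒴} {g : 𝒴 ⥤ᵇ 𝒵}
    (hf : IsQuasiCompactMor Scheme.fppfPrecoverage f) (hg : IsQuasiCompactMor Scheme.fppfPrecoverage g) :
    IsQuasiCompactMor Scheme.fppfPrecoverage (BasedFunctor.comp f g) := fun 𝒲 hW hWq w =>
  isQuasiCompact_of_isEquivOver _ (Fp.isEquivOver_pasteComp f g w)
    (hf _ (isAlgStack_fp h𝒵.isStack h𝒵.diag hW h𝒴 w g) (hg 𝒲 hW hWq w) (_root_.FibCat.fpSnd w g))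

/-- Base change of universally injective morphisms. -/
theorem isUnivInjective_fpFst {K : Precoverage Scheme.{u}} (h𝒳 : IsAlgStack K 𝒳) (h𝒴 : IsAlgStack K 𝒴)
    (h𝒵 : IsAlgStack K 𝒵) {f : 𝒳 ⥤ᵇ 𝒴} (g : 𝒵 ⥤ᵇ 𝒴) (hf : IsUnivInjective K f) :
    IsUnivInjective K (_root_.FibCat.fpFst g f) := fun 𝒲 hW w => by
  have hb := points_map_bijective_of_isEquivOver
    (Fp.isFibGrpd hW.isStack.1 (Fp.isFibGrpd h𝒵.isStack.1 h𝒳.isStack.1 h𝒴.isStack.1) h𝒵.isStack.1)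
    (Fp.paste f g w) (Fp.isEquivOver_paste f g w)
  intro p q h
  refine hb.1 (hf 𝒲 hW (BasedFunctor.comp w g) ?_)
  rw [← points_map_comp, ← points_map_comp]
  exact h

/-- Composition of universally injective morphisms. -/
theorem isUnivInjective_comp (h𝒳 : IsAlgStack Scheme.fppfPrecoverage 𝒳) (h𝒴 : IsAlgStack Scheme.fppfPrecoverage 𝒴)
    (h𝒵 : IsAlgStack Scheme.fppfPrecoverage 𝒵)
    {f : 𝒳 ⥤ᵇ 𝒴} {g : 𝒴 ⥤ᵇ 𝒵}
    (hf : IsUnivInjective Scheme.fppfPrecoverage f) (hg : IsUnivInjective Scheme.fppfPrecoverage g) :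
    IsUnivInjective Scheme.fppfPrecoverage (BasedFunctor.comp f g) := fun 𝒲 hW w => by
  have hb := points_map_bijective_of_isEquivOver
    (Fp.isFibGrpd (Fp.isFibGrpd hW.isStack.1 h𝒴.isStack.1 h𝒵.isStack.1) h𝒳.isStack.1 h𝒴.isStack.1)
    (Fp.pasteComp f g w) (Fp.isEquivOver_pasteComp f g w)
  intro p q h
  obtain ⟨p, rfl⟩ := hb.2 p
  obtain ⟨q, rfl⟩ := hb.2 q
  rw [← points_map_comp, ← points_map_comp] at h
  refine congrArg _ (hf _ (isAlgStack_fp h𝒵.isStack h𝒵.diag hW h𝒴 w g) (_root_.FibCat.fpSnd w g) (hg 𝒲 hW w ?_))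
  rw [← points_map_comp, ← points_map_comp]
  exact h

end GrothLib.AlgSt
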