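import Groth.Agent.Lib.AlgSt.LocalInertia
import Groth.Agent.Lib.AlgSt.DiagDMEtale
import Groth.Agent.Lib.AlgSt.Gerbe.Rigid.GenericFlat
import Groth.Agent.Lib.AlgSt.Gerbe.Rigid.SubInertia
import Groth.Agent.Lib.AlgSt.Gerbe.HenselSection
import Groth.Agent.Lib.AlgSp.GenericFinite
import Groth.Agent.Lib.AlgSp.UnramMono
import Groth.Agent.Lib.AlgSp.AffineMor
import Groth.Agent.Lib.Weight.Multiplicity
import Groth.Agent.S10540
import Groth.Agent.S10544

/-!
# Generic finiteness and etaleness of the inertia of a Deligne–Mumford stack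
-/

set_option backward.isDefEq.respectTransparency false
set_option backward.isDefEq.respectTransparency.types false

universe u

open CategoryTheory CategoryTheory.Limits AlgebraicGeometry Opposite

namespace GrothLib.AlgSt

open _root_.AlgSt GrothLib.FibCat

variable {S : Scheme.{u}}

/-- A point without proper generisations. -/
theorem exists_maximal_point (T : Scheme.{u}) [Nonempty ↥T] : ∃ v : ↥T, ∀ z, z ⤳ v → z = v := by
  let t : ↥T := Classical.arbitrary _
  obtain ⟨v, hv⟩ := QuasiSober.sober (isIrreducible_irreducibleComponent (x := t)) isClosed_irreducibleComponent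
  refine ⟨v, fun z hz => ?_⟩
  have h1 : irreducibleComponent t ⊆ closure {z} := by
    rw [← hv.def]
    exact (specializes_iff_closure_subset.1 hz)
  have h2 := eq_irreducibleComponent (isIrreducible_singleton.closure.isPreirreducible) h1
  exact (h2 ▸ isGenericPoint_closure : IsGenericPoint z (irreducibleComponent t)).eq hv

/-- Finite etale morphisms of spaces. -/
abbrev FinEt : MorphismProperty (AlgSp.Sp S) := AlgSp.IsFiniteMor ⊓ AlgSp.IsEtaleMor

theorem stableSp_finEt : StableSp (FinEt (S := S)) := fun _ _ _ _ h₁ hY₁ h₂ hY₂ _ _ _ _ sq h =>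
  ⟨GrothLib.AlgSp.isFiniteMor_iff.2 (GrothLib.AlgSp.repWith_of_isPullback sq (GrothLib.AlgSp.isFiniteMor_iff.1 h.1)),
    GrothLib.AlgSp.isEtaleMor_of_locP hY₂ (GrothLib.AlgSp.EtLocal.locP_of_isPullback GrothLib.AlgSp.EtLocal.etale
      h₁ hY₁ hY₂ sq (GrothLib.AlgSp.locP_of_isEtaleMor hY₁ h.2))⟩

theorem isLocalOnBase_finEt : AlgSp.IsLocalOnBase (S := S) AlgSp.IsFppfCover FinEt := by
  intro ι Y Yi g hY hYi hg X f hX Xi p q hXi sq
  have h1 := (isLocalOnBase_fppf_of_fpqc (Groth.Agent.S10540.result S)) Yi g hY hYi hg f hX Xi p q hXi sq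
  have h2 := (isLocalOnBase_fppf_of_fpqc (Groth.Agent.S10544.result S)) Yi g hY hYi hg f hX Xi p q hXi sq
  exact ⟨fun h i => ⟨h1.1 h.1 i, h2.1 h.2 i⟩, fun h => ⟨h1.2 fun i => (h i).1, h2.2 fun i => (h i).2⟩⟩

variable {𝒳 𝒴 : _root_.AlgSt.Cat S} {P : MorphismProperty (AlgSp.Sp S)}

/-- A stable property over a chart holds over everything over the chart. -/
theorem repByAlgSpWith_fpFst_of_hasRep (hP : StableSp P) {W : Over S} {f : 𝒳 ⥤ᵇ 𝒴}
    (w : _root_.FibCat.overCat W ⥤ᵇ 𝒴) (h : HasRep P (_root_.FibCat.fpFst w f)) :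
    RepByAlgSpWith P (_root_.FibCat.fpFst w f) := by
  obtain ⟨F, e, he, hp⟩ := h
  refine (repByAlgSpWith_iff_of_square (f := _root_.FibCat.fpFst w f)
    (f' := ofSpMap (spMapOfOver (BasedFunctor.comp e (_root_.FibCat.fpFst w f)))) e (toOverCat W) he
    (isEquivOver_toOverCat W) (isoOfSpMapOfOver (BasedFunctor.comp e (_root_.FibCat.fpFst w f))).symm).2 ?_
  refine repByAlgSpWith_ofSpMap F.property (AlgSp.IsAlgSpace.yon_obj W) _ fun U c => ?_
  exact hP F.property (AlgSp.IsAlgSpace.yon_obj W)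
    (GrothLib.AlgSp.isAlgSpace_pullback' (AlgSp.IsAlgSpace.yon_obj W) (AlgSp.IsAlgSpace.yon_obj U) F.property _ _)
    (AlgSp.IsAlgSpace.yon_obj U) _ _ _ _ (IsPullback.of_hasPullback c _).flip hp

open Rigid in
/-- The inertia over an affine reduced noetherian chart is finite etale over a nonempty open. -/
theorem exists_open_finEt {F : AlgSp.Sp S} (hF : AlgSp.IsAlgSpace F) {T : Over S} [IsAffine T.left]
    [IsReduced T.left] [Nonempty ↥T.left] (a : F ⟶ (AlgSp.yon S).obj T) (haff : AlgSp.IsAffineMor a)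
    (hu : AlgSp.LocP (@LocallyOfFiniteType ⊓ @FormallyUnramified) a) :
    ∃ O : T.left.Opens, (O : Set ↥T.left).Nonempty ∧
      FinEt (pullback.fst ((AlgSp.yon S).map (Rigid.openOverι T O)) a) := by
  have hT := AlgSp.IsAlgSpace.yon_obj T
  have haff' := GrothLib.AlgSp.isAffineMor_iff.1 haff
  have hqc : AlgSp.IsQuasiCompactMor a := GrothLib.AlgSp.isQuasiCompactMor_of_repWith
    (GrothLib.AlgSp.repWith_mono haff' fun _ _ t ht => by have : IsAffineHom t := ht; exact (inferInstance : QuasiCompact t))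
  have hsep : AlgSp.IsSeparatedMor a := (GrothLib.AlgSp.isSeparatedMor_iff_repWith haff'.1).2
    (GrothLib.AlgSp.repWith_mono haff' fun _ _ t ht => by have : IsAffineHom t := ht; exact (inferInstance : IsSeparated t))
  have hlft : AlgSp.LocP @LocallyOfFiniteType a := GrothLib.AlgSp.locP_mono (fun _ _ _ h => h.1) hu
  have hlqf : AlgSp.LocP (@LocallyQuasiFinite ⊓ @LocallyOfFiniteType) a := by
    refine GrothLib.AlgSp.locP_mono (fun _ _ t ht => ?_) hu
    have : LocallyOfFiniteType t := ht.1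
    have : FormallyUnramified t := ht.2
    exact ⟨GrothLib.Weight.locallyQuasiFinite_of_formallyUnramified t, ht.1⟩
  obtain ⟨v, hv⟩ := exists_maximal_point T.left
  obtain ⟨O₁, hv₁, hO₁⟩ := GrothLib.AlgSp.exists_finite_nhd_of_lqf hF a
    (GrothLib.AlgSp.isQuasiSeparatedMor_of_isSeparatedMor hsep) hqc hlqf hv
  obtain ⟨O₂, hd, hfl, hfp⟩ := exists_dense_open_flat_lfp hF a hqc hlft
  refine ⟨O₁ ⊓ O₂, hd.inter_open_nonempty O₁ O₁.2 ⟨v, hv₁⟩, ?_⟩
  let O := O₁ ⊓ O₂
  let j₁ : openOver T O ⟶ openOver T O₁ := Over.homMk (T.left.homOfLE (inf_le_left : O ≤ O₁)) (by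
    change T.left.homOfLE (inf_le_left : O ≤ O₁) ≫ O₁.ι ≫ T.hom = _
    rw [Scheme.homOfLE_ι_assoc T.left (inf_le_left : O ≤ O₁)]; rfl)
  let j₂ : openOver T O ⟶ openOver T O₂ := Over.homMk (T.left.homOfLE (inf_le_right : O ≤ O₂)) (by
    change T.left.homOfLE (inf_le_right : O ≤ O₂) ≫ O₂.ι ≫ T.hom = _
    rw [Scheme.homOfLE_ι_assoc]; rfl)
  have e₁ : j₁ ≫ openOverι T O₁ = openOverι T O :=
    Over.OverMorphism.ext (Scheme.homOfLE_ι T.left (inf_le_left : O ≤ O₁))
  have e₂ : j₂ ≫ openOverι T O₂ = openOverι T O :=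
    Over.OverMorphism.ext (Scheme.homOfLE_ι T.left (inf_le_right : O ≤ O₂))
  let sq := (IsPullback.of_hasPullback ((AlgSp.yon S).map (openOverι T O)) a).flip
  have hP := GrothLib.AlgSp.isAlgSpace_pullback' hT (AlgSp.IsAlgSpace.yon_obj (openOver T O)) hF
    ((AlgSp.yon S).map (openOverι T O)) a
  let sq₁ := (IsPullback.of_hasPullback ((AlgSp.yon S).map (openOverι T O₁)) a).flip
  let sq₂ := (IsPullback.of_hasPullback ((AlgSp.yon S).map (openOverι T O₂)) a).flip
  have hP₂ := GrothLib.AlgSp.isAlgSpace_pullback' hT (AlgSp.IsAlgSpace.yon_obj (openOver T O₂)) hF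
    ((AlgSp.yon S).map (openOverι T O₂)) a
  have sq' : ∀ (O' : T.left.Opens) (j : openOver T O ⟶ openOver T O') (_ : j ≫ openOverι T O' = openOverι T O),
      ∃ k, IsPullback k (pullback.fst ((AlgSp.yon S).map (openOverι T O)) a)
        (pullback.fst ((AlgSp.yon S).map (openOverι T O')) a) ((AlgSp.yon S).map j) := fun O' j hj => by
    let sq'' := (IsPullback.of_hasPullback ((AlgSp.yon S).map (openOverι T O')) a).flip
    refine ⟨sq''.lift (pullback.snd _ _) (pullback.fst _ _ ≫ (AlgSp.yon S).map j) ?_,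
      IsPullback.of_right ?_ (sq''.lift_snd _ _ _) sq''⟩
    · rw [Category.assoc, ← Functor.map_comp, hj, pullback.condition]
    · rw [sq''.lift_fst, ← Functor.map_comp, hj]; exact sq
  obtain ⟨k₁, hk₁⟩ := sq' O₁ j₁ e₁
  obtain ⟨k₂, hk₂⟩ := sq' O₂ j₂ e₂
  refine ⟨GrothLib.AlgSp.isFiniteMor_iff.2 (GrothLib.AlgSp.repWith_of_isPullback hk₁ (hO₁ _ _ _ sq₁)), ?_⟩
  have hO := AlgSp.IsAlgSpace.yon_obj (openOver T O)
  have hO₂ := AlgSp.IsAlgSpace.yon_obj (openOver T O₂)
  have h3 := (GrothLib.AlgSp.EtLocal.lft.inf GrothLib.AlgSp.EtLocal.formallyUnramified).locP_of_isPullback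
    hF hT hO sq hu
  have h4 := GrothLib.AlgSp.EtLocal.flat.locP_of_isPullback hP₂ hO₂ hO hk₂ hfl
  have h5 := GrothLib.AlgSp.EtLocal.lfp.locP_of_isPullback hP₂ hO₂ hO hk₂ hfp
  refine GrothLib.AlgSp.isEtaleMor_of_locP hO fun U V p q t pe qe w => ?_
  have : FormallyUnramified t.left := (h3 p q t pe qe w).2
  have : Flat t.left := h4 p q t pe qe w
  have : LocallyOfFinitePresentation t.left := h5 p q t pe qe w
  exact Etale.of_formallyUnramified_of_flat _

/-- Some open substack has finite etale inertia. -/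
theorem exists_openImm_finEt_inertia (h𝒳 : IsDM Scheme.etalePrecoverage 𝒳)
    (hft : LocQ (AlgSp.LocP @LocallyOfFiniteType) (_root_.FibCat.toSelf 𝒳))
    (hΔ : RepByAlgSpWith AlgSp.IsAffineMor (_root_.FibCat.diag (_root_.FibCat.toSelf 𝒳)))
    (hred : SmoothLocally (fun T => IsReduced T) 𝒳) (hne : Nonempty (Points 𝒳)) :
    ∃ (𝒰 : _root_.AlgSt.Cat S) (j : 𝒰 ⥤ᵇ 𝒳), IsOpenImm j ∧ Nonempty (Points 𝒰) ∧
      RepByAlgSpWith FinEt (_root_.FibCat.inertiaToBase (_root_.FibCat.toSelf 𝒰)) := by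
  have g𝒳 := h𝒳.1.isStack.1
  obtain ⟨U, V, x, yV, h, -, hxs, hxu, -, -⟩ := hft
  obtain ⟨t₀, -⟩ := surjective_ofChart g𝒳 hxu (Classical.arbitrary _)
  obtain ⟨A, hA, htA, -⟩ := exists_isAffineOpen_mem_and_subset (x := t₀) (U := (⊤ : U.left.Opens)) trivial
  let T : Over S := Rigid.openOver U A
  let tA : T ⟶ U := Rigid.openOverι U A
  let w := BasedFunctor.comp (GrothLib.FibCat.overMap tA) x
  have : IsAffine T.left := hA
  have : Nonempty ↥T.left := ⟨⟨t₀, htA⟩⟩
  have hw : RepByAlgSpWith (AlgSp.LocP @Smooth) w :=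
    repByAlgSpWith_overMap_comp GrothLib.AlgSp.EtLocal.smooth g𝒳 tA (inferInstanceAs (Smooth A.ι)) x hxs
  have : IsReduced T.left := hred T w hw
  have hI : RepByAlgSpWith (AlgSp.IsAffineMor ⊓ AlgSp.LocP UnrP)
      (_root_.FibCat.inertiaToBase (_root_.FibCat.toSelf 𝒳)) := fun U' y => by
    obtain ⟨F, e, he, h2⟩ := ((repByAlgSpWith_inertiaToBase_iff _).2
      (repByAlgSpWith_fpFst _ hΔ)) U' y
    exact ⟨F, e, he, h2, HasRep.mem (((repByAlgSpWith_inertiaToBase_iff _).2
      (repByAlgSpWith_fpFst _ (repByAlgSpWith_unramified_diag_toSelf_jet h𝒳))) U' y) isoInvariant_locP F e he⟩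
  have hI1 := repByAlgSp1_of_repByAlgSpWith hI
  obtain ⟨F, e, he, haff, hu⟩ := hI T w
  obtain ⟨O, hO, hfe⟩ := exists_open_finEt F.property _ haff hu
  let T' : Over S := Rigid.openOver T O
  let tO : T' ⟶ T := Rigid.openOverι T O
  let w' := BasedFunctor.comp (GrothLib.FibCat.overMap tO) w
  have hw' : RepByAlgSpWith (AlgSp.LocP @Smooth) w' :=
    repByAlgSpWith_overMap_comp GrothLib.AlgSp.EtLocal.smooth g𝒳 tO (inferInstanceAs (Smooth O.ι)) w hw
  have hfe' : HasRep FinEt (_root_.FibCat.fpFst w' (_root_.FibCat.inertiaToBase (_root_.FibCat.toSelf 𝒳))) := by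
    let cm := (AlgSp.yon S).map tO
    let a := spMapOfOver (BasedFunctor.comp e (_root_.FibCat.fpFst w (_root_.FibCat.inertiaToBase (_root_.FibCat.toSelf 𝒳))))
    obtain ⟨ic⟩ := iso_toOverCat_overMap tO
    have := IsEquivOver.full (isEquivOver_toOverCat T)
    have := IsEquivOver.faithful (isEquivOver_toOverCat T)
    let sq := IsPullback.of_hasPullback cm a
    let M := Fp.map (F := ofSpMap cm) (G := ofSpMap a) (toOverCat T') e (toOverCat T) ic
      (isoOfSpMapOfOver (BasedFunctor.comp e (_root_.FibCat.fpFst w (_root_.FibCat.inertiaToBase (_root_.FibCat.toSelf 𝒳)))))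
    let E := BasedFunctor.comp (spToFp sq.w) (BasedFunctor.comp M
      (Fp.paste (_root_.FibCat.inertiaToBase (_root_.FibCat.toSelf 𝒳)) w (GrothLib.FibCat.overMap tO)))
    have hE : _root_.FibCat.IsEquivOver E := IsEquivOver.comp (isEquivOver_spToFp sq) (IsEquivOver.comp
      (Fp.isEquivOver_map _ _ _ _ _ (isEquivOver_toOverCat T') he)
      (Fp.isEquivOver_paste (_root_.FibCat.inertiaToBase (_root_.FibCat.toSelf 𝒳)) w (GrothLib.FibCat.overMap tO)))
    exact ⟨⟨_, GrothLib.AlgSp.isAlgSpace_pullback' (AlgSp.IsAlgSpace.yon_obj T) (AlgSp.IsAlgSpace.yon_obj T')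
      F.property cm a⟩, E, hE, (spMapOfOver_toOverCat (pullback.fst cm a)).symm ▸ hfe⟩
  let W : Set (Points 𝒳) := Set.range (Points.ofChart w')
  have hW : IsOpen W := (isOpenMap_ofChart g𝒳 hw').isOpen_range
  have hop : RepByAlgSpWith (AlgSp.RepWith @IsOpenImmersion) (subIncl 𝒳 (openPred W)) :=
    repByAlgSpWith_repWith_subIncl_openPred_of_atlas g𝒳 h𝒳.1.atlas hW @IsOpenImmersion
      fun _ _ V _ => inferInstanceAs (IsOpenImmersion V.ι)
  refine ⟨fullSub 𝒳 (openPred W), subIncl 𝒳 (openPred W), hop, ?_, ?_⟩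
  · obtain ⟨o, ho⟩ := hO
    obtain ⟨q, -⟩ := (range_points_map_subIncl_openPred g𝒳 (W := W)).ge ⟨(⟨o, ho⟩ : ↥T'.left), rfl⟩
    exact ⟨q⟩
  · have := IsEquivOver.full (IsEquivOver.refl (fullSub 𝒳 (openPred W)))
    have := IsEquivOver.faithful (IsEquivOver.refl (fullSub 𝒳 (openPred W)))
    refine repByAlgSpWith_of_square (Rigid.inertiaSubFp (openPred W)) (BasedFunctor.id _)
      (f := _root_.FibCat.fpFst (subIncl 𝒳 (openPred W)) (_root_.FibCat.inertiaToBase (_root_.FibCat.toSelf 𝒳)))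
      (Rigid.isEquivOver_inertiaSubFp _) (Iso.refl _) (fun T₁ u => ?_)
    refine HasRep.of_equiv' (Fp.paste (_root_.FibCat.inertiaToBase (_root_.FibCat.toSelf 𝒳)) (subIncl 𝒳 (openPred W)) u)
      (π' := _root_.FibCat.fpFst (BasedFunctor.comp u (subIncl 𝒳 (openPred W)))
        (_root_.FibCat.inertiaToBase (_root_.FibCat.toSelf 𝒳)))
      (Fp.isEquivOver_paste _ _ _) (Iso.refl _) ?_
    let y := BasedFunctor.comp u (subIncl 𝒳 (openPred W))
    have key : ∀ t : ↥T₁.left, ∃ (V : Over S) (c : V ⟶ T₁) (l : _root_.FibCat.overCat V ⥤ᵇ _root_.FibCat.overCat T'),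
        Smooth c.left ∧ t ∈ Set.range c.left ∧
        Nonempty (BasedFunctor.comp (GrothLib.FibCat.overMap c) y ≅ BasedFunctor.comp l w') := fun t => by
      have : Points.ofChart y t ∈ W := (range_points_map_subIncl_openPred g𝒳).le
        ⟨Points.ofChart u t, (ofChart_comp u (subIncl 𝒳 (openPred W)) t).symm⟩
      obtain ⟨t', ht'⟩ := this
      exact exists_smooth_lift_point g𝒳 w' hw' y t t' ht'.symm
    choose V c l hc ht j using key
    refine hasRep_of_family (isoInvariant_of_stableSp stableSp_finEt) isLocalOnBase_finEt _ y V c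
      (fun i => have := hc i; inferInstance) (fun i => have := hc i; inferInstance)
      (fun t => ⟨t, ht t⟩) (hI1 T₁ y) fun i => ?_
    exact HasRep.of_equiv (BasedFunctor.comp (Fp.paste _ w' (l i)) (Fp.congr (j i).some.symm (Iso.refl _)))
      (IsEquivOver.comp (Fp.isEquivOver_paste _ w' (l i)) (Fp.isEquivOver_congr _ _)) (Iso.refl _)
      (repByAlgSpWith_fpFst_of_hasRep stableSp_finEt w' hfe' (V i) (l i))

end GrothLib.AlgSt
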