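import Groth.Agent.Lib.AlgSt.MonoDenseLift
import Groth.Agent.Lib.AlgSt.QC
import Groth.Agent.Lib.AlgSt.DescPoints
import Groth.Agent.Lib.AlgSt.NoethStack
import Groth.Agent.Lib.AlgSt.FpStack
import Groth.Agent.Lib.FibCat.Slice
import Groth.Agent.Lib.AlgSt.DiagSpaces

/-!
# Quasi-compactness of the diagonal from generic isomorphisms
-/

set_option backward.isDefEq.respectTransparency false
set_option backward.isDefEq.respectTransparency.types false

universe u

open CategoryTheory CategoryTheory.Limits AlgebraicGeometry Opposite Topology TopologicalSpace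

namespace GrothLib.GenIsom

/-- Noetherian induction for preimages of closed sets. -/
theorem isCompact_preimage_closed {X Y P : Type*} [TopologicalSpace X] [NoetherianSpace X] [TopologicalSpace P]
    (ι : X → Y) (π : P → Y)
    (h : ∀ C : Set X, IsClosed C → IsIrreducible C → C ⊆ closure (C ∩ ι ⁻¹' Set.range π) →
      ∃ O : Set X, IsOpen O ∧ (C ∩ O).Nonempty ∧ IsCompact (π ⁻¹' (ι '' (C ∩ O))))
    (C : Closeds X) : IsCompact (π ⁻¹' (ι '' (C : Set X))) := by
  induction C using WellFoundedLT.induction with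
  | _ C ih =>
  rcases Set.eq_empty_or_nonempty (C : Set X) with h0 | h0
  · rw [h0, Set.image_empty, Set.preimage_empty]; exact isCompact_empty
  by_cases hC : IsIrreducible (C : Set X)
  · by_cases hd : (C : Set X) ⊆ closure ((C : Set X) ∩ ι ⁻¹' Set.range π)
    · obtain ⟨O, hO, ⟨x, hxC, hxO⟩, hc⟩ := h C C.isClosed hC hd
      let D : Closeds X := ⟨C ∩ Oᶜ, C.isClosed.inter hO.isClosed_compl⟩
      have hlt : D < C := lt_of_le_of_ne (fun y hy => hy.1) fun e =>
        (show x ∈ (D : Set X) by rw [e]; exact hxC).2 hxO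
      have e : (C : Set X) = (C : Set X) ∩ O ∪ (D : Set X) := (Set.inter_union_compl _ _).symm
      rw [e, Set.image_union, Set.preimage_union]
      exact hc.union (ih D hlt)
    · let D : Closeds X := ⟨closure ((C : Set X) ∩ ι ⁻¹' Set.range π), isClosed_closure⟩
      have hle : D ≤ C := closure_minimal Set.inter_subset_left C.isClosed
      have hlt : D < C := lt_of_le_of_ne hle fun e => hd (by
        have h' : (D : Set X) = (C : Set X) := congrArg (fun E : Closeds X => (E : Set X)) e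
        exact h'.ge)
      convert ih D hlt using 1
      ext p
      constructor
      · rintro ⟨y, hy, hp⟩; exact ⟨y, subset_closure ⟨hy, p, hp.symm⟩, hp⟩
      · rintro ⟨y, hy, hp⟩; exact ⟨y, hle hy, hp⟩
  · obtain ⟨C₁, C₂, h₁, h₂, h3, h4, h5⟩ : ∃ C₁ C₂ : Set X, IsClosed C₁ ∧ IsClosed C₂ ∧
        (C : Set X) ⊆ C₁ ∪ C₂ ∧ ¬ (C : Set X) ⊆ C₁ ∧ ¬ (C : Set X) ⊆ C₂ := by
      by_contra h'
      push Not at h'
      refine hC ⟨h0, isPreirreducible_iff_isClosed_union_isClosed.2 fun z₁ z₂ hz₁ hz₂ hz => ?_⟩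
      by_cases hh : (C : Set X) ⊆ z₁
      · exact Or.inl hh
      · exact Or.inr (h' z₁ z₂ hz₁ hz₂ hz hh)
    let D₁ : Closeds X := ⟨C ∩ C₁, C.isClosed.inter h₁⟩
    let D₂ : Closeds X := ⟨C ∩ C₂, C.isClosed.inter h₂⟩
    have l₁ : D₁ < C := lt_of_le_of_ne (fun x hx => hx.1) fun e =>
      h4 fun x hx => (show x ∈ (D₁ : Set X) by rw [e]; exact hx).2
    have l₂ : D₂ < C := lt_of_le_of_ne (fun x hx => hx.1) fun e =>
      h5 fun x hx => (show x ∈ (D₂ : Set X) by rw [e]; exact hx).2
    have e : (C : Set X) = (D₁ : Set X) ∪ (D₂ : Set X) :=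
      (Set.inter_eq_left.2 h3).symm.trans (Set.inter_union_distrib_left _ _ _)
    rw [e, Set.image_union, Set.preimage_union]
    exact (ih _ l₁).union (ih _ l₂)

open _root_.AlgSt GrothLib.AlgSt GrothLib.FibCat

variable {S : Scheme.{u}}

/-- Functors to the base as a category over itself are isomorphic. -/
def isoSelf {𝒬 : _root_.AlgSt.Cat S} (G H : 𝒬 ⥤ᵇ _root_.FibCat.selfOver (Over S)) : G ≅ H :=
  natIsoOfComponents (fun a => eqToIso ((G.w_obj a).trans (H.w_obj a).symm))
    (fun a => IsHomLift.of_fac' _ _ _ (G.w_obj a) (H.w_obj a) (by simp; rfl))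
    (fun {a b} f => by
      have h1 := Functor.congr_hom G.w f
      have h2 := Functor.congr_hom H.w f
      change G.map f = _ at h1
      change H.map f = _ at h2
      change G.map f ≫ eqToHom ((G.w_obj b).trans (H.w_obj b).symm) =
        eqToHom ((G.w_obj a).trans (H.w_obj a).symm) ≫ H.map f
      rw [h1, h2]
      simp)

/-- Functors to the absolute product are isomorphic when their components are. -/
def isoFpSelf {𝒬 𝒳 : _root_.AlgSt.Cat S}
    {a b : 𝒬 ⥤ᵇ _root_.FibCat.fp (_root_.FibCat.toSelf 𝒳) (_root_.FibCat.toSelf 𝒳)}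
    (α : BasedFunctor.comp a (_root_.FibCat.fpFst _ _) ≅ BasedFunctor.comp b (_root_.FibCat.fpFst _ _))
    (β : BasedFunctor.comp a (_root_.FibCat.fpSnd _ _) ≅ BasedFunctor.comp b (_root_.FibCat.fpSnd _ _)) : a ≅ b :=
  natIsoOfComponents
    (fun x => Fp.isoMk (a := a.obj x) (b := b.obj x) (isoApp α x) (isoApp β x) (by
      have h1 : 𝒳.p.IsHomLift (𝟙 (𝒬.p.obj x)) (isoApp α x).hom := isHomLift_isoApp α rfl
      have h2 : 𝒳.p.IsHomLift (𝟙 (𝒬.p.obj x)) (isoApp β x).hom := isHomLift_isoApp β rfl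
      have ea : 𝒳.p.obj (a.obj x).obj.fst = 𝒬.p.obj x :=
        (BasedFunctor.comp a (_root_.FibCat.fpFst _ _)).w_obj x
      have eb : 𝒳.p.obj (b.obj x).obj.fst = 𝒬.p.obj x :=
        (BasedFunctor.comp b (_root_.FibCat.fpFst _ _)).w_obj x
      have ea' := isHomLift_id_of_eq (_root_.FibCat.selfOver (Over S)).p (R := 𝒳.p.obj (a.obj x).obj.fst)
        (R' := 𝒬.p.obj x) (a.obj x).obj.iso.hom (Or.inl ea) (h := Fp.iso_lift (a.obj x))
      have eb' := isHomLift_id_of_eq (_root_.FibCat.selfOver (Over S)).p (R := 𝒳.p.obj (b.obj x).obj.fst)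
        (R' := 𝒬.p.obj x) (b.obj x).obj.iso.hom (Or.inl eb) (h := Fp.iso_lift (b.obj x))
      have l1 : (_root_.FibCat.selfOver (Over S)).p.IsHomLift (𝟙 (𝒬.p.obj x))
          ((_root_.FibCat.toSelf 𝒳).map (isoApp α x).hom) := inferInstance
      have l2 : (_root_.FibCat.selfOver (Over S)).p.IsHomLift (𝟙 (𝒬.p.obj x))
          ((_root_.FibCat.toSelf 𝒳).map (isoApp β x).hom) := inferInstance
      exact selfOver_hom_ext (R := 𝒬.p.obj x) _ _
        (by infer_instance) (by infer_instance)))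
    (fun x => (Fp.isHomLift_iff _ _).2 (isHomLift_isoApp α rfl))
    (fun {x y} f => Fp.hom_ext (α.hom.toNatTrans.naturality f) (β.hom.toNatTrans.naturality f))

/-- Points of a category over a scheme are realized by field-valued sections. -/
theorem exists_field_section {𝒬 : _root_.AlgSt.Cat S} (h𝒬 : _root_.FibCat.IsFibGrpd 𝒬.p) {T : Over S}
    (φ : 𝒬 ⥤ᵇ _root_.FibCat.overCat T) (w : Points 𝒬) :
    ∃ (L : Type u) (_ : Field L) (g : Spec (CommRingCat.of L) ⟶ T.left),
      Set.range g.base = {pointOf (Points.map φ w)} ∧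
        ∃ G : _root_.FibCat.overCat (Over.mk (g ≫ T.hom)) ⥤ᵇ 𝒬,
          Nonempty (BasedFunctor.comp G φ ≅
            _root_.AlgSt.overMap (Over.homMk g rfl : Over.mk (g ≫ T.hom) ⟶ T)) := by
  obtain ⟨⟨K, str, obj, lies⟩, rfl⟩ := Points.mk_surjective w
  let a := φ.obj obj
  have ha : a.left = Over.mk str := (φ.w_obj obj).trans lies
  let g' : Over.mk str ⟶ T := eqToHom ha.symm ≫ a.hom
  obtain ⟨g, hw, hg⟩ : ∃ (g : Spec (CommRingCat.of K) ⟶ T.left) (hw : g ≫ T.hom = str),
      Over.homMk g hw = g' := ⟨g'.left, Over.w g', rfl⟩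
  subst hw
  refine ⟨K, inferInstance, g, ?_, ?_⟩
  · have e : pointOf (Points.map φ (Points.mk ⟨K, g ≫ T.hom, obj, lies⟩)) = g (IsLocalRing.closedPoint K) := by
      change (eqToHom ha.symm ≫ a.hom).left (IsLocalRing.closedPoint K) = _
      exact (congrArg (fun t : Over.mk (g ≫ T.hom) ⟶ T => t.left (IsLocalRing.closedPoint K)) hg).symm
    erw [e]
    refine subset_antisymm ?_ (Set.singleton_subset_iff.2 (Set.mem_range_self _))
    rintro _ ⟨k, rfl⟩
    exact congrArg _ (Subsingleton.elim (α := PrimeSpectrum K) _ _)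
  · obtain ⟨G, e, he⟩ := Yon.exists_functor h𝒬 obj lies
    refine ⟨G, ⟨isoOverMap _ ≪≫ eqToIso (congrArg _ ?_)⟩⟩
    rw [hg]
    have hl : (_root_.FibCat.overCat T).p.IsHomLift (𝟙 (Over.mk (g ≫ T.hom))) (φ.map e.hom) := inferInstance
    have h1 : (φ.obj (G.obj (Yon.idObj (Over.mk (g ≫ T.hom))))).left = a.left :=
      ((φ.w_obj _).trans (G.w_obj _)).trans ha.symm
    change eqToHom _ ≫ (φ.obj (G.obj (Yon.idObj (Over.mk (g ≫ T.hom))))).hom = eqToHom ha.symm ≫ a.hom
    rw [overCat_hom_eq (φ.map e.hom) (R := Over.mk (g ≫ T.hom)) h1, eqToHom_trans_assoc]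

/-- The self product of a scheme over the base. -/
noncomputable abbrev sq (W : Over S) : Over S := Over.mk (pullback.fst W.hom W.hom ≫ W.hom)

/-- The first projection of the self product. -/
noncomputable abbrev sqFst (W : Over S) : sq W ⟶ W := Over.homMk (pullback.fst W.hom W.hom) rfl

/-- The second projection of the self product. -/
noncomputable abbrev sqSnd (W : Over S) : sq W ⟶ W :=
  Over.homMk (pullback.snd W.hom W.hom) (pullback.condition).symm

variable {𝒳 : _root_.AlgSt.Cat S}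

/-- The chart of the absolute product given by a chart. -/
noncomputable def sqChart {W : Over S} (w : _root_.FibCat.overCat W ⥤ᵇ 𝒳) :
    _root_.FibCat.overCat (sq W) ⥤ᵇ _root_.FibCat.fp (_root_.FibCat.toSelf 𝒳) (_root_.FibCat.toSelf 𝒳) :=
  _root_.FibCat.fpLift (BasedFunctor.comp (_root_.AlgSt.overMap (sqFst W)) w)
    (BasedFunctor.comp (_root_.AlgSt.overMap (sqSnd W)) w) (isoSelf _ _)

theorem liftsFppf_sqChart {W : Over S} (w : _root_.FibCat.overCat W ⥤ᵇ 𝒳) (hw : LiftsFppf w) :
    LiftsFppf (sqChart w) := by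
  intro U y
  obtain ⟨V₁, c₁, l₁, f₁, p₁, s₁, ⟨j₁⟩⟩ := hw U (BasedFunctor.comp y (_root_.FibCat.fpFst _ _))
  obtain ⟨V₂, c₂, l₂, f₂, p₂, s₂, ⟨j₂⟩⟩ :=
    hw V₁ (BasedFunctor.comp (GrothLib.FibCat.overMap c₁) (BasedFunctor.comp y (_root_.FibCat.fpSnd _ _)))
  let a₁ : V₂ ⟶ W := c₂ ≫ sliceHom l₁
  let a₂ : V₂ ⟶ W := sliceHom l₂
  let h : V₂ ⟶ sq W := Over.homMk (pullback.lift a₁.left a₂.left ((Over.w a₁).trans (Over.w a₂).symm)) (by
    change pullback.lift _ _ _ ≫ pullback.fst W.hom W.hom ≫ W.hom = _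
    rw [pullback.lift_fst_assoc]
    exact Over.w a₁)
  have h1 : h ≫ sqFst W = a₁ := Over.OverMorphism.ext (pullback.lift_fst _ _ _)
  have h2 : h ≫ sqSnd W = a₂ := Over.OverMorphism.ext (pullback.lift_snd _ _ _)
  refine ⟨V₂, c₂ ≫ c₁, _root_.AlgSt.overMap h, inferInstanceAs (Flat (c₂.left ≫ c₁.left)),
    inferInstanceAs (LocallyOfFinitePresentation (c₂.left ≫ c₁.left)), inferInstanceAs (Surjective (c₂.left ≫ c₁.left)),
    ⟨isoFpSelf ?_ ?_⟩⟩
  · exact whiskerRightIso (overMapCompIso c₂ c₁).symm (BasedFunctor.comp y (_root_.FibCat.fpFst _ _)) ≪≫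
      whiskerLeftIso (GrothLib.FibCat.overMap c₂) (j₁ ≪≫ whiskerRightIso (isoOverMap l₁) w) ≪≫
      whiskerRightIso (overMapCompIso c₂ (sliceHom l₁) ≪≫ eqToIso (congrArg _ h1.symm) ≪≫
        (overMapCompIso h (sqFst W)).symm) w
  · exact whiskerRightIso (overMapCompIso c₂ c₁).symm (BasedFunctor.comp y (_root_.FibCat.fpSnd _ _)) ≪≫
      j₂ ≪≫ whiskerRightIso (isoOverMap l₂ ≪≫ eqToIso (congrArg _ h2.symm) ≪≫
        (overMapCompIso h (sqSnd W)).symm) w

/-- The hypothesis on automorphism spaces gives compactness of their points. -/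
theorem isQuasiCompact_of_qcMor {T : Over S} [CompactSpace ↥T.left] {𝒬 : _root_.AlgSt.Cat S}
    (φ : 𝒬 ⥤ᵇ _root_.FibCat.overCat T)
    (h : ∃ (F : AlgSp.Space S) (e : ofSp F.obj ⥤ᵇ 𝒬), _root_.FibCat.IsEquivOver e ∧
      AlgSp.IsQuasiCompactMor (spMapOfOver (BasedFunctor.comp e φ))) : IsQuasiCompact 𝒬 := by
  obtain ⟨F, e, he, hqc⟩ := h
  exact isQuasiCompact_of_isEquivOver e he (isQuasiCompact_ofSp F.property
    (hqc (AlgSp.IsAlgSpace.yon_obj T) (GrothLib.AlgSp.isQuasiCompactSp_yon T) (𝟙 _) (𝟙 _)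
      (spMapOfOver (BasedFunctor.comp e φ)) (IsPullback.of_horiz_isIso ⟨by simp⟩)))

/-- The diagonal of a quasi-separated scheme over the base is quasi-compact. -/
theorem repByAlgSpWith_isQuasiCompactMor_diag_overCat (B : Over S) [QuasiSeparatedSpace ↥B.left] :
    RepByAlgSpWith AlgSp.IsQuasiCompactMor
      (_root_.FibCat.diag (_root_.FibCat.toSelf (_root_.FibCat.overCat B))) := by
  let T₁ : Over S := Over.mk (𝟙 S)
  let c : B ⟶ T₁ := Over.homMk B.hom (Category.comp_id _)
  let π := _root_.AlgSt.overMap c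
  let t := _root_.FibCat.toSelf (_root_.FibCat.overCat B)
  let t₁ := _root_.FibCat.toSelf (_root_.FibCat.overCat T₁)
  have : t₁.toFunctor.Faithful := ⟨fun {a b φ ψ} h => Over.OverMorphism.ext h⟩
  have : t₁.toFunctor.Full := ⟨fun {a b} ψ => ⟨Over.homMk ψ (Over.mkIdTerminal.hom_ext _ _), rfl⟩⟩
  have hπ : RepByAlgSpWith AlgSp.IsQuasiCompactMor (_root_.FibCat.diag π) := by
    refine (repByAlgSpWith_diag_iff_of_rep π (toOverCat B) (isEquivOver_toOverCat B)).2 ?_
    have ea : spMapOfOver (BasedFunctor.comp (toOverCat B) π) = (AlgSp.yon S).map c := spMapOfOver_overMap c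
    rw [ea, repByAlgSpWith_diag_ofSpMap_iff]
    have hqs : AlgSp.RepWith @QuasiCompact (pullback.diagonal ((AlgSp.yon S).map c)) := by
      have sq0 := IsPullback.of_hasPullback c c
      have sq1 := GrothLib.AlgSp.isPullback_yon sq0
      have hd : pullback.diagonal ((AlgSp.yon S).map c) =
          (AlgSp.yon S).map (pullback.diagonal c) ≫ sq1.isoPullback.hom := by
        apply pullback.hom_ext <;>
          simp only [Category.assoc, IsPullback.isoPullback_hom_fst, IsPullback.isoPullback_hom_snd,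
            pullback.diagonal_fst, pullback.diagonal_snd, ← Functor.map_comp] <;>
          exact ((AlgSp.yon S).map_id _).symm
      rw [hd]
      refine GrothLib.AlgSp.repWith_comp ((AlgSp.repWith_yon_map_iff @QuasiCompact _).2 ?_)
        (GrothLib.AlgSp.repWith_iso _)
      have sqL : IsPullback (pullback.fst c c).left (pullback.snd c c).left c.left c.left :=
        GrothLib.AlgSp.isPullback_left sq0
      have e : (pullback.diagonal c).left ≫ sqL.isoPullback.hom = pullback.diagonal c.left := by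
        apply pullback.hom_ext <;>
          simp only [Category.assoc, IsPullback.isoPullback_hom_fst, IsPullback.isoPullback_hom_snd,
            pullback.diagonal_fst, pullback.diagonal_snd, ← Over.comp_left, Over.id_left]
      have hq : QuasiCompact (pullback.diagonal c.left) :=
        by have : QuasiSeparated c.left := inferInstance; exact this.quasiCompact_diagonal
      rw [← e] at hq
      exact (MorphismProperty.cancel_right_of_respectsIso @QuasiCompact _ sqL.isoPullback.hom).1 hq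
    exact repByAlgSpWith_ofSpMap (AlgSp.IsAlgSpace.yon_obj B)
      (GrothLib.AlgSp.isAlgSpace_pullback' (AlgSp.IsAlgSpace.yon_obj T₁) (AlgSp.IsAlgSpace.yon_obj B)
        (AlgSp.IsAlgSpace.yon_obj B) _ _) _ fun U d =>
      GrothLib.AlgSp.isQuasiCompactMor_of_repWith
        (GrothLib.AlgSp.repWith_of_isPullback (IsPullback.of_hasPullback d _).flip hqs)
  let M := Fp.map (F := π) (G := π) (F' := t) (G' := t) (BasedFunctor.id _) (BasedFunctor.id _) t₁
    (isoSelf (BasedFunctor.comp (BasedFunctor.id _) t) (BasedFunctor.comp π t₁))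
    (isoSelf (BasedFunctor.comp (BasedFunctor.id _) t) (BasedFunctor.comp π t₁))
  exact (repByAlgSpWith_iff_of_square (f := _root_.FibCat.diag t) (f' := _root_.FibCat.diag π) (BasedFunctor.id _) M
    (IsEquivOver.refl _) (Fp.isEquivOver_map _ _ _ _ _ (IsEquivOver.refl _) (IsEquivOver.refl _))
    (isoFpSelf (Iso.refl _) (Iso.refl _))).2 hπ

section Main

variable (h𝒳 : IsAlgStack Scheme.fppfPrecoverage 𝒳)
  (hi : ∀ (U : Over S), IsAffine U.left → ∀ (x : _root_.FibCat.overCat U ⥤ᵇ 𝒳),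
    ∃ (F : AlgSp.Space S)
      (e : ofSp F.obj ⥤ᵇ _root_.FibCat.fp (_root_.FibCat.fpLift x x (Iso.refl _))
        (_root_.FibCat.diag (_root_.FibCat.toSelf 𝒳))),
      _root_.FibCat.IsEquivOver e ∧
        AlgSp.IsQuasiCompactMor (spMapOfOver (BasedFunctor.comp e (_root_.FibCat.fpFst _ _))))

include h𝒳 hi in
/-- Over a scheme where the two objects are isomorphic, the space of isomorphisms is quasi-compact. -/
theorem isQuasiCompact_isom {T : Over S} [IsAffine T.left]
    (y : _root_.FibCat.overCat T ⥤ᵇ _root_.FibCat.fp (_root_.FibCat.toSelf 𝒳) (_root_.FibCat.toSelf 𝒳))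
    (σ : BasedFunctor.comp y (_root_.FibCat.fpFst _ _) ≅ BasedFunctor.comp y (_root_.FibCat.fpSnd _ _)) :
    IsQuasiCompact (_root_.FibCat.fp y (_root_.FibCat.diag (_root_.FibCat.toSelf 𝒳))) := by
  let x := BasedFunctor.comp y (_root_.FibCat.fpFst _ _)
  let j : _root_.FibCat.fpLift x x (Iso.refl _) ≅ y := isoFpSelf (Iso.refl _) σ
  exact isQuasiCompact_of_isEquivOver _ (Fp.isEquivOver_congr j (Iso.refl _))
    (isQuasiCompact_of_qcMor _ (hi T inferInstance x))

variable (hii : ∀ (U : Over S), IsAffine U.left → IsIntegral U.left →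
  ∀ (x y : _root_.FibCat.overCat U ⥤ᵇ 𝒳) (D : Set ↥U.left), Dense D →
    (∀ t ∈ D, ∃ (L : Type u) (_ : Field L) (g : Spec (CommRingCat.of L) ⟶ U.left), Set.range g.base = {t} ∧
      Nonempty (BasedFunctor.comp (_root_.AlgSt.overMap (Over.homMk g rfl : Over.mk (g ≫ U.hom) ⟶ U)) x ≅
        BasedFunctor.comp (_root_.AlgSt.overMap (Over.homMk g rfl : Over.mk (g ≫ U.hom) ⟶ U)) y)) →
    ∃ V : U.left.Opens, Dense (V : Set ↥U.left) ∧
      Nonempty (BasedFunctor.comp (_root_.AlgSt.overMap (Over.homMk V.ι rfl : Over.mk (V.ι ≫ U.hom) ⟶ U)) x ≅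
        BasedFunctor.comp (_root_.AlgSt.overMap (Over.homMk V.ι rfl : Over.mk (V.ι ≫ U.hom) ⟶ U)) y))

variable {B : Over S}
  (z : _root_.FibCat.overCat B ⥤ᵇ _root_.FibCat.fp (_root_.FibCat.toSelf 𝒳) (_root_.FibCat.toSelf 𝒳))

include h𝒳 hi hii in
/-- The space of isomorphisms has compact fibres over a nonempty open of an integral scheme with dense image. -/
theorem exists_open_isCompact {U : Over S} [IsAffine U.left] [IsIntegral U.left] (q : U ⟶ B)
    (hd : Dense (q.left ⁻¹' Set.range (fun r : Points (_root_.FibCat.fp z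
      (_root_.FibCat.diag (_root_.FibCat.toSelf 𝒳))) => pointOf (Points.map (_root_.FibCat.fpFst z _) r)))) :
    ∃ O : U.left.Opens, (O : Set ↥U.left).Nonempty ∧
      IsCompact ((fun r : Points (_root_.FibCat.fp z (_root_.FibCat.diag (_root_.FibCat.toSelf 𝒳))) =>
        pointOf (Points.map (_root_.FibCat.fpFst z _) r)) ⁻¹' (q.left '' (O : Set ↥U.left))) := by
  let φ := _root_.FibCat.fpFst z (_root_.FibCat.diag (_root_.FibCat.toSelf 𝒳))
  let t := _root_.FibCat.toSelf 𝒳
  have hP := isAlgStack_prod h𝒳 h𝒳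
  have hU := isAlgStack_overCat U
  have hB := isAlgStack_overCat B
  have hA := isAlgStack_fp hP.isStack hP.diag hB h𝒳 z (_root_.FibCat.diag t)
  have hQ := isAlgStack_fp hB.isStack hB.diag hU hA (_root_.AlgSt.overMap q) φ
  let zq := BasedFunctor.comp (_root_.AlgSt.overMap q) z
  have hL : ∀ u ∈ q.left ⁻¹' Set.range (fun r => pointOf (Points.map φ r)),
      ∃ (L : Type u) (_ : Field L) (g : Spec (CommRingCat.of L) ⟶ U.left), Set.range g.base = {u} ∧
        Nonempty (BasedFunctor.comp (_root_.AlgSt.overMap (Over.homMk g rfl : Over.mk (g ≫ U.hom) ⟶ U))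
            (BasedFunctor.comp zq (_root_.FibCat.fpFst t t)) ≅
          BasedFunctor.comp (_root_.AlgSt.overMap (Over.homMk g rfl : Over.mk (g ≫ U.hom) ⟶ U))
            (BasedFunctor.comp zq (_root_.FibCat.fpSnd t t))) := by
    rintro u ⟨r, hr⟩
    have he : Points.map (_root_.AlgSt.overMap q) (Points.ofChart (BasedFunctor.id _) u) = Points.map φ r := by
      refine (pointOf_bijective B).1 ?_
      rw [← ofChart_eq_map]
      have e : Points.ofChart (_root_.AlgSt.overMap q) u =
          Points.ofChart (BasedFunctor.id (_root_.FibCat.overCat B)) (q.left u) :=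
        ofChart_overMap q (BasedFunctor.id _) u
      exact ((congrArg pointOf e).trans (pointOf_ofChart_id _)).trans hr.symm
    obtain ⟨w, hw, -⟩ := exists_points_fp hA.isStack.1 hU.isStack.1 hB.isStack.1 φ (_root_.AlgSt.overMap q) _ r he
    obtain ⟨L, hLf, g, hg, G, ⟨i⟩⟩ := exists_field_section hQ.isStack.1 (_root_.FibCat.fpFst _ _) w
    refine ⟨L, hLf, g, by rw [hg, hw, pointOf_ofChart_id], ?_⟩
    let A := BasedFunctor.comp G (_root_.FibCat.fpSnd (_root_.AlgSt.overMap q) φ)
    let a := BasedFunctor.comp A (_root_.FibCat.fpSnd z (_root_.FibCat.diag t))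
    let j : BasedFunctor.comp a (_root_.FibCat.diag t) ≅
        BasedFunctor.comp (_root_.AlgSt.overMap (Over.homMk g rfl : Over.mk (g ≫ U.hom) ⟶ U)) zq :=
      whiskerLeftIso A (_root_.FibCat.fpIso z (_root_.FibCat.diag t)).symm ≪≫
        whiskerRightIso (whiskerLeftIso G (_root_.FibCat.fpIso (_root_.AlgSt.overMap q) φ).symm ≪≫
          whiskerRightIso i (_root_.AlgSt.overMap q)) z
    exact ⟨(whiskerRightIso j (_root_.FibCat.fpFst t t)).symm ≪≫ whiskerRightIso j (_root_.FibCat.fpSnd t t)⟩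
  obtain ⟨V, hV, ⟨σ⟩⟩ := hii U inferInstance inferInstance (BasedFunctor.comp zq (_root_.FibCat.fpFst t t))
    (BasedFunctor.comp zq (_root_.FibCat.fpSnd t t)) _ hd hL
  obtain ⟨v, hv⟩ : (V : Set ↥U.left).Nonempty := hV.nonempty
  obtain ⟨O, hO, hvO, hOV⟩ := exists_isAffineOpen_mem_and_subset (U := V) hv
  refine ⟨O, ⟨v, hvO⟩, ?_⟩
  let T : Over S := Over.mk (O.ι ≫ U.hom)
  let g : T ⟶ U := Over.homMk O.ι rfl
  have : IsAffine T.left := hO
  let k : T ⟶ Over.mk (V.ι ≫ U.hom) := Over.homMk (U.left.homOfLE hOV) (by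
    change U.left.homOfLE hOV ≫ V.ι ≫ U.hom = O.ι ≫ U.hom
    rw [Scheme.homOfLE_ι_assoc])
  let gV : Over.mk (V.ι ≫ U.hom) ⟶ U := Over.homMk V.ι rfl
  have hk : k ≫ gV = g := Over.OverMorphism.ext (Scheme.homOfLE_ι _ hOV)
  let zT := BasedFunctor.comp (_root_.AlgSt.overMap (g ≫ q)) z
  let c : _root_.AlgSt.overMap (g ≫ q) ≅
      BasedFunctor.comp (_root_.AlgSt.overMap k)
        (BasedFunctor.comp (_root_.AlgSt.overMap gV) (_root_.AlgSt.overMap q)) :=
    eqToIso (congrArg (fun e => _root_.AlgSt.overMap (e ≫ q)) hk.symm) ≪≫ (overMapCompIso (k ≫ gV) q).symm ≪≫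
      whiskerRightIso (overMapCompIso k gV).symm (_root_.AlgSt.overMap q)
  let τ : BasedFunctor.comp zT (_root_.FibCat.fpFst t t) ≅ BasedFunctor.comp zT (_root_.FibCat.fpSnd t t) :=
    whiskerRightIso c (BasedFunctor.comp z (_root_.FibCat.fpFst t t)) ≪≫
      whiskerLeftIso (_root_.AlgSt.overMap k) σ ≪≫
      (whiskerRightIso c (BasedFunctor.comp z (_root_.FibCat.fpSnd t t))).symm
  have hc := isQuasiCompact_isom h𝒳 hi zT τ
  have hT := isAlgStack_overCat T
  have hR := isAlgStack_fp hB.isStack hB.diag hT hA (_root_.AlgSt.overMap (g ≫ q)) φ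
  obtain ⟨E, hE, -, -⟩ := IsEquivOver.symm (Fp.isEquivOver_paste (_root_.FibCat.diag t) z (_root_.AlgSt.overMap (g ≫ q)))
  have := compactSpace_points_of_isQuasiCompact hR.isStack.1 (isQuasiCompact_of_isEquivOver E hE hc)
  have e : (fun r => pointOf (Points.map φ r)) ⁻¹' (q.left '' (O : Set ↥U.left)) =
      Set.range (Points.map (_root_.FibCat.fpSnd (_root_.AlgSt.overMap (g ≫ q)) φ)) := by
    ext r
    constructor
    · rintro ⟨u, hu, hur⟩
      have he : Points.map (_root_.AlgSt.overMap (g ≫ q)) (Points.ofChart (BasedFunctor.id _) (⟨u, hu⟩ : O.toScheme)) =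
          Points.map φ r := by
        refine (pointOf_bijective B).1 ?_
        rw [← ofChart_eq_map]
        have e : Points.ofChart (_root_.AlgSt.overMap (g ≫ q)) (⟨u, hu⟩ : O.toScheme) =
            Points.ofChart (BasedFunctor.id (_root_.FibCat.overCat B)) ((g ≫ q).left ⟨u, hu⟩) :=
          ofChart_overMap (g ≫ q) (BasedFunctor.id _) _
        exact ((congrArg pointOf e).trans (pointOf_ofChart_id _)).trans hur
      obtain ⟨w, -, hw⟩ := exists_points_fp hA.isStack.1 hT.isStack.1 hB.isStack.1 φ _ _ r he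
      exact ⟨w, hw⟩
    · rintro ⟨w, rfl⟩
      let o := pointOf (Points.map (_root_.FibCat.fpFst (_root_.AlgSt.overMap (g ≫ q)) φ) w)
      refine ⟨O.ι o, o.2, ?_⟩
      change _ = pointOf (Points.map φ _)
      rw [← points_map_comp, ← points_map_congr (_root_.FibCat.fpIso (_root_.AlgSt.overMap (g ≫ q)) φ) w,
        points_map_comp, map_eq_ofChart_pointOf]
      have e' : Points.ofChart (_root_.AlgSt.overMap (g ≫ q)) o =
          Points.ofChart (BasedFunctor.id (_root_.FibCat.overCat B)) ((g ≫ q).left o) :=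
        ofChart_overMap (g ≫ q) (BasedFunctor.id _) _
      exact ((congrArg pointOf e').trans (pointOf_ofChart_id _)).symm
  rw [e]
  exact isCompact_range (continuous_points_map hR hA _)

include h𝒳 hi hii in
/-- The preimage of an affine open of a Noetherian scheme in the space of isomorphisms is compact. -/
theorem isCompact_preimage_affine [IsLocallyNoetherian B.left] (O : B.left.Opens) (hO : IsAffineOpen O) :
    IsCompact ((fun r : Points (_root_.FibCat.fp z (_root_.FibCat.diag (_root_.FibCat.toSelf 𝒳))) =>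
      pointOf (Points.map (_root_.FibCat.fpFst z _) r)) ⁻¹' (O : Set ↥B.left)) := by
  have := IsLocallyNoetherian.component_noetherian ⟨O, hO⟩
  let π := fun r : Points (_root_.FibCat.fp z (_root_.FibCat.diag (_root_.FibCat.toSelf 𝒳))) =>
    pointOf (Points.map (_root_.FibCat.fpFst z _) r)
  have := isCompact_preimage_closed (X := PrimeSpectrum Γ(B.left, O)) (Y := ↥B.left) (fun x => hO.fromSpec x) π
    (fun C hC hCi hd => by
      let I := PrimeSpectrum.vanishingIdeal C
      have hI : I.IsPrime := PrimeSpectrum.isIrreducible_iff_vanishingIdeal_isPrime.1 hCi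
      let R := Γ(B.left, O) ⧸ I
      let U : Over S := Over.mk ((Spec.map (CommRingCat.ofHom (Ideal.Quotient.mk I)) ≫ hO.fromSpec) ≫ B.hom)
      let q : U ⟶ B := Over.homMk (Spec.map (CommRingCat.ofHom (Ideal.Quotient.mk I)) ≫ hO.fromSpec) rfl
      have : IsAffine U.left := inferInstanceAs (IsAffine (Spec (CommRingCat.of R)))
      have : IsIntegral U.left := inferInstanceAs (IsIntegral (Spec (CommRingCat.of R)))
      let q₀ : PrimeSpectrum R → PrimeSpectrum Γ(B.left, O) := PrimeSpectrum.comap (Ideal.Quotient.mk I)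
      have hq : Topology.IsClosedEmbedding q₀ :=
        PrimeSpectrum.isClosedEmbedding_comap_of_surjective _ _ Ideal.Quotient.mk_surjective
      have hr : Set.range q₀ = C := by
        refine (range_comap_of_surjective _ _ Ideal.Quotient.mk_surjective).trans ?_
        rw [Ideal.mk_ker, PrimeSpectrum.zeroLocus_vanishingIdeal_eq_closure, hC.closure_eq]
      have hdense : Dense (q.left ⁻¹' Set.range π) := fun x => by
        refine (hq.isInducing.closure_eq_preimage_closure_image _).ge ?_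
        refine closure_mono ?_ (hd (hr.le (Set.mem_range_self x)))
        rintro y ⟨hy, hy'⟩
        obtain ⟨x', rfl⟩ := hr.ge hy
        exact ⟨x', hy', rfl⟩
      obtain ⟨V, ⟨v, hv⟩, hV⟩ := exists_open_isCompact h𝒳 hi hii z q hdense
      obtain ⟨W, hW, hW'⟩ := hq.isInducing.isOpen_iff.1 V.2
      have hCW : C ∩ W = q₀ '' (V : Set ↥U.left) :=
        subset_antisymm (fun y ⟨h1, h2⟩ => by
          obtain ⟨x, rfl⟩ := hr.ge h1
          exact ⟨x, hW'.le h2, rfl⟩) (by
          rintro _ ⟨x, hx, rfl⟩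
          exact ⟨hr.le (Set.mem_range_self x), hW'.ge hx⟩)
      refine ⟨W, hW, hCW ▸ ⟨q₀ v, v, hv, rfl⟩, ?_⟩
      rw [hCW]
      erw [← Set.image_comp]
      exact hV) ⊤
  erw [Closeds.coe_top, Set.image_univ, hO.range_fromSpec] at this
  exact this

include h𝒳 hi hii in
/-- The diagonal is quasi-compact. -/
theorem isQuasiCompactMor_diag {W : Over S} (w : _root_.FibCat.overCat W ⥤ᵇ 𝒳) (hw : LiftsFppf w)
    [QuasiSeparatedSpace S] [IsLocallyNoetherian (sq W).left] :
    IsQuasiCompactMor Scheme.fppfPrecoverage (_root_.FibCat.diag (_root_.FibCat.toSelf 𝒳)) := by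
  have hP := isAlgStack_prod h𝒳 h𝒳
  have hB := isAlgStack_overCat (sq W)
  have hA := isAlgStack_fp hP.isStack hP.diag hB h𝒳 (sqChart w) (_root_.FibCat.diag (_root_.FibCat.toSelf 𝒳))
  refine isQuasiCompactMor_of_fpFst_fppf h𝒳 hP hB _ (sqChart w) (liftsFppf_sqChart w hw) ?_
  let φ := _root_.FibCat.fpFst (sqChart w) (_root_.FibCat.diag (_root_.FibCat.toSelf 𝒳))
  refine isQuasiCompactMor_of_preimage hA hB (repByAlgSpWith_isQuasiCompactMor_diag_overCat _) φ fun K hK hKc => ?_
  let ch := Points.ofChart (BasedFunctor.id (_root_.FibCat.overCat (sq W)))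
  have hch : Continuous ch := continuous_ofChart hB.isStack.1 hB.atlas _
  choose O hO hmO hOK using fun p : {p : ↥(sq W).left // p ∈ ch ⁻¹' K} =>
    exists_isAffineOpen_mem_and_subset (X := (sq W).left) (x := p.1)
      (U := ⟨ch ⁻¹' K, hK.preimage hch⟩) p.2
  have hK' : IsCompact (ch ⁻¹' K) := by
    have hi : Topology.IsOpenEmbedding ch :=
      Topology.IsOpenEmbedding.of_continuous_injective_isOpenMap hch
        (fun a b e => by rw [← pointOf_ofChart_id a, ← pointOf_ofChart_id b]; exact congrArg pointOf e)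
        (isOpenMap_ofChart hB.isStack.1
          (repByAlgSpWith_id (P := AlgSp.LocP (S := S) @Smooth)
            (fun U => locP_id (fun _ _ t (h : Etale t) => (inferInstance : Smooth t)) _) _))
    have hs : Function.Surjective ch := fun r => ⟨pointOf r, (pointOf_bijective _).1 (pointOf_ofChart_id _)⟩
    exact hi.isEmbedding.isCompact_preimage' hKc (fun r _ => hs r)
  obtain ⟨s, hs⟩ := hK'.elim_finite_subcover (fun p => (O p : Set ↥(sq W).left)) (fun p => (O p).2)
    fun p hp => Set.mem_iUnion.2 ⟨⟨p, hp⟩, hmO ⟨p, hp⟩⟩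
  have e : Points.map φ ⁻¹' K = ⋃ p ∈ s, (fun r => pointOf (Points.map φ r)) ⁻¹' (O p : Set ↥(sq W).left) := by
    have hrc : ∀ r, ch (pointOf r) = r := fun r => (pointOf_bijective _).1 (pointOf_ofChart_id _)
    ext r
    constructor
    · intro hr
      have hh : pointOf (Points.map φ r) ∈ ch ⁻¹' K := by rw [Set.mem_preimage, hrc]; exact hr
      obtain ⟨p, hp, hp'⟩ := Set.mem_iUnion₂.1 (hs hh)
      exact Set.mem_iUnion₂.2 ⟨p, hp, hp'⟩
    · intro hr
      obtain ⟨p, -, hp'⟩ := Set.mem_iUnion₂.1 hr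
      have := hOK p hp'
      change ch (pointOf (Points.map φ r)) ∈ K at this
      rwa [hrc] at this
  rw [e]
  exact s.finite_toSet.isCompact_biUnion fun p _ => isCompact_preimage_affine h𝒳 hi hii (sqChart w) (O p) (hO p)

end Main

end GrothLib.GenIsom
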