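import Groth.Agent.Lib.AlgSt.FpStackK

/-!
# Properties of a morphism read off after composing with a covering
-/

set_option backward.isDefEq.respectTransparency false
set_option backward.isDefEq.respectTransparency.types false

universe u

open CategoryTheory CategoryTheory.Limits AlgebraicGeometry Opposite

namespace GrothLib.AlgSt

open _root_.AlgSt GrothLib.FibCat

variable {S : Scheme.{u}} {P R R' : MorphismProperty (AlgSp.Sp S)}

theorem isoInvariant_inf (h : IsoInvariant R) (h' : IsoInvariant R') : IsoInvariant (R ⊓ R') :=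
  fun _ _ _ hF hG φ _ a ha => ⟨h hF hG φ a ha.1, h' hF hG φ a ha.2⟩

theorem detectedBySchemes_inf (h : DetectedBySchemes R) (h' : DetectedBySchemes R') : DetectedBySchemes (R ⊓ R') :=
  fun _ _ h₂ h₁ b hb => ⟨h h₂ h₁ b fun V p => (hb V p).1, h' h₂ h₁ b fun V p => (hb V p).2⟩

/-- If `x` is a covering for which `P` is local on the source and `x ≫ y` has `P`, so does `y`. -/
theorem repByAlgSpWith_of_comp_cover (hP : IsoInvariant P) (hR : IsoInvariant R) (hdR : DetectedBySchemes R)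
    (hloc : ∀ ⦃W X Y : AlgSp.Sp S⦄, AlgSp.IsAlgSpace W → AlgSp.IsAlgSpace X → AlgSp.IsAlgSpace Y →
      ∀ (g : W ⟶ X) (f : X ⟶ Y), R g → P (g ≫ f) → P f)
    {𝒳 𝒴 𝒵 : _root_.AlgSt.Cat S} (h𝒳 : _root_.FibCat.IsFibGrpd 𝒳.p) (h𝒴 : _root_.FibCat.IsFibGrpd 𝒴.p)
    (x : 𝒳 ⥤ᵇ 𝒴) (y : 𝒴 ⥤ᵇ 𝒵) (hy : RepByAlgSp1 y) (hx : RepByAlgSpWith R x)
    (h : RepByAlgSpWith P (BasedFunctor.comp x y)) : RepByAlgSpWith P y := by
  intro U z
  obtain ⟨F₁, e₁, he₁⟩ := hy U z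
  obtain ⟨F₂, e₂, he₂⟩ := repByAlgSp_fp_of_repByAlgSp1 h𝒳 h𝒴 x (_root_.FibCat.fpSnd z y)
    (repByAlgSp1_of_repByAlgSpWith hx) ⟨F₁, e₁, he₁⟩
  obtain ⟨e₁', he₁', ⟨η⟩, ⟨ε⟩⟩ := IsEquivOver.symm he₁
  let Φ := BasedFunctor.comp (BasedFunctor.comp e₂ (_root_.FibCat.fpFst (_root_.FibCat.fpSnd z y) x)) e₁'
  let iG : BasedFunctor.comp e₂ (_root_.FibCat.fpFst (_root_.FibCat.fpSnd z y) x) ≅
      BasedFunctor.comp (ofSpMap (spHom Φ)) e₁ :=
    (whiskerLeftIso (BasedFunctor.comp e₂ (_root_.FibCat.fpFst (_root_.FibCat.fpSnd z y) x)) ε).symm ≪≫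
      whiskerRightIso (isoOfSpHom Φ) e₁
  have hb : R (spHom Φ) := mem_of_repByAlgSpWith hdR hR hx _ F₁ e₁ he₁ F₂ e₂ he₂ _ iG
  have h₂ := HasRep.mem (h U z) hP F₂ (BasedFunctor.comp e₂ (Fp.pasteComp x y z))
    (IsEquivOver.comp he₂ (Fp.isEquivOver_pasteComp x y z))
  have eq : spMapOfOver (BasedFunctor.comp (BasedFunctor.comp e₂ (Fp.pasteComp x y z))
      (_root_.FibCat.fpFst z (BasedFunctor.comp x y))) =
      spHom Φ ≫ spMapOfOver (BasedFunctor.comp e₁ (_root_.FibCat.fpFst z y)) := by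
    have h1 := spMapOfOver_congr (whiskerRightIso iG (_root_.FibCat.fpFst z y))
    have h2 := spMapOfOver_comp (ofSpMap (spHom Φ)) (BasedFunctor.comp e₁ (_root_.FibCat.fpFst z y))
    rw [spHom_ofSpMap] at h2
    exact h1.trans h2
  rw [eq] at h₂
  exact ⟨F₁, e₁, he₁, hloc F₂.property F₁.property (AlgSp.IsAlgSpace.yon_obj U) _ _ hb h₂⟩

theorem isoInvariant_isEtaleMor : IsoInvariant (AlgSp.IsEtaleMor (S := S)) :=
  fun _ _ _ _ _ φ _ a ha => isEtaleMor_etale_comp φ a (GrothLib.AlgSp.repWith_iso φ) ha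

theorem detectedBySchemes_isEtaleMor : DetectedBySchemes (AlgSp.IsEtaleMor (S := S)) :=
  fun _ _ h₂ h₁ b hb => GrothLib.AlgSp.isEtaleMor_of_locP h₁
    (detectedBySchemes_locP (fun _ _ _ h => h) h₂ h₁ b fun V p =>
      GrothLib.AlgSp.locP_of_isEtaleMor (AlgSp.IsAlgSpace.yon_obj V) (hb V p))

end GrothLib.AlgSt
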