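import Groth.Agent.Lib.AlgSt.FieldImage
import Groth.Agent.Lib.AlgSp.RedInduced
import Groth.Agent.Lib.AlgSt.SmoothLocally
import Groth.Agent.Lib.RedSmooth.Basic

/-!
# Reduced closed substacks
-/

set_option autoImplicit false
set_option linter.style.haveILetI false
set_option backward.isDefEq.respectTransparency false
set_option backward.isDefEq.respectTransparency.types false

universe u

open CategoryTheory CategoryTheory.Limits AlgebraicGeometry Opposite

namespace GrothLib.AlgSt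

open _root_.AlgSt GrothLib.FibCat

variable {S : Scheme.{u}} {𝒳 : _root_.AlgSt.Cat S}

/-- Factorisation through a monomorphism is local for covering sieves. -/
theorem exists_factor_of_sieve {Z U T : Over S} (j : Z ⟶ U) [Mono j] (t : T ⟶ U) {R : Sieve T}
    (hR : R ∈ AlgSp.J S T) (h : ∀ ⦃V : Over S⦄ (f : V ⟶ T), R f → ∃ l : V ⟶ Z, l ≫ j = f ≫ t) :
    ∃ l : T ⟶ Z, l ≫ j = t := by
  choose l hl using h
  have hsh : Presieve.IsSheaf (AlgSp.J S) (CategoryTheory.yoneda.obj Z) :=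
    GrothendieckTopology.Subcanonical.isSheaf_of_isRepresentable _
  let x : Presieve.FamilyOfElements (CategoryTheory.yoneda.obj Z) R.arrows := fun V f hf => l f hf
  have hx : x.Compatible := fun Y₁ Y₂ W g₁ g₂ f₁ f₂ h₁ h₂ e => by
    change g₁ ≫ l f₁ h₁ = g₂ ≫ l f₂ h₂
    rw [← cancel_mono j, Category.assoc, Category.assoc, hl, hl, reassoc_of% e]
  refine ⟨(hsh R hR).amalgamate x hx, ?_⟩
  have hsU : Presieve.IsSheaf (AlgSp.J S) (CategoryTheory.yoneda.obj U) :=
    GrothendieckTopology.Subcanonical.isSheaf_of_isRepresentable _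
  refine (hsU R hR).isSeparatedFor.ext fun V f hf => ?_
  change f ≫ (hsh R hR).amalgamate x hx ≫ j = f ≫ t
  have : f ≫ (hsh R hR).amalgamate x hx = l f hf := (hsh R hR).valid_glue hx f hf
  rw [reassoc_of% this, hl]

/-- A full substack cut out on a chart by factorisation through a monomorphism. -/
theorem exists_model_of_factor (g𝒳 : _root_.FibCat.IsFibGrpd 𝒳.p) {Q : 𝒳.obj → Prop}
    (hc : ObjectProperty.IsClosedUnderIsomorphisms Q) {U Z : Over S} (y : _root_.FibCat.overCat U ⥤ᵇ 𝒳)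
    (j : Z ⟶ U) [Mono j] (h : ∀ a : (_root_.FibCat.overCat U).obj, Q (y.obj a) ↔ ∃ l : a.left ⟶ Z, l ≫ j = a.hom) :
    ∃ E : _root_.FibCat.overCat Z ⥤ᵇ _root_.FibCat.fp y (subIncl 𝒳 Q),
      _root_.FibCat.IsEquivOver E ∧ BasedFunctor.comp E (_root_.FibCat.fpFst y (subIncl 𝒳 Q)) =
        GrothLib.FibCat.overMap j ∧
      BasedFunctor.comp (BasedFunctor.comp E (_root_.FibCat.fpSnd y (subIncl 𝒳 Q))) (subIncl 𝒳 Q) =
        BasedFunctor.comp (GrothLib.FibCat.overMap j) y := by
  let z : _root_.FibCat.overCat Z ⥤ᵇ fullSub 𝒳 Q :=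
    liftSub Q (BasedFunctor.comp (GrothLib.FibCat.overMap j) y) fun a =>
      (h ((GrothLib.FibCat.overMap j).obj a)).2 ⟨a.hom, rfl⟩
  let E : _root_.FibCat.overCat Z ⥤ᵇ _root_.FibCat.fp y (subIncl 𝒳 Q) :=
    _root_.FibCat.fpLift (GrothLib.FibCat.overMap j) z (Iso.refl _)
  have : (_root_.FibCat.fpFst y (subIncl 𝒳 Q)).toFunctor.Faithful := Fp.faithful_fpFst
  refine ⟨E, FFEssSurjOver.isEquivOver ⟨⟨fun {a b} ψ => ?_⟩, ⟨fun {a b φ φ'} h' => ?_⟩, fun η => ?_⟩, rfl, rfl⟩
  · have h1 : ψ.hom.fst.left ≫ b.hom ≫ j = a.hom ≫ j := Over.w ψ.hom.fst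
    let φ : a ⟶ b := Over.homMk ψ.hom.fst.left (by rw [← cancel_mono j, Category.assoc]; exact h1)
    exact ⟨φ, (_root_.FibCat.fpFst y (subIncl 𝒳 Q)).toFunctor.map_injective (Over.OverMorphism.ext rfl)⟩
  · exact Over.OverMorphism.ext (congrArg (fun t => t.hom.fst.left) h')
  · obtain ⟨l, hl⟩ := (h η.obj.fst).1 (hc.of_iso η.obj.iso.symm η.obj.snd.property)
    let a : (_root_.FibCat.overCat Z).obj := Over.mk l
    let i₁ : (GrothLib.FibCat.overMap j).obj a ≅ η.obj.fst := Over.isoMk (Iso.refl _) (by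
      change 𝟙 _ ≫ η.obj.fst.hom = l ≫ j
      rw [Category.id_comp, hl])
    let i₂ : z.obj a ≅ η.obj.snd :=
      (ObjectProperty.ι Q).preimageIso (y.toFunctor.mapIso i₁ ≪≫ η.obj.iso)
    refine ⟨a, Fp.isoMk i₁ i₂ ?_, (Fp.isHomLift_iff _ _).2 (IsHomLift.of_fac' _ _ _ rfl rfl (by
      change i₁.hom.left = _
      simp [i₁]
      rfl))⟩
    change y.map i₁.hom ≫ η.obj.iso.hom = 𝟙 _ ≫ (ObjectProperty.ι Q).map i₂.hom
    rw [Category.id_comp, Functor.preimageIso_hom, Functor.map_preimage]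
    rfl

section

variable {W C : Over S} (w : _root_.FibCat.overCat W ⥤ᵇ 𝒳) (ι : C ⟶ W)

/-- Charts isomorphic to one in the reduced closed subscheme of the atlas lie in it. -/
theorem factor_of_iso_reduced (h𝒳 : IsAlgStack Scheme.fppfPrecoverage 𝒳)
    (hw : RepByAlgSpWith (AlgSp.LocP @Smooth) w) [IsClosedImmersion ι.left] [IsReduced C.left] {T : Set (Points 𝒳)}
    (hr : Set.range ι.left = Points.ofChart w ⁻¹' T) {V : Over S} (g h : V ⟶ W)
    (i : Nonempty (BasedFunctor.comp (GrothLib.FibCat.overMap g) w ≅ BasedFunctor.comp (GrothLib.FibCat.overMap h) w))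
    (hf : ∃ h' : V ⟶ C, h' ≫ ι = h) : ∃ g' : V ⟶ C, g' ≫ ι = g := by
  obtain ⟨i⟩ := i
  obtain ⟨F, e, he, hs₁⟩ := hw W w
  have hs₂ := HasRep.mem (hw W w) isoInvariant_locP F (BasedFunctor.comp e (Fp.symm w w))
    (IsEquivOver.comp he (Fp.isEquivOver_symm w w))
  obtain ⟨R, q, qe, qs⟩ := F.property.atlas
  let L := BasedFunctor.comp (ofOverCat R) (BasedFunctor.comp (ofSpMap q) e)
  let k₁ := BasedFunctor.comp L (_root_.FibCat.fpFst w w)
  let k₂ := BasedFunctor.comp L (_root_.FibCat.fpSnd w w)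
  have key : ∀ (π : _root_.FibCat.fp w w ⥤ᵇ _root_.FibCat.overCat W),
      (AlgSp.yon S).map (sliceHom (BasedFunctor.comp L π)) = q ≫ spMapOfOver (BasedFunctor.comp e π) := by
    intro π
    rw [← spMapOfOver_overMap, ← spMapOfOver_congr (whiskerLeftIso (toOverCat R) (isoOverMap (BasedFunctor.comp L π)))]
    refine (spMapOfOver_congr (whiskerRightIso (toOverCatCompIso R)
      (BasedFunctor.comp (ofSpMap q) (BasedFunctor.comp e π)))).trans ?_
    refine (spMapOfOver_comp (ofSpMap q) (BasedFunctor.comp e π)).trans ?_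
    rw [spHom_ofSpMap]
  let g₀ := sliceHom k₁
  let h₀ := sliceHom k₂
  have i₀ : BasedFunctor.comp (GrothLib.FibCat.overMap g₀) w ≅ BasedFunctor.comp (GrothLib.FibCat.overMap h₀) w :=
    (whiskerRightIso (isoOverMap k₁) w).symm ≪≫ whiskerLeftIso L (_root_.FibCat.fpIso w w) ≪≫
      whiskerRightIso (isoOverMap k₂) w
  haveI : Smooth h₀.left := hs₂ q (𝟙 _) h₀ qe (AlgSp.repWith_id _ W) (by rw [Category.comp_id, key]; rfl)
  -- the given pair as a point of the relation
  let m : _root_.FibCat.overCat V ⥤ᵇ _root_.FibCat.fp w w :=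
    _root_.FibCat.fpLift (GrothLib.FibCat.overMap g) (GrothLib.FibCat.overMap h) i
  obtain ⟨e', he', ⟨η⟩, ⟨ε⟩⟩ := IsEquivOver.symm he
  let Φ := BasedFunctor.comp (toOverCat V) (BasedFunctor.comp m e')
  let σ := spHom Φ
  have hπ : ∀ (π : _root_.FibCat.fp w w ⥤ᵇ _root_.FibCat.overCat W) (d : V ⟶ W),
      (BasedFunctor.comp m π ≅ GrothLib.FibCat.overMap d) →
      σ ≫ spMapOfOver (BasedFunctor.comp e π) = (AlgSp.yon S).map d := by
    intro π d j
    rw [← spMapOfOver_overMap]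
    refine (spMapOfOver_ofSpMap_comp σ _).symm.trans (spMapOfOver_congr ?_)
    exact (whiskerRightIso (isoOfSpHom Φ) (BasedFunctor.comp e π)).symm ≪≫
      whiskerLeftIso (BasedFunctor.comp (toOverCat V) m) (whiskerRightIso ε π) ≪≫
      whiskerLeftIso (toOverCat V) j
  obtain ⟨V', c, r, sq⟩ : ∃ (V' : Over S) (c : V' ⟶ V) (r : (AlgSp.yon S).obj V' ⟶ (AlgSp.yon S).obj R),
      IsPullback r ((AlgSp.yon S).map c) q σ := by
    obtain ⟨V', r, c, sq⟩ := GrothLib.AlgSp.exists_isPullback_of_representable qe.1 σ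
    exact ⟨V', c, r, sq⟩
  obtain ⟨r, rfl⟩ := (AlgSp.yon S).map_surjective r
  haveI : Etale c.left := qe.2 σ _ _ sq
  haveI : Surjective c.left := qs.2 σ _ _ sq
  have hg : r ≫ g₀ = c ≫ g := (AlgSp.yon S).map_injective (by
    rw [Functor.map_comp, Functor.map_comp, ← hπ (_root_.FibCat.fpFst w w) g (Iso.refl _)]
    erw [key (_root_.FibCat.fpFst w w)]
    rw [← Category.assoc, sq.w, Category.assoc])
  have hh : r ≫ h₀ = c ≫ h := (AlgSp.yon S).map_injective (by
    rw [Functor.map_comp, Functor.map_comp, ← hπ (_root_.FibCat.fpSnd w w) h (Iso.refl _)]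
    erw [key (_root_.FibCat.fpSnd w w)]
    rw [← Category.assoc, sq.w, Category.assoc])
  let A := pullback h₀.left ι.left
  haveI : IsReduced A := GrothLib.RedSmooth.isReduced_of_smooth (pullback.snd h₀.left ι.left)
  obtain ⟨a, ha⟩ := GrothLib.RedSub.exists_lift (pullback.fst h₀.left ι.left ≫ g₀.left) ι.left (by
    rintro _ ⟨z, rfl⟩
    rw [hr]
    change Points.ofChart w (g₀.left (pullback.fst h₀.left ι.left z)) ∈ T
    rw [← ofChart_overMap g₀ w, ofChart_congr (T := R) (x := BasedFunctor.comp (_root_.AlgSt.overMap g₀) w) i₀,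
      ← Set.mem_preimage (f := Points.ofChart (BasedFunctor.comp (GrothLib.FibCat.overMap h₀) w))]
    change Points.ofChart (BasedFunctor.comp (_root_.AlgSt.overMap h₀) w) (pullback.fst h₀.left ι.left z) ∈ T
    rw [ofChart_overMap h₀ w, ← Scheme.Hom.comp_apply, pullback.condition, Scheme.Hom.comp_apply]
    exact hr.le ⟨_, rfl⟩)
  obtain ⟨h', hh'⟩ := hf
  let b : V'.left ⟶ A := pullback.lift r.left (c ≫ h').left (by
    rw [← Over.comp_left, ← Over.comp_left, hh, Category.assoc, hh'])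
  have e1 : (b ≫ a) ≫ ι.left = (c ≫ g).left := by
    rw [Category.assoc, ha, pullback.lift_fst_assoc, ← Over.comp_left, hg]
  haveI : Mono ι := (Over.forget S).mono_of_mono_map (inferInstanceAs (Mono ι.left))
  exact GrothLib.AlgSp.exists_factor_of_fppf_cover ι g c
    (Over.homMk (b ≫ a) (by rw [← Over.w ι, ← Category.assoc, e1, Over.w])) (Over.OverMorphism.ext e1)

/-- An object of the slice in the local image of the closed chart gives lifts on a covering sieve. -/
theorem exists_lifts_of_locImage (g𝒳 : _root_.FibCat.IsFibGrpd 𝒳.p)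
    (z : _root_.FibCat.overCat C ⥤ᵇ 𝒳) {U : Over S} (y : _root_.FibCat.overCat U ⥤ᵇ 𝒳)
    (h : chartImage z (y.obj (Yon.idObj U))) :
    ∃ R : Sieve U, R ∈ AlgSp.J S U ∧ ∀ ⦃V : Over S⦄ (f : V ⟶ U), R f → ∃ l : V ⟶ C,
      Nonempty (BasedFunctor.comp (GrothLib.FibCat.overMap f) y ≅ BasedFunctor.comp (GrothLib.FibCat.overMap l) z) := by
  have hξ : 𝒳.p.obj (y.obj (Yon.idObj U)) = U := y.w_obj (Yon.idObj U)
  refine ⟨_, GrothendieckTopology.pullback_stable (AlgSp.J S) (eqToHom hξ.symm) h, fun V f hf => ?_⟩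
  obtain ⟨x, g, hg⟩ : ∃ (x : (_root_.FibCat.overCat C).obj) (g : z.obj x ⟶ y.obj (Yon.idObj U)),
      𝒳.p.IsHomLift (f ≫ eqToHom hξ.symm) g := hf
  obtain ⟨l, ⟨j⟩⟩ := exists_lift_of_obj (isFibGrpd_overCat C) g𝒳 z y f x g
    (IsHomLift.of_fac' _ _ _ (IsHomLift.domain_eq 𝒳.p (f ≫ eqToHom hξ.symm) g) hξ (by
      rw [IsHomLift.fac' 𝒳.p (f ≫ eqToHom hξ.symm) g]
      simp))
  exact ⟨sliceHom l, ⟨j ≪≫ whiskerRightIso (isoOverMap l) z⟩⟩

end

/-- Every closed set of points underlies a reduced closed substack. -/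
theorem exists_reduced_closedSubstack (h𝒳 : IsAlgStack Scheme.fppfPrecoverage 𝒳) (T : Set (Points 𝒳))
    (hT : IsClosed T) :
    ∃ Q : 𝒳.obj → Prop, IsClosedSubstack 𝒳 Q Scheme.fppfPrecoverage ∧
      Set.range (Points.map (subIncl 𝒳 Q)) = T ∧ SmoothLocally (fun X => IsReduced X) (fullSub 𝒳 Q) := by
  have g𝒳 := h𝒳.isStack.1
  obtain ⟨W, w, hw, hws⟩ := h𝒳.atlas
  let CT : TopologicalSpace.Closeds ↥W.left :=
    ⟨Points.ofChart w ⁻¹' T, hT.preimage (continuous_ofChart g𝒳 h𝒳.atlas w)⟩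
  let I := Scheme.IdealSheafData.vanishingIdeal CT
  let C : Over S := Over.mk (I.subschemeι ≫ W.hom)
  let ι : C ⟶ W := Over.homMk I.subschemeι rfl
  haveI : IsClosedImmersion ι.left := inferInstanceAs (IsClosedImmersion I.subschemeι)
  haveI hC : IsReduced C.left := RedSub.isReduced_subscheme_vanishingIdeal CT
  have hr : Set.range ι.left = Points.ofChart w ⁻¹' T := RedSub.range_subschemeι_vanishingIdeal CT
  haveI : Mono ι := (Over.forget S).mono_of_mono_map (inferInstanceAs (Mono ι.left))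
  let z := BasedFunctor.comp (GrothLib.FibCat.overMap ι) w
  let Q := chartImage z
  have hc : ObjectProperty.IsClosedUnderIsomorphisms Q := isClosedUnderIsomorphisms_locImage z _ g𝒳
  have hhom : ∀ {η η' : 𝒳.obj}, (η' ⟶ η) → Q η → Q η' := fun φ => locImage_of_hom z _ g𝒳 φ
  -- objects over a chart
  have model : ∀ (U : Over S) (y : _root_.FibCat.overCat U ⥤ᵇ 𝒳), ∃ (Z : Over S) (j : Z ⟶ U),
      IsClosedImmersion j.left ∧
        ∀ a : (_root_.FibCat.overCat U).obj, Q (y.obj a) ↔ ∃ l : a.left ⟶ Z, l ≫ j = a.hom := by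
    intro U y
    obtain ⟨V, c, lW, hcsm, hcsu, ⟨κ⟩⟩ := exists_lift_chart y w hw hws
    haveI := hcsm
    haveI := hcsu
    let D := pullback lW ι
    let ιD : D ⟶ V := pullback.fst lW ι
    haveI hιD : IsClosedImmersion ιD.left := MorphismProperty.of_isPullback
      (GrothLib.AlgSp.isPullback_left (IsPullback.of_hasPullback lW ι)).flip (inferInstance : IsClosedImmersion ι.left)
    haveI : Mono ιD := (Over.forget S).mono_of_mono_map (inferInstanceAs (Mono ιD.left))
    let a := (AlgSp.yon S).map c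
    haveI : Sheaf.IsLocallySurjective a := GrothLib.AlgSp.isLocallySurjective_of_repWith
      ((AlgSp.repWith_yon_map_iff _ _).2 (inferInstance : Flat c.left))
      ((AlgSp.repWith_yon_map_iff _ _).2 (inferInstance : LocallyOfFinitePresentation c.left))
      ((AlgSp.repWith_yon_map_iff _ _).2 hcsu)
    -- invariance
    have hfac : ∀ {T₀ : Over S} (p₁ p₂ : T₀ ⟶ V), p₁ ≫ c = p₂ ≫ c →
        ∀ d : T₀ ⟶ D, d ≫ ιD = p₁ → ∃ d' : T₀ ⟶ D, d' ≫ ιD = p₂ := by
      intro T₀ p₁ p₂ hp d hd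
      obtain ⟨g', hg'⟩ := factor_of_iso_reduced w ι h𝒳 hw hr (p₂ ≫ lW) (p₁ ≫ lW)
        ⟨(whiskerRightIso (overMapCompIso p₂ lW) w).symm ≪≫
          (whiskerLeftIso (GrothLib.FibCat.overMap p₂) κ).symm ≪≫
          whiskerRightIso (overMapCompIso p₂ c ≪≫ eqToIso (congrArg GrothLib.FibCat.overMap hp.symm) ≪≫
            (overMapCompIso p₁ c).symm) y ≪≫
          whiskerLeftIso (GrothLib.FibCat.overMap p₁) κ ≪≫ whiskerRightIso (overMapCompIso p₁ lW) w⟩
        ⟨d ≫ pullback.snd lW ι, by rw [Category.assoc, ← pullback.condition, ← Category.assoc, hd]⟩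
      exact ⟨pullback.lift p₂ g' hg'.symm, pullback.lift_fst _ _ _⟩
    let q := (AlgSp.yon S).map ιD ≫ a
    let p := Limits.factorThruImage q
    let i := Limits.image.ι q
    haveI : Sheaf.IsLocallySurjective p := (Sheaf.isLocallySurjective_iff_epi p).2 inferInstance
    have hpi : p ≫ i = (AlgSp.yon S).map ιD ≫ a := Limits.image.fac q
    have sqC : IsPullback p ((AlgSp.yon S).map ιD) i a :=
      GrothLib.AlgSp.isPullback_of_yon hpi fun T₀ x l hxl => by
        obtain ⟨l, rfl⟩ := (AlgSp.yon S).map_surjective l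
        obtain ⟨T', b, d, hbf, hbp, hbs, hd⟩ := GrothLib.AlgSp.exists_fppf_lift p x
        obtain ⟨d, rfl⟩ := (AlgSp.yon S).map_surjective d
        haveI := hbf
        haveI := hbp
        haveI := hbs
        obtain ⟨d', hd'⟩ := hfac (d ≫ ιD) (b ≫ l) ((AlgSp.yon S).map_injective (by
          simp only [Functor.map_comp, Category.assoc]
          rw [← hpi, reassoc_of% hd, hxl])) d rfl
        obtain ⟨e, he⟩ := GrothLib.AlgSp.exists_factor_of_fppf_cover ιD l b d' hd'
        refine ⟨(AlgSp.yon S).map e, ⟨?_, by rw [← Functor.map_comp, he]⟩, ?_⟩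
        · rw [← cancel_mono i, Category.assoc, hpi, ← Category.assoc, ← Functor.map_comp, he, hxl]
        · rintro e' ⟨-, he'⟩
          obtain ⟨e', rfl⟩ := (AlgSp.yon S).map_surjective e'
          rw [← Functor.map_comp] at he'
          rw [(cancel_mono ιD).1 (((AlgSp.yon S).map_injective he').trans he.symm)]
    have hi : AlgSp.RepWith @IsClosedImmersion i := GrothLib.AlgSp.repWith_of_base_isImmersion a sqC
      (GrothLib.AlgSp.le_isImmersion_of_cases (Or.inl rfl)).1 (GrothLib.AlgSp.le_isImmersion_of_cases (Or.inl rfl)).2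
      ((AlgSp.repWith_yon_map_iff _ _).2 hιD)
    obtain ⟨Z, fst, j, sqZ⟩ := GrothLib.AlgSp.exists_isPullback_of_representable hi.1 (𝟙 ((AlgSp.yon S).obj U))
    haveI : IsIso fst := sqZ.isIso_fst_of_isIso
    have hj : (AlgSp.yon S).map j = fst ≫ i := (sqZ.w.trans (Category.comp_id _)).symm
    haveI hjc : IsClosedImmersion j.left := hi.2 _ fst j sqZ
    haveI : Mono j := (Over.forget S).mono_of_mono_map (inferInstanceAs (Mono j.left))
    refine ⟨Z, j, hjc, fun b => ?_⟩
    let t := b.hom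
    let ξ := (BasedFunctor.comp (GrothLib.FibCat.overMap t) y).obj (Yon.idObj b.left)
    let ib : (GrothLib.FibCat.overMap t).obj (Yon.idObj b.left) ≅ b :=
      Over.isoMk (Iso.refl _) (show 𝟙 b.left ≫ b.hom = 𝟙 b.left ≫ t from rfl)
    have hb : Q (y.obj b) ↔ Q ξ :=
      ⟨fun h => hc.of_iso (y.toFunctor.mapIso ib).symm h, fun h => hc.of_iso (y.toFunctor.mapIso ib) h⟩
    rw [hb]
    constructor
    · intro h
      obtain ⟨R, hR, hlift⟩ := exists_lifts_of_locImage g𝒳 z (BasedFunctor.comp (GrothLib.FibCat.overMap t) y) h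
      refine exists_factor_of_sieve j t hR fun T' f hf => ?_
      obtain ⟨l, ⟨σ⟩⟩ := hlift f hf
      let P := pullback (f ≫ t) c
      let p₁ : P ⟶ T' := pullback.fst _ _
      let p₂ : P ⟶ V := pullback.snd _ _
      obtain ⟨g', hg'⟩ := factor_of_iso_reduced w ι h𝒳 hw hr (p₂ ≫ lW) ((p₁ ≫ l) ≫ ι)
        ⟨(whiskerRightIso (overMapCompIso p₂ lW) w).symm ≪≫
          (whiskerLeftIso (GrothLib.FibCat.overMap p₂) κ).symm ≪≫
          whiskerRightIso (overMapCompIso p₂ c ≪≫ eqToIso (congrArg GrothLib.FibCat.overMap pullback.condition.symm) ≪≫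
            (overMapCompIso p₁ (f ≫ t)).symm ≪≫
            whiskerLeftIso (GrothLib.FibCat.overMap p₁) (overMapCompIso f t).symm) y ≪≫
          whiskerLeftIso (GrothLib.FibCat.overMap p₁) σ ≪≫
          whiskerRightIso (overMapCompIso p₁ l) z ≪≫ whiskerRightIso (overMapCompIso (p₁ ≫ l) ι) w⟩
        ⟨p₁ ≫ l, rfl⟩
      let d : P ⟶ D := pullback.lift p₂ g' hg'.symm
      obtain ⟨e, he⟩ := (AlgSp.yon S).map_surjective ((AlgSp.yon S).map d ≫ p ≫ inv fst)
      have sqP := GrothLib.AlgSp.isPullback_left (IsPullback.of_hasPullback (f ≫ t) c)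
      haveI : Flat p₁.left := MorphismProperty.of_isPullback sqP.flip (inferInstance : Flat c.left)
      haveI : LocallyOfFinitePresentation p₁.left :=
        MorphismProperty.of_isPullback sqP.flip (inferInstance : LocallyOfFinitePresentation c.left)
      haveI : Surjective p₁.left := MorphismProperty.of_isPullback sqP.flip hcsu
      refine GrothLib.AlgSp.exists_factor_of_fppf_cover j (f ≫ t) p₁ e ((AlgSp.yon S).map_injective ?_)
      rw [Functor.map_comp, he, hj, Category.assoc, Category.assoc, IsIso.inv_hom_id_assoc, hpi,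
        ← Functor.map_comp, ← Functor.map_comp, pullback.condition]
      exact congrArg _ ((Category.assoc _ _ _).symm.trans (congrArg (· ≫ c) (pullback.lift_fst _ _ _)))
    · rintro ⟨l, hl⟩
      let P := pullback t c
      let p₁ : P ⟶ b.left := pullback.fst _ _
      let p₂ : P ⟶ V := pullback.snd _ _
      obtain ⟨d, hd⟩ := (AlgSp.yon S).map_surjective (sqC.lift ((AlgSp.yon S).map (p₁ ≫ l) ≫ fst)
        ((AlgSp.yon S).map p₂) (by
          rw [Category.assoc, ← hj, ← Functor.map_comp, ← Functor.map_comp, Category.assoc, hl, pullback.condition]))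
      have hd2 : d ≫ ιD = p₂ := (AlgSp.yon S).map_injective (by rw [Functor.map_comp, hd, sqC.lift_snd])
      let σ : BasedFunctor.comp (GrothLib.FibCat.overMap (d ≫ pullback.snd lW ι)) z ≅
          BasedFunctor.comp (GrothLib.FibCat.overMap p₁) (BasedFunctor.comp (GrothLib.FibCat.overMap t) y) :=
        whiskerRightIso (overMapCompIso (d ≫ pullback.snd lW ι) ι ≪≫ eqToIso (congrArg GrothLib.FibCat.overMap
          (by rw [Category.assoc, ← pullback.condition, ← Category.assoc, hd2] :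
            (d ≫ pullback.snd lW ι) ≫ ι = p₂ ≫ lW)) ≪≫ (overMapCompIso p₂ lW).symm) w ≪≫
          (whiskerLeftIso (GrothLib.FibCat.overMap p₂) κ).symm ≪≫
          whiskerRightIso (overMapCompIso p₂ c ≪≫ eqToIso (congrArg GrothLib.FibCat.overMap pullback.condition.symm) ≪≫
            (overMapCompIso p₁ t).symm) y
      have sqP := GrothLib.AlgSp.isPullback_left (IsPullback.of_hasPullback t c)
      haveI : Flat p₁.left := MorphismProperty.of_isPullback sqP.flip (inferInstance : Flat c.left)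
      haveI : LocallyOfFinitePresentation p₁.left :=
        MorphismProperty.of_isPullback sqP.flip (inferInstance : LocallyOfFinitePresentation c.left)
      haveI : Surjective p₁.left := MorphismProperty.of_isPullback sqP.flip hcsu
      let R : Sieve b.left := Sieve.ofArrows (fun _ : PUnit.{u + 1} => P) (fun _ => p₁)
      have hR : R ∈ AlgSp.J S _ := GrothLib.AlgSp.ofArrows_mem _ _ (fun _ => inferInstanceAs (Flat p₁.left))
        (fun _ => inferInstanceAs (LocallyOfFinitePresentation p₁.left))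
        (fun x => ⟨PUnit.unit, p₁.left.surjective x⟩)
      refine mem_of_local h𝒳.isStack Q hc (isStack_locImage z _ h𝒳.isStack) hR
        (BasedFunctor.comp (GrothLib.FibCat.overMap t) y) (fun o ho => ?_) (Yon.idObj b.left)
      obtain ⟨_, d', _, ⟨⟨⟩⟩, hd'⟩ := ho
      let o₀ : (_root_.FibCat.overCat P).obj := Over.mk d'
      let ψ : (GrothLib.FibCat.overMap p₁).obj o₀ ≅ o := Over.isoMk (Iso.refl _) (by
        change 𝟙 _ ≫ o.hom = d' ≫ p₁
        rw [Category.id_comp, hd'])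
      exact hc.of_iso (isoApp σ o₀ ≪≫ (BasedFunctor.comp (GrothLib.FibCat.overMap t) y).toFunctor.mapIso ψ)
        (locImage_obj z _ ((GrothLib.FibCat.overMap (d ≫ pullback.snd lW ι)).obj o₀))
  have himm : IsClosedImm (subIncl 𝒳 Q) := fun U y => by
    obtain ⟨Z, j, hj, hZ⟩ := model U y
    haveI := hj
    haveI : Mono j := (Over.forget S).mono_of_mono_map (inferInstanceAs (Mono j.left))
    obtain ⟨E, hE, hE1, -⟩ := exists_model_of_factor g𝒳 hc y j hZ
    refine HasRep.of_equiv E hE (eqToIso hE1) ?_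
    refine ⟨⟨_, AlgSp.IsAlgSpace.yon_obj _⟩, toOverCat _, isEquivOver_toOverCat _, ?_⟩
    erw [spMapOfOver_overMap]
    exact (AlgSp.repWith_yon_map_iff _ _).2 hj
  have hA : IsAlgStack Scheme.fppfPrecoverage (fullSub 𝒳 Q) :=
    isAlgStack_of_repByAlgSp1 (isFibGrpd_fullSub g𝒳 hhom) h𝒳 _ (repByAlgSp1_of_repByAlgSpWith himm)
  -- the chart of the substack
  have hfac : ∀ b : (_root_.FibCat.overCat W).obj, Q (w.obj b) ↔ ∃ l : b.left ⟶ C, l ≫ ι = b.hom := by
    intro b
    let ib : (GrothLib.FibCat.overMap b.hom).obj (Yon.idObj b.left) ≅ b :=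
      Over.isoMk (Iso.refl _) (show 𝟙 b.left ≫ b.hom = 𝟙 b.left ≫ b.hom from rfl)
    constructor
    · intro h
      obtain ⟨R, hR, hlift⟩ := exists_lifts_of_locImage g𝒳 z (BasedFunctor.comp (GrothLib.FibCat.overMap b.hom) w)
        (hc.of_iso (w.toFunctor.mapIso ib).symm h)
      refine exists_factor_of_sieve ι b.hom hR fun T' f hf => ?_
      obtain ⟨l, ⟨σ⟩⟩ := hlift f hf
      exact factor_of_iso_reduced w ι h𝒳 hw hr (f ≫ b.hom) (l ≫ ι)
        ⟨(whiskerRightIso (overMapCompIso f b.hom) w).symm ≪≫ σ ≪≫ whiskerRightIso (overMapCompIso l ι) w⟩ ⟨l, rfl⟩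
    · rintro ⟨l, hl⟩
      exact hc.of_iso (w.toFunctor.mapIso (Over.isoMk (Iso.refl _) (by
          change 𝟙 _ ≫ b.hom = l ≫ ι
          rw [Category.id_comp, hl]) : (GrothLib.FibCat.overMap ι).obj (Over.mk l) ≅ b))
        (locImage_obj z _ (Over.mk l))
  obtain ⟨E, hE, -, -⟩ := exists_model_of_factor g𝒳 hc w ι hfac
  let z' := BasedFunctor.comp E (_root_.FibCat.fpSnd w (subIncl 𝒳 Q))
  have hzsm : RepByAlgSpWith (AlgSp.LocP @Smooth) z' :=
    repByAlgSpWith_equiv_comp E hE (repByAlgSpWith_fpSnd _ hw)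
  have hzsu : RepByAlgSpWith AlgSp.IsSurjectiveMor z' :=
    repByAlgSpWith_equiv_comp E hE (repByAlgSpWith_fpSnd _ hws)
  refine ⟨Q, ⟨hc, hA, himm⟩, Set.ext fun x => ⟨?_, fun hx => ?_⟩, fun U y hy => ?_⟩
  · rintro ⟨p, rfl⟩
    obtain ⟨u, rfl⟩ := surjective_ofChart hA.isStack.1 hzsu p
    obtain ⟨E', hE', hE1, hE2⟩ := exists_model_of_factor g𝒳 hc w ι hfac
    obtain ⟨q, hq⟩ : ∃ q, Points.ofChart z' u = Points.map z' q := ⟨_, ofChart_eq_map z' u⟩
    rw [hq, ← points_map_comp]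
    have e : Points.map (BasedFunctor.comp z' (subIncl 𝒳 Q)) q =
        Points.map w (Points.map (BasedFunctor.comp E (_root_.FibCat.fpFst w (subIncl 𝒳 Q))) q) := by
      rw [← points_map_comp]
      exact (points_map_congr (whiskerLeftIso E (_root_.FibCat.fpIso w (subIncl 𝒳 Q))) q).symm
    rw [e, map_eq_ofChart_pointOf]
    let o := Points.map (BasedFunctor.comp E (_root_.FibCat.fpFst w (subIncl 𝒳 Q))) q
    obtain ⟨o', ho'⟩ : ∃ o' : Points (_root_.FibCat.fp w (subIncl 𝒳 Q)),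
        Points.map (_root_.FibCat.fpFst w (subIncl 𝒳 Q)) o' = o := ⟨Points.map E q, (points_map_comp _ _ q).symm⟩
    obtain ⟨r, rfl⟩ := (points_map_bijective_of_isEquivOver (isFibGrpd_overCat C) E' hE').2 o'
    change pointOf o ∈ Points.ofChart w ⁻¹' T
    rw [← hr, ← ho', ← points_map_comp, hE1, map_eq_ofChart_pointOf]
    refine ⟨pointOf r, ?_⟩
    rw [show Points.ofChart (GrothLib.FibCat.overMap ι) (pointOf r) =
      Points.ofChart (BasedFunctor.id (_root_.FibCat.overCat W)) (ι.left (pointOf r)) from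
        ofChart_overMap ι (BasedFunctor.id _) _, pointOf_ofChart_id]
  · obtain ⟨v, rfl⟩ := surjective_ofChart g𝒳 hws x
    obtain ⟨u, hu⟩ := hr.ge (show v ∈ Points.ofChart w ⁻¹' T from hx)
    refine ⟨Points.ofChart (toChartImage z) u, ?_⟩
    rw [← hu, ← ofChart_overMap ι w, ofChart_eq_map (toChartImage z), ← points_map_comp]
    rfl
  · obtain ⟨V, c, l, hcsm, hcs, hl⟩ := exists_lift_chart_smooth y z' hy hzsm hzsu
    haveI := hcsm
    haveI := hcs
    haveI := hl
    haveI : IsReduced V.left := GrothLib.RedSmooth.isReduced_of_smooth l.left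
    exact GrothLib.RedSmooth.isReduced_of_flat_surjective_family (ι := PUnit.{u + 1}) (fun _ => c.left)
      (fun _ => inferInstance) (fun s => ⟨PUnit.unit, c.left.surjective s⟩) (fun _ => inferInstance)

end GrothLib.AlgSt
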