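import Groth.Agent.Lib.AlgSt.FieldImage

/-!
# Substacks with one point: uniqueness, existence, functoriality
-/

set_option autoImplicit false
set_option linter.style.haveILetI false
set_option backward.isDefEq.respectTransparency false
set_option backward.isDefEq.respectTransparency.types false

universe u

open CategoryTheory CategoryTheory.Limits AlgebraicGeometry Opposite

namespace GrothLib.AlgSt

open _root_.AlgSt GrothLib.FibCat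

variable {S : Scheme.{u}} {𝒳 𝒴 𝒵 : _root_.AlgSt.Cat S}

/-- An fppf chart from a field. -/
def HasFieldChart (𝒵 : _root_.AlgSt.Cat S) : Prop :=
  ∃ (k : Type u) (_ : Field k) (a : Spec (CommRingCat.of k) ⟶ S)
    (z : _root_.FibCat.overCat (Over.mk a) ⥤ᵇ 𝒵), RepByAlgSpWith (AlgSp.LocP @LocallyOfFinitePresentation) z ∧
      RepByAlgSpWith AlgSp.IsSurjectiveMor z ∧ RepByAlgSpWith (AlgSp.LocP @Flat) z

theorem HasFieldChart.props (h𝒵 : IsAlgStack Scheme.fppfPrecoverage 𝒵) (h : HasFieldChart 𝒵) :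
    SmoothLocally (fun T => IsReduced T) 𝒵 ∧ SmoothLocally (fun T => IsLocallyNoetherian T) 𝒵 ∧
      Nonempty (Points 𝒵) ∧ Subsingleton (Points 𝒵) := by
  obtain ⟨k, hk, a, z, hp, hs, hf⟩ := h
  obtain ⟨h1, h3, h4⟩ := reduced_singleton_of_fieldChart h𝒵 a z hs hf
  exact ⟨h1, smoothLocally_isLocallyNoetherian_of_fieldChart z hp hs hf, h3, h4⟩

theorem HasFieldChart.of_isEquivOver (e : 𝒵 ⥤ᵇ 𝒴) (he : _root_.FibCat.IsEquivOver e) (h : HasFieldChart 𝒵) :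
    HasFieldChart 𝒴 := by
  obtain ⟨k, hk, a, z, hp, hs, hf⟩ := h
  exact ⟨k, hk, a, BasedFunctor.comp z e, repByAlgSpWith_comp_equiv e he hp, repByAlgSpWith_comp_equiv e he hs,
    repByAlgSpWith_comp_equiv e he hf⟩

/-- The inclusion of an algebraic full substack is a monomorphism. -/
theorem isMono_subIncl (h𝒳 : IsAlgStack Scheme.fppfPrecoverage 𝒳) {Q : 𝒳.obj → Prop}
    (hA : IsAlgStack Scheme.fppfPrecoverage (fullSub 𝒳 Q)) : IsMono (subIncl 𝒳 Q) :=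
  isMono_of_repByAlgSp1_full _ (repByAlgSp1_of_faithful hA h𝒳 _)

/-- A substack with an fppf field chart lies in every algebraic substack containing its point. -/
theorem le_of_hasFieldChart (h𝒳 : IsAlgStack Scheme.fppfPrecoverage 𝒳) {Q Q' : 𝒳.obj → Prop}
    (hA : IsAlgStack Scheme.fppfPrecoverage (fullSub 𝒳 Q)) (hF : HasFieldChart (fullSub 𝒳 Q))
    (hc' : ObjectProperty.IsClosedUnderIsomorphisms Q') (hA' : IsAlgStack Scheme.fppfPrecoverage (fullSub 𝒳 Q'))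
    {p : Points (fullSub 𝒳 Q)} {p' : Points (fullSub 𝒳 Q')}
    (e : Points.map (subIncl 𝒳 Q) p = Points.map (subIncl 𝒳 Q') p') (ξ : 𝒳.obj) (h : Q ξ) : Q' ξ := by
  obtain ⟨k, hk, a, z, hp, hs, hf⟩ := hF
  let i := subIncl 𝒳 Q
  let i' := subIncl 𝒳 Q'
  let π := _root_.FibCat.fpFst i i'
  have hP := isAlgStack_fp h𝒳.isStack h𝒳.diag hA hA' i i'
  have hπ : IsMono π := repByAlgSpWith_fpFst i (isMono_subIncl h𝒳 hA')
  obtain ⟨w, -, -⟩ := exists_points_fp hA'.isStack.1 hA.isStack.1 h𝒳.isStack.1 i' i p p' e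
  haveI : Nonempty (Points (_root_.FibCat.fp i i')) := ⟨w⟩
  have he := IsEquivOver.ffEssSurjOver (isEquivOver_of_isMono_fieldChart hP hA π hπ z hp hs hf)
  obtain ⟨o, φ, -⟩ := he.essSurj ⟨ξ, h⟩
  exact hc'.of_iso (o.obj.iso.symm ≪≫ (subIncl 𝒳 Q).toFunctor.mapIso φ) o.obj.snd.property

/-- Substacks with fppf field charts at the same point agree. -/
theorem eq_of_hasFieldChart (h𝒳 : IsAlgStack Scheme.fppfPrecoverage 𝒳) {Q Q' : 𝒳.obj → Prop}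
    (hc : ObjectProperty.IsClosedUnderIsomorphisms Q) (hA : IsAlgStack Scheme.fppfPrecoverage (fullSub 𝒳 Q))
    (hF : HasFieldChart (fullSub 𝒳 Q))
    (hc' : ObjectProperty.IsClosedUnderIsomorphisms Q') (hA' : IsAlgStack Scheme.fppfPrecoverage (fullSub 𝒳 Q'))
    (hF' : HasFieldChart (fullSub 𝒳 Q'))
    {p : Points (fullSub 𝒳 Q)} {p' : Points (fullSub 𝒳 Q')}
    (e : Points.map (subIncl 𝒳 Q) p = Points.map (subIncl 𝒳 Q') p') (ξ : 𝒳.obj) : Q' ξ ↔ Q ξ :=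
  ⟨le_of_hasFieldChart h𝒳 hA' hF' hc hA e.symm ξ, le_of_hasFieldChart h𝒳 hA hF hc' hA' e ξ⟩

theorem repByAlgSpWith_lfp_fpFst_self {k : Type u} [Field k] {a : Spec (CommRingCat.of k) ⟶ S}
    (z : _root_.FibCat.overCat (Over.mk a) ⥤ᵇ 𝒳) (hl : RepByAlgSpWith (AlgSp.LocP @LocallyOfFiniteType) z) :
    RepByAlgSpWith (AlgSp.LocP @LocallyOfFinitePresentation) (_root_.FibCat.fpFst z z) := by
  let T : Over S := Over.mk a
  haveI : IsLocallyNoetherian T.left := inferInstanceAs (IsLocallyNoetherian (Spec (CommRingCat.of k)))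
  obtain ⟨F, e, he, hbl⟩ := hl T z
  let b := spMapOfOver (BasedFunctor.comp e (_root_.FibCat.fpFst z z))
  have hb : AlgSp.LocP @LocallyOfFinitePresentation b := by
    obtain ⟨V, q, qe, qs⟩ := F.property.atlas
    obtain ⟨g, hg⟩ := (AlgSp.yon S).map_surjective (q ≫ b)
    haveI : LocallyOfFiniteType g.left := hbl q (𝟙 _) g qe (AlgSp.repWith_id _ T) (by rw [Category.comp_id, hg])
    exact GrothLib.AlgSp.EtLocal.locP_of_chart GrothLib.AlgSp.EtLocal.lfp qe qs (AlgSp.repWith_id _ T) (h := g)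
      (by rw [Category.comp_id, hg]) (GrothLib.LocProp.locallyOfFinitePresentation_of_isLocallyNoetherian g.left)
  exact (repByAlgSpWith_iff_of_square (f := _root_.FibCat.fpFst z z) (f' := ofSpMap b) e (toOverCat T) he
    (isEquivOver_toOverCat T) (isoOfSpMapOfOver (BasedFunctor.comp e (_root_.FibCat.fpFst z z))).symm).2
    (repByAlgSpWith_ofSpMap F.property (AlgSp.IsAlgSpace.yon_obj T) b fun U d =>
      GrothLib.AlgSp.EtLocal.locP_of_isPullback GrothLib.AlgSp.EtLocal.lfp F.property (AlgSp.IsAlgSpace.yon_obj T)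
        (AlgSp.IsAlgSpace.yon_obj U) (IsPullback.of_hasPullback d b).flip hb)

/-- The substack with an fppf field chart of a stack with a flat surjective field chart. -/
theorem exists_fullSub_hasFieldChart (h𝒵 : IsAlgStack Scheme.fppfPrecoverage 𝒵) {k : Type u} [Field k]
    (a : Spec (CommRingCat.of k) ⟶ S) (z : _root_.FibCat.overCat (Over.mk a) ⥤ᵇ 𝒵)
    (hs : RepByAlgSpWith AlgSp.IsSurjectiveMor z) (hf : RepByAlgSpWith (AlgSp.LocP @Flat) z) :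
    ∃ Q : 𝒵.obj → Prop, ObjectProperty.IsClosedUnderIsomorphisms Q ∧
      IsAlgStack Scheme.fppfPrecoverage (fullSub 𝒵 Q) ∧ HasFieldChart (fullSub 𝒵 Q) ∧ IsMono (subIncl 𝒵 Q) := by
  obtain ⟨k', hk', a', w, hl, -, hwf⟩ := exists_lft_fieldChart h𝒵 a z hs hf
  have hlfp := repByAlgSpWith_lfp_fpFst_self w hl
  obtain ⟨hA, hi⟩ := isAlgStack_chartImage h𝒵 w hwf hlfp
  have h := repByAlgSpWith_fppf_toChartImage h𝒵 w hwf hlfp
  exact ⟨chartImage w, isClosedUnderIsomorphisms_locImage w _ h𝒵.isStack.1, hA,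
    ⟨k', hk', a', toChartImage w, repByAlgSpWith_mono (fun _ _ _ _ _ hb => hb.2) h,
      repByAlgSpWith_mono (fun _ _ _ _ _ hb => hb.1.1) h, repByAlgSpWith_mono (fun _ _ _ _ _ hb => hb.1.2) h⟩, hi⟩

/-- The strict image of a monomorphism. -/
theorem exists_equiv_fullSub_of_isMono (h𝒵 : IsAlgStack Scheme.fppfPrecoverage 𝒵)
    (h𝒳 : IsAlgStack Scheme.fppfPrecoverage 𝒳) (f : 𝒵 ⥤ᵇ 𝒳) (hf : IsMono f) :
    ∃ Q : 𝒳.obj → Prop, ObjectProperty.IsClosedUnderIsomorphisms Q ∧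
      IsAlgStack Scheme.fppfPrecoverage (fullSub 𝒳 Q) ∧ ∃ e : 𝒵 ⥤ᵇ fullSub 𝒳 Q,
        _root_.FibCat.IsEquivOver e ∧ BasedFunctor.comp e (subIncl 𝒳 Q) = f := by
  obtain ⟨hfu, hfa⟩ := full_faithful_of_isMono h𝒵.isStack.1 h𝒳.isStack.1 f hf
  let Q : 𝒳.obj → Prop := fun ξ => ∃ o, Nonempty (f.obj o ≅ ξ)
  let e := liftSub Q f fun o => ⟨o, ⟨Iso.refl _⟩⟩
  have he : _root_.FibCat.IsEquivOver e := by
    refine FFEssSurjOver.isEquivOver ⟨⟨fun {a b} ψ => ?_⟩, ⟨fun {a b φ ψ} h =>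
      hfa.map_injective (congrArg (fun t => t.hom) h)⟩, fun η => ?_⟩
    · obtain ⟨φ, hφ⟩ := hfu.map_surjective ψ.hom
      exact ⟨φ, ObjectProperty.hom_ext _ hφ⟩
    · obtain ⟨o, ⟨φ⟩⟩ := η.property
      let g : 𝒳.p.obj η.obj ⟶ 𝒵.p.obj o := 𝒳.p.map φ.inv ≫ eqToHom (f.w_obj o)
      obtain ⟨o', χ, hχ⟩ := h𝒵.isStack.1.exists_lift (x := o) g
      haveI : 𝒳.p.IsHomLift g (f.map χ) := @BasedFunctor.preserves_isHomLift _ _ _ _ f _ _ _ _ g χ hχ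
      haveI : 𝒳.p.IsHomLift g φ.inv :=
        IsHomLift.of_fac' _ _ _ rfl (f.w_obj o) (by simp [g])
      obtain ⟨i, hi, -⟩ := IsFibGrpd.exists_iso_of_lifts h𝒳.isStack.1 g φ.inv (f.map χ)
      exact ⟨o', (ObjectProperty.ι Q).preimageIso i, by
        refine IsHomLift.of_fac' _ _ _ ?_ rfl ?_
        · exact IsHomLift.domain_eq 𝒳.p (𝟙 (𝒳.p.obj η.obj)) i.hom
        · change 𝒳.p.map ((ObjectProperty.ι Q).map _) = _
          rw [Functor.preimageIso_hom, Functor.map_preimage]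
          exact IsHomLift.fac' 𝒳.p (𝟙 (𝒳.p.obj η.obj)) i.hom⟩
  exact ⟨Q, ⟨fun j ⟨o, ⟨φ⟩⟩ => ⟨o, ⟨φ ≪≫ j⟩⟩⟩, isAlgStack_of_isEquivOver e he h𝒵, e, he, rfl⟩

/-- A reduced one-point substack gives a residual gerbe. -/
theorem exists_isResGerbe_of_hasFieldChart (h𝒳 : IsAlgStack Scheme.fppfPrecoverage 𝒳) (x : Points 𝒳)
    (h𝒵 : IsAlgStack Scheme.fppfPrecoverage 𝒵) (hF : HasFieldChart 𝒵) (f : 𝒵 ⥤ᵇ 𝒳) (hf : IsMono f)
    (hfx : ∀ p, Points.map f p = x) :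
    ∃ Q : 𝒳.obj → Prop, Gerb.IsResGerbe Scheme.fppfPrecoverage 𝒳 x Q ∧
      (∀ Q' : 𝒳.obj → Prop, Gerb.IsResGerbe Scheme.fppfPrecoverage 𝒳 x Q' → ∀ ξ, Q' ξ ↔ Q ξ) ∧
      ∃ e : 𝒵 ⥤ᵇ fullSub 𝒳 Q, _root_.FibCat.IsEquivOver e ∧
        Nonempty (BasedFunctor.comp e (subIncl 𝒳 Q) ≅ f) := by
  obtain ⟨Q, hc, hA, e, he, hef⟩ := exists_equiv_fullSub_of_isMono h𝒵 h𝒳 f hf
  have hFQ := hF.of_isEquivOver e he
  obtain ⟨h1, h2, h3, h4⟩ := hFQ.props hA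
  haveI := h4
  have hx : ∀ z, Points.map (subIncl 𝒳 Q) z = x := fun z => by
    obtain ⟨p⟩ := (hF.props h𝒵).2.2.1
    rw [Subsingleton.elim z (Points.map e p), ← points_map_comp, hef]
    exact hfx p
  refine ⟨Q, ⟨hc, hA, h1, h2, h3, h4, hx⟩, fun Q' ⟨hc', hA', r1, r2, r3, r4, hx'⟩ => ?_, e, he,
    ⟨eqToIso hef⟩⟩
  obtain ⟨p⟩ := h3
  obtain ⟨p'⟩ := r3
  exact eq_of_hasFieldChart h𝒳 hc hA hFQ hc' hA' (exists_fppf_fieldChart hA' r1 r2 ⟨p'⟩ r4) ((hx p).trans (hx' p').symm)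

/-- A morphism induces one of residual gerbes. -/
theorem forall_mem_of_isResGerbe (h𝒳 : IsAlgStack Scheme.fppfPrecoverage 𝒳)
    (h𝒴 : IsAlgStack Scheme.fppfPrecoverage 𝒴) (f : 𝒳 ⥤ᵇ 𝒴) (x : Points 𝒳)
    (Q : 𝒳.obj → Prop) (hQ : Gerb.IsResGerbe Scheme.fppfPrecoverage 𝒳 x Q)
    (Q' : 𝒴.obj → Prop) (hQ' : Gerb.IsResGerbe Scheme.fppfPrecoverage 𝒴 (Points.map f x) Q') :
    ∀ η : (fullSub 𝒳 Q).obj, Q' ((BasedFunctor.comp (subIncl 𝒳 Q) f).obj η) := by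
  obtain ⟨hc, hA, h1, h2, h3, h4, hx⟩ := hQ
  obtain ⟨hc', hA', -, -, ⟨p'⟩, -, hx'⟩ := hQ'
  obtain ⟨k, hk, a, z, hzp, hzs, hzf⟩ := exists_fppf_fieldChart hA h1 h2 h3 h4
  let F := BasedFunctor.comp (subIncl 𝒳 Q) f
  obtain ⟨⟨o⟩, -⟩ := nonempty_subsingleton_points_overCat_field a
  obtain ⟨q, ⟨κ⟩⟩ := exists_factor_fullSub_field h𝒴 Q' hA' (isMono_subIncl h𝒴 hA') (BasedFunctor.comp z F)
    ⟨o, p', by
      rw [points_map_comp, points_map_comp, hx, hx']⟩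
  have key : ∀ η : (fullSub 𝒳 Q).obj, Q' (F.obj η) := fun η => by
    obtain ⟨y, j, -⟩ := Yon.exists_functor hA.isStack.1 η rfl
    obtain ⟨V, c, l, c1, c2, c3, ⟨i⟩⟩ := liftsFppf_of_repByAlgSpWith z hzf hzp hzs _ y
    let R : Sieve ((fullSub 𝒳 Q).p.obj η) := Sieve.ofArrows (fun _ : PUnit.{u + 1} => V) (fun _ => c)
    have hR : R ∈ AlgSp.J S _ := GrothLib.AlgSp.ofArrows_mem _ _ (fun _ => c1) (fun _ => c2)
      (fun x => ⟨PUnit.unit, c3.surj x⟩)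
    refine hc'.of_iso (F.toFunctor.mapIso j) (mem_of_local h𝒴.isStack Q' hc' hA'.isStack hR
      (BasedFunctor.comp y F) (fun b hb => ?_) (Yon.idObj _))
    obtain ⟨_, d, _, ⟨⟨⟩⟩, hd⟩ := hb
    let o₀ : (_root_.FibCat.overCat V).obj := Over.mk d
    let ψ : (GrothLib.FibCat.overMap c).obj o₀ ≅ b := Over.isoMk (Iso.refl _) (by
      change 𝟙 _ ≫ b.hom = d ≫ c
      rw [Category.id_comp, hd])
    exact hc'.of_iso (isoApp κ (l.obj o₀) ≪≫ F.toFunctor.mapIso ((isoApp i o₀).symm ≪≫ y.toFunctor.mapIso ψ))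
      (q.obj (l.obj o₀)).property
  exact key

theorem exists_fullSub_map_of_isResGerbe (h𝒳 : IsAlgStack Scheme.fppfPrecoverage 𝒳)
    (h𝒴 : IsAlgStack Scheme.fppfPrecoverage 𝒴) (f : 𝒳 ⥤ᵇ 𝒴) (x : Points 𝒳)
    (Q : 𝒳.obj → Prop) (hQ : Gerb.IsResGerbe Scheme.fppfPrecoverage 𝒳 x Q)
    (Q' : 𝒴.obj → Prop) (hQ' : Gerb.IsResGerbe Scheme.fppfPrecoverage 𝒴 (Points.map f x) Q') :
    ∃ g : fullSub 𝒳 Q ⥤ᵇ fullSub 𝒴 Q',
      Nonempty (BasedFunctor.comp g (subIncl 𝒴 Q') ≅ BasedFunctor.comp (subIncl 𝒳 Q) f) :=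
  ⟨liftSub Q' (BasedFunctor.comp (subIncl 𝒳 Q) f) (forall_mem_of_isResGerbe h𝒳 h𝒴 f x Q hQ Q' hQ'),
    ⟨Iso.refl _⟩⟩

end GrothLib.AlgSt
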