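import Groth.Agent.Lib.AlgSt.DiagPoints
import Groth.Agent.Lib.AlgSt.Topology
import Groth.Agent.Lib.FibCat.FiberFunctor
import Groth.Prelude.Def_StCoarse
import Groth.Prelude.Def_StGerb

/-!
# Gerbes and coarse moduli spaces
-/

set_option backward.isDefEq.respectTransparency false
set_option backward.isDefEq.respectTransparency.types false

universe u

open CategoryTheory CategoryTheory.Limits AlgebraicGeometry Opposite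

namespace GrothLib.AlgSt

open _root_.AlgSt GrothLib.FibCat

variable {S : Scheme.{u}}

/-- Fppf covering sieves of an algebraically closed point are trivial. -/
theorem top_of_mem_J_algClosed {Ω : Type u} [Field Ω] [IsAlgClosed Ω] {t : Spec (CommRingCat.of Ω) ⟶ S}
    {R : Sieve (Over.mk t)} (hR : R ∈ AlgSp.J S (Over.mk t)) : R (𝟙 (Over.mk t)) := by
  obtain ⟨R₀, hR₀, hle⟩ := Precoverage.mem_toGrothendieck_iff_of_isStableUnderComposition.1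
    (show Sieve.overEquiv _ R ∈ Scheme.fppfTopology (Over.mk t).left from hR)
  obtain ⟨Y, g, hg, y, -⟩ := Scheme.JointlySurjective.exists_eq
    (K := Scheme.precoverage (@Flat ⊓ @LocallyOfFinitePresentation)) R₀ hR₀ (IsLocalRing.closedPoint Ω)
  have : LocallyOfFinitePresentation g := ((hR₀ : R₀ ∈ Scheme.precoverage (@Flat ⊓ @LocallyOfFinitePresentation) _).2 hg).2
  have : JacobsonSpace ↥Y := by
    have : JacobsonSpace ↥(Over.mk t).left := inferInstanceAs (JacobsonSpace (Spec (CommRingCat.of Ω)))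
    exact LocallyOfFiniteType.jacobsonSpace g
  obtain ⟨x, -, hx⟩ := nonempty_inter_closedPoints (Z := (Set.univ : Set Y)) ⟨y, trivial⟩ isOpen_univ.isLocallyClosed
  have h1 : Sieve.overEquiv (Over.mk t) R (pointOfClosedPoint g x hx ≫ g) :=
    (Sieve.overEquiv _ R).downward_closed (hle Y g hg) _
  rw [pointOfClosedPoint_comp g x hx] at h1
  exact (Sieve.overEquiv_iff _ _).1 h1

variable {𝒳 𝒴 : _root_.AlgSt.Cat S} {M : AlgSp.Sp S}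

theorem sec_eq_of_lift {T : Over S} {a b : (ofSp M).obj} (ea : a.base = T) (eb : b.base = T) (f : a ⟶ b)
    (hf : f.hom = eqToHom ea ≫ eqToHom eb.symm) :
    M.obj.map (eqToHom ea.symm).op a.sec = M.obj.map (eqToHom eb.symm).op b.sec := by
  obtain ⟨A, sa⟩ := a
  obtain ⟨B, sb⟩ := b
  subst ea
  cases eb
  obtain ⟨fh, fs⟩ := f
  simp only [eqToHom_refl, Category.id_comp] at hf
  subst hf
  simp only [eqToHom_refl]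
  simp at fs ⊢
  exact fs.symm

/-- Sections of isomorphic objects agree. -/
theorem fibSec_eq_of_lift (π : 𝒳 ⥤ᵇ ofSp M) {T : Over S} (x y : 𝒳.p.Fiber T) (φ : x.1 ⟶ y.1)
    (hφ : 𝒳.p.IsHomLift (𝟙 T) φ) : fibSec π x = fibSec π y := by
  have h1 : (ofSp M).p.IsHomLift (𝟙 T) (π.map φ) := BasedFunctor.preserves_isHomLift π _ _
  exact sec_eq_of_lift ((π.w_obj x.1).trans x.2) ((π.w_obj y.1).trans y.2) (π.map φ)
    ((IsHomLift.fac' (ofSp M).p (𝟙 T) (π.map φ)).trans (congrArg (_ ≫ ·) (Category.id_comp _)))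

theorem fibSec_congr {π π' : 𝒳 ⥤ᵇ ofSp M} (α : π ≅ π') {T : Over S} (x : 𝒳.p.Fiber T) :
    fibSec π x = fibSec π' x := by
  have h1 : (ofSp M).p.IsHomLift (𝟙 T) (α.hom.app x.1) := BasedNatTrans.isHomLift α.hom x.2
  exact sec_eq_of_lift ((π.w_obj x.1).trans x.2) ((π'.w_obj x.1).trans x.2) (α.hom.app x.1)
    ((IsHomLift.fac' (ofSp M).p (𝟙 T) (α.hom.app x.1)).trans (congrArg (_ ≫ ·) (Category.id_comp _)))

/-- The image of an object of a fibre. -/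
def fibMap (F : 𝒳 ⥤ᵇ 𝒴) {T : Over S} (x : 𝒳.p.Fiber T) : 𝒴.p.Fiber T := ⟨F.obj x.1, (F.w_obj x.1).trans x.2⟩

theorem fibSec_comp (F : 𝒳 ⥤ᵇ 𝒴) (π : 𝒴 ⥤ᵇ ofSp M) {T : Over S} (x : 𝒳.p.Fiber T) :
    fibSec (BasedFunctor.comp F π) x = fibSec π (fibMap F x) := rfl

/-- Geometric fibres of a gerbe: objects lift, and isomorphic images come from isomorphic objects. -/
theorem gerbe_geomPt (g𝒳 : _root_.FibCat.IsFibGrpd 𝒳.p) (g𝒴 : _root_.FibCat.IsFibGrpd 𝒴.p) (F : 𝒳 ⥤ᵇ 𝒴)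
    (hF : Gerb.IsGerbeOver (AlgSp.J S) F) {Ω : Type u} [Field Ω] [IsAlgClosed Ω]
    (t : Spec (CommRingCat.of Ω) ⟶ S) :
    (∀ y : 𝒴.p.Fiber (Over.mk t), ∃ x : 𝒳.p.Fiber (Over.mk t), Nonempty (fibMap F x ≅ y)) ∧
      ∀ x x' : 𝒳.p.Fiber (Over.mk t), Nonempty (fibMap F x ≅ fibMap F x') → Nonempty (x ≅ x') := by
  refine ⟨fun ⟨y, hy⟩ => ?_, fun ⟨x, hx⟩ ⟨x', hx'⟩ ⟨b⟩ => ?_⟩
  · obtain ⟨R, hR, hl⟩ := hF.1 y
    have h1 : R (eqToHom hy.symm) := by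
      have := top_of_mem_J_algClosed ((AlgSp.J S).pullback_stable (eqToHom hy.symm) hR)
      simpa [Sieve.pullback_apply] using this
    obtain ⟨x, g, hg⟩ := hl _ h1
    have hx : 𝒳.p.obj x = Over.mk t := (F.w_obj x).symm.trans (IsHomLift.domain_eq 𝒴.p (eqToHom hy.symm) g)
    have hg' : 𝒴.p.IsHomLift (𝟙 (Over.mk t)) g := by
      refine IsHomLift.of_fac' _ _ _ ((F.w_obj x).trans hx) hy ?_
      rw [IsHomLift.fac' 𝒴.p (eqToHom hy.symm) g]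
      simp
    have := IsFibGrpd.isIso_of_isHomLift_id g𝒴 (R := Over.mk t) g
    exact ⟨⟨x, hx⟩, ⟨fiberIso (a := fibMap F ⟨x, hx⟩) (b := ⟨y, hy⟩) (asIso g) hg'⟩⟩
  · have hb : 𝒴.p.IsHomLift (𝟙 (𝒳.p.obj x)) b.hom.1 := by rw [hx]; exact b.hom.2
    obtain ⟨R, hR, hl⟩ := hF.2 x x' b.hom.1 hb
    have h1 : R (eqToHom hx.symm) := by
      have := top_of_mem_J_algClosed ((AlgSp.J S).pullback_stable (eqToHom hx.symm) hR)
      simpa [Sieve.pullback_apply] using this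
    obtain ⟨x₀, φ, ψ, hφ, hψ, -⟩ := hl _ h1
    have hφ' : 𝒳.p.IsHomLift (𝟙 (Over.mk t)) φ := by
      refine IsHomLift.of_fac' _ _ _ (IsHomLift.domain_eq 𝒳.p (eqToHom hx.symm) φ) hx ?_
      rw [IsHomLift.fac' 𝒳.p (eqToHom hx.symm) φ]
      simp
    have hψ' : 𝒳.p.IsHomLift (𝟙 (Over.mk t)) ψ := by
      refine IsHomLift.of_fac' _ _ _ (IsHomLift.domain_eq 𝒳.p (eqToHom hx.symm) ψ) hx' ?_
      rw [IsHomLift.fac' 𝒳.p (eqToHom hx.symm) ψ]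
      simp
    have := IsFibGrpd.isIso_of_isHomLift_id g𝒳 (R := Over.mk t) φ
    have := IsFibGrpd.isIso_of_isHomLift_id g𝒳 (R := Over.mk t) ψ
    have hs : 𝒳.p.IsHomLift (𝟙 (Over.mk t)) (inv φ ≫ ψ) := inferInstance
    exact ⟨fiberIso (a := ⟨x, hx⟩) (b := ⟨x', hx'⟩) ((asIso φ).symm ≪≫ asIso ψ) hs⟩

/-- A coarse moduli space of the base of a gerbe is one of the gerbe, and conversely. -/
theorem isCoarseModuli_iff_of_isGerbeOver (g𝒳 : _root_.FibCat.IsFibGrpd 𝒳.p) (g𝒴 : _root_.FibCat.IsFibGrpd 𝒴.p)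
    (F : 𝒳 ⥤ᵇ 𝒴) (hF : Gerb.IsGerbeOver (AlgSp.J S) F)
    (huniv : ∀ (N : AlgSp.Sp S), AlgSp.IsAlgSpace N → ∀ φ : 𝒳 ⥤ᵇ ofSp N,
      ∃ ψ : 𝒴 ⥤ᵇ ofSp N, Nonempty (BasedFunctor.comp F ψ ≅ φ) ∧
        ∀ ψ' : 𝒴 ⥤ᵇ ofSp N, Nonempty (BasedFunctor.comp F ψ' ≅ φ) → Nonempty (ψ' ≅ ψ)) :
    ((∃ (M : AlgSp.Sp S) (π : 𝒴 ⥤ᵇ ofSp M), IsCoarseModuli π) ↔
        ∃ (M : AlgSp.Sp S) (π : 𝒳 ⥤ᵇ ofSp M), IsCoarseModuli π) ∧
      ∀ (M : AlgSp.Sp S) (π : 𝒴 ⥤ᵇ ofSp M), IsCoarseModuli π → IsCoarseModuli (BasedFunctor.comp F π) := by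
  have fwd : ∀ (M : AlgSp.Sp S) (π : 𝒴 ⥤ᵇ ofSp M), IsCoarseModuli π →
      IsCoarseModuli (BasedFunctor.comp F π) := fun M π hπ => by
    refine ⟨⟨hπ.1.1, fun N hN φ => ?_⟩, fun Ω _ _ t => ⟨fun m => ?_, fun x x' h => ?_⟩⟩
    · obtain ⟨ψ, ⟨j⟩, huψ⟩ := huniv N hN φ
      obtain ⟨g, ⟨i⟩, hug⟩ := hπ.1.2 N hN ψ
      exact ⟨g, ⟨whiskerLeftIso F i ≪≫ j⟩, fun g' hg' => hug g' (huψ _ hg')⟩
    · obtain ⟨y, hy⟩ := (hπ.2 Ω t).1 m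
      obtain ⟨x, ⟨i⟩⟩ := (gerbe_geomPt g𝒳 g𝒴 F hF t).1 y
      exact ⟨x, (fibSec_eq_of_lift π _ _ i.hom.1 i.hom.2).trans hy⟩
    · exact (gerbe_geomPt g𝒳 g𝒴 F hF t).2 x x' ((hπ.2 Ω t).2 _ _ h)
  refine ⟨⟨fun ⟨M, π, hπ⟩ => ⟨M, _, fwd M π hπ⟩, fun ⟨M, π, hπ⟩ => ?_⟩, fwd⟩
  obtain ⟨ψ, ⟨j⟩, -⟩ := huniv M hπ.1.1 π
  refine ⟨M, ψ, ⟨hπ.1.1, fun N hN φ => ?_⟩, fun Ω _ _ t => ⟨fun m => ?_, fun y y' h => ?_⟩⟩
  · obtain ⟨ψ₁, -, huψ⟩ := huniv N hN (BasedFunctor.comp F φ)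
    obtain ⟨g, ⟨i⟩, hug⟩ := hπ.1.2 N hN (BasedFunctor.comp F φ)
    obtain ⟨a⟩ := huψ φ ⟨Iso.refl _⟩
    obtain ⟨b⟩ := huψ (BasedFunctor.comp ψ (ofSpMap g)) ⟨whiskerRightIso j (ofSpMap g) ≪≫ i⟩
    exact ⟨g, ⟨b ≪≫ a.symm⟩, fun g' ⟨i'⟩ => hug g' ⟨whiskerRightIso j.symm (ofSpMap g') ≪≫ whiskerLeftIso F i'⟩⟩
  · obtain ⟨x, hx⟩ := (hπ.2 Ω t).1 m
    exact ⟨fibMap F x, (fibSec_congr j x).trans hx⟩
  · obtain ⟨x, ⟨i⟩⟩ := (gerbe_geomPt g𝒳 g𝒴 F hF t).1 y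
    obtain ⟨x', ⟨i'⟩⟩ := (gerbe_geomPt g𝒳 g𝒴 F hF t).1 y'
    obtain ⟨e⟩ := (hπ.2 Ω t).2 x x' (by
      rw [← fibSec_congr j x, ← fibSec_congr j x', fibSec_comp, fibSec_comp,
        fibSec_eq_of_lift ψ _ _ i.hom.1 i.hom.2, fibSec_eq_of_lift ψ _ _ i'.hom.1 i'.hom.2, h])
    have : 𝒳.p.IsHomLift (𝟙 (Over.mk t)) e.hom.1 := e.hom.2
    exact ⟨i.symm ≪≫ fiberIso (a := fibMap F x) (b := fibMap F x')
      (F.toFunctor.mapIso (Functor.Fiber.fiberInclusion.mapIso e)) (BasedFunctor.preserves_isHomLift F _ e.hom.1) ≪≫ i'⟩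

end GrothLib.AlgSt
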