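import Groth.Agent.Lib.AlgSt.DescRep
import Groth.Agent.Lib.AlgSp.ImmersionDescent
import Groth.Agent.Lib.Stk.Descent
import Groth.Agent.Lib.Stk.Psh

/-!
# Immersions of algebraic stacks descend along flat, locally finitely presented surjections
-/

set_option backward.isDefEq.respectTransparency false
set_option backward.isDefEq.respectTransparency.types false

universe u

open CategoryTheory CategoryTheory.Limits AlgebraicGeometry Opposite

namespace GrothLib.AlgSt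

open _root_.AlgSt GrothLib.FibCat

variable {S : Scheme.{u}}

/-- The fibre product over `(Sch/U)` at objects over the same base. -/
theorem isFibSetoid_of_cover {U V : Over S} (c : V ⟶ U) {A : _root_.AlgSt.Cat S}
    (hA : _root_.FibCat.IsFibGrpd A.p) (π : A ⥤ᵇ _root_.FibCat.overCat U)
    (hf : Flat c.left) (hp : LocallyOfFinitePresentation c.left) (hs : Surjective c.left)
    (hpre : ∀ (T : Over S) (R : Sieve T), R ∈ AlgSp.J S T → (_root_.Stk.resSieve R A).Faithful)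
    (hB : _root_.FibCat.IsFibSetoid (_root_.FibCat.fp (GrothLib.FibCat.overMap c) π).p) :
    _root_.FibCat.IsFibSetoid A.p := by
  refine ⟨hA, fun T a b => ⟨fun φ ψ => ?_⟩⟩
  obtain ⟨a, ha⟩ := a
  obtain ⟨b, hb⟩ := b
  obtain ⟨φ, hφ⟩ := φ
  obtain ⟨ψ, hψ⟩ := ψ
  dsimp only at hφ hψ
  refine Functor.Fiber.hom_ext ?_
  change φ = ψ
  have hT : (π.obj a).left = T := (π.w_obj a).trans ha
  have hR : (Sieve.ofArrows (fun _ : PUnit.{u + 1} => V) (fun _ => c)).pullback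
      (eqToHom hT.symm ≫ (π.obj a).hom) ∈ AlgSp.J S T :=
    (AlgSp.J S).pullback_stable _ (GrothLib.AlgSp.ofArrows_mem _ _ (fun _ => hf) (fun _ => hp)
      fun x => ⟨PUnit.unit, hs.surj x⟩)
  refine GrothLib.Stk.hom_ext_cover_id hA (hpre _ _ hR) φ ψ fun V' f hfR => ?_
  obtain ⟨_, k, _, ⟨⟨⟩⟩, hk⟩ := hfR
  obtain ⟨a', κ, hκ⟩ := IsFibGrpd.exists_lift_of_eq hA ha f
  obtain ⟨b', κb, hκb⟩ := IsFibGrpd.exists_lift_of_eq hA hb f
  refine ⟨a', κ, hκ, ?_⟩
  have hl1 : A.p.IsHomLift (𝟙 V' ≫ f) (κ ≫ φ) := by rw [Category.id_comp]; infer_instance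
  have hl2 : A.p.IsHomLift (𝟙 V' ≫ f) (κ ≫ ψ) := by rw [Category.id_comp]; infer_instance
  obtain ⟨φ', ⟨hφ', eφ⟩, -⟩ := IsFibGrpd.existsUnique_lift hA f (𝟙 V') κb (κ ≫ φ)
  obtain ⟨ψ', ⟨hψ', eψ⟩, -⟩ := IsFibGrpd.existsUnique_lift hA f (𝟙 V') κb (κ ≫ ψ)
  have ea : (π.obj a').left = V' := (π.w_obj a').trans (IsHomLift.domain_eq A.p (𝟙 V') φ')
  have eb : (π.obj b').left = V' := (π.w_obj b').trans (IsHomLift.codomain_eq A.p (𝟙 V') φ')
  have hκ' : (_root_.FibCat.overCat U).p.IsHomLift f (π.map κ) := inferInstance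
  have hmκ : (π.map κ).left = eqToHom ea ≫ f ≫ eqToHom hT.symm := IsHomLift.fac' (_root_.FibCat.overCat U).p f (π.map κ)
  have hφ'π : (π.map φ').left = eqToHom ea ≫ 𝟙 V' ≫ eqToHom eb.symm := by
    have : (_root_.FibCat.overCat U).p.IsHomLift (𝟙 V') (π.map φ') := inferInstance
    exact IsHomLift.fac' (_root_.FibCat.overCat U).p (𝟙 V') (π.map φ')
  have hψ'π : (π.map ψ').left = eqToHom ea ≫ 𝟙 V' ≫ eqToHom eb.symm := by
    have : (_root_.FibCat.overCat U).p.IsHomLift (𝟙 V') (π.map ψ') := inferInstance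
    exact IsHomLift.fac' (_root_.FibCat.overCat U).p (𝟙 V') (π.map ψ')
  have wa : (π.obj a').hom = (eqToHom ea ≫ k) ≫ c := by
    rw [← Over.w (π.map κ), hmκ]
    simp only [Category.assoc, ← hk]
  have wb : (π.obj b').hom = (eqToHom eb ≫ k) ≫ c := by
    have h1 := Over.w (π.map φ')
    rw [hφ'π, wa] at h1
    have h2 := congrArg (fun t => eqToHom (ea.trans eb.symm).symm ≫ t) h1
    simpa using h2
  let ja : (GrothLib.FibCat.overMap c).obj (Over.mk (eqToHom ea ≫ k)) ≅ π.obj a' :=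
    Over.isoMk (Iso.refl _) ((Category.id_comp _).trans wa)
  let jb : (GrothLib.FibCat.overMap c).obj (Over.mk (eqToHom eb ≫ k)) ≅ π.obj b' :=
    Over.isoMk (Iso.refl _) ((Category.id_comp _).trans wb)
  let Ba : (_root_.FibCat.fp (GrothLib.FibCat.overMap c) π).obj :=
    Fp.mk (Over.mk (eqToHom ea ≫ k)) a' ja (IsHomLift.of_fac' _ _ _ rfl rfl (by simp [ja]; rfl))
  let Bb : (_root_.FibCat.fp (GrothLib.FibCat.overMap c) π).obj :=
    Fp.mk (Over.mk (eqToHom eb ≫ k)) b' jb (IsHomLift.of_fac' _ _ _ rfl rfl (by simp [jb]; rfl))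
  let t : Ba.obj.fst ⟶ Bb.obj.fst := Over.homMk (eqToHom (ea.trans eb.symm)) (by
    change eqToHom _ ≫ eqToHom eb ≫ k = eqToHom ea ≫ k
    simp)
  have wt : ∀ {χ : a' ⟶ b'}, (π.map χ).left = eqToHom ea ≫ 𝟙 V' ≫ eqToHom eb.symm →
      (GrothLib.FibCat.overMap c).map t ≫ Bb.obj.iso.hom = Ba.obj.iso.hom ≫ π.map χ := fun {χ} hχ => by
    refine Over.OverMorphism.ext ?_
    change eqToHom (ea.trans eb.symm) ≫ 𝟙 _ = 𝟙 _ ≫ (π.map χ).left
    rw [hχ]
    simp
  let Φ : Ba ⟶ Bb := Fp.homMk t φ' (wt hφ'π)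
  let Ψ : Ba ⟶ Bb := Fp.homMk t ψ' (wt hψ'π)
  have : Φ = Ψ := IsFibSetoid.hom_ext hB rfl
  have e : φ' = ψ' := congrArg (fun x => x.hom.snd) this
  rw [← eφ, ← eψ, e]

/-- A category fibred in groupoids over `(Sch/U)` whose base change to an fppf cover is an immersion is one. -/
theorem hasRep_of_cover_isImmersion {P : MorphismProperty Scheme.{u}} [P.RespectsIso] (hle : P ≤ @IsImmersion)
    (hP : GrothLib.AlgSp.FppfDescends P) {U V : Over S} (c : V ⟶ U) (hf : Flat c.left)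
    (hp : LocallyOfFinitePresentation c.left) (hs : Surjective c.left)
    {A : _root_.AlgSt.Cat S} (hA : _root_.Stk.IsStack (AlgSp.J S) A) (π : A ⥤ᵇ _root_.FibCat.overCat U)
    (h : HasRep (AlgSp.RepWith P) (_root_.FibCat.fpFst (GrothLib.FibCat.overMap c) π)) :
    HasRep (AlgSp.RepWith P) π := by
  obtain ⟨F₀, e₀, he₀, h₀⟩ := h
  have hset := isFibSetoid_of_cover c hA.1 π hf hp hs
    (fun T R hR => ((GrothLib.Stk.IsStack.isPrestack hA).2 R hR).2) (isFibSetoid_of_repByAlgSp ⟨F₀, e₀, he₀⟩)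
  obtain ⟨Q₀, e, he⟩ := exists_ofPsh hset
  have hQ₀ : Presheaf.IsSheaf (AlgSp.J S) Q₀ :=
    (isSheaf_iff_isSheaf_of_type _ _).2 ((GrothLib.Stk.isStack_ofPsh_iff _).1
      ((GrothLib.Stk.isStack_iff_of_isEquivOver _ e he).2 hA))
  let Q : AlgSp.Sp S := ⟨Q₀, hQ₀⟩
  let a : Q ⟶ (AlgSp.yon S).obj U := spMapOfOver (F := Q) (BasedFunctor.comp e π)
  let cm := (AlgSp.yon S).map c
  obtain ⟨ic⟩ := iso_toOverCat_overMap c
  have := IsEquivOver.full (isEquivOver_toOverCat U)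
  have := IsEquivOver.faithful (isEquivOver_toOverCat U)
  let sq := IsPullback.of_hasPullback cm a
  let M := Fp.map (F := ofSpMap cm) (G := ofSpMap a) (toOverCat V) e (toOverCat U) ic
    (isoOfSpMapOfOver (F := Q) (BasedFunctor.comp e π))
  let E := BasedFunctor.comp (spToFp sq.w) M
  have hE : _root_.FibCat.IsEquivOver E := IsEquivOver.comp (isEquivOver_spToFp sq)
    (Fp.isEquivOver_map _ _ _ _ _ (isEquivOver_toOverCat V) he)
  obtain ⟨E', hE', -, -⟩ := IsEquivOver.symm hE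
  have := isIso_spHom (IsEquivOver.comp he₀ hE')
  have hL : AlgSp.IsAlgSpace (pullback cm a) :=
    F₀.property.of_iso (asIso (spHom (BasedFunctor.comp e₀ E')))
  have hm : AlgSp.RepWith P (pullback.fst cm a) := spMapOfOver_toOverCat (pullback.fst cm a) ▸
    HasRep.mem ⟨F₀, e₀, he₀, h₀⟩
      (fun _ _ _ _ _ φ _ b hb => GrothLib.AlgSp.repWith_of_isPullback (IsPullback.of_horiz_isIso (fst := φ) ⟨by simp⟩ : IsPullback φ (φ ≫ b) b (𝟙 _)) hb) ⟨_, hL⟩ E hE
  have : Sheaf.IsLocallySurjective cm := GrothLib.AlgSp.isLocallySurjective_of_repWith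
    ((AlgSp.repWith_yon_map_iff _ _).2 hf) ((AlgSp.repWith_yon_map_iff _ _).2 hp)
    ((AlgSp.repWith_yon_map_iff _ _).2 hs)
  have ha : AlgSp.RepWith P a := GrothLib.AlgSp.repWith_of_base_isImmersion cm sq.flip hle hP hm
  exact ⟨⟨Q, GrothLib.AlgSp.isAlgSpace_of_representable (AlgSp.IsAlgSpace.yon_obj U) ha.1⟩, e, he, ha⟩

/-- Immersions are checked after base change to a flat, locally finitely presented covering. -/
theorem repByAlgSpWith_imm_iff {P : MorphismProperty Scheme.{u}} [P.RespectsIso] [P.IsStableUnderBaseChange]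
    (hle : P ≤ @IsImmersion) (hP : GrothLib.AlgSp.FppfDescends P)
    {𝒳 𝒴 : _root_.AlgSt.Cat S} (h𝒳 : IsAlgStack Scheme.fppfPrecoverage 𝒳)
    (h𝒴 : IsAlgStack Scheme.fppfPrecoverage 𝒴) (f : 𝒳 ⥤ᵇ 𝒴) (W : AlgSp.Space S) (w : ofSp W.obj ⥤ᵇ 𝒴)
    (hw₁ : RepByAlgSpWith (AlgSp.LocP @Flat) w)
    (hw₂ : RepByAlgSpWith (AlgSp.LocP @LocallyOfFinitePresentation) w)
    (hw₃ : RepByAlgSpWith AlgSp.IsSurjectiveMor w) :
    RepByAlgSpWith (AlgSp.RepWith P) f ↔
      ∃ (V : AlgSp.Space S) (a : V ⟶ W) (e : ofSp V.obj ⥤ᵇ _root_.FibCat.fp w f),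
        _root_.FibCat.IsEquivOver e ∧
          Nonempty (BasedFunctor.comp e (_root_.FibCat.fpFst w f) ≅ ofSpMap a.hom) ∧ AlgSp.RepWith P a.hom := by
  have hiso : IsoInvariant (AlgSp.RepWith (S := S) P) := fun _ _ _ _ _ φ _ b hb =>
    GrothLib.AlgSp.repWith_of_isPullback
      (IsPullback.of_horiz_isIso (fst := φ) ⟨by simp⟩ : IsPullback φ (φ ≫ b) b (𝟙 _)) hb
  constructor
  · intro hf
    obtain ⟨V, e, he⟩ := repByAlgSp_fp_of_repByAlgSp1 h𝒳.isStack.1 h𝒴.isStack.1 f w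
      (repByAlgSp1_of_repByAlgSpWith hf) ⟨W, BasedFunctor.id _, IsEquivOver.refl _⟩
    let Φ := BasedFunctor.comp e (_root_.FibCat.fpFst w f)
    exact ⟨V, ObjectProperty.homMk (spHom Φ), e, he, ⟨isoOfSpHom Φ⟩,
      mem_of_repByAlgSpWith (detectedBySchemes_repWith P) hiso hf w W (BasedFunctor.id _) (IsEquivOver.refl _)
        V e he (spHom Φ) (isoOfSpHom Φ)⟩
  · rintro ⟨V, a, e, he, ⟨i⟩, ha⟩
    have hπ : RepByAlgSpWith (AlgSp.RepWith P) (_root_.FibCat.fpFst w f) :=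
      (repByAlgSpWith_iff_of_square (f := _root_.FibCat.fpFst w f) (f' := ofSpMap a.hom) e (BasedFunctor.id _) he
        (IsEquivOver.refl _) i.symm).2
        (repByAlgSpWith_ofSpMap V.property W.property _ fun U c =>
          GrothLib.AlgSp.repWith_of_isPullback (IsPullback.of_hasPullback c a.hom).flip ha)
    intro U y
    obtain ⟨T, c, l, h1, h2, h3, ⟨j⟩⟩ := liftsFppf_of_repByAlgSpWith w hw₁ hw₂ hw₃ U y
    have gA : _root_.FibCat.IsFibGrpd (_root_.FibCat.fp y f).p :=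
      Fp.isFibGrpd (isFibSetoid_of_repByAlgSp (repByAlgSp_overCat U)).1 h𝒳.isStack.1 h𝒴.isStack.1
    have hA : _root_.Stk.IsStack (AlgSp.J S) (_root_.FibCat.fp y f) :=
      ⟨gA, fun U' R hR => GrothLib.Stk.isStackFor_fp y f
        ((isStack_of_repByAlgSp (repByAlgSp_overCat U)).2 R hR) (h𝒳.isStack.2 R hR)
        ((GrothLib.Stk.IsStack.isPrestack h𝒴.isStack).2 R hR)⟩
    refine hasRep_of_cover_isImmersion hle hP c h1 h2 h3 hA (_root_.FibCat.fpFst y f) ?_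
    have h' : HasRep (AlgSp.RepWith P) (_root_.FibCat.fpFst (BasedFunctor.comp (GrothLib.FibCat.overMap c) y) f) :=
      HasRep.of_equiv (BasedFunctor.comp (Fp.paste f w l) (Fp.congr j.symm (Iso.refl f)))
        (IsEquivOver.comp (Fp.isEquivOver_paste f w l) (Fp.isEquivOver_congr _ _)) (Iso.refl _) (hπ T l)
    exact HasRep.of_equiv' (Fp.paste f y (GrothLib.FibCat.overMap c))
      (Fp.isEquivOver_paste f y (GrothLib.FibCat.overMap c)) (Iso.refl _) h'

end GrothLib.AlgSt
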