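import Groth.Agent.Lib.AlgSt.NoethStack
import Groth.Agent.Lib.AlgSt.DescRep
import Groth.Agent.Lib.AlgSt.QCMor

/-!
# Immersions into locally Noetherian algebraic stacks are quasi-compact
-/

set_option backward.isDefEq.respectTransparency false
set_option backward.isDefEq.respectTransparency.types false

universe u

open CategoryTheory CategoryTheory.Limits AlgebraicGeometry Opposite

namespace GrothLib.AlgSt

open _root_.AlgSt GrothLib.FibCat

variable {S : Scheme.{u}}

theorem repWith_quasiCompact_of_isImmersion_noetherian {F : AlgSp.Sp S} {W : Over S}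
    [IsLocallyNoetherian W.left] (a : F ⟶ (AlgSp.yon S).obj W) (h : AlgSp.RepWith @IsImmersion a) :
    AlgSp.RepWith @QuasiCompact a := by
  obtain ⟨V, fst, snd, sq⟩ := GrothLib.AlgSp.exists_isPullback_of_representable h.1 (𝟙 _)
  have hi : IsImmersion snd.left := h.2 _ fst snd sq
  have hq : QuasiCompact snd.left := by rw [← snd.left.liftCoborder_ι]; infer_instance
  have : IsIso fst := sq.isIso_fst_of_isIso
  refine GrothLib.AlgSp.repWith_of_isPullback (IsPullback.of_horiz_isIso ⟨?_⟩)
    ((AlgSp.repWith_yon_map_iff @QuasiCompact snd).2 hq) (g := 𝟙 _) (g' := inv fst)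
  rw [IsIso.inv_comp_eq, Category.comp_id]
  exact sq.w.trans (Category.comp_id _) |>.symm

variable {𝒳 𝒴 : _root_.AlgSt.Cat S}

/-- The base change of an immersion to a locally Noetherian scheme is quasi-compact. -/
theorem repByAlgSpWith_isQuasiCompactMor_fpFst_of_isImm {W : Over S} [IsLocallyNoetherian W.left]
    (w : _root_.FibCat.overCat W ⥤ᵇ 𝒴) (j : 𝒳 ⥤ᵇ 𝒴) (hj : IsImm j) :
    RepByAlgSpWith AlgSp.IsQuasiCompactMor (_root_.FibCat.fpFst w j) := by
  obtain ⟨F, e, he, ha⟩ := hj W w
  let Φ := BasedFunctor.comp e (_root_.FibCat.fpFst w j)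
  have ha' : AlgSp.IsQuasiCompactMor (spMapOfOver Φ) :=
    GrothLib.AlgSp.isQuasiCompactMor_of_repWith (repWith_quasiCompact_of_isImmersion_noetherian _ ha)
  refine (repByAlgSpWith_iff_of_square (f := _root_.FibCat.fpFst w j) (f' := ofSpMap (spMapOfOver Φ)) e
    (toOverCat W) he (isEquivOver_toOverCat W) (isoOfSpMapOfOver Φ).symm).2 ?_
  refine repByAlgSpWith_ofSpMap F.property (AlgSp.IsAlgSpace.yon_obj W) _ fun U c => ?_
  exact GrothLib.AlgSp.isQuasiCompactMor_of_repWith (GrothLib.AlgSp.repWith_of_isPullback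
    (IsPullback.of_hasPullback c (spMapOfOver Φ)).flip (repWith_quasiCompact_of_isImmersion_noetherian _ ha))

/-- An immersion into a locally Noetherian algebraic stack is quasi-compact. -/
theorem repByAlgSpWith_isQuasiCompactMor_of_isImm (h𝒴 : IsAlgStack Scheme.fppfPrecoverage 𝒴) (j : 𝒳 ⥤ᵇ 𝒴)
    (hj : IsImm j) (hN : SmoothLocally (fun T ↦ IsLocallyNoetherian T) 𝒴) :
    RepByAlgSpWith AlgSp.IsQuasiCompactMor j := by
  obtain ⟨W, w, hw, hws⟩ := h𝒴.atlas
  have : IsLocallyNoetherian W.left := hN W w hw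
  refine repByAlgSpWith_of_fpFst isoInvariant_isQuasiCompactMor descendsToSchemes_isQuasiCompactMor
    (repByAlgSp1_of_repByAlgSpWith hj)
    (liftsFppf_of_repByAlgSpWith w ?_ ?_ hws) (repByAlgSpWith_isQuasiCompactMor_fpFst_of_isImm w j hj)
  · exact repByAlgSpWith_mono (fun _ _ _ _ _ h => GrothLib.AlgSp.locP_mono (fun _ _ f hf => by
      have : Smooth f := hf
      exact (inferInstance : Flat f)) h) hw
  · exact repByAlgSpWith_mono (fun _ _ _ _ _ h => GrothLib.AlgSp.locP_mono (fun _ _ f hf => by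
      have : Smooth f := hf
      exact (inferInstance : LocallyOfFinitePresentation f)) h) hw

end GrothLib.AlgSt
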