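import Groth.Agent.Lib.AlgSt.InertiaDiag
import Groth.Agent.Lib.AlgSt.AffineStk
import Groth.Agent.Lib.AlgSp.ThickGlobal
import Groth.Agent.Lib.AlgSt.LocP
import Groth.Agent.Lib.AlgSp.ProperSub
import Groth.Prelude.Def_AlgSt3

/-!
# Inertia over a space, and finiteness from properness and quasi-finiteness
-/

set_option backward.isDefEq.respectTransparency false
set_option backward.isDefEq.respectTransparency.types false

universe u

open CategoryTheory CategoryTheory.Limits AlgebraicGeometry Opposite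

namespace GrothLib.AlgSt

open _root_.AlgSt GrothLib.FibCat

variable {S : Scheme.{u}} {𝒳 : _root_.AlgSt.Cat S} {M : AlgSp.Sp S} (π : 𝒳 ⥤ᵇ ofSp M)

/-- A vertical automorphism is killed by a functor to a space. -/
def toInertiaOfSp :
    _root_.FibCat.inertia (_root_.FibCat.toSelf 𝒳) ⥤ᵇ _root_.FibCat.inertia π where
  toFunctor :=
    { obj := fun x => ⟨x.pt, x.aut, Stk.EltObj.hom_ext (by
        have h : 𝒳.p.map x.aut.hom = 𝟙 _ := x.map_aut
        refine (GrothLib.FibCat.p_map_map π x.aut.hom).trans ?_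
        rw [h]
        simp)⟩
      map := fun f => ⟨f.hom, f.comm⟩ }
  w := rfl

theorem isEquivOver_toInertiaOfSp : _root_.FibCat.IsEquivOver (toInertiaOfSp π) := by
  refine FFEssSurjOver.isEquivOver ⟨⟨fun {x y} ψ => ⟨⟨ψ.hom, ψ.comm⟩, rfl⟩⟩,
    ⟨fun {x y φ ψ} h => ?_⟩, fun o => ?_⟩
  · exact _root_.FibCat.InertiaObj.hom_ext (congrArg (fun t => t.hom) h)
  · have h : 𝒳.p.map o.aut.hom = 𝟙 _ := by
      have e := congrArg (fun t => eqToHom (π.w_obj o.pt).symm ≫ t ≫ eqToHom (π.w_obj o.pt))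
        ((GrothLib.FibCat.p_map_map π o.aut.hom).symm.trans (congrArg (ofSp M).p.map o.map_aut))
      simpa using e
    exact ⟨⟨o.pt, o.aut, h⟩, Iso.refl _, IsHomLift.id rfl⟩

theorem repByAlgSpWith_inertiaToBase_ofSp_iff {P : MorphismProperty (AlgSp.Sp S)} :
    RepByAlgSpWith P (_root_.FibCat.inertiaToBase π) ↔
      RepByAlgSpWith P (_root_.FibCat.inertiaToBase (_root_.FibCat.toSelf 𝒳)) :=
  repByAlgSpWith_iff_of_square (toInertiaOfSp π) (BasedFunctor.id 𝒳) (isEquivOver_toInertiaOfSp π)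
    (IsEquivOver.refl 𝒳) (Iso.refl _)

theorem isoInvariant_isProperMor : IsoInvariant (AlgSp.IsProperMor (S := S)) :=
  isoInvariant_of_stableSp fun _ _ _ _ hX hY _ hY' _ _ _ _ sq h =>
    GrothLib.AlgSp.isProperMor_of_isPullback hX hY hY' sq h

/-- A quasi-DM stack with separated map to a space has finite inertia. -/
theorem finite_inertia_of_separated (hqf : IsQuasiDMOver 𝒳) (hsep : _root_.AlgSt.IsSeparatedMor π) :
    RepByAlgSpWith AlgSp.IsFiniteMor (_root_.FibCat.inertiaToBase (_root_.FibCat.toSelf 𝒳)) := by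
  have hp : RepByAlgSpWith AlgSp.IsProperMor (_root_.FibCat.inertiaToBase (_root_.FibCat.toSelf 𝒳)) :=
    (repByAlgSpWith_inertiaToBase_ofSp_iff π).1
      ((repByAlgSpWith_inertiaToBase_iff π).2 (repByAlgSpWith_fpFst _ hsep))
  have hq : RepByAlgSpWith (AlgSp.LocP (@LocallyQuasiFinite ⊓ @LocallyOfFiniteType))
      (_root_.FibCat.inertiaToBase (_root_.FibCat.toSelf 𝒳)) :=
    (repByAlgSpWith_inertiaToBase_iff _).2 (repByAlgSpWith_fpFst _ hqf)
  refine repByAlgSpWith_mono (fun X Y f hX hY h => ?_) (repByAlgSpWith_inf isoInvariant_isProperMor hp hq)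
  exact GrothLib.AlgSp.isFiniteMor_iff.2 (GrothLib.AlgSp.repWith_isFinite_of_proper_lqf hX hY h.1 h.2)

end GrothLib.AlgSt
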