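import Groth.Agent.Lib.AlgSt.MonoDenseLift
import Groth.Agent.Lib.AlgSp.UnramMono
import Groth.Agent.Lib.AlgSt.LocQRep
import Groth.Agent.Lib.AlgSt.DiagLFT
import Groth.Agent.Lib.AlgSt.DescRep
import Groth.Agent.Lib.AlgSt.NoethStack

/-!
# Scheme models of base changes of monomorphisms locally of finite presentation
-/

set_option backward.isDefEq.respectTransparency false
set_option backward.isDefEq.respectTransparency.types false

universe u

open CategoryTheory CategoryTheory.Limits AlgebraicGeometry Opposite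

namespace GrothLib.AlgSt

open _root_.AlgSt GrothLib.FibCat

variable {S : Scheme.{u}} {𝒳 𝒴 : _root_.AlgSt.Cat S}

/-- A scheme with the base change of `f` to a chart. -/
structure BCModel (f : 𝒴 ⥤ᵇ 𝒳) {W : Over S} (w : _root_.FibCat.overCat W ⥤ᵇ 𝒳) (V : Over S) (m : V ⟶ W) where
  Φ : _root_.FibCat.overCat V ⥤ᵇ _root_.FibCat.fp w f
  equiv : _root_.FibCat.IsEquivOver Φ
  iso : BasedFunctor.comp Φ (_root_.FibCat.fpFst w f) ≅ _root_.AlgSt.overMap m

theorem exists_bcModel_mono (f : 𝒴 ⥤ᵇ 𝒳) (hlfp : RepByAlgSpWith (AlgSp.LocP @LocallyOfFinitePresentation) f)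
    (ha : IsMono f) {W : Over S} (w : _root_.FibCat.overCat W ⥤ᵇ 𝒳) :
    ∃ (V : Over S) (m : V ⟶ W), Mono m.left ∧ LocallyOfFinitePresentation m.left ∧ Nonempty (BCModel f w V m) := by
  obtain ⟨F, e, he, hl⟩ := hlfp W w
  let a := spMapOfOver (BasedFunctor.comp e (_root_.FibCat.fpFst w f))
  have hm : Mono a :=
    HasRep.mem (P := MorphismProperty.monomorphisms (AlgSp.Sp S)) (ha W w) (isoInvariant_of_respectsIso) F e he
  have hr : AlgSp.Representable a := GrothLib.AlgSp.representable_of_lft_mono F.property (AlgSp.IsAlgSpace.yon_obj W)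
    (GrothLib.AlgSp.locP_mono (fun _ _ g hg => by
      have : LocallyOfFinitePresentation g := hg
      exact (inferInstance : LocallyOfFiniteType g)) hl)
  obtain ⟨V, fst, m, sq⟩ := GrothLib.AlgSp.exists_isPullback_of_representable hr (𝟙 _)
  have : IsIso fst := sq.isIso_fst_of_isIso
  have hw : (AlgSp.yon S).map m = fst ≫ a := (sq.w.trans (Category.comp_id _)).symm
  have hP := GrothLib.AlgSp.EtLocal.repWith_of_locP GrothLib.AlgSp.EtLocal.lfp (AlgSp.IsAlgSpace.yon_obj W) hr hl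
  have hM := GrothLib.AlgSp.repWith_monomorphisms_of_mono (f := a) hr
  obtain ⟨j⟩ := iso_of_spMapOfOver_eq (Φ := BasedFunctor.comp (ofSpMap fst) (BasedFunctor.comp e (_root_.FibCat.fpFst w f)))
    (Ψ := BasedFunctor.comp (toOverCat V) (_root_.AlgSt.overMap m))
    ((spMapOfOver_ofSpMap_comp fst _).trans (hw.symm.trans (spMapOfOver_overMap m).symm))
  refine ⟨V, m, hM.2 _ fst m sq, hP.2 _ fst m sq, ⟨⟨BasedFunctor.comp (ofOverCat V) (BasedFunctor.comp (ofSpMap fst) e),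
    IsEquivOver.comp (isEquivOver_ofOverCat V) (IsEquivOver.comp (isEquivOver_ofSpMap fst) he), ?_⟩⟩⟩
  exact whiskerLeftIso (ofOverCat V) j ≪≫ whiskerRightIso (ofOverCatCompIso V) (_root_.AlgSt.overMap m)

theorem sliceHom_overMap {U V : Over S} (g : U ⟶ V) :
    sliceHom (_root_.AlgSt.overMap g) = g := by
  change 𝟙 U ≫ (𝟙 U ≫ g) = g
  simp

theorem sliceHom_overMap_comp {U V W : Over S} (g : U ⟶ V) (h : V ⟶ W) :
    sliceHom (BasedFunctor.comp (_root_.AlgSt.overMap g) (_root_.AlgSt.overMap h)) = g ≫ h :=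
  GrothLib.FibCat.sliceHom_comp_overMap g h

/-- Points of the model are lifts to `𝒴`. -/
theorem BCModel.lift_iff {f : 𝒴 ⥤ᵇ 𝒳} {W V : Over S} {w : _root_.FibCat.overCat W ⥤ᵇ 𝒳} {m : V ⟶ W}
    (M : BCModel f w V m) {T : Over S} (t : T ⟶ W) :
    (∃ l : T ⟶ V, l ≫ m = t) ↔ ∃ y : _root_.FibCat.overCat T ⥤ᵇ 𝒴,
      Nonempty (BasedFunctor.comp y f ≅ BasedFunctor.comp (_root_.AlgSt.overMap t) w) := by
  constructor
  · rintro ⟨l, rfl⟩
    refine ⟨BasedFunctor.comp (_root_.AlgSt.overMap l) (BasedFunctor.comp M.Φ (_root_.FibCat.fpSnd w f)), ⟨?_⟩⟩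
    let i₁ : BasedFunctor.comp (BasedFunctor.comp M.Φ (_root_.FibCat.fpSnd w f)) f ≅
        BasedFunctor.comp (_root_.AlgSt.overMap m) w :=
      whiskerLeftIso M.Φ (_root_.FibCat.fpIso w f).symm ≪≫ whiskerRightIso M.iso w
    exact whiskerLeftIso (_root_.AlgSt.overMap l) i₁ ≪≫ whiskerRightIso (overMapCompIso l m) w
  · rintro ⟨y, ⟨α⟩⟩
    obtain ⟨E, -, ⟨η⟩, ⟨ε⟩⟩ := IsEquivOver.symm M.equiv
    let c := _root_.FibCat.fpLift (F := w) (G := f) (_root_.AlgSt.overMap t) y α.symm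
    let k := BasedFunctor.comp c E
    refine ⟨sliceHom k, ?_⟩
    have h1 : sliceHom (BasedFunctor.comp c (_root_.FibCat.fpFst w f)) = t := sliceHom_overMap t
    rw [← sliceHom_overMap_comp (sliceHom k) m, ← h1]
    exact sliceHom_congr (whiskerRightIso (isoOverMap k).symm (_root_.AlgSt.overMap m) ≪≫
      whiskerLeftIso k M.iso.symm ≪≫ whiskerLeftIso c (whiskerRightIso ε (_root_.FibCat.fpFst w f)))

/-- Lifts to `V.left` of a morphism of schemes. -/
theorem BCModel.left_lift_iff {f : 𝒴 ⥤ᵇ 𝒳} {W V : Over S} {w : _root_.FibCat.overCat W ⥤ᵇ 𝒳} {m : V ⟶ W}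
    (M : BCModel f w V m) {T : Over S} (t : T ⟶ W) :
    (∃ l : T.left ⟶ V.left, l ≫ m.left = t.left) ↔ ∃ y : _root_.FibCat.overCat T ⥤ᵇ 𝒴,
      Nonempty (BasedFunctor.comp y f ≅ BasedFunctor.comp (_root_.AlgSt.overMap t) w) := by
  rw [← M.lift_iff t]
  constructor
  · rintro ⟨l, hl⟩
    exact ⟨Over.homMk l (by rw [← Over.w m, reassoc_of% hl, Over.w t]), Over.OverMorphism.ext hl⟩
  · rintro ⟨l, rfl⟩
    exact ⟨l.left, rfl⟩

end GrothLib.AlgSt
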