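import Groth.Agent.Lib.AlgSt.LocQChart
import Groth.Agent.Lib.AlgSt.MonoModel
import Groth.Agent.Lib.AlgSt.Gerbe.Props
import Groth.Agent.Lib.AlgSp.LciChart
import Groth.Agent.Lib.AlgSt.EtaleAtlas

/-!
# Local complete intersection morphisms of stacks cancel smooth morphisms
-/

set_option backward.isDefEq.respectTransparency false
set_option backward.isDefEq.respectTransparency.types false

universe u

open CategoryTheory CategoryTheory.Limits AlgebraicGeometry Opposite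

namespace GrothLib.AlgSt

open _root_.AlgSt GrothLib.FibCat GrothLib.LCI6

variable {S : Scheme.{u}}

theorem isLCIMor_yon_of_inLocus {R V : Over S} {b : R ⟶ V} (hb : ∀ x, InLocus b.left x) :
    AlgSp.IsLCIMor ((AlgSp.yon S).map b) := by
  intro U' V' a c h ha hc w x
  obtain ⟨a, rfl⟩ := (AlgSp.yon S).map_surjective a
  obtain ⟨c, rfl⟩ := (AlgSp.yon S).map_surjective c
  have : Etale a.left := (AlgSp.repWith_yon_map_iff _ _).1 ha
  have : Etale c.left := (AlgSp.repWith_yon_map_iff _ _).1 hc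
  have e : a ≫ b = h ≫ c := (AlgSp.yon S).map_injective (by rw [Functor.map_comp, Functor.map_comp]; exact w)
  rw [isKoszulAt_iff_inLocus]
  refine inLocus_cancel_smooth h.left c.left ?_
  rw [← Over.comp_left, ← e, Over.comp_left]
  exact inLocus_comp (inLocus_of_smooth a.left x) (hb _)

variable {𝒳 𝒴 𝒵 : _root_.AlgSt.Cat S}

/-- If `f ≫ q` is LCI and `q` is smooth, `f` is LCI. -/
theorem locQ_lci_of_comp_smooth (h𝒳 : IsAlgStack Scheme.fppfPrecoverage 𝒳)
    (h𝒴 : IsAlgStack Scheme.fppfPrecoverage 𝒴) (h𝒵 : IsAlgStack Scheme.fppfPrecoverage 𝒵)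
    (f : 𝒳 ⥤ᵇ 𝒴) (q : 𝒴 ⥤ᵇ 𝒵) (p : 𝒳 ⥤ᵇ 𝒵) (e : BasedFunctor.comp f q ≅ p)
    (hq : LocQ (AlgSp.LocP @Smooth) q) (hp : LocQ AlgSp.IsLCIMor p) : LocQ AlgSp.IsLCIMor f := by
  obtain ⟨U, W, x, z, h, α, hx, hxs, hz, hh⟩ := hp
  have hW := (isDM_of_repByAlgSp (repByAlgSp_overCat W)).1
  have hA := isAlgStack_fp h𝒵.isStack h𝒵.diag h𝒴 hW q z
  obtain ⟨V, l, hl, hls⟩ := hA.atlas
  let k := sliceHom (BasedFunctor.comp l (_root_.FibCat.fpSnd q z))
  have : Smooth k.left := left_of_locP_yon (mem_of_locQ Section.isSmoothLocalST_smooth hq h𝒴 h𝒵 z hz l hl k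
    (isoOverMap _))
  let m := _root_.FibCat.fpLift (BasedFunctor.comp x f) (_root_.AlgSt.overMap h) (whiskerLeftIso x e ≪≫ α)
  obtain ⟨R, a, b, ha, has, ⟨j⟩⟩ := exists_lift_chart m l hl hls
  have eq : a ≫ h = b ≫ k := by
    let j' : _root_.AlgSt.overMap (a ≫ h) ≅ _root_.AlgSt.overMap (b ≫ k) :=
      (overMapCompIso a h).symm ≪≫ whiskerRightIso j (_root_.FibCat.fpSnd q z) ≪≫
        whiskerLeftIso (GrothLib.FibCat.overMap b) (isoOverMap (BasedFunctor.comp l (_root_.FibCat.fpSnd q z))) ≪≫ overMapCompIso b k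
    simpa [sliceHom_overMap] using sliceHom_congr j'
  have hlci : ∀ r, InLocus b.left r := fun r => by
    have hU : ∀ u, InLocus h.left u := fun u =>
      (isKoszulAt_iff_inLocus _ _).1 (hh (𝟙 _) (𝟙 _) h (AlgSp.repWith_id _ U) (AlgSp.repWith_id _ W) (by simp) u)
    refine inLocus_cancel_smooth b.left k.left ?_
    rw [← Over.comp_left, ← eq, Over.comp_left]
    exact inLocus_comp (inLocus_of_smooth a.left r) (hU _)
  obtain ⟨ha', has'⟩ : RepByAlgSpWith (AlgSp.LocP @Smooth) (GrothLib.FibCat.overMap a) ∧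
      RepByAlgSpWith AlgSp.IsSurjectiveMor (GrothLib.FibCat.overMap a) :=
    ⟨repByAlgSpWith_mono (fun _ _ _ _ _ h => h.2) (repByAlgSpWith_smoothSurj_overMap a),
      repByAlgSpWith_mono (fun _ _ _ _ _ h => h.1) (repByAlgSpWith_smoothSurj_overMap a)⟩
  exact ⟨R, V, BasedFunctor.comp (GrothLib.FibCat.overMap a) x, BasedFunctor.comp l (_root_.FibCat.fpFst q z), b,
    whiskerRightIso j (_root_.FibCat.fpFst q z),
    repByAlgSpWith_smooth_comp (isFibGrpd_overCat R) (isFibGrpd_overCat U) _ x ha' hx,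
    repByAlgSpWith_surjective_comp (isFibGrpd_overCat R) (isFibGrpd_overCat U) _ x has' hxs,
    repByAlgSpWith_smooth_comp (isFibGrpd_overCat V) hA.isStack.1 l _ hl (repByAlgSpWith_fpFst q hz),
    isLCIMor_yon_of_inLocus hlci⟩

end GrothLib.AlgSt
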