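import Groth.Agent.Lib.AlgSt.OpenSub
import Groth.Agent.Lib.Stk.Basic
import Groth.Agent.Lib.FibCat.Yoneda

/-!
# Substacks cut out by local conditions; local images of functors
-/

set_option autoImplicit false
set_option linter.style.haveILetI false
set_option backward.isDefEq.respectTransparency false
set_option backward.isDefEq.respectTransparency.types false

universe u

open CategoryTheory CategoryTheory.Limits AlgebraicGeometry Opposite

namespace GrothLib.AlgSt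

open _root_.AlgSt GrothLib.FibCat

variable {S : Scheme.{u}} {𝒳 𝒲 : _root_.AlgSt.Cat S}

/-- An object isomorphic to one in the substack on a covering sieve lies in the substack. -/
theorem mem_of_local (h𝒳 : _root_.Stk.IsStack (AlgSp.J S) 𝒳) (Q : 𝒳.obj → Prop)
    (hc : ObjectProperty.IsClosedUnderIsomorphisms Q) (hQ : _root_.Stk.IsStack (AlgSp.J S) (fullSub 𝒳 Q))
    {U : Over S} {R : Sieve U} (hR : R ∈ AlgSp.J S U) (y : _root_.FibCat.overCat U ⥤ᵇ 𝒳)
    (h : ∀ b : (_root_.FibCat.overCat U).obj, R b.hom → Q (y.obj b)) (b : (_root_.FibCat.overCat U).obj) :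
    Q (y.obj b) := by
  let c : _root_.Stk.sieveCat R ⥤ᵇ fullSub 𝒳 Q :=
    liftSub Q (BasedFunctor.comp (_root_.Stk.sieveIncl R) y) fun t => h t.obj t.property
  have : (_root_.Stk.resSieve R (fullSub 𝒳 Q)).IsEquivalence := hQ.2 R hR
  let x := (_root_.Stk.resSieve R (fullSub 𝒳 Q)).objPreimage c
  let i : BasedFunctor.comp (_root_.Stk.sieveIncl R) x ≅ c :=
    (_root_.Stk.resSieve R (fullSub 𝒳 Q)).objObjPreimageIso c
  have : (_root_.Stk.resSieve R 𝒳).IsEquivalence := h𝒳.2 R hR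
  let i' : (_root_.Stk.resSieve R 𝒳).obj (BasedFunctor.comp x (subIncl 𝒳 Q)) ≅
      (_root_.Stk.resSieve R 𝒳).obj y := whiskerRightIso i (subIncl 𝒳 Q)
  exact ObjectProperty.IsClosedUnderIsomorphisms.of_iso
    (isoApp ((_root_.Stk.resSieve R 𝒳).preimageIso i') b) (x.obj b).property

/-- Full substacks cut out by conditions stable under pullback and local are stacks. -/
theorem isStack_fullSub (h𝒳 : _root_.Stk.IsStack (AlgSp.J S) 𝒳) (Q : 𝒳.obj → Prop)
    (hhom : ∀ {η η' : 𝒳.obj}, (η' ⟶ η) → Q η → Q η')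
    (hloc : ∀ (ξ : 𝒳.obj) (R : Sieve (𝒳.p.obj ξ)), R ∈ AlgSp.J S _ →
      (∀ ⦃V : Over S⦄ (f : V ⟶ 𝒳.p.obj ξ), R f →
        ∃ (η : 𝒳.obj) (g : η ⟶ ξ), 𝒳.p.IsHomLift f g ∧ Q η) → Q ξ) :
    _root_.Stk.IsStack (AlgSp.J S) (fullSub 𝒳 Q) := by
  refine ⟨isFibGrpd_fullSub h𝒳.1 hhom, fun U R hR => ?_⟩
  have : (_root_.Stk.resSieve R 𝒳).IsEquivalence := h𝒳.2 R hR
  refine { faithful := ⟨fun {x x' α α'} e => natTrans_ext fun z => ObjectProperty.hom_ext _ ?_⟩,
           full := ⟨fun {x x'} β => ?_⟩, essSurj := ⟨fun c => ?_⟩ }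
  · exact GrothLib.Stk.natTrans_congr_app ((_root_.Stk.resSieve R 𝒳).map_injective
      (a₁ := BasedCategory.whiskerRight α (subIncl 𝒳 Q)) (a₂ := BasedCategory.whiskerRight α' (subIncl 𝒳 Q))
      (natTrans_ext fun w => congrArg (subIncl 𝒳 Q).map (GrothLib.Stk.natTrans_congr_app e w))) z
  · obtain ⟨γ, hγ⟩ := (_root_.Stk.resSieve R 𝒳).map_surjective
      (X := BasedFunctor.comp x (subIncl 𝒳 Q)) (Y := BasedFunctor.comp x' (subIncl 𝒳 Q))
      (BasedCategory.whiskerRight β (subIncl 𝒳 Q))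
    refine ⟨{ toNatTrans :=
                { app := fun b => ObjectProperty.homMk (γ.toNatTrans.app b)
                  naturality := fun b b' φ => ObjectProperty.hom_ext _ (γ.toNatTrans.naturality φ) }
              isHomLift' := fun b => ?_ }, natTrans_ext fun t => ObjectProperty.hom_ext _ ?_⟩
    · have h := γ.isHomLift' b
      exact IsHomLift.of_fac' _ _ _ (x.w_obj b) (x'.w_obj b)
        (IsHomLift.fac' 𝒳.p (𝟙 _) (γ.toNatTrans.app b))
    · exact GrothLib.Stk.natTrans_congr_app hγ t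
  · let y := (_root_.Stk.resSieve R 𝒳).objPreimage (BasedFunctor.comp c (subIncl 𝒳 Q))
    let i : BasedFunctor.comp (_root_.Stk.sieveIncl R) y ≅ BasedFunctor.comp c (subIncl 𝒳 Q) :=
      (_root_.Stk.resSieve R 𝒳).objObjPreimageIso _
    have hidl : Q (y.obj (Yon.idObj U)) := by
      have hξ : 𝒳.p.obj (y.obj (Yon.idObj U)) = U := y.w_obj (Yon.idObj U)
      refine hloc _ (R.pullback (eqToHom hξ)) (GrothendieckTopology.pullback_stable _ _ hR) fun V f hf => ?_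
      let t : (_root_.Stk.sieveCat R).obj := ⟨Over.mk (f ≫ eqToHom hξ), hf⟩
      refine ⟨y.obj t.obj, y.map (Yon.toId t.obj), ?_,
        hhom (isoApp i t).hom (c.obj t).property⟩
      have h1 : (_root_.FibCat.overCat U).p.IsHomLift (f ≫ eqToHom hξ) (Yon.toId t.obj) := Yon.toId_lift t.obj
      have h2 : 𝒳.p.IsHomLift (f ≫ eqToHom hξ) (y.map (Yon.toId t.obj)) :=
        have := h1; BasedFunctor.preserves_isHomLift y _ _
      exact IsHomLift.of_fac' _ _ _ (y.w_obj t.obj) rfl (by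
        rw [IsHomLift.fac' 𝒳.p (f ≫ eqToHom hξ) (y.map (Yon.toId t.obj))]
        simp)
    let Y : _root_.FibCat.overCat U ⥤ᵇ fullSub 𝒳 Q :=
      liftSub Q y fun b => hhom (y.map (Yon.toId b)) hidl
    exact ⟨Y, ⟨natIsoOfComponents (fun t => (ObjectProperty.ι Q).preimageIso (isoApp i t))
      (fun t => by
        have h := BasedNatTrans.isHomLift i.hom (a := t) rfl
        exact IsHomLift.of_fac' _ _ _ (((_root_.Stk.resSieve R _).obj Y).w_obj t) (c.w_obj t) (by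
          change 𝒳.p.map ((ObjectProperty.ι Q).map _) = _
          rw [Functor.preimageIso_hom, Functor.map_preimage]
          exact IsHomLift.fac' 𝒳.p (𝟙 _) (i.hom.toNatTrans.app t)))
      (fun {t t'} φ => (ObjectProperty.ι Q).map_injective (by
        rw [Functor.map_comp, Functor.map_comp, Functor.preimageIso_hom, Functor.map_preimage,
          Functor.preimageIso_hom, Functor.map_preimage]
        exact i.hom.toNatTrans.naturality φ))⟩⟩

/-- The sieve of arrows over which an object comes from `z`. -/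
def imgSieve (z : 𝒲 ⥤ᵇ 𝒳) (h𝒲 : _root_.FibCat.IsFibGrpd 𝒲.p) (ξ : 𝒳.obj) : Sieve (𝒳.p.obj ξ) where
  arrows V f := ∃ (x : 𝒲.obj) (g : z.obj x ⟶ ξ), 𝒳.p.IsHomLift f g
  downward_closed := by
    rintro V V' f ⟨x, g, hg⟩ d
    have hx : 𝒲.p.obj x = V := (z.w_obj x).symm.trans (IsHomLift.domain_eq 𝒳.p f g)
    subst hx
    obtain ⟨x', φ, hφ⟩ := h𝒲.exists_lift (x := x) d
    have : 𝒳.p.IsHomLift d (z.map φ) := @BasedFunctor.preserves_isHomLift _ _ _ _ z _ _ _ _ d φ hφ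
    exact ⟨x', z.map φ ≫ g, inferInstance⟩

/-- The objects locally in the image of `z`. -/
def locImage (z : 𝒲 ⥤ᵇ 𝒳) (h𝒲 : _root_.FibCat.IsFibGrpd 𝒲.p) (ξ : 𝒳.obj) : Prop :=
  imgSieve z h𝒲 ξ ∈ AlgSp.J S (𝒳.p.obj ξ)

variable (z : 𝒲 ⥤ᵇ 𝒳) (h𝒲 : _root_.FibCat.IsFibGrpd 𝒲.p)

theorem locImage_of_hom (h𝒳 : _root_.FibCat.IsFibGrpd 𝒳.p) {η η' : 𝒳.obj} (φ : η' ⟶ η)
    (h : locImage z h𝒲 η) : locImage z h𝒲 η' := by
  refine (AlgSp.J S).superset_covering ?_ (GrothendieckTopology.pullback_stable _ (𝒳.p.map φ) h)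
  rintro V f ⟨x, g, hg⟩
  have := hg
  obtain ⟨t, ⟨ht, -⟩, -⟩ := IsFibGrpd.existsUnique_lift h𝒳 (𝒳.p.map φ) f φ g
  exact ⟨x, t, ht⟩

theorem isClosedUnderIsomorphisms_locImage (h𝒳 : _root_.FibCat.IsFibGrpd 𝒳.p) :
    ObjectProperty.IsClosedUnderIsomorphisms (locImage z h𝒲) :=
  ⟨fun e h => locImage_of_hom z h𝒲 h𝒳 e.inv h⟩

theorem locImage_local (ξ : 𝒳.obj) (R : Sieve (𝒳.p.obj ξ)) (hR : R ∈ AlgSp.J S _)
    (h : ∀ ⦃V : Over S⦄ (f : V ⟶ 𝒳.p.obj ξ), R f → ∃ (η : 𝒳.obj) (g : η ⟶ ξ), 𝒳.p.IsHomLift f g ∧ locImage z h𝒲 η) :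
    locImage z h𝒲 ξ := by
  refine (AlgSp.J S).transitive hR _ fun V f hf => ?_
  obtain ⟨η, g, hg, hη⟩ := h f hf
  obtain rfl := IsHomLift.domain_eq 𝒳.p f g
  refine (AlgSp.J S).superset_covering ?_ hη
  rintro V' d ⟨x, k, hk⟩
  have := hk
  have := hg
  exact ⟨x, k ≫ g, inferInstance⟩

theorem locImage_obj (x : 𝒲.obj) : locImage z h𝒲 (z.obj x) := by
  refine (AlgSp.J S).superset_covering ?_ ((AlgSp.J S).top_mem _)
  rintro V f -
  have h1 : (imgSieve z h𝒲 (z.obj x)).arrows (𝟙 (𝒳.p.obj (z.obj x))) :=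
    ⟨x, 𝟙 _, IsHomLift.id rfl⟩
  exact (Category.comp_id f) ▸ (imgSieve z h𝒲 (z.obj x)).downward_closed h1 f

theorem isStack_locImage (h𝒳 : _root_.Stk.IsStack (AlgSp.J S) 𝒳) :
    _root_.Stk.IsStack (AlgSp.J S) (fullSub 𝒳 (locImage z h𝒲)) :=
  isStack_fullSub h𝒳 _ (fun φ => locImage_of_hom z h𝒲 h𝒳.1 φ) (locImage_local z h𝒲)

end GrothLib.AlgSt
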