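import Groth.Agent.Lib.AlgSp.FieldBase
import Mathlib.AlgebraicGeometry.Noetherian

/-!
# Quasi-compactness of monomorphisms with generic lifting
-/

set_option backward.isDefEq.respectTransparency false
set_option backward.isDefEq.respectTransparency.types false

universe u

open CategoryTheory CategoryTheory.Limits AlgebraicGeometry Opposite Topology TopologicalSpace

namespace GrothLib.MonoLift

variable {V W : Scheme.{u}}

theorem exists_lift_field (m : V ⟶ W) [Mono m] {K : Type u} [Field K] (t : Spec (CommRingCat.of K) ⟶ W)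
    (z : ↥(Spec (CommRingCat.of K))) (h : t z ∈ Set.range m) : ∃ l, l ≫ m = t := by
  obtain ⟨v, hv⟩ := h
  obtain ⟨p, -, -⟩ := Scheme.Pullback.exists_preimage_pullback (f := m) (g := t) v z hv
  have : Nonempty ↥(pullback m t) := ⟨p⟩
  have := GrothLib.AlgSp.isIso_of_mono_to_field (pullback.snd m t)
  exact ⟨inv (pullback.snd m t) ≫ pullback.fst m t, by
    rw [Category.assoc, pullback.condition, IsIso.inv_hom_id_assoc]⟩

theorem exists_lift_residue (m : V ⟶ W) [Mono m] {X : Scheme.{u}} (a : X ⟶ W) (p : ↥X)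
    (hp : a p ∈ Set.range m) : ∃ l, l ≫ m = X.fromSpecResidueField p ≫ a := by
  obtain ⟨z, hz⟩ : p ∈ Set.range (X.fromSpecResidueField p) := by
    rw [Scheme.range_fromSpecResidueField]; rfl
  refine exists_lift_field m _ z ?_
  rw [Scheme.Hom.comp_apply]
  exact (congrArg (fun w => a w ∈ Set.range m) hz).mpr hp

/-- The generic lifting condition. -/
def DenseLift (m : V ⟶ W) : Prop :=
  ∀ (A : Type u) [CommRing A] [IsDomain A] (a : Spec (CommRingCat.of A) ⟶ W)
    (D : Set ↥(Spec (CommRingCat.of A))), Dense D →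
    (∀ p ∈ D, ∃ l, l ≫ m = (Spec (CommRingCat.of A)).fromSpecResidueField p ≫ a) →
    ∃ U : (Spec (CommRingCat.of A)).Opens, (U : Set ↥(Spec (CommRingCat.of A))).Nonempty ∧
      ∃ l, l ≫ m = U.ι ≫ a

variable {m : V ⟶ W} [Mono m]

theorem DenseLift.exists_open (hm : DenseLift m) {A : Type u} [CommRing A] [IsDomain A] [IsNoetherianRing A]
    (a : Spec (CommRingCat.of A) ⟶ W) (hd : Dense (a ⁻¹' Set.range m)) :
    ∃ O : Set ↥(Spec (CommRingCat.of A)), IsOpen O ∧ O.Nonempty ∧ IsCompact (m ⁻¹' (a '' O)) := by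
  obtain ⟨U, hU, l, hl⟩ := hm A a _ hd fun p hp => exists_lift_residue m a p hp
  refine ⟨U, U.isOpen, hU, ?_⟩
  have : CompactSpace ↥U.toScheme := isCompact_iff_compactSpace.mp (NoetherianSpace.isCompact _)
  have e : m ⁻¹' (a '' (U : Set _)) = Set.range l := by
    ext v
    constructor
    · rintro ⟨x, hx, hv⟩
      refine ⟨⟨x, hx⟩, m.injective ?_⟩
      rw [← Scheme.Hom.comp_apply, hl, ← hv]
      rfl
    · rintro ⟨x, rfl⟩
      refine ⟨x.1, x.2, ?_⟩
      rw [← Scheme.Hom.comp_apply, hl]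
      rfl
  rw [e]
  exact isCompact_range l.continuous

/-- Noetherian induction: the preimage of the image of an affine scheme is compact. -/
theorem DenseLift.isCompact_preimage (hm : DenseLift m) {R : Type u} [CommRing R] [IsNoetherianRing R]
    (a : Spec (CommRingCat.of R) ⟶ W) (C : Closeds (PrimeSpectrum R)) :
    IsCompact (m ⁻¹' (a '' (C : Set (PrimeSpectrum R)))) := by
  induction C using WellFoundedLT.induction with
  | _ C ih =>
  rcases Set.eq_empty_or_nonempty (C : Set (PrimeSpectrum R)) with h0 | h0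
  · erw [h0, Set.image_empty, Set.preimage_empty]; exact isCompact_empty
  by_cases hC : IsIrreducible (C : Set (PrimeSpectrum R))
  swap
  · obtain ⟨C₁, C₂, h₁, h₂, h3, h4, h5⟩ : ∃ C₁ C₂ : Set (PrimeSpectrum R), IsClosed C₁ ∧ IsClosed C₂ ∧
        (C : Set (PrimeSpectrum R)) ⊆ C₁ ∪ C₂ ∧ ¬ (C : Set (PrimeSpectrum R)) ⊆ C₁ ∧
          ¬ (C : Set (PrimeSpectrum R)) ⊆ C₂ := by
      by_contra h
      push_neg at h
      refine hC ⟨h0, isPreirreducible_iff_isClosed_union_isClosed.2 fun z₁ z₂ hz₁ hz₂ hz => ?_⟩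
      by_cases hh : (C : Set (PrimeSpectrum R)) ⊆ z₁
      · exact Or.inl hh
      · exact Or.inr (h z₁ z₂ hz₁ hz₂ hz hh)
    let D₁ : Closeds (PrimeSpectrum R) := ⟨C ∩ C₁, C.isClosed.inter h₁⟩
    let D₂ : Closeds (PrimeSpectrum R) := ⟨C ∩ C₂, C.isClosed.inter h₂⟩
    have l₁ : D₁ < C := lt_of_le_of_ne (fun x hx => hx.1) fun e =>
      h4 fun x hx => (show x ∈ (D₁ : Set _) by rw [e]; exact hx).2
    have l₂ : D₂ < C := lt_of_le_of_ne (fun x hx => hx.1) fun e =>
      h5 fun x hx => (show x ∈ (D₂ : Set _) by rw [e]; exact hx).2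
    have e : (C : Set (PrimeSpectrum R)) = (D₁ : Set _) ∪ (D₂ : Set _) := by
      change (C : Set (PrimeSpectrum R)) = (C : Set _) ∩ C₁ ∪ (C : Set _) ∩ C₂
      rw [← Set.inter_union_distrib_left, Set.inter_eq_left.2 h3]
    erw [e, Set.image_union, Set.preimage_union]
    exact (ih _ l₁).union (ih _ l₂)
  let I := PrimeSpectrum.vanishingIdeal (C : Set (PrimeSpectrum R))
  have hI : I.IsPrime := PrimeSpectrum.isIrreducible_iff_vanishingIdeal_isPrime.1 hC
  have hCI : PrimeSpectrum.zeroLocus (I : Set R) = C := by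
    rw [PrimeSpectrum.zeroLocus_vanishingIdeal_eq_closure, C.isClosed.closure_eq]
  let q : Spec (CommRingCat.of (R ⧸ I)) ⟶ Spec (CommRingCat.of R) :=
    Spec.map (CommRingCat.ofHom (Ideal.Quotient.mk I))
  have hq : Topology.IsClosedEmbedding q :=
    PrimeSpectrum.isClosedEmbedding_comap_of_surjective _ _ Ideal.Quotient.mk_surjective
  have hr : Set.range q = (C : Set (PrimeSpectrum R)) := by
    rw [← hCI]
    exact (range_comap_of_surjective _ _ Ideal.Quotient.mk_surjective).trans
      (by rw [Ideal.mk_ker])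
  have key : ∀ D : Closeds ↥(Spec (CommRingCat.of (R ⧸ I))), (D : Set ↥(Spec (CommRingCat.of (R ⧸ I)))) ≠ Set.univ →
      IsCompact (m ⁻¹' ((q ≫ a) '' (D : Set ↥(Spec (CommRingCat.of (R ⧸ I)))))) := fun D hD => by
    have hlt : (⟨q '' (D : Set _), hq.isClosedMap _ D.isClosed⟩ : Closeds (PrimeSpectrum R)) < C := by
      refine lt_of_le_of_ne (fun x hx => ?_) fun e => hD ?_
      · have : x ∈ Set.range q := Set.image_subset_range _ _ hx
        rw [hr] at this; exact this
      · refine Set.eq_univ_of_forall fun y => ?_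
        have : q y ∈ q '' (D : Set _) := by
          have h' := congrArg (fun E : Closeds (PrimeSpectrum R) => (E : Set (PrimeSpectrum R))) e
          dsimp only [Closeds.coe_mk] at h'
          rw [h', ← hr]; exact Set.mem_range_self _
        exact hq.injective.mem_set_image.1 this
    have := ih _ hlt
    rw [Scheme.Hom.comp_base, TopCat.coe_comp, Set.image_comp]
    exact this
  have e0 : a '' (C : Set (PrimeSpectrum R)) = Set.range (q ≫ a) := by
    rw [Scheme.Hom.comp_base, TopCat.coe_comp, Set.range_comp, hr]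
  erw [e0]
  by_cases hd : Dense ((q ≫ a) ⁻¹' Set.range m)
  · obtain ⟨O, hO, hne, hcomp⟩ := hm.exists_open (q ≫ a) hd
    have e : Set.range (q ≫ a) = (q ≫ a) '' O ∪ (q ≫ a) '' Oᶜ := by
      rw [← Set.image_union, Set.union_compl_self, Set.image_univ]
    rw [e, Set.preimage_union]
    refine hcomp.union (key ⟨Oᶜ, hO.isClosed_compl⟩ fun e' => ?_)
    obtain ⟨x, hx⟩ := hne
    exact (show x ∈ Oᶜ from e'.ge (Set.mem_univ x)) hx
  · have := key ⟨closure ((q ≫ a) ⁻¹' Set.range m), isClosed_closure⟩ (fun e => hd (dense_iff_closure_eq.2 e))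
    convert this using 1
    ext v
    constructor
    · rintro ⟨x, hx⟩
      exact ⟨x, subset_closure (show (q ≫ a) x ∈ Set.range m from ⟨v, hx.symm⟩), hx⟩
    · rintro ⟨x, -, hx⟩; exact ⟨x, hx⟩

/-- A monomorphism to a locally Noetherian scheme with generic lifting is quasi-compact. -/
theorem DenseLift.quasiCompact (hm : DenseLift m) [IsLocallyNoetherian W] : QuasiCompact m := by
  refine quasiCompact_iff_forall_isAffineOpen.2 fun U hU => ?_
  have := IsLocallyNoetherian.component_noetherian ⟨U, hU⟩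
  have := hm.isCompact_preimage (R := Γ(W, U)) hU.fromSpec ⊤
  erw [Closeds.coe_top, Set.image_univ, hU.range_fromSpec] at this
  exact this

end GrothLib.MonoLift
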