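import Groth.Agent.Lib.AlgSt.MonoDenseLift
import Groth.Agent.Lib.DVRDom.Integral
import Groth.Agent.Lib.DVRDom.Scheme
import Groth.Agent.Lib.Rat20Ext.Basic
import Groth.Agent.Lib.NoethTop.Spectral
import Mathlib.AlgebraicGeometry.Morphisms.FinitePresentation
import Groth.Agent.S2335

/-!
# Monomorphisms with lifting along discrete valuation rings are immersions
-/

set_option backward.isDefEq.respectTransparency false
set_option backward.isDefEq.respectTransparency.types false

universe u

open CategoryTheory CategoryTheory.Limits AlgebraicGeometry Opposite Topology IsLocalRing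

namespace GrothLib.MonoLift

/-- An element lying in all dominating discrete valuation rings is integral. -/
theorem isIntegral_of_dominating {L : Type u} [Field L] (A₀ : LocalSubring L) [IsNoetherianRing A₀.toSubring]
    (x : L) (hgen : Subfield.closure ((A₀.toSubring : Set L) ∪ {x}) = ⊤)
    (H : ∀ R : ValuationSubring L, IsDiscreteValuationRing R → A₀ ≤ R.toLocalSubring → x ∈ R) :
    IsIntegral A₀.toSubring x := by
  by_contra hx
  have hx0 : x ≠ 0 := fun h ↦ hx (h ▸ isIntegral_zero)
  let O := A₀.toSubring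
  let B := Algebra.adjoin O {x⁻¹}
  let B' : Subring L := B.toSubring
  let y : B := ⟨x⁻¹, Algebra.self_mem_adjoin_singleton _ _⟩
  have hy : Ideal.span {y} ≠ ⊤ := by
    rw [Ne, Ideal.span_singleton_eq_top]
    intro hu
    obtain ⟨w, hw⟩ := isUnit_iff_exists_inv.mp hu
    have h' : x⁻¹ * (w : L) = 1 := congrArg Subtype.val hw
    have : (w : L) = x := by rw [← inv_inv x]; exact (inv_eq_of_mul_eq_one_right h').symm
    have hw2 : (w : L) ∈ B := w.2
    rw [this] at hw2
    exact hx (GrothLib.DVRDom.isIntegral_of_mem_adjoin_inv hx0 hw2)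
  let J : Ideal B := (maximalIdeal O).map (algebraMap O B) ⊔ Ideal.span {y}
  have hJ : J ≠ ⊤ := by
    intro hJ
    let π := Ideal.Quotient.mk (Ideal.span ({y} : Set B))
    have hsurj : Function.Surjective (π.comp (algebraMap O B)) := by
      intro b
      obtain ⟨⟨b, hb⟩, rfl⟩ := Ideal.Quotient.mk_surjective b
      induction hb using Algebra.adjoin_induction with
      | mem z hz =>
        obtain rfl := Set.mem_singleton_iff.1 hz
        exact ⟨0, by rw [map_zero]; exact (Ideal.Quotient.eq_zero_iff_mem.2 (Ideal.mem_span_singleton_self y)).symm⟩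
      | algebraMap r => exact ⟨r, rfl⟩
      | add z w _ _ h1 h2 =>
        obtain ⟨r, hr⟩ := h1
        obtain ⟨s, hs⟩ := h2
        exact ⟨r + s, by rw [map_add, hr, hs, ← map_add]; rfl⟩
      | mul z w _ _ h1 h2 =>
        obtain ⟨r, hr⟩ := h1
        obtain ⟨s, hs⟩ := h2
        exact ⟨r * s, by rw [map_mul, hr, hs, ← map_mul]; rfl⟩
    have h1 : (maximalIdeal O).map (π.comp (algebraMap O B)) = ⊤ := by
      rw [← Ideal.map_map, eq_top_iff, ← Ideal.map_top π, ← hJ, Ideal.map_sup, Ideal.map_quotient_self, sup_bot_eq]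
    obtain ⟨c, hc, hc1⟩ := (Ideal.mem_map_iff_of_surjective _ hsurj).1 (h1.ge (Submodule.mem_top (x := 1)))
    have hu : IsUnit (1 - c) := by
      refine (isUnit_or_isUnit_one_sub_self c).resolve_left fun h => ?_
      exact (mem_maximalIdeal c).1 hc h
    have h0 : π.comp (algebraMap O B) (1 - c) = 0 := by rw [map_sub, map_one, hc1, sub_self]
    have h2 := hu.map (π.comp (algebraMap O B))
    rw [h0, isUnit_zero_iff] at h2
    exact hy ((Ideal.Quotient.zero_eq_one_iff).1 h2)
  obtain ⟨P₀, hP, hJP⟩ := Ideal.exists_le_maximal _ hJ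
  have : IsNoetherianRing B := by
    have := isNoetherianRing_of_fg (Subalgebra.fg_adjoin_finset ({x⁻¹} : Finset L)) (R := O)
    rwa [Finset.coe_singleton] at this
  have : IsNoetherianRing B' := this
  let P : Ideal B' := P₀
  have : P.IsPrime := hP.isPrime
  let S := LocalSubring.ofPrime B' P
  have := GrothLib.DVRDom.isNoetherianRing_ofPrime B' P
  have hOB : O ≤ B' := fun r hr ↦ B.algebraMap_mem ⟨r, hr⟩
  have hAS : A₀ ≤ S := GrothLib.DVRDom.le_ofPrime_of_le hOB P (by
    refine le_trans ?_ hJP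
    exact le_sup_left)
  let y' : S.toSubring := Subring.inclusion (LocalSubring.le_ofPrime B' P) y
  have hy' : y' ∈ maximalIdeal S.toSubring := by
    rw [← IsLocalization.AtPrime.map_eq_maximalIdeal P]
    exact Ideal.mem_map_of_mem _ (hJP (le_sup_right (α := Ideal B) (Ideal.mem_span_singleton_self y)))
  have hS : ¬ IsField S.toSubring := by
    intro hf
    rw [isField_iff_maximalIdeal_eq.mp hf, Submodule.mem_bot] at hy'
    exact inv_ne_zero hx0 (congrArg Subtype.val hy')
  obtain ⟨V, hV, hle⟩ := GrothLib.DVRDom.exists_dvr_dominating_localSubring S hS {x} (by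
    rw [eq_top_iff, ← hgen, Finset.coe_singleton]
    exact Subfield.closure_mono (Set.union_subset_union_left _ fun r hr => hAS.1 hr))
  have hxV : x ∈ V := H V hV (hAS.trans hle)
  refine (mem_maximalIdeal y').mp hy' (hle.2.map_nonunit y' ?_)
  exact isUnit_iff_exists_inv.mpr ⟨(⟨x, hxV⟩ : V), Subtype.ext (inv_mul_cancel₀ hx0)⟩

variable {V W : Scheme.{u}}

/-- The lifting condition along discrete valuation rings. -/
def DvrLift (m : V ⟶ W) : Prop :=
  ∀ (A : Type u) [CommRing A] [IsDomain A] [IsDiscreteValuationRing A] (K : Type u) [Field K] [Algebra A K]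
    [IsFractionRing A K] (a : Spec (CommRingCat.of A) ⟶ W),
    (∃ l, l ≫ m = Spec.map (CommRingCat.ofHom (algebraMap A K)) ≫ a) →
    (∃ l, l ≫ m = Spec.map (CommRingCat.ofHom (residue A)) ≫ a) → ∃ l, l ≫ m = a

variable {m : V ⟶ W} [Mono m]

theorem DvrLift.exists_lift (hm : DvrLift m) {A K : Type u} [CommRing A] [IsDomain A] [IsDiscreteValuationRing A]
    [Field K] [Algebra A K] [IsFractionRing A K] (a : Spec (CommRingCat.of A) ⟶ W)
    (h0 : a (Spec.map (CommRingCat.ofHom (algebraMap A K)) (closedPoint K)) ∈ Set.range m)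
    (h1 : a (closedPoint A) ∈ Set.range m) : ∃ l, l ≫ m = a := by
  refine hm A K a (exists_lift_field m _ (closedPoint K) ?_) (exists_lift_field m _ (closedPoint (ResidueField A)) ?_)
  · rw [Scheme.Hom.comp_apply]; exact h0
  · rw [Scheme.Hom.comp_apply]
    have e : Spec.map (CommRingCat.ofHom (residue A)) (closedPoint (ResidueField A)) = closedPoint A :=
      IsLocalRing.comap_closedPoint (residue A)
    exact (congrArg (fun w => a w ∈ Set.range m) e).mpr h1

theorem DvrLift.specializes [IsLocallyNoetherian W] (hm : DvrLift m) {y v : V} (h : m y ⤳ m v) : y ⤳ v := by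
  by_cases hne : m v = m y
  · exact specializes_of_eq (m.injective hne).symm
  obtain ⟨R, _, _, _, a, z, ha, hz⟩ := GrothLib.Rat20Ext.exists_dvr_map (m y) (m v) h hne
  let q := Spec.map (CommRingCat.ofHom (algebraMap R (FractionRing R)))
  have h0 : a (q (closedPoint _)) = m y := by
    rw [← Scheme.Hom.comp_apply]
    erw [hz]
    rw [Scheme.Hom.comp_apply]
    erw [Scheme.fromSpecResidueField_apply]
  obtain ⟨l, hl⟩ := hm.exists_lift a (K := FractionRing R) ⟨y, h0.symm⟩ ⟨v, ha.symm⟩
  have e1 : l (q (closedPoint _)) = y := m.injective (by rw [← Scheme.Hom.comp_apply, hl]; exact h0)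
  have e2 : l (closedPoint R) = v := m.injective (by rw [← Scheme.Hom.comp_apply, hl]; exact ha)
  exact e1 ▸ e2 ▸ (IsLocalRing.specializes_closedPoint _).map l.continuous

/-- A ring map factors through a discrete valuation ring when the morphism of schemes lifts. -/
theorem mem_range_of_lift {R L : Type u} [CommRing R] [IsLocalRing R] [Field L] (θ₀ : R →+* L) {v : V}
    (ψ : V.presheaf.stalk v →+* L) (l : Spec (CommRingCat.of R) ⟶ V) (hl : l (closedPoint R) = v)
    (h : Spec.map (CommRingCat.ofHom θ₀) ≫ l = Spec.map (CommRingCat.ofHom ψ) ≫ V.fromSpecStalk v)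
    (b : V.presheaf.stalk v) : ψ b ∈ θ₀.range := by
  subst hl
  conv_lhs at h => rw [← Scheme.Spec_stalkClosedPointTo_fromSpecStalk l, ← Category.assoc, ← Spec.map_comp]
  have e := Spec.map_injective ((cancel_mono _).1 h)
  exact ⟨(Scheme.stalkClosedPointTo l).hom b, congrArg (fun t : _ ⟶ CommRingCat.of L => t.hom b) e⟩

theorem DvrLift.isIntegral_image (hm : DvrLift m) [IsLocallyNoetherian W] {v : V} {L : Type u} [Field L]
    (ψ : V.presheaf.stalk v →+* L)
    (b : V.presheaf.stalk v) : (ψ.comp (m.stalkMap v).hom).IsIntegralElem (ψ b) := by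
  let φ := ψ.comp (m.stalkMap v).hom
  let L' : Subfield L := Subfield.closure (Set.range φ ∪ {ψ b})
  let φ' : W.presheaf.stalk (m v) →+* L' :=
    φ.codRestrict L' fun x => Subfield.subset_closure (Or.inl ⟨x, rfl⟩)
  have : IsLocalRing φ'.range := .of_surjective' φ'.rangeRestrict φ'.rangeRestrict_surjective
  let A₀ : LocalSubring L' := LocalSubring.mk φ'.range
  have : IsNoetherianRing A₀.toSubring := isNoetherianRing_range φ'
  let x : L' := ⟨ψ b, Subfield.subset_closure (Or.inr rfl)⟩
  have hgen : Subfield.closure ((A₀.toSubring : Set L') ∪ {x}) = ⊤ := by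
    refine eq_top_iff.2 fun z _ => ?_
    have : Subfield.closure (Set.range φ ∪ {ψ b}) ≤
        (Subfield.closure ((A₀.toSubring : Set L') ∪ {x})).map L'.subtype := Subfield.closure_le.2 (by
      rintro _ (⟨r, rfl⟩ | hw)
      · exact ⟨φ' r, Subfield.subset_closure (Or.inl ⟨r, rfl⟩), rfl⟩
      · exact ⟨x, Subfield.subset_closure (Or.inr rfl), hw.symm⟩)
    obtain ⟨w, hw, e⟩ := this z.2
    exact Subtype.ext e ▸ hw
  have key : IsIntegral A₀.toSubring x := isIntegral_of_dominating A₀ x hgen fun R hR hle => by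
    let θ : W.presheaf.stalk (m v) →+* R := φ'.codRestrict R fun r => hle.1 ⟨r, rfl⟩
    have hθ : IsLocalHom θ := by
      refine ⟨fun r hr => ?_⟩
      have h1 : IsUnit (φ'.rangeRestrict r) := hle.2.map_nonunit _ hr
      have : IsLocalHom φ'.rangeRestrict := IsLocalHom.of_surjective _ φ'.rangeRestrict_surjective
      exact IsUnit.of_map _ _ h1
    let a : Spec (CommRingCat.of R) ⟶ W := Spec.map (CommRingCat.ofHom θ) ≫ W.fromSpecStalk (m v)
    let θ₀ : R →+* L := (L'.subtype).comp R.subtype
    have heq : Spec.map (CommRingCat.ofHom θ₀) ≫ a =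
        (Spec.map (CommRingCat.ofHom ψ) ≫ V.fromSpecStalk v) ≫ m := by
      rw [Category.assoc, ← Scheme.SpecMap_stalkMap_fromSpecStalk m, ← Category.assoc, ← Category.assoc,
        ← Spec.map_comp, ← Spec.map_comp]
      rfl
    have hac : a (closedPoint R) = m v := by
      rw [Scheme.Hom.comp_apply]
      exact (congrArg (W.fromSpecStalk (m v)) (IsLocalRing.comap_closedPoint θ)).trans Scheme.fromSpecStalk_closedPoint
    have hgen0 : a (Spec.map (CommRingCat.ofHom (algebraMap R L')) (closedPoint L')) ∈ Set.range m := by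
      have e : Spec.map (CommRingCat.ofHom L'.subtype) (closedPoint L) = closedPoint L' :=
        IsLocalRing.comap_closedPoint L'.subtype
      refine ⟨(Spec.map (CommRingCat.ofHom ψ) ≫ V.fromSpecStalk v) (closedPoint L), ?_⟩
      rw [← Scheme.Hom.comp_apply, ← heq, Scheme.Hom.comp_apply]
      refine congrArg a ?_
      rw [← e, ← Scheme.Hom.comp_apply, ← Spec.map_comp]
      rfl
    obtain ⟨l, hl⟩ := hm.exists_lift a (K := L') hgen0 ⟨v, hac.symm⟩
    have hlv : l (closedPoint R) = v := m.injective (by rw [← Scheme.Hom.comp_apply, hl]; exact hac)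
    obtain ⟨r, hr⟩ := mem_range_of_lift θ₀ ψ l hlv ((cancel_mono m).1 (by rw [Category.assoc, hl]; exact heq)) b
    have : (r : L') = x := Subtype.ext hr
    exact this ▸ r.2
  obtain ⟨p, hp, hp0⟩ := key
  obtain ⟨q, hq, -, hqm⟩ := Polynomial.lifts_and_degree_eq_and_monic
    ((Polynomial.mem_lifts p).2 (Polynomial.map_surjective _ φ'.rangeRestrict_surjective p)) hp
  refine ⟨q, hqm, ?_⟩
  have : Polynomial.eval₂ φ' x q = 0 := by
    rw [← hq, Polynomial.eval₂_map] at hp0
    exact hp0
  have h2 := congrArg L'.subtype this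
  rw [Polynomial.hom_eval₂, map_zero] at h2
  exact h2

/-- The image is stable under generalization inside its closure. -/
theorem DvrLift.mem_range_of_specializes (hm : DvrLift m) [IsLocallyNoetherian W] {y v : V} {p : W}
    (h1 : m y ⤳ p) (h2 : p ⤳ m v) : p ∈ Set.range m := by
  have hyv := hm.specializes (h1.trans h2)
  obtain ⟨z, hz⟩ : y ∈ Set.range (V.fromSpecStalk v) := by rw [Scheme.range_fromSpecStalk]; exact hyv
  obtain ⟨w, hw⟩ : p ∈ Set.range (W.fromSpecStalk (m v)) := by rw [Scheme.range_fromSpecStalk]; exact h2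
  let Q : Ideal (V.presheaf.stalk v) := z.asIdeal
  let L := FractionRing (V.presheaf.stalk v ⧸ Q)
  let ψ : V.presheaf.stalk v →+* L := (algebraMap _ L).comp (Ideal.Quotient.mk Q)
  let f := (Ideal.Quotient.mk Q).comp (m.stalkMap v).hom
  have hf : f.IsIntegral := fun c => by
    obtain ⟨b, rfl⟩ := Ideal.Quotient.mk_surjective c
    exact (RingHom.IsIntegralElem.map_iff (g := algebraMap _ L) (IsFractionRing.injective _ L)).1
      (hm.isIntegral_image ψ b)
  have hzw : Spec.map (m.stalkMap v) z ⤳ w := by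
    rw [← (W.fromSpecStalk (m v)).isEmbedding.isInducing.specializes_iff, hw, ← Scheme.Hom.comp_apply,
      Scheme.SpecMap_stalkMap_fromSpecStalk, Scheme.Hom.comp_apply, hz]
    exact h1
  let _ := f.toAlgebra
  have : Algebra.IsIntegral (W.presheaf.stalk (m v)) (V.presheaf.stalk v ⧸ Q) := ⟨hf⟩
  obtain ⟨P', -, hP', hP'w⟩ := Ideal.exists_ideal_over_prime_of_isIntegral w.asIdeal
    (⊥ : Ideal (V.presheaf.stalk v ⧸ Q)) (by
      intro r hr
      have : Ideal.Quotient.mk Q ((m.stalkMap v).hom r) = 0 := hr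
      exact (PrimeSpectrum.le_iff_specializes _ _).2 hzw
        (show (m.stalkMap v).hom r ∈ z.asIdeal from Ideal.Quotient.eq_zero_iff_mem.1 this))
  refine ⟨V.fromSpecStalk v ⟨P'.comap (Ideal.Quotient.mk Q), inferInstance⟩, ?_⟩
  rw [← Scheme.Hom.comp_apply, ← Scheme.SpecMap_stalkMap_fromSpecStalk, Scheme.Hom.comp_apply]
  refine (congrArg _ ?_).trans hw
  exact PrimeSpectrum.ext hP'w

theorem DvrLift.isImmersion_of_isAffine (hm : DvrLift m) [IsLocallyNoetherian W] [IsAffine W]
    [QuasiCompact m] [LocallyOfFinitePresentation m] : IsImmersion m := by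
  let E : Set W := Set.range m
  have : SpectralSpace ↥(Spec Γ(W, ⊤)) := inferInstanceAs (SpectralSpace (PrimeSpectrum _))
  have : SpectralSpace ↥W := W.isoSpec.hom.homeomorph.isOpenEmbedding.spectralSpace
  have hE : IsClosed[constructibleTopology ↥W] E ∧ IsClosed[constructibleTopology ↥W] Eᶜ := by
    have hc : IsConstructible E := by
      have := Scheme.Hom.isConstructible_image m (s := Set.univ) .univ
      rwa [Set.image_univ] at this
    exact ⟨GrothLib.Constr.isClosed_constructibleTopology_of_isConstructible hc,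
      GrothLib.Constr.isClosed_constructibleTopology_of_isConstructible hc.compl⟩
  let D : Set W := closure E ∩ Eᶜ
  have hD : IsClosed[constructibleTopology ↥W] D :=
    @IsClosed.inter ↥W _ _ (constructibleTopology ↥W)
      (GrothLib.SpecSp.isClosed_cons_of_isClosed (isClosed_closure (X := ↥W) (s := E))) hE.2
  let G : W.Opens := ⟨(closure D)ᶜ, isClosed_closure.isOpen_compl⟩
  have hEG : E ⊆ (G : Set W) := by
    rintro _ ⟨v, rfl⟩ hvD
    obtain ⟨p, ⟨hp, hpE⟩, hpv⟩ := GrothLib.SpecSp.exists_specializes_of_mem_closure hD hvD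
    obtain ⟨y, hy⟩ := GrothLib.DVRDom.exists_specializes_of_mem_closure m p hp
    exact hpE (hm.mem_range_of_specializes hy hpv)
  have hclosed : ∀ x ∈ G, x ∈ closure E → x ∈ E := fun x hxG hx =>
    by_contra fun h => hxG (subset_closure ⟨hx, h⟩)
  let m' : V ⟶ G.toScheme := IsOpenImmersion.lift G.ι m (by rw [Scheme.Opens.range_ι]; exact hEG)
  have hm' : m' ≫ G.ι = m := IsOpenImmersion.lift_fac _ _ _
  have : IsLocallyNoetherian G.toScheme := LocallyOfFiniteType.isLocallyNoetherian G.ι
  have : Mono m' := mono_of_mono_fac hm'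
  have : LocallyOfFiniteType m' := have : LocallyOfFiniteType (m' ≫ G.ι) := hm' ▸ inferInstance; locallyOfFiniteType_of_comp m' G.ι
  have : QuasiCompact m' := have : QuasiCompact (m' ≫ G.ι) := hm' ▸ inferInstance; .of_comp m' G.ι
  have hp : IsProper m' := (Groth.Agent.S2335.result m').2 fun A _ _ _ x a hx => by
    let q := Spec.map (CommRingCat.ofHom (algebraMap A (FractionRing A)))
    have h0 : (a ≫ G.ι) (q (closedPoint _)) = m (x (closedPoint _)) := by
      rw [← Scheme.Hom.comp_apply, ← Scheme.Hom.comp_apply, ← Category.assoc, ← hx, Category.assoc, hm']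
    have h1 : (a ≫ G.ι) (closedPoint A) ∈ E := by
      refine hclosed _ ?_ ?_
      · rw [Scheme.Hom.comp_apply]; exact (a (closedPoint A)).2
      · exact ((IsLocalRing.specializes_closedPoint _).map (a ≫ G.ι).continuous).mem_closed isClosed_closure
          (subset_closure ⟨x (closedPoint _), h0.symm⟩)
    obtain ⟨l, hl⟩ := hm.exists_lift (a ≫ G.ι) (K := FractionRing A) ⟨_, h0.symm⟩ h1
    have hl' : l ≫ m' = a := by rw [← cancel_mono G.ι, Category.assoc, hm', hl]
    exact ⟨l, ⟨hl', by rw [← cancel_mono m', Category.assoc, hl']; exact hx.symm⟩,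
      fun l' hl'' => by rw [← cancel_mono m', hl', hl''.1]⟩
  have : IsClosedImmersion m' := (IsClosedImmersion.iff_isProper_and_mono m').2 ⟨hp, inferInstance⟩
  rw [← hm']
  infer_instance

/-- A quasi-compact monomorphism with lifting along discrete valuation rings is an immersion. -/
theorem DvrLift.isImmersion (hm : DvrLift m) [IsLocallyNoetherian W]
    [QuasiCompact m] [LocallyOfFinitePresentation m] : IsImmersion m := by
  rw [IsZariskiLocalAtTarget.iff_of_iSup_eq_top (P := @IsImmersion) _ (iSup_affineOpens_eq_top W)]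
  intro U
  have : IsAffine U.1.toScheme := U.2
  have : IsLocallyNoetherian U.1.toScheme := LocallyOfFiniteType.isLocallyNoetherian U.1.ι
  have sq := isPullback_morphismRestrict m U.1
  have : Mono (m ∣_ U.1) := ⟨fun s t e => sq.hom_ext e ((cancel_mono m).1 (by
    rw [Category.assoc, Category.assoc, ← sq.w, reassoc_of% e]))⟩
  have : LocallyOfFinitePresentation (m ∣_ U.1) := MorphismProperty.of_isPullback sq.flip ‹_›
  have : QuasiCompact (m ∣_ U.1) := MorphismProperty.of_isPullback sq.flip ‹_›
  have hU : DvrLift (m ∣_ U.1) := fun A _ _ _ K _ _ _ a ⟨l₀, h₀⟩ ⟨l₁, h₁⟩ => by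
    obtain ⟨l, hl⟩ := hm A K (a ≫ U.1.ι)
      ⟨l₀ ≫ (m ⁻¹ᵁ U.1).ι, by rw [Category.assoc, ← morphismRestrict_ι, reassoc_of% h₀]⟩
      ⟨l₁ ≫ (m ⁻¹ᵁ U.1).ι, by rw [Category.assoc, ← morphismRestrict_ι, reassoc_of% h₁]⟩
    exact ⟨sq.lift a l hl.symm, sq.lift_fst _ _ _⟩
  exact hU.isImmersion_of_isAffine

end GrothLib.MonoLift
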