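import Groth.Agent.Lib.AlgSt.OpenSub
import Groth.Agent.Lib.AlgSt.Setoid
import Groth.Agent.Lib.AlgSt.OpenGlue
import Groth.Agent.Lib.AlgSt.DiagRep
import Groth.Agent.Lib.AlgSt.LocQ
import Groth.Agent.Lib.AlgSp.Glue

/-!
# Stacks covered by open substacks which are spaces or schemes
-/

set_option backward.isDefEq.respectTransparency false
set_option backward.isDefEq.respectTransparency.types false

universe w u

open CategoryTheory CategoryTheory.Limits AlgebraicGeometry Opposite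

namespace GrothLib.AlgSt

open _root_.AlgSt GrothLib.FibCat

variable {S : Scheme.{u}} {𝒳 : _root_.AlgSt.Cat S}

/-- A stack covered by open substacks in setoids is in setoids. -/
theorem isFibSetoid_of_openSubstack_cover (h𝒳 : IsAlgStack Scheme.fppfPrecoverage 𝒳) {ι : Type w}
    (Q : ι → 𝒳.obj → Prop) (hQ : ∀ i, IsOpenSubstack 𝒳 (Q i) Scheme.fppfPrecoverage)
    (hcov : ⋃ i, Set.range (Points.map (subIncl 𝒳 (Q i))) = Set.univ)
    (hset : ∀ i, _root_.FibCat.IsFibSetoid (fullSub 𝒳 (Q i)).p) : _root_.FibCat.IsFibSetoid 𝒳.p := by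
  have hG := h𝒳.isStack.1
  refine ⟨hG, fun U A B => ⟨fun φ ψ => Subtype.ext ?_⟩⟩
  obtain ⟨a, ha⟩ := A
  obtain ⟨b, hb⟩ := B
  subst ha
  obtain ⟨φ, hφ⟩ := φ
  obtain ⟨ψ, hψ⟩ := ψ
  change φ = ψ
  change a ⟶ b at φ ψ
  change 𝒳.p.IsHomLift (𝟙 (𝒳.p.obj a)) φ at hφ
  change 𝒳.p.IsHomLift (𝟙 (𝒳.p.obj a)) ψ at hψ
  obtain ⟨y, ey, hey⟩ := Yon.exists_functor hG (U := 𝒳.p.obj a) a rfl
  have hW : ∀ t : ↥(𝒳.p.obj a).left, ∃ i, Points.ofChart y t ∈ Set.range (Points.map (subIncl 𝒳 (Q i))) :=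
    fun t => Set.mem_iUnion.1 (hcov.symm ▸ Set.mem_univ (Points.ofChart y t))
  choose i hi using hW
  let O : ∀ t, (𝒳.p.obj a).left.Opens := fun t =>
    ⟨_, (isOpen_range_of_isOpenSubstack h𝒳 (hQ (i t))).preimage (continuous_ofChart hG h𝒳.atlas y)⟩
  let V : ↥(𝒳.p.obj a).left → Over S := fun t => Over.mk ((O t).ι ≫ (𝒳.p.obj a).hom)
  let j : ∀ t, V t ⟶ 𝒳.p.obj a := fun t => Over.homMk (O t).ι rfl
  have hR : Sieve.ofArrows V j ∈ AlgSp.J S (𝒳.p.obj a) :=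
    ofArrows_two_mem V j (fun t => inferInstanceAs (IsOpenImmersion (O t).ι)) fun t => ⟨t, ⟨t, hi t⟩, rfl⟩
  refine GrothLib.Stk.hom_ext_cover hG (resSieve_ff h𝒳.isStack hR).2 φ ψ
    ((IsHomLift.fac' 𝒳.p (𝟙 (𝒳.p.obj a)) φ).trans (IsHomLift.fac' 𝒳.p (𝟙 (𝒳.p.obj a)) ψ).symm) fun W f hf => ?_
  obtain ⟨_, d, _, ⟨t⟩, rfl⟩ := hf
  obtain ⟨a', κ, hκ⟩ := hG.exists_lift (x := a) (d ≫ j t)
  obtain ⟨b', l, hl⟩ := IsFibGrpd.exists_lift_of_eq hG hb (d ≫ j t)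
  refine ⟨a', κ, hκ, ?_⟩
  have := hκ
  have := hl
  have h1 : 𝒳.p.IsHomLift (𝟙 W ≫ (d ≫ j t)) (κ ≫ φ) := by
    rw [Category.id_comp]; exact IsHomLift.comp_lift_id_right' 𝒳.p (d ≫ j t) κ (𝒳.p.obj a) φ
  have h2 : 𝒳.p.IsHomLift (𝟙 W ≫ (d ≫ j t)) (κ ≫ ψ) := by
    rw [Category.id_comp]; exact IsHomLift.comp_lift_id_right' 𝒳.p (d ≫ j t) κ (𝒳.p.obj a) ψ
  obtain ⟨φ', ⟨hφ', eφ⟩, -⟩ := IsFibGrpd.existsUnique_lift hG (d ≫ j t) (𝟙 W) l (κ ≫ φ)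
  obtain ⟨ψ', ⟨hψ', eψ⟩, -⟩ := IsFibGrpd.existsUnique_lift hG (d ≫ j t) (𝟙 W) l (κ ≫ ψ)
  have := hφ'
  have := hψ'
  have hQa : Q (i t) a' := by
    refine (openPred_range_iff h𝒳 (hQ (i t)) a').1 ?_
    have hdj : (_root_.FibCat.overCat (𝒳.p.obj a)).p.IsHomLift (d ≫ j t) (Yon.toId (Over.mk (d ≫ j t))) :=
      Yon.toId_lift (Over.mk (d ≫ j t))
    have hy1 : 𝒳.p.IsHomLift (d ≫ j t) (y.map (Yon.toId (Over.mk (d ≫ j t))) ≫ ey.hom) := by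
      have : 𝒳.p.IsHomLift (d ≫ j t) (y.map (Yon.toId (Over.mk (d ≫ j t)))) :=
        BasedFunctor.preserves_isHomLift y _ _
      have := hey
      exact IsHomLift.comp_lift_id_right' 𝒳.p (d ≫ j t) _ (𝒳.p.obj a) ey.hom
    obtain ⟨θ, -, -⟩ := IsFibGrpd.exists_iso_of_lifts hG (d ≫ j t) κ (y.map (Yon.toId (Over.mk (d ≫ j t))) ≫ ey.hom)
    have hmem : ∀ s : ↥W.left, Points.ofChart y ((O t).ι (d.left s)) ∈
        Set.range (Points.map (subIncl 𝒳 (Q (i t)))) := fun s => (d.left s).2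
    exact openPred_of_hom θ.inv ((openPred_obj_iff hG y (Over.mk (d ≫ j t))).2 hmem)
  have := IsFibGrpd.isIso_of_isHomLift_id hG (R := W) φ'
  have hQb : Q (i t) b' := (hQ (i t)).1.of_iso (asIso φ') hQa
  let A' : (fullSub 𝒳 (Q (i t))).p.Fiber W := ⟨⟨a', hQa⟩, IsHomLift.domain_eq 𝒳.p (d ≫ j t) κ⟩
  let B' : (fullSub 𝒳 (Q (i t))).p.Fiber W := ⟨⟨b', hQb⟩, IsHomLift.domain_eq 𝒳.p (d ≫ j t) l⟩
  have e : ∀ χ : a' ⟶ b', 𝒳.p.IsHomLift (𝟙 W) χ →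
      (fullSub 𝒳 (Q (i t))).p.IsHomLift (𝟙 W) (ObjectProperty.homMk (X := A'.1) (Y := B'.1) χ) := fun χ hχ =>
    IsHomLift.of_fac' _ _ _ A'.2 B'.2 (IsHomLift.fac' 𝒳.p (𝟙 W) χ)
  have h3 := ((hset (i t)).2 W A' B').allEq ⟨_, e φ' hφ'⟩ ⟨_, e ψ' hψ'⟩
  have h4 : φ' = ψ' := congrArg (fun q => q.1.hom) h3
  rw [← eφ, ← eψ, h4]

/-- A stack covered by open substacks which are spaces is a space. -/
theorem repByAlgSp_of_openSubstack_cover (h𝒳 : IsAlgStack Scheme.fppfPrecoverage 𝒳) {ι : Type w}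
    (Q : ι → 𝒳.obj → Prop) (hQ : ∀ i, IsOpenSubstack 𝒳 (Q i) Scheme.fppfPrecoverage)
    (hcov : ⋃ i, Set.range (Points.map (subIncl 𝒳 (Q i))) = Set.univ)
    (hsp : ∀ i, RepByAlgSp (fullSub 𝒳 (Q i))) : RepByAlgSp 𝒳 :=
  repByAlgSp_of_isFibSetoid h𝒳
    (isFibSetoid_of_openSubstack_cover h𝒳 Q hQ hcov fun i => isFibSetoid_of_repByAlgSp (hsp i))

/-- A stack covered by open substacks which are schemes is a scheme. -/
theorem isRepresentable_of_openSubstack_cover (h𝒳 : IsAlgStack Scheme.fppfPrecoverage 𝒳) {ι : Type w}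
    (Q : ι → 𝒳.obj → Prop) (hQ : ∀ i, IsOpenSubstack 𝒳 (Q i) Scheme.fppfPrecoverage)
    (hcov : ⋃ i, Set.range (Points.map (subIncl 𝒳 (Q i))) = Set.univ)
    (hsch : ∀ i, _root_.FibCat.IsRepresentable (fullSub 𝒳 (Q i))) : _root_.FibCat.IsRepresentable 𝒳 := by
  have hsch' : ∀ i, ∃ (X : Over S) (k : ofSch X ⥤ᵇ fullSub 𝒳 (Q i)), _root_.FibCat.IsEquivOver k := fun i => by
    obtain ⟨X, F, hF⟩ := hsch i
    obtain ⟨F', hF', -, -⟩ := IsEquivOver.symm hF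
    exact ⟨X, BasedFunctor.comp (toOverCat X) F', IsEquivOver.comp (isEquivOver_toOverCat X) hF'⟩
  choose X k hk using hsch'
  have hsp : ∀ i, RepByAlgSp (fullSub 𝒳 (Q i)) := fun i => ⟨⟨_, AlgSp.IsAlgSpace.yon_obj (X i)⟩, k i, hk i⟩
  obtain ⟨F, e, he⟩ := repByAlgSp_of_openSubstack_cover h𝒳 Q hQ hcov hsp
  obtain ⟨e', he', ⟨η⟩, ⟨ε⟩⟩ := IsEquivOver.symm he
  let b : ∀ i, (AlgSp.yon S).obj (X i) ⟶ F.obj := fun i =>
    spHom (BasedFunctor.comp (BasedFunctor.comp (k i) (subIncl 𝒳 (Q i))) e')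
  have hb : ∀ i, AlgSp.RepWith @IsOpenImmersion (b i) := fun i =>
    mem_of_repByAlgSpWith_ofSpMap isoInvariant_of_respectsIso (detectedBySchemes_repWith _)
      (AlgSp.IsAlgSpace.yon_obj _) F.property _
      (repByAlgSpWith_of_iso (isoOfSpHom _) (repByAlgSpWith_comp_equiv e' he'
        (repByAlgSpWith_equiv_comp (k i) (hk i) (hQ i).2.2)))
  obtain ⟨W, p, pe, ps⟩ := F.property.atlas
  have hsurj : ∀ x : AlgSp.Points F.obj, ∃ w : ↥W.left, AlgSp.Points.map p (AlgSp.Points.schemeHomeo W w) = x :=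
    fun x => by
      obtain ⟨z, rfl⟩ := GrothLib.AlgSp.surjective_map_of_repWith ps x
      obtain ⟨w, rfl⟩ := (AlgSp.Points.schemeHomeo W).surjective z
      exact ⟨w, rfl⟩
  have hpt : ∀ x : AlgSp.Points F.obj, ∃ i, x ∈ Set.range (AlgSp.Points.map (b i)) := fun x => by
    obtain ⟨r, rfl⟩ := toSpPoints_bijective.2 x
    obtain ⟨i, q, hq⟩ := Set.mem_iUnion.1 (hcov.symm ▸ Set.mem_univ (Points.map e r))
    obtain ⟨q', rfl⟩ := (points_map_bijective_of_isEquivOver (isFibGrpd_ofSp _) (k i) (hk i)).2 q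
    refine ⟨i, toSpPoints q', ?_⟩
    rw [← toSpPoints_map, ← points_map_congr (isoOfSpHom _) q', points_map_comp, points_map_comp, hq,
      ← points_map_comp]
    refine congrArg toSpPoints ?_
    refine ((points_map_bijective_of_isEquivOver (isFibGrpd_ofSp _) e he).1 ?_)
    rw [← points_map_comp]
    exact points_map_congr (whiskerLeftIso e ε) r
  choose ix hix using fun w : ↥W.left => hpt (AlgSp.Points.map p (AlgSp.Points.schemeHomeo W w))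
  obtain ⟨M, φ, -, -⟩ := GrothLib.AlgSp.exists_iso_yon_of_openCover (fun w => X (ix w)) (fun w => b (ix w))
    (fun w => hb (ix w)) fun x => by
      obtain ⟨w, rfl⟩ := hsurj x
      exact ⟨w, hix w⟩
  exact ⟨M, BasedFunctor.comp e' (BasedFunctor.comp (ofSpMap φ.inv) (toOverCat M)),
    IsEquivOver.comp he' (IsEquivOver.comp (isEquivOver_ofSpMap φ.inv) (isEquivOver_toOverCat M))⟩

end GrothLib.AlgSt
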