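import Groth.Agent.Lib.AlgSt.OpenSub

/-!
# Open immersions of full subcategories, by the chart criterion
-/

set_option autoImplicit false
set_option backward.isDefEq.respectTransparency false
set_option backward.isDefEq.respectTransparency.types false

universe u

open CategoryTheory CategoryTheory.Functor CategoryTheory.Limits AlgebraicGeometry

namespace GrothLib.AlgSt

open _root_.AlgSt GrothLib.FibCat

variable {S : Scheme.{u}} {𝒳 : _root_.AlgSt.Cat S}

/-- The inclusion of the full subcategory on `Q` is an open immersion when on every chart the objects in `Q`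
are those factoring through an open subscheme. -/
theorem isOpenImm_subIncl_of_charts {Q : 𝒳.obj → Prop} [hQ : ObjectProperty.IsClosedUnderIsomorphisms Q]
    (h : ∀ (U : Over S) (y : _root_.FibCat.overCat U ⥤ᵇ 𝒳), ∃ V : U.left.Opens,
      ∀ a : (_root_.FibCat.overCat U).obj, Q (y.obj a) ↔ ∀ t, a.hom.left t ∈ V) :
    IsOpenImm (subIncl 𝒳 Q) := by
  intro U y
  obtain ⟨V, hV⟩ := h U y
  let j : Over.mk (V.ι ≫ U.hom) ⟶ U := Over.homMk V.ι rfl
  let z : _root_.FibCat.overCat (Over.mk (V.ι ≫ U.hom)) ⥤ᵇ fullSub 𝒳 Q :=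
    liftSub Q (BasedFunctor.comp (GrothLib.FibCat.overMap j) y) fun a =>
      (hV ((GrothLib.FibCat.overMap j).obj a)).2 fun t => (a.hom.left t).2
  let E : _root_.FibCat.overCat (Over.mk (V.ι ≫ U.hom)) ⥤ᵇ _root_.FibCat.fp y (subIncl 𝒳 Q) :=
    _root_.FibCat.fpLift (GrothLib.FibCat.overMap j) z (Iso.refl _)
  have : Mono j := (Over.forget S).mono_of_mono_map (inferInstanceAs (Mono V.ι))
  have : (_root_.FibCat.fpFst y (subIncl 𝒳 Q)).toFunctor.Faithful := Fp.faithful_fpFst
  have hE : _root_.FibCat.IsEquivOver E := by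
    refine FFEssSurjOver.isEquivOver ⟨⟨fun {a b} ψ => ?_⟩, ⟨fun {a b φ φ'} h => ?_⟩, fun η => ?_⟩
    · have h1 : ψ.hom.fst.left ≫ b.hom ≫ j = a.hom ≫ j := Over.w ψ.hom.fst
      let φ : a ⟶ b := Over.homMk ψ.hom.fst.left (by rw [← cancel_mono j, Category.assoc]; exact h1)
      exact ⟨φ, (_root_.FibCat.fpFst y (subIncl 𝒳 Q)).toFunctor.map_injective
        (Over.OverMorphism.ext rfl)⟩
    · exact Over.OverMorphism.ext (congrArg (fun t => t.hom.fst.left) h)
    · have hη : Q (y.obj η.obj.fst) :=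
        ObjectProperty.IsClosedUnderIsomorphisms.of_iso η.obj.iso.symm η.obj.snd.property
      have hr : Set.range η.obj.fst.hom.left ⊆ Set.range V.ι := by
        rw [Scheme.Opens.range_ι]
        rintro _ ⟨t, rfl⟩
        exact (hV η.obj.fst).1 hη t
      let l : η.obj.fst.left ⟶ Over.mk (V.ι ≫ U.hom) :=
        Over.homMk (IsOpenImmersion.lift V.ι η.obj.fst.hom.left hr) (by
          change IsOpenImmersion.lift V.ι η.obj.fst.hom.left hr ≫ V.ι ≫ U.hom = _
          rw [IsOpenImmersion.lift_fac_assoc]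
          exact Over.w η.obj.fst.hom)
      let a : (_root_.FibCat.overCat (Over.mk (V.ι ≫ U.hom))).obj := Over.mk l
      have hl : l ≫ j = η.obj.fst.hom := Over.OverMorphism.ext (IsOpenImmersion.lift_fac V.ι _ hr)
      let i₁ : (GrothLib.FibCat.overMap j).obj a ≅ η.obj.fst := Over.isoMk (Iso.refl _) (by
        change 𝟙 _ ≫ η.obj.fst.hom = l ≫ j
        rw [Category.id_comp, hl])
      let i₂ : z.obj a ≅ η.obj.snd :=
        (ObjectProperty.ι Q).preimageIso (y.toFunctor.mapIso i₁ ≪≫ η.obj.iso)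
      refine ⟨a, Fp.isoMk i₁ i₂ ?_, (Fp.isHomLift_iff _ _).2 (IsHomLift.of_fac' _ _ _ rfl rfl (by
        change i₁.hom.left = _
        simp [i₁]
        rfl))⟩
      change y.map i₁.hom ≫ η.obj.iso.hom = 𝟙 _ ≫ (ObjectProperty.ι Q).map i₂.hom
      rw [Category.id_comp, Functor.preimageIso_hom, Functor.map_preimage]
      rfl
  refine HasRep.of_equiv E hE (π := GrothLib.FibCat.overMap j) (Iso.refl _) ?_
  refine ⟨⟨_, AlgSp.IsAlgSpace.yon_obj _⟩, toOverCat _, isEquivOver_toOverCat _, ?_⟩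
  rw [spMapOfOver_overMap]
  exact (AlgSp.repWith_yon_map_iff _ _).2 (inferInstanceAs (IsOpenImmersion V.ι))

end GrothLib.AlgSt
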