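import Groth.Agent.Lib.AlgSt.ChartArrowsExist
import Groth.Agent.Lib.AlgSp.LqfScheme
import Groth.Agent.Lib.DepthAlong.Smooth
import Groth.Agent.Lib.GrpdSlice13.Shrink
import Groth.Agent.Lib.GrpdQuot.Restrict
import Groth.Agent.Lib.EtBasicB.FtPoints
import Groth.Agent.Lib.AlgSt.DescRep
import Groth.Agent.S7508

/-!
# Flat, locally quasi-finite covers of quasi-DM stacks
-/

set_option backward.isDefEq.respectTransparency false
set_option backward.isDefEq.respectTransparency.types false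

universe u

open CategoryTheory CategoryTheory.Limits AlgebraicGeometry Opposite

namespace GrothLib.AlgSt.QDMCover

open _root_.AlgSt GrothLib.FibCat GrothLib.AlgSt

/-- Smooth morphisms are Cohen–Macaulay. -/
theorem isCMAt_of_smooth {X Y : Scheme.{u}} (f : X ⟶ Y) [Smooth f] (x : X) : MoreMor.IsCMAt f x := by
  refine ⟨Flat.iff_flat_stalkMap f |>.1 inferInstance x, ?_⟩
  have : IsRegularLocalRing ((f.fiber (f x)).presheaf.stalk (f.asFiber x)) :=
    GrothLib.DepthAlong.isRegularLocalRing_fiberStalk f x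
  obtain ⟨rs, h1, h2, h3⟩ :=
    GrothLib.CMFree.exists_weaklyRegular_of_isRegularLocalRing ((f.fiber (f x)).presheaf.stalk (f.asFiber x))
  exact GrothLib.CMFree.isCohenMacaulayLocalRing_of_weaklyRegular _ rs h1 h2 h3.ge

/-- An open set with all finite type points is everything. -/
theorem mem_of_forall_ftPoint {X : Scheme.{u}} {O : Set X} (hO : IsOpen O)
    (h : ∀ u : X, LocallyOfFiniteType (X.fromSpecResidueField u) → u ∈ O) (u : X) : u ∈ O := by
  by_contra hu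
  obtain ⟨v, hv, hv'⟩ := GrothLib.EtBasicB.nonempty_inter_ftPoints (Oᶜ : Set X) hO.isClosed_compl.isLocallyClosed
    ⟨u, hu⟩
  exact hv (h v hv')

variable {S : Scheme.{u}} {𝒳 : _root_.AlgSt.Cat S}

set_option maxHeartbeats 1000000 in
/-- The pullback of the diagonal along the pair of projections is the self product of the chart. -/
theorem isEquivOver_pairToFp_map (h𝒮 : _root_.FibCat.IsFibGrpd 𝒳.p) {U : Over S}
    (x : _root_.FibCat.overCat U ⥤ᵇ 𝒳) :
    ∃ E : _root_.FibCat.fp (ChartArr.W x) (ChartArr.D 𝒳) ⥤ᵇ _root_.FibCat.fp x x,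
      _root_.FibCat.IsEquivOver E ∧ BasedFunctor.comp E (_root_.FibCat.fpFst x x) =
        BasedFunctor.comp (_root_.FibCat.fpFst (ChartArr.W x) (ChartArr.D 𝒳))
          (GrothLib.FibCat.overMap (prod.fst : U ⨯ U ⟶ U)) ∧
      BasedFunctor.comp E (_root_.FibCat.fpSnd x x) =
        BasedFunctor.comp (_root_.FibCat.fpFst (ChartArr.W x) (ChartArr.D 𝒳))
          (GrothLib.FibCat.overMap (prod.snd : U ⨯ U ⟶ U)) := by
  let p₁ : U ⨯ U ⟶ U := prod.fst
  let p₂ : U ⨯ U ⟶ U := prod.snd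
  let y₁ := BasedFunctor.comp (GrothLib.FibCat.overMap p₁) x
  let y₂ := BasedFunctor.comp (GrothLib.FibCat.overMap p₂) x
  let w := ChartArr.W x
  let M : _root_.FibCat.fp y₁ y₂ ⥤ᵇ _root_.FibCat.fp x x :=
    Fp.map (GrothLib.FibCat.overMap p₁) (GrothLib.FibCat.overMap p₂) (BasedFunctor.id 𝒳) (Iso.refl _) (Iso.refl _)
  have M_iso : ∀ z, (M.obj z).obj.iso.hom = z.obj.iso.hom := fun z => (Category.id_comp _).trans (Category.comp_id _)
  refine ⟨BasedFunctor.comp (pairToFp w) M, ?_, rfl, rfl⟩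
  have := faithful_pairToFp w
  refine FFEssSurjOver.isEquivOver ⟨⟨fun {a b} ψ => ?_⟩, ⟨fun {a b φ φ'} hh => ?_⟩, fun η => ?_⟩
  · let ψ₁ : a.obj.fst.left ⟶ b.obj.fst.left := ψ.hom.fst.left
    have hs : ψ.hom.snd.left = ψ₁ := by
      have h3 := IsHomLift.fac' (_root_.FibCat.overCat U).p ((_root_.FibCat.fp x x).p.map ψ) ψ.hom.snd
      exact h3.trans (by erw [eqToHom_refl, eqToHom_refl, Category.id_comp, Category.comp_id]; rfl)
    have hf1 : ψ₁ ≫ (b.obj.fst.hom ≫ p₁) = a.obj.fst.hom ≫ p₁ := Over.w ψ.hom.fst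
    have hf2 : ψ₁ ≫ (b.obj.fst.hom ≫ p₂) = a.obj.fst.hom ≫ p₂ := hs ▸ Over.w ψ.hom.snd
    let g : a.obj.fst ⟶ b.obj.fst := Over.homMk ψ₁
      (prod.hom_ext (by rw [Category.assoc]; exact hf1) (by rw [Category.assoc]; exact hf2))
    have e1 : (GrothLib.FibCat.overMap p₁).map g = ψ.hom.fst := Over.OverMorphism.ext rfl
    have e2 : (GrothLib.FibCat.overMap p₂).map g = ψ.hom.snd := Over.OverMorphism.ext hs.symm
    have hw : x.map ψ.hom.fst ≫ (M.obj ((pairToFp w).obj b)).obj.iso.hom =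
        (M.obj ((pairToFp w).obj a)).obj.iso.hom ≫ x.map ψ.hom.snd := Fp.w ψ
    rw [M_iso, M_iso, ← e1, ← e2] at hw
    let χ : (pairToFp w).obj a ⟶ (pairToFp w).obj b := Fp.homMk g g hw
    obtain ⟨φ, hφ⟩ := exists_map_pairToFp w χ rfl
    refine ⟨φ, ?_⟩
    change M.map ((pairToFp w).map φ) = ψ
    rw [hφ]
    exact Fp.hom_ext e1 e2
  · refine (pairToFp w).toFunctor.map_injective (Fp.hom_ext (Over.OverMorphism.ext ?_) (Over.OverMorphism.ext ?_))
    · exact congrArg (fun t => t.hom.fst.left) hh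
    · exact congrArg (fun t => t.hom.snd.left) hh
  · have hsl : η.obj.snd.left = η.obj.fst.left := Fp.snd_proj η
    let b : (_root_.FibCat.overCat (U ⨯ U)).obj :=
      Over.mk (prod.lift η.obj.fst.hom (eqToHom hsl.symm ≫ η.obj.snd.hom))
    let i₁ : (GrothLib.FibCat.overMap p₁).obj b ≅ η.obj.fst := Over.isoMk (Iso.refl η.obj.fst.left) (by
      change 𝟙 _ ≫ η.obj.fst.hom = prod.lift _ _ ≫ p₁
      simp [p₁])
    let i₂ : (GrothLib.FibCat.overMap p₂).obj b ≅ η.obj.snd := Over.isoMk (eqToIso hsl.symm) (by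
      change eqToHom hsl.symm ≫ η.obj.snd.hom = prod.lift _ _ ≫ p₂
      simp only [p₂, prod.lift_snd])
    have hi₁ : (_root_.FibCat.overCat U).p.IsHomLift (𝟙 η.obj.fst.left) i₁.hom :=
      IsHomLift.of_fac' _ _ _ rfl rfl (by simp [i₁]; rfl)
    have hi₂ : (_root_.FibCat.overCat U).p.IsHomLift (𝟙 η.obj.fst.left) i₂.hom :=
      IsHomLift.of_fac' _ _ _ rfl hsl (by simp [i₂]; rfl)
    have hη : 𝒳.p.IsHomLift (𝟙 η.obj.fst.left) η.obj.iso.hom := Fp.iso_lift η
    let i : y₁.obj b ≅ y₂.obj b := x.toFunctor.mapIso i₁ ≪≫ η.obj.iso ≪≫ (x.toFunctor.mapIso i₂).symm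
    have hi : 𝒳.p.IsHomLift (𝟙 η.obj.fst.left) i.hom := by
      have := isHomLift_id_inv (_root_.FibCat.overCat U).p (R := η.obj.fst.left) i₂
      exact inferInstanceAs (𝒳.p.IsHomLift (𝟙 η.obj.fst.left) (x.map i₁.hom ≫ η.obj.iso.hom ≫ x.map i₂.inv))
    have hi' : 𝒳.p.IsHomLift (𝟙 (𝒳.p.obj (w.obj b).obj.fst)) i.hom :=
      isHomLift_id_domain 𝒳.p (R := η.obj.fst.left) i.hom
    obtain ⟨z, ε, hε⟩ := exists_obj_pairToFp w h𝒮 b i hi (selfOver_hom_ext _ _ (Fp.iso_lift (w.obj b))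
      (BasedFunctor.preserves_isHomLift (_root_.FibCat.toSelf 𝒳) (𝟙 (𝒳.p.obj (w.obj b).obj.fst)) i.hom))
    let ε₂ : M.obj (Fp.mk b b i hi) ≅ η := Fp.isoMk i₁ i₂ (by
      rw [M_iso]
      change x.map i₁.hom ≫ η.obj.iso.hom = (x.map i₁.hom ≫ η.obj.iso.hom ≫ x.map i₂.inv) ≫ x.map i₂.hom
      rw [Category.assoc, Category.assoc, ← x.map_comp, i₂.inv_hom_id, x.map_id, Category.comp_id])
    refine ⟨z, M.toFunctor.mapIso ε ≪≫ ε₂, ?_⟩
    have h1 : (_root_.FibCat.fp x x).p.IsHomLift (𝟙 η.obj.fst.left) (M.map ε.hom) := (M.isHomLift_iff _ _).2 hε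
    have h2 : (_root_.FibCat.fp x x).p.IsHomLift (𝟙 η.obj.fst.left) ε₂.hom := (Fp.isHomLift_iff _ _).2 hi₁
    exact inferInstanceAs ((_root_.FibCat.fp x x).p.IsHomLift (𝟙 η.obj.fst.left) (M.map ε.hom ≫ ε₂.hom))

theorem spMapOfOver_overMap_comp {F : AlgSp.Sp S} {V V' : Over S} (Φ : ofSp F ⥤ᵇ _root_.FibCat.overCat V)
    (f : V ⟶ V') :
    spMapOfOver (BasedFunctor.comp Φ (GrothLib.FibCat.overMap f)) = spMapOfOver Φ ≫ (AlgSp.yon S).map f := by
  refine ObjectProperty.hom_ext _ ?_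
  ext T s
  refine ULift.ext _ _ ?_
  exact (Category.assoc _ _ _).symm

theorem spMapOfOver_assoc {F G : AlgSp.Sp S} {𝒵 : _root_.AlgSt.Cat S} {V : Over S} (m : F ⟶ G) (e : ofSp G ⥤ᵇ 𝒵)
    (p : 𝒵 ⥤ᵇ _root_.FibCat.overCat V) :
    spMapOfOver (BasedFunctor.comp (BasedFunctor.comp (ofSpMap m) e) p) = m ≫ spMapOfOver (BasedFunctor.comp e p) :=
  spMapOfOver_ofSpMap_comp m (BasedFunctor.comp e p)

theorem spMapOfOver_comp_of_eq {F : AlgSp.Sp S} {𝒵 𝒵' : _root_.AlgSt.Cat S} {V V' : Over S} (e : ofSp F ⥤ᵇ 𝒵)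
    (e₂ : 𝒵 ⥤ᵇ 𝒵') {p : 𝒵' ⥤ᵇ _root_.FibCat.overCat V'} {q : 𝒵 ⥤ᵇ _root_.FibCat.overCat V} {f : V ⟶ V'}
    (h : BasedFunctor.comp e₂ p = BasedFunctor.comp q (GrothLib.FibCat.overMap f)) :
    spMapOfOver (BasedFunctor.comp (BasedFunctor.comp e e₂) p) =
      spMapOfOver (BasedFunctor.comp e q) ≫ (AlgSp.yon S).map f := by
  change spMapOfOver (BasedFunctor.comp e (BasedFunctor.comp e₂ p)) = _
  rw [h]
  exact spMapOfOver_overMap_comp (BasedFunctor.comp e q) f

theorem spMapOfOver_symm {F : AlgSp.Sp S} {V V' : Over S} {x : _root_.FibCat.overCat V ⥤ᵇ 𝒳}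
    {x' : _root_.FibCat.overCat V' ⥤ᵇ 𝒳} (e : ofSp F ⥤ᵇ _root_.FibCat.fp x x') :
    spMapOfOver (BasedFunctor.comp (BasedFunctor.comp e (Fp.symm x x')) (_root_.FibCat.fpFst x' x)) =
      spMapOfOver (BasedFunctor.comp e (_root_.FibCat.fpSnd x x')) ∧
    spMapOfOver (BasedFunctor.comp (BasedFunctor.comp e (Fp.symm x x')) (_root_.FibCat.fpSnd x' x)) =
      spMapOfOver (BasedFunctor.comp e (_root_.FibCat.fpFst x x')) :=
  ⟨rfl, rfl⟩

/-- Flat, locally finitely presented and locally quasi-finite. -/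
abbrev FQF : MorphismProperty Scheme.{u} := @Flat ⊓ @LocallyOfFinitePresentation ⊓ @LocallyQuasiFinite

theorem etLocal_FQF : GrothLib.AlgSp.EtLocal FQF.{u} :=
  (GrothLib.AlgSp.EtLocal.flat.inf GrothLib.AlgSp.EtLocal.lfp).inf GrothLib.AlgSp.EtLocal.lqf

theorem fppfDescends_FQF : GrothLib.AlgSp.FppfDescends FQF.{u} :=
  fun _ _ _ _ _ _ _ _ sq h1 h2 h3 h => ⟨⟨GrothLib.AlgSp.fppfDescends_flat _ _ _ _ sq h1 h2 h3 h.1.1,
    GrothLib.AlgSp.fppfDescends_lfp _ _ _ _ sq h1 h2 h3 h.1.2⟩,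
    GrothLib.AlgSp.fppfDescends_locallyQuasiFinite _ _ _ _ sq h1 h2 h3 h.2⟩

theorem descendsToSchemes_isSurjectiveMor : DescendsToSchemes (AlgSp.IsSurjectiveMor (S := S)) := by
  intro F hF U V c _ _ h3 b h x
  obtain ⟨v, hv⟩ := GrothLib.AlgSp.surjective_map_of_repWith ((AlgSp.repWith_yon_map_iff _ _).2 h3) x
  obtain ⟨t, ht⟩ := h v
  refine ⟨AlgSp.Points.map (pullback.snd _ _) t, ?_⟩
  rw [← AlgSp.Points.map_comp, ← pullback.condition, AlgSp.Points.map_comp, ht, hv]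

theorem isSurjectiveMor_yon {V W : Over S} (h : V ⟶ W) [Surjective h.left] :
    AlgSp.IsSurjectiveMor ((AlgSp.yon S).map h) :=
  fun y => GrothLib.AlgSp.surjective_map_of_repWith ((AlgSp.repWith_yon_map_iff _ _).2 ‹Surjective h.left›) y

/-- The morphism from a part of the atlas is flat, locally quasi-finite and surjective as soon as the translates of
that part cover the atlas in this way. -/
theorem repByAlgSpWith_slice (h𝒳 : IsAlgStack Scheme.fppfPrecoverage 𝒳) {U : Over S}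
    (x : _root_.FibCat.overCat U ⥤ᵇ 𝒳) (hx : RepByAlgSpWith (AlgSp.LocP @Smooth) x)
    (hxs : RepByAlgSpWith AlgSp.IsSurjectiveMor x) {R : Over S}
    (Ex : ofSp ((AlgSp.yon S).obj R) ⥤ᵇ _root_.FibCat.fp x x) (hEx : _root_.FibCat.IsEquivOver Ex) (t s : R ⟶ U)
    (hfst : spMapOfOver (BasedFunctor.comp Ex (_root_.FibCat.fpFst x x)) = (AlgSp.yon S).map s)
    (hsnd : spMapOfOver (BasedFunctor.comp Ex (_root_.FibCat.fpSnd x x)) = (AlgSp.yon S).map t)
    {W : Over S} (g : W ⟶ U) (hh : FQF (pullback.snd g.left t.left ≫ s.left))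
    (hhs : Surjective (pullback.snd g.left t.left ≫ s.left)) :
    RepByAlgSpWith (AlgSp.LocP FQF ⊓ AlgSp.IsSurjectiveMor)
      (BasedFunctor.comp (GrothLib.FibCat.overMap g) x) := by
  let w := BasedFunctor.comp (GrothLib.FibCat.overMap g) x
  have hP : IsoInvariant (AlgSp.LocP FQF ⊓ AlgSp.IsSurjectiveMor : MorphismProperty (AlgSp.Sp S)) :=
    fun _ _ _ hF hG φ _ a ha => ⟨isoInvariant_locP hF hG φ a ha.1, isoInvariant_surjective hF hG φ a ha.2⟩
  have hD : DescendsToSchemes (AlgSp.LocP FQF ⊓ AlgSp.IsSurjectiveMor : MorphismProperty (AlgSp.Sp S)) :=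
    (descendsToSchemes_locP etLocal_FQF fppfDescends_FQF).inf descendsToSchemes_isSurjectiveMor
  have hw : RepByAlgSp1 w := repByAlgSp1_of_diag h𝒳.diag h𝒳.isStack.1 w
  have hl : LiftsFppf x := liftsFppf_of_repByAlgSpWith x
    (repByAlgSpWith_mono (fun _ _ _ _ _ h =>
      GrothLib.AlgSp.locP_mono (Q := @Flat) (fun _ _ c (_ : Smooth c) => inferInstance) h) hx)
    (repByAlgSpWith_mono (fun _ _ _ _ _ h =>
      GrothLib.AlgSp.locP_mono (Q := @LocallyOfFinitePresentation) (fun _ _ c (_ : Smooth c) => inferInstance) h) hx)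
    hxs
  -- the self product, cut along `g`
  let T := pullback t g
  let H : T ⟶ U := pullback.fst t g ≫ s
  have sqT := IsPullback.of_hasPullback ((AlgSp.yon S).map t) ((AlgSp.yon S).map g)
  have := IsEquivOver.full (isEquivOver_toOverCat U)
  have := IsEquivOver.faithful (isEquivOver_toOverCat U)
  obtain ⟨ig⟩ := iso_toOverCat_overMap g
  let M := Fp.map (F := ofSpMap ((AlgSp.yon S).map t)) (G := ofSpMap ((AlgSp.yon S).map g)) Ex (toOverCat W)
    (toOverCat U)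
    (isoOfSpMapOfOver (BasedFunctor.comp Ex (_root_.FibCat.fpSnd x x)) ≪≫
      whiskerRightIso (eqToIso (congrArg ofSpMap hsnd)) (toOverCat U)) ig
  let sqy := GrothLib.AlgSp.isPullback_yon (IsPullback.of_hasPullback t g)
  let EA := BasedFunctor.comp (spToFp sqy.w)
    (BasedFunctor.comp M (Fp.pasteComp (GrothLib.FibCat.overMap g) x x))
  have hEA : _root_.FibCat.IsEquivOver EA := IsEquivOver.comp (isEquivOver_spToFp sqy) (IsEquivOver.comp
    (Fp.isEquivOver_map _ _ _ _ _ hEx (isEquivOver_toOverCat W))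
    (Fp.isEquivOver_pasteComp (GrothLib.FibCat.overMap g) x x))
  have hA : spMapOfOver (BasedFunctor.comp EA (_root_.FibCat.fpFst x w)) = (AlgSp.yon S).map H := by
    change spMapOfOver (BasedFunctor.comp (ofSpMap ((AlgSp.yon S).map (pullback.fst t g)))
      (BasedFunctor.comp Ex (_root_.FibCat.fpFst x x))) = _
    rw [spMapOfOver_ofSpMap_comp, hfst, ← Functor.map_comp]
  have hH : FQF H.left ∧ Surjective H.left := by
    have sq := GrothLib.AlgSp.isPullback_left (IsPullback.of_hasPullback t g)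
    have e : H.left = sq.flip.isoPullback.hom ≫ pullback.snd g.left t.left ≫ s.left := by
      rw [← Category.assoc, IsPullback.isoPullback_hom_snd]
      rfl
    rw [e]
    exact ⟨((FQF.{u}).cancel_left_of_respectsIso _ _).2 hh,
      (MorphismProperty.cancel_left_of_respectsIso (P := (@Surjective : MorphismProperty Scheme.{u})) _ _).2 hhs⟩
  refine repByAlgSpWith_of_fpFst hP hD hw hl fun V y => ?_
  obtain ⟨j⟩ : Nonempty (y ≅ GrothLib.FibCat.overMap (sliceHom y)) := ⟨isoOverMap y⟩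
  let b : V ⟶ U := sliceHom y
  -- base change along `b`
  let Q := pullback b H
  have sqQ := IsPullback.of_hasPullback b H
  obtain ⟨ib⟩ := iso_toOverCat_overMap b
  let M₂ := Fp.map (F := ofSpMap ((AlgSp.yon S).map b)) (G := ofSpMap ((AlgSp.yon S).map H)) (toOverCat V) EA
    (toOverCat U) ib (isoOfSpMapOfOver (BasedFunctor.comp EA (_root_.FibCat.fpFst x w)) ≪≫
      whiskerRightIso (eqToIso (congrArg ofSpMap hA)) (toOverCat U))
  let E := BasedFunctor.comp (spToFp (GrothLib.AlgSp.isPullback_yon sqQ).w)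
    (BasedFunctor.comp M₂ (Fp.congr j.symm (Iso.refl _)))
  have hE : _root_.FibCat.IsEquivOver E := IsEquivOver.comp (isEquivOver_spToFp (GrothLib.AlgSp.isPullback_yon sqQ))
    (IsEquivOver.comp (Fp.isEquivOver_map _ _ _ _ _ (isEquivOver_toOverCat V) hEA) (Fp.isEquivOver_congr _ _))
  refine ⟨⟨_, AlgSp.IsAlgSpace.yon_obj Q⟩, E, hE, ?_⟩
  have e : spMapOfOver (BasedFunctor.comp E (_root_.FibCat.fpFst y (_root_.FibCat.fpFst x w))) =
      (AlgSp.yon S).map (pullback.fst b H) := spMapOfOver_toOverCat _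
  rw [e]
  have sql := GrothLib.AlgSp.isPullback_left sqQ
  have hq : FQF (pullback.fst b H).left := by
    have := etLocal_FQF.{u}.baseChange
    exact MorphismProperty.of_isPullback sql.flip hH.1
  have : Surjective (pullback.fst b H).left := MorphismProperty.of_isPullback sql.flip hH.2
  exact ⟨GrothLib.AlgSp.EtLocal.locP_of_repWith etLocal_FQF (AlgSp.IsAlgSpace.yon_obj V)
    ((AlgSp.repWith_yon_map_iff _ _).2 hq), isSurjectiveMor_yon _⟩

/-- Local checking of a property of the translates of a coproduct of slices. -/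
theorem slice_of_sigma {G : Grpd.GroupoidScheme S} {ι : Type u} (Z : ι → Scheme.{u}) (g : ∀ i, Z i ⟶ G.U)
    (P : MorphismProperty Scheme.{u}) [IsZariskiLocalAtSource P]
    (h : ∀ i, P (pullback.snd (g i) G.t ≫ G.s)) :
    P (pullback.snd (Sigma.desc g) G.t ≫ G.s) := by
  let 𝒰 := (sigmaOpenCover Z).pullback₁ (pullback.fst (Sigma.desc g) G.t)
  refine IsZariskiLocalAtSource.of_openCover 𝒰 fun i => ?_
  have sq : IsPullback (pullback.snd (pullback.fst (Sigma.desc g) G.t) (Sigma.ι Z i))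
      (pullback.fst (pullback.fst (Sigma.desc g) G.t) (Sigma.ι Z i) ≫ pullback.snd (Sigma.desc g) G.t) (g i) G.t := by
    have := (IsPullback.of_hasPullback (pullback.fst (Sigma.desc g) G.t) (Sigma.ι Z i)).flip.paste_vert
      (IsPullback.of_hasPullback (Sigma.desc g) G.t)
    rwa [Sigma.ι_desc] at this
  change P (pullback.fst (pullback.fst (Sigma.desc g) G.t) (Sigma.ι Z i) ≫ pullback.snd (Sigma.desc g) G.t ≫ G.s)
  have e : pullback.fst (pullback.fst (Sigma.desc g) G.t) (Sigma.ι Z i) ≫ pullback.snd (Sigma.desc g) G.t =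
      sq.isoPullback.hom ≫ pullback.snd (g i) G.t := sq.isoPullback_hom_snd.symm
  rw [← Category.assoc, e, Category.assoc]
  exact (P.cancel_left_of_respectsIso _ _).2 (h i)

set_option maxHeartbeats 2000000 in
theorem exists_qdm_cover (h𝒳 : IsAlgStack Scheme.fppfPrecoverage 𝒳)
    (hΔ : RepByAlgSpWith (AlgSp.IsSeparatedMor ⊓ AlgSp.IsQuasiCompactMor)
      (_root_.FibCat.diag (_root_.FibCat.toSelf 𝒳)))
    (hqf : IsQuasiDMOver 𝒳) :
    ∃ (W : Over S) (w : _root_.FibCat.overCat W ⥤ᵇ 𝒳),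
      RepByAlgSpWith (AlgSp.LocP FQF ⊓ AlgSp.IsSurjectiveMor) w := by
  have g𝒳 := h𝒳.isStack.1
  obtain ⟨U, x, hx, hxs⟩ := h𝒳.atlas
  obtain ⟨P, eP, heP, hlq, hsep, -⟩ := repByAlgSpWith_inf (f := _root_.FibCat.diag (_root_.FibCat.toSelf 𝒳))
    isoInvariant_locP hqf hΔ (U ⨯ U) (ChartArr.W x)
  obtain ⟨R, ⟨m⟩⟩ := GrothLib.AlgSp.exists_iso_yon_of_lqf_separated P.property
    (spMapOfOver (BasedFunctor.comp eP (_root_.FibCat.fpFst (ChartArr.W x) (ChartArr.D 𝒳)))) hlq hsep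
  let E := BasedFunctor.comp (ofSpMap m.hom) eP
  have hE : _root_.FibCat.IsEquivOver E := IsEquivOver.comp (isEquivOver_ofSpMap m.hom) heP
  obtain ⟨A, ⟨EA, hEA, hjA⟩, hjlq⟩ := ChartArr.exists_arrows g𝒳 x E hE
    (fun Z j => (∃ E : ofSp ((AlgSp.yon S).obj Z) ⥤ᵇ _root_.FibCat.fp (ChartArr.W x) (ChartArr.D 𝒳),
      _root_.FibCat.IsEquivOver E ∧ (AlgSp.yon S).map j =
        spMapOfOver (BasedFunctor.comp E (_root_.FibCat.fpFst (ChartArr.W x) (ChartArr.D 𝒳)))) ∧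
      (LocallyQuasiFinite j.left ∧ LocallyOfFiniteType j.left))
    fun j hj => ⟨⟨E, hE, hj⟩, hlq m.hom (𝟙 _) j (GrothLib.AlgSp.repWith_iso m.hom)
      (AlgSp.repWith_id _ _) (by
        rw [hj, Category.comp_id]
        exact (spMapOfOver_assoc m.hom eP _).symm)⟩
  obtain ⟨E₂, hE₂, h₂f, h₂s⟩ := isEquivOver_pairToFp_map g𝒳 x
  let E₁ := BasedFunctor.comp EA E₂
  have hE₁ : _root_.FibCat.IsEquivOver E₁ := IsEquivOver.comp hEA hE₂
  have hEf : spMapOfOver (BasedFunctor.comp E₁ (_root_.FibCat.fpFst x x)) = (AlgSp.yon S).map A.t := by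
    rw [spMapOfOver_comp_of_eq EA E₂ h₂f, ← hjA, ← Functor.map_comp, prod.lift_fst]
  have hEs : spMapOfOver (BasedFunctor.comp E₁ (_root_.FibCat.fpSnd x x)) = (AlgSp.yon S).map A.s := by
    rw [spMapOfOver_comp_of_eq EA E₂ h₂s, ← hjA, ← Functor.map_comp, prod.lift_snd]
  let E₁' := BasedFunctor.comp E₁ (Fp.symm x x)
  have hE₁' : _root_.FibCat.IsEquivOver E₁' := IsEquivOver.comp hE₁ (Fp.isEquivOver_symm x x)
  have ht : Smooth A.t.left := GrothLib.AlgSp.locP_yon_map (P := @Smooth)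
    (hEf ▸ HasRep.mem (hx U x) isoInvariant_locP ⟨_, AlgSp.IsAlgSpace.yon_obj A.R⟩ E₁ hE₁)
  have hs : Smooth A.s.left := GrothLib.AlgSp.locP_yon_map (P := @Smooth)
    (((spMapOfOver_symm E₁).1.trans hEs) ▸ HasRep.mem (hx U x) isoInvariant_locP ⟨_, AlgSp.IsAlgSpace.yon_obj A.R⟩ E₁' hE₁')
  obtain ⟨G, hU, hR, hpU, hGs, hGt⟩ := ChartArr.exists_groupoid g𝒳 A
  obtain ⟨GU, GR, pU, pR, sG, tG, e, i, c, hso, hto, c1, c2, c3, c4, c5, c6, c7, c8, c9, c10, c11⟩ := G
  dsimp only at hU hR hpU hGs hGt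
  subst hU hR
  simp only [eqToHom_refl, Category.id_comp, Category.comp_id] at hpU hGs hGt
  subst hpU hGs hGt
  let G : Grpd.GroupoidScheme S := ⟨U.left, A.R.left, U.hom, pR, A.s.left, A.t.left, e, i, c, hso, hto, c1, c2, c3, c4,
    c5, c6, c7, c8, c9, c10, c11⟩
  have hjG : LocallyQuasiFinite G.j ∧ LocallyOfFiniteType G.j := by
    have sqp : IsPullback (prod.fst : U ⨯ U ⟶ U).left (prod.snd : U ⨯ U ⟶ U).left U.hom U.hom :=
      Over.isPullback_of_binaryFan_isLimit (BinaryFan.mk prod.fst prod.snd) (prodIsProd U U)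
    have e : G.j = (prod.lift A.t A.s).left ≫ sqp.isoPullback.hom := by
      refine pullback.hom_ext ?_ ?_
      · rw [Category.assoc, sqp.isoPullback_hom_fst, ← Over.comp_left, prod.lift_fst]
        exact pullback.lift_fst _ _ _
      · rw [Category.assoc, sqp.isoPullback_hom_snd, ← Over.comp_left, prod.lift_snd]
        exact pullback.lift_snd _ _ _
    have := hjlq.1
    have := hjlq.2
    rw [e]
    exact ⟨inferInstance, inferInstance⟩
  have := hjG.1
  have := hjG.2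
  have : LocallyQuasiFinite G.stabilizerToU := MorphismProperty.pullback_snd _ _ ‹LocallyQuasiFinite G.j›
  have : LocallyOfFiniteType G.stabilizerToU := MorphismProperty.pullback_snd _ _ ‹LocallyOfFiniteType G.j›
  have : LocallyOfFinitePresentation G.s := (inferInstanceAs (LocallyOfFinitePresentation A.s.left))
  have : LocallyOfFinitePresentation G.t := (inferInstanceAs (LocallyOfFinitePresentation A.t.left))
  let ι := {u : G.U // LocallyOfFiniteType (G.U.fromSpecResidueField u)}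
  have key := fun u : ι => Groth.Agent.S7508.result S G
    (fun r => (GrothLib.GrpdSlice13.grpd_iff _ _).2 (isCMAt_of_smooth A.s.left r))
    (fun r => (GrothLib.GrpdSlice13.grpd_iff _ _).2 (isCMAt_of_smooth A.t.left r)) u.1 u.2
  choose Z hZ g pt himm hlfp hpt hprop _ _ using key
  let W : Over S := Over.mk (Sigma.desc g ≫ U.hom)
  let gW : W ⟶ U := Over.homMk (Sigma.desc g) rfl
  have hfl : Flat (pullback.snd (Sigma.desc g) G.t ≫ G.s) := slice_of_sigma Z g @Flat fun i => (hprop i).1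
  have hfp : LocallyOfFinitePresentation (pullback.snd (Sigma.desc g) G.t ≫ G.s) :=
    slice_of_sigma Z g @LocallyOfFinitePresentation fun i => (hprop i).2.1
  have hlf : LocallyQuasiFinite (pullback.snd (Sigma.desc g) G.t ≫ G.s) :=
    slice_of_sigma Z g @LocallyQuasiFinite fun i => (hprop i).2.2.2
  have hsu : Surjective (pullback.snd (Sigma.desc g) G.t ≫ G.s) := by
    refine ⟨fun v => mem_of_forall_ftPoint (O := Set.range (pullback.snd (Sigma.desc g) G.t ≫ G.s))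
      (Scheme.Hom.isOpenMap _).isOpen_range (fun v hv => ?_) v⟩
    have he : (Sigma.desc g) (Sigma.ι Z ⟨v, hv⟩ (pt ⟨v, hv⟩)) = G.t (G.e v) := by
      rw [← Scheme.Hom.comp_apply, Sigma.ι_desc, hpt, ← Scheme.Hom.comp_apply, G.e_t]
      rfl
    obtain ⟨z, -, hz⟩ := Scheme.Pullback.exists_preimage_pullback _ _ he
    refine ⟨z, ?_⟩
    rw [Scheme.Hom.comp_apply, hz, ← Scheme.Hom.comp_apply, G.e_s]
    rfl
  exact ⟨W, _, repByAlgSpWith_slice h𝒳 x hx hxs E₁' hE₁' A.t A.s ((spMapOfOver_symm E₁).1.trans hEs) ((spMapOfOver_symm E₁).2.trans hEf) gW ⟨⟨hfl, hfp⟩, hlf⟩ hsu⟩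

end GrothLib.AlgSt.QDMCover
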