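import Groth.Agent.Lib.AlgSt.QC
import Groth.Agent.Lib.Topology.SpectralQuotient
import Groth.Agent.Lib.FibCat.Slice

/-!
# Spectrality of the points of algebraic stacks with quasi-compact diagonal
-/

set_option backward.isDefEq.respectTransparency false
set_option backward.isDefEq.respectTransparency.types false

universe u

open CategoryTheory CategoryTheory.Limits AlgebraicGeometry Opposite Topology

namespace GrothLib.AlgSt

open _root_.AlgSt GrothLib.FibCat

variable {S : Scheme.{u}}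

theorem ofChart_id_bijective (A : Over S) :
    Function.Bijective (Points.ofChart (BasedFunctor.id (_root_.FibCat.overCat A))) :=
  ⟨fun a b h => (pointOf_ofChart_id a).symm.trans ((congrArg pointOf h).trans (pointOf_ofChart_id b)),
    fun q => ⟨pointOf q, (pointOf_bijective A).1 (pointOf_ofChart_id _)⟩⟩

theorem isOpenEmbedding_ofChart_id (A : Over S) :
    IsOpenEmbedding (Points.ofChart (BasedFunctor.id (_root_.FibCat.overCat A))) :=
  have hq := isOpenQuotientMap_ofChart (isFibGrpd_overCat A)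
    (repByAlgSpWith_id (P := AlgSp.LocP (S := S) @Smooth) locP_smooth_id (_root_.FibCat.overCat A))
    (repByAlgSpWith_id (P := AlgSp.IsSurjectiveMor (S := S)) (fun _ => isSurjectiveMor_id _) _)
  IsOpenEmbedding.of_continuous_injective_isOpenMap hq.continuous (ofChart_id_bijective A).1 hq.isOpenMap

variable {𝒳 : _root_.AlgSt.Cat S}

theorem isCompact_preimage_ofChart [QuasiSeparatedSpace S] (h𝒳 : IsAlgStack Scheme.fppfPrecoverage 𝒳)
    (hΔ : RepByAlgSpWith AlgSp.IsQuasiCompactMor (_root_.FibCat.diag (_root_.FibCat.toSelf 𝒳))) {A : Over S}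
    [CompactSpace ↥A.left] (x : _root_.FibCat.overCat A ⥤ᵇ 𝒳) {K : Set (Points 𝒳)} (hK : IsOpen K)
    (hKc : IsCompact K) : IsCompact (Points.ofChart x ⁻¹' K) := by
  have hA := isAlgStack_overCat A
  have := isQuasiCompactMor_of_isQuasiCompact hA h𝒳 hΔ x (isQuasiCompact_of_compactSpace hA
    (Function.Surjective.compactSpace (isOpenEmbedding_ofChart_id A).continuous (ofChart_id_bijective A).2))
  have h := isCompact_preimage_of_isQuasiCompactMor hA h𝒳 this hK hKc
  have e : Points.ofChart x ⁻¹' K = Points.ofChart (BasedFunctor.id (_root_.FibCat.overCat A)) ⁻¹'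
      (Points.map x ⁻¹' K) := rfl
  rw [e, (isOpenEmbedding_ofChart_id A).isInducing.isCompact_iff,
    Set.image_preimage_eq _ (ofChart_id_bijective A).2]
  exact h

/-- The fibre product of an affine chart with itself is covered by an affine scheme. -/
theorem exists_affine_relation [QuasiSeparatedSpace S] (h𝒳 : IsAlgStack Scheme.fppfPrecoverage 𝒳)
    (hΔ : RepByAlgSpWith AlgSp.IsQuasiCompactMor (_root_.FibCat.diag (_root_.FibCat.toSelf 𝒳))) {A : Over S}
    [CompactSpace ↥A.left] (x : _root_.FibCat.overCat A ⥤ᵇ 𝒳) :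
    ∃ (Z : Over S) (s t : Z ⟶ A), IsAffine Z.left ∧ ∀ u v, Points.ofChart x u = Points.ofChart x v ↔
      ∃ z, s.left z = u ∧ t.left z = v := by
  have hA := isAlgStack_overCat A
  have hP := isAlgStack_fp h𝒳.isStack h𝒳.diag hA hA x x
  have := compactSpace_points_fp_charts h𝒳 hΔ x x
  obtain ⟨Z, z, hZ, -, hz⟩ := isQuasiCompact_of_compactSpace hP this
  let s := sliceHom (BasedFunctor.comp z (_root_.FibCat.fpFst x x))
  let t := sliceHom (BasedFunctor.comp z (_root_.FibCat.fpSnd x x))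
  have hpt : ∀ (k : _root_.FibCat.overCat Z ⥤ᵇ _root_.FibCat.overCat A) (w : ↥Z.left),
      Points.ofChart k w = Points.ofChart (BasedFunctor.id (_root_.FibCat.overCat A)) ((sliceHom k).left w) :=
    fun k w => (ofChart_congr (isoOverMap k) w).trans (ofChart_overMap (sliceHom k) (BasedFunctor.id _) w)
  refine ⟨Z, s, t, hZ, fun u v => ⟨fun h => ?_, ?_⟩⟩
  · obtain ⟨w, hw1, hw2⟩ := exists_points_fp hA.isStack.1 hA.isStack.1 h𝒳.isStack.1 x x
      (Points.ofChart (BasedFunctor.id _) u) (Points.ofChart (BasedFunctor.id _) v)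
      ((ofChart_eq_map x u).symm.trans (h.trans (ofChart_eq_map x v)))
    obtain ⟨r, rfl⟩ := surjective_ofChart hP.isStack.1 hz w
    exact ⟨r, (ofChart_id_bijective A).1 ((hpt _ r).symm.trans hw1),
      (ofChart_id_bijective A).1 ((hpt _ r).symm.trans hw2)⟩
  · rintro ⟨r, rfl, rfl⟩
    rw [ofChart_eq_map x, ← hpt, ofChart_eq_map x, ← hpt, ofChart_comp, ofChart_comp, ← points_map_comp,
      ← points_map_comp]
    exact points_map_congr (_root_.FibCat.fpIso x x) _

theorem spectralSpace_subtype [QuasiSeparatedSpace S] (h𝒳 : IsAlgStack Scheme.fppfPrecoverage 𝒳)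
    (hΔ : RepByAlgSpWith AlgSp.IsQuasiCompactMor (_root_.FibCat.diag (_root_.FibCat.toSelf 𝒳)))
    {K : Set (Points 𝒳)} (hK : IsOpen K) (hKc : IsCompact K) : SpectralSpace ↥K := by
  obtain ⟨A, x, hA, hs, rfl⟩ := exists_affine_chart_range h𝒳 hK hKc
  have := hA
  obtain ⟨Z, s, t, hZ, hR⟩ := exists_affine_relation h𝒳 hΔ x
  have := hZ
  let f : ↥A.left → ↥(Set.range (Points.ofChart x)) := Set.rangeFactorization (Points.ofChart x)
  have hc := continuous_ofChart h𝒳.isStack.1 h𝒳.atlas x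
  have hf : IsOpenQuotientMap f := ⟨Set.rangeFactorization_surjective, hc.rangeFactorization, fun W hW => by
    have e : f '' W = Subtype.val ⁻¹' (Points.ofChart x '' W) := Set.ext fun p =>
      ⟨fun ⟨w, hw, e⟩ => ⟨w, hw, congrArg Subtype.val e⟩, fun ⟨w, hw, e⟩ => ⟨w, hw, Subtype.ext e⟩⟩
    rw [e]
    exact (isOpenMap_ofChart h𝒳.isStack.1 hs W hW).preimage continuous_subtype_val⟩
  have hqc : ∀ L : Set ↥(Set.range (Points.ofChart x)), IsOpen L → IsCompact L → IsCompact (f ⁻¹' L) := fun L hL hLc => by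
    have e : f ⁻¹' L = Points.ofChart x ⁻¹' (Subtype.val '' L) := Set.ext fun a =>
      ⟨fun h => ⟨_, h, rfl⟩, fun ⟨p, hp, e⟩ => by
        have : p = f a := Subtype.ext e
        show f a ∈ L
        rw [← this]; exact hp⟩
    rw [e]
    exact isCompact_preimage_ofChart h𝒳 hΔ x (hK.isOpenMap_subtype_val L hL) (hLc.image continuous_subtype_val)
  have hsp : ∀ (g : Z ⟶ A) (L : Set ↥A.left), IsOpen L → IsCompact L → IsCompact (g.left ⁻¹' L) :=
    fun g L hL hLc => QuasiCompact.isCompact_preimage L hL hLc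
  have : SpectralSpace ↥A.left := SpectralSpace.mk
  have : SpectralSpace ↥Z.left := SpectralSpace.mk
  exact GrothLib.SpectralQuotient.spectralSpace hf hqc s.left.continuous (hsp s) t.left.continuous (hsp t)
    fun u v => Subtype.ext_iff.trans (hR u v)

theorem spectralSpace_points [QuasiSeparatedSpace S] (h𝒳 : IsAlgStack Scheme.fppfPrecoverage 𝒳)
    (hqc : IsQuasiCompact 𝒳)
    (hΔ : RepByAlgSpWith AlgSp.IsQuasiCompactMor (_root_.FibCat.diag (_root_.FibCat.toSelf 𝒳))) :
    SpectralSpace (Points 𝒳) := by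
  have := compactSpace_points_of_isQuasiCompact h𝒳.isStack.1 hqc
  have := spectralSpace_subtype h𝒳 hΔ isOpen_univ isCompact_univ
  exact (Homeomorph.Set.univ (Points 𝒳)).symm.isOpenEmbedding.spectralSpace

theorem exists_spectral_nhd [QuasiSeparatedSpace S] (h𝒳 : IsAlgStack Scheme.fppfPrecoverage 𝒳)
    (hΔ : RepByAlgSpWith AlgSp.IsQuasiCompactMor (_root_.FibCat.diag (_root_.FibCat.toSelf 𝒳))) :
    (∀ x : Points 𝒳, ∃ U : Set (Points 𝒳), IsOpen U ∧ x ∈ U ∧ SpectralSpace ↥U) ∧
      QuasiSober (Points 𝒳) ∧ T0Space (Points 𝒳) := by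
  have h : ∀ x : Points 𝒳, ∃ U : Set (Points 𝒳), IsOpen U ∧ x ∈ U ∧ SpectralSpace ↥U := fun x => by
    obtain ⟨V, hVo, hVc, hx, -⟩ := exists_isCompact_nhd h𝒳 isOpen_univ (Set.mem_univ x)
    exact ⟨V, hVo, hx, spectralSpace_subtype h𝒳 hΔ hVo hVc⟩
  refine ⟨h, ?_, T0Space.of_open_cover fun x =>
    let ⟨U, hU, hx, hs⟩ := h x
    ⟨U, hx, hU, hs.toT0Space⟩⟩
  refine @quasiSober_of_open_cover _ _ {U : Set (Points 𝒳) | IsOpen U ∧ SpectralSpace ↥U} (fun U => U.2.1)
    (fun U => U.2.2.toQuasiSober) (Set.eq_univ_of_forall fun x => ?_)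
  obtain ⟨U, hU, hx, hs⟩ := h x
  exact ⟨U, ⟨hU, hs⟩, hx⟩

end GrothLib.AlgSt
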