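import Groth.Agent.Lib.AlgSt.QC
import Groth.Agent.Lib.AlgSt.Spectral

/-!
# The relation of an affine chart, for stacks in any topology
-/

set_option backward.isDefEq.respectTransparency false
set_option backward.isDefEq.respectTransparency.types false

universe u

open CategoryTheory CategoryTheory.Limits AlgebraicGeometry Opposite

namespace GrothLib.AlgSt

open _root_.AlgSt GrothLib.FibCat

variable {S : Scheme.{u}} {𝒳 𝒴 : _root_.AlgSt.Cat S}

/-- With quasi-compact diagonal, fibre products of quasi-compact charts are quasi-compact. -/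
theorem compactSpace_points_fp_charts_of_isFibGrpd [QuasiSeparatedSpace S] (h𝒴 : _root_.FibCat.IsFibGrpd 𝒴.p)
    (hΔ : RepByAlgSpWith AlgSp.IsQuasiCompactMor (_root_.FibCat.diag (_root_.FibCat.toSelf 𝒴))) {U V : Over S}
    [CompactSpace ↥U.left] [CompactSpace ↥V.left]
    (y : _root_.FibCat.overCat V ⥤ᵇ 𝒴) (G : _root_.FibCat.overCat U ⥤ᵇ 𝒴) :
    CompactSpace (Points (_root_.FibCat.fp y G)) := by
  obtain ⟨w, E, hE⟩ := exists_isEquivOver_fp_diag_prod h𝒴 G y
  obtain ⟨F, e, he, hqc⟩ := hΔ (V ⨯ U) w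
  have := compactSpace_prod_left V U
  obtain ⟨V₀, p, pe, ps, hV₀⟩ := hqc (AlgSp.IsAlgSpace.yon_obj _) (isQuasiCompactSp_yon (V ⨯ U))
    (𝟙 ((AlgSp.yon S).obj (V ⨯ U))) (𝟙 F.obj)
    (spMapOfOver (BasedFunctor.comp e (_root_.FibCat.fpFst w (_root_.FibCat.diag (_root_.FibCat.toSelf 𝒴)))))
    (IsPullback.of_horiz_isIso ⟨by simp⟩)
  have hF : IsAlgStack Scheme.fppfPrecoverage (ofSp F.obj) :=
    (isDM_of_repByAlgSp (repByAlgSp_ofSp F.property)).1
  have hid := repByAlgSpWith_id (P := AlgSp.IsSurjectiveMor (S := S)) (fun U => isSurjectiveMor_id _) (ofSp F.obj)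
  have hx₀ := surjective_ofChart hF.isStack.1
    (repByAlgSpWith_comp_chart (fun _ _ _ _ _ b a _ hb ha => isSurjectiveMor_etale_comp b a hb ha) hid
      (BasedFunctor.id _) (IsEquivOver.refl _) pe ps)
  have : CompactSpace ↥V₀.left := hV₀
  have : CompactSpace (Points (ofSp F.obj)) :=
    Function.Surjective.compactSpace (continuous_ofChart hF.isStack.1 hF.atlas _) hx₀
  exact compactSpace_points_of_isEquivOver hF (BasedFunctor.comp e E) (IsEquivOver.comp he hE)

/-- The fibre product of an affine chart with itself is covered by an affine scheme. -/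
theorem exists_affine_relation_of_diag [QuasiSeparatedSpace S] (h𝒳 : _root_.FibCat.IsFibGrpd 𝒳.p)
    (hd : RepByAlgSp1 (_root_.FibCat.diag (_root_.FibCat.toSelf 𝒳)))
    (hΔ : RepByAlgSpWith AlgSp.IsQuasiCompactMor (_root_.FibCat.diag (_root_.FibCat.toSelf 𝒳))) {A : Over S}
    [CompactSpace ↥A.left] (x : _root_.FibCat.overCat A ⥤ᵇ 𝒳) :
    ∃ (Z : Over S) (s t : Z ⟶ A), IsAffine Z.left ∧ ∀ u v, Points.ofChart x u = Points.ofChart x v ↔
      ∃ z, s.left z = u ∧ t.left z = v := by
  have hA := isAlgStack_overCat A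
  have hP := (isDM_of_repByAlgSp (repByAlgSp1_of_diag hd h𝒳 x A x)).1
  have := compactSpace_points_fp_charts_of_isFibGrpd h𝒳 hΔ x x
  obtain ⟨Z, z, hZ, -, hz⟩ := isQuasiCompact_of_compactSpace hP this
  let s := sliceHom (BasedFunctor.comp z (_root_.FibCat.fpFst x x))
  let t := sliceHom (BasedFunctor.comp z (_root_.FibCat.fpSnd x x))
  have hpt : ∀ (k : _root_.FibCat.overCat Z ⥤ᵇ _root_.FibCat.overCat A) (w : ↥Z.left),
      Points.ofChart k w = Points.ofChart (BasedFunctor.id (_root_.FibCat.overCat A)) ((sliceHom k).left w) :=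
    fun k w => (ofChart_congr (isoOverMap k) w).trans (ofChart_overMap (sliceHom k) (BasedFunctor.id _) w)
  refine ⟨Z, s, t, hZ, fun u v => ⟨fun h => ?_, ?_⟩⟩
  · obtain ⟨w, hw1, hw2⟩ := exists_points_fp hA.isStack.1 hA.isStack.1 h𝒳 x x
      (Points.ofChart (BasedFunctor.id _) u) (Points.ofChart (BasedFunctor.id _) v)
      ((ofChart_eq_map x u).symm.trans (h.trans (ofChart_eq_map x v)))
    obtain ⟨r, rfl⟩ := surjective_ofChart hP.isStack.1 hz w
    exact ⟨r, (ofChart_id_bijective A).1 ((hpt _ r).symm.trans hw1),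
      (ofChart_id_bijective A).1 ((hpt _ r).symm.trans hw2)⟩
  · rintro ⟨r, rfl, rfl⟩
    rw [ofChart_eq_map x, ← hpt, ofChart_eq_map x, ← hpt, ofChart_comp, ofChart_comp, ← points_map_comp,
      ← points_map_comp]
    exact points_map_congr (_root_.FibCat.fpIso x x) _

end GrothLib.AlgSt
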