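import Groth.Agent.Lib.AlgSt.WellNighSep
import Groth.Agent.Lib.AlgSt.DescLocQ
import Groth.Agent.Lib.AlgSt.DescPoints

/-!
# Separatedness descends along fppf, universally injective covers
-/

set_option autoImplicit false
set_option linter.style.haveILetI false
set_option backward.isDefEq.respectTransparency false
set_option backward.isDefEq.respectTransparency.types false

universe u

open CategoryTheory CategoryTheory.Limits AlgebraicGeometry Opposite Topology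

namespace GrothLib.AlgSt

open _root_.AlgSt GrothLib.FibCat

variable {S : Scheme.{u}} {𝒳 𝒴 𝒵 𝒜 : _root_.AlgSt.Cat S}

/-- A functor into a fibre product as a lift of isomorphic components. -/
def isoFpLiftBoth {F : 𝒳 ⥤ᵇ 𝒵} {G : 𝒴 ⥤ᵇ 𝒵} (l : 𝒜 ⥤ᵇ _root_.FibCat.fp F G) {a : 𝒜 ⥤ᵇ 𝒳} {k : 𝒜 ⥤ᵇ 𝒴}
    (α : BasedFunctor.comp l (_root_.FibCat.fpFst F G) ≅ a)
    (β : BasedFunctor.comp l (_root_.FibCat.fpSnd F G) ≅ k) :
    l ≅ _root_.FibCat.fpLift a k
      (whiskerRightIso α.symm F ≪≫ whiskerLeftIso l (_root_.FibCat.fpIso F G) ≪≫ whiskerRightIso β G) :=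
  natIsoOfComponents
    (fun x => Fp.isoMk (a := l.obj x)
      (b := (_root_.FibCat.fpLift a k
        (whiskerRightIso α.symm F ≪≫ whiskerLeftIso l (_root_.FibCat.fpIso F G) ≪≫ whiskerRightIso β G)).obj x)
      (((BasedNatTrans.forgetful _ _).mapIso α).app x) (((BasedNatTrans.forgetful _ _).mapIso β).app x) (by
        change F.map (α.hom.app x) ≫ (F.map (α.inv.app x) ≫ (l.obj x).obj.iso.hom ≫ G.map (β.hom.app x)) =
          (l.obj x).obj.iso.hom ≫ G.map (β.hom.app x)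
        have hi : α.hom.app x ≫ α.inv.app x = 𝟙 _ := congrArg (fun t => t.app x) α.hom_inv_id
        rw [← Category.assoc, ← F.map_comp, hi, F.map_id]
        exact Category.id_comp _))
    (fun x => (Fp.isHomLift_iff _ _).2 (BasedNatTrans.isHomLift α.hom rfl))
    (fun {x y} φ => Fp.hom_ext (α.hom.toNatTrans.naturality φ) (β.hom.toNatTrans.naturality φ))

/-- Lifting through both factors. -/
theorem liftsFppf_fpPair (f : 𝒳 ⥤ᵇ 𝒴) (g : 𝒴 ⥤ᵇ 𝒵) (hf : LiftsFppf f) : LiftsFppf (fpPair f f g) := by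
  intro U y
  obtain ⟨V₁, c₁, l₁, f₁, p₁, s₁, ⟨j₁⟩⟩ := hf U (BasedFunctor.comp y (_root_.FibCat.fpFst g g))
  obtain ⟨V₂, c₂, l₂, f₂, p₂, s₂, ⟨j₂⟩⟩ :=
    hf V₁ (BasedFunctor.comp (GrothLib.FibCat.overMap c₁) (BasedFunctor.comp y (_root_.FibCat.fpSnd g g)))
  have := f₁; have := p₁; have := s₁; have := f₂; have := p₂; have := s₂
  let c := GrothLib.FibCat.overMap (c₂ ≫ c₁)
  let a := BasedFunctor.comp (GrothLib.FibCat.overMap c₂) l₁
  let y' := BasedFunctor.comp c y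
  let α : BasedFunctor.comp y' (_root_.FibCat.fpFst g g) ≅ BasedFunctor.comp a f :=
    whiskerRightIso (overMapCompIso c₂ c₁).symm (BasedFunctor.comp y (_root_.FibCat.fpFst g g)) ≪≫
      whiskerLeftIso (GrothLib.FibCat.overMap c₂) j₁
  let β : BasedFunctor.comp y' (_root_.FibCat.fpSnd g g) ≅ BasedFunctor.comp l₂ f :=
    whiskerRightIso (overMapCompIso c₂ c₁).symm (BasedFunctor.comp y (_root_.FibCat.fpSnd g g)) ≪≫ j₂
  let γ : BasedFunctor.comp a (BasedFunctor.comp f g) ≅ BasedFunctor.comp l₂ (BasedFunctor.comp f g) :=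
    whiskerRightIso α.symm g ≪≫ whiskerLeftIso y' (_root_.FibCat.fpIso g g) ≪≫ whiskerRightIso β g
  refine ⟨V₂, c₂ ≫ c₁, _root_.FibCat.fpLift a l₂ γ, ?_, ?_, ?_, ⟨isoFpLiftBoth y' α β⟩⟩ <;>
    (rw [Over.comp_left]; infer_instance)

/-- Separatedness descends along flat, locally finitely presented, universally injective surjections with universally
closed diagonal. -/
theorem isSeparatedMor_of_comp_of_fppf_univInjective (h𝒳 : IsAlgStack Scheme.fppfPrecoverage 𝒳)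
    (h𝒴 : IsAlgStack Scheme.fppfPrecoverage 𝒴) (h𝒵 : IsAlgStack Scheme.fppfPrecoverage 𝒵) (f : 𝒳 ⥤ᵇ 𝒴) (g : 𝒴 ⥤ᵇ 𝒵)
    (hf₁ : IsSurjective f) (hf₂ : LocQ (AlgSp.LocP @Flat) f)
    (hf₃ : LocQ (AlgSp.LocP @LocallyOfFinitePresentation) f)
    (hf₄ : IsUnivInjective Scheme.fppfPrecoverage f)
    (hf₅ : RepByAlgSpWith AlgSp.IsUnivClosedMor (_root_.FibCat.diag f))
    (hh : IsSeparatedMor (BasedFunctor.comp f g)) : IsSeparatedMor g := by
  let M := fpToFp f f g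
  have gK := (isAlgStack_fp h𝒴.isStack h𝒴.diag h𝒳 h𝒳 f f).isStack.1
  have hd : RepByAlgSpWith (AlgSp.IsSurjectiveMor ⊓ AlgSp.IsUnivClosedMor) (_root_.FibCat.diag f) :=
    repByAlgSpWith_inf isoInvariant_surjective
      ((isSurjective_iff_repByAlgSpWith h𝒳.isStack.1 gK _ (repByAlgSp1_diag h𝒳 h𝒴 f)).1
        ((isUnivInjective_iff_isSurjective_diag h𝒳 h𝒴 f).1 hf₄)) hf₅
  have hiso : IsoInvariant (AlgSp.IsSurjectiveMor ⊓ AlgSp.IsUnivClosedMor (S := S)) :=
    fun _ _ _ hF hG φ _ a ha =>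
      ⟨isoInvariant_surjective hF hG φ a ha.1, isoInvariant_isUnivClosedMor hF hG φ a ha.2⟩
  have hdet : DetectedBySchemes (AlgSp.IsSurjectiveMor ⊓ AlgSp.IsUnivClosedMor (S := S)) :=
    fun F₂ F₁ h₂ h₁ c hc => ⟨detectedBySchemes_surjective h₂ h₁ c fun V p => (hc V p).1,
      detectedBySchemes_isUnivClosedMor h₂ h₁ c fun V p => (hc V p).2⟩
  have hcomp : RepByAlgSpWith AlgSp.IsProperMor (BasedFunctor.comp (_root_.FibCat.diag f) M) :=
    repByAlgSpWith_of_iso (diagCompIso f g).symm hh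
  have hlft : RepByAlgSpWith (AlgSp.LocP @LocallyOfFiniteType) M :=
    repByAlgSpWith_fpToFp h𝒳.isStack.1 f f g (repByAlgSpWith_lft_diag h𝒴 h𝒵 g)
  have hM : RepByAlgSpWith AlgSp.IsProperMor M := by
    intro T w
    obtain ⟨F, e, he, hbl⟩ := hlft T w
    refine ⟨F, e, he, ?_⟩
    obtain ⟨F₂, q, hq, hqb⟩ := WellNigh.exists_cover_of_comp h𝒳.isStack.1 gK hiso hdet
      compStable_isProperMor.iso (_root_.FibCat.diag f) M hd hcomp w F e he
    exact GrothLib.AlgSp.isProperMor_of_family (ι := PUnit.{1}) F.property (AlgSp.IsAlgSpace.yon_obj T)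
      (fun _ => F₂.property) (fun _ => q) (fun p => ⟨PUnit.unit, hq.1 p⟩) (fun _ => hq.2) hbl (fun _ => hqb)
  refine repByAlgSpWith_of_fpFst compStable_isProperMor.iso descendsToSchemes_isProperMor
    (repByAlgSp1_diag h𝒴 h𝒵 g) (liftsFppf_fpPair f g (liftsFppf_of_locQ_surjective h𝒴 h𝒳 f hf₂ hf₃ hf₁)) ?_
  exact (repByAlgSpWith_iff_of_square (f' := M) (f := _root_.FibCat.fpFst (fpPair f f g) (_root_.FibCat.diag g))
    (fpToFpLift f f g) (BasedFunctor.id _) (isEquivOver_fpToFpLift h𝒳.isStack.1 f f g) (IsEquivOver.refl _)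
    (Iso.refl _)).2 hM

end GrothLib.AlgSt
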