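import Groth.Agent.Lib.AlgSt.ResGerbe
import Groth.Agent.Lib.AlgSp.FpqcProps
import Groth.Agent.Lib.FibCat.Diag
import Groth.Agent.Lib.AlgSt.SepFppf

/-!
# Morphisms of residual gerbes with trivial kernel
-/

set_option autoImplicit false
set_option linter.style.haveILetI false
set_option backward.isDefEq.respectTransparency false
set_option backward.isDefEq.respectTransparency.types false

universe u

open CategoryTheory CategoryTheory.Limits AlgebraicGeometry Opposite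

namespace GrothLib.AlgSt

open _root_.AlgSt GrothLib.FibCat

variable {S : Scheme.{u}} {𝒳 𝒴 𝒵 : _root_.AlgSt.Cat S}

/-- Equivalences are representable by isomorphisms. -/
theorem repByAlgSpWith_iso_of_isEquivOver (E : 𝒳 ⥤ᵇ 𝒴) (hE : _root_.FibCat.IsEquivOver E) :
    RepByAlgSpWith (MorphismProperty.isomorphisms (AlgSp.Sp S)) E := fun U y => by
  refine HasRep.of_equiv' (_root_.FibCat.fpFst y E) (Fp.isEquivOver_fpFst_of_isEquivOver y hE) (Iso.refl _)
    (π' := BasedFunctor.id (_root_.FibCat.overCat U)) ?_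
  refine ⟨⟨_, AlgSp.IsAlgSpace.yon_obj U⟩, toOverCat U, isEquivOver_toOverCat U, ?_⟩
  change IsIso (spMapOfOver (BasedFunctor.comp (toOverCat U) (BasedFunctor.id (_root_.FibCat.overCat U))))
  rw [show spMapOfOver (BasedFunctor.comp (toOverCat U) (BasedFunctor.id (_root_.FibCat.overCat U))) = 𝟙 _ from
    spMapOfOver_id_toOverCat U]
  infer_instance

/-- An affine scheme mapping to a one-point stack lifts to any of its field charts after an affine flat surjection. -/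
theorem exists_affine_flat_lift (h𝒵 : IsAlgStack Scheme.fppfPrecoverage 𝒵) (hF : HasFieldChart 𝒵) {k : Type u}
    [Field k] {a : Spec (CommRingCat.of k) ⟶ S} (q : _root_.FibCat.overCat (Over.mk a) ⥤ᵇ 𝒵) {Z : Over S}
    [IsAffine Z.left] (y : _root_.FibCat.overCat Z ⥤ᵇ 𝒵) :
    ∃ (W : Over S) (c : W ⟶ Z) (l : W ⟶ Over.mk a), IsAffine W.left ∧ Flat c.left ∧ Surjective c.left ∧
      Nonempty (BasedFunctor.comp (GrothLib.FibCat.overMap c) y ≅ BasedFunctor.comp (GrothLib.FibCat.overMap l) q) := by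
  obtain ⟨k₀, hk₀, a₀, z₀, hp₀, hs₀, hf₀⟩ := hF
  haveI := (nonempty_subsingleton_points_of_fieldCover h𝒵.isStack.1 z₀ hs₀).2
  obtain ⟨⟨o⟩, -⟩ := nonempty_subsingleton_points_overCat_field a
  obtain ⟨⟨o₀⟩, -⟩ := nonempty_subsingleton_points_overCat_field a₀
  obtain ⟨w, -, -⟩ := exists_points_fp (isFibGrpd_overCat (Over.mk a₀)) (isFibGrpd_overCat (Over.mk a))
    h𝒵.isStack.1 z₀ q o o₀ (Subsingleton.elim _ _)
  obtain ⟨r, -⟩ := Points.mk_surjective w
  obtain ⟨m, -, -⟩ := Yon.exists_functor (Fp.isFibGrpd (isFibGrpd_overCat _) (isFibGrpd_overCat _) h𝒵.isStack.1)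
    r.obj r.lies
  let R : Over S := Over.mk r.str
  let m₁ := BasedFunctor.comp m (_root_.FibCat.fpFst q z₀)
  let m₀ := BasedFunctor.comp m (_root_.FibCat.fpSnd q z₀)
  let ρ : BasedFunctor.comp (GrothLib.FibCat.overMap (sliceHom m₀)) z₀ ≅
      BasedFunctor.comp (GrothLib.FibCat.overMap (sliceHom m₁)) q :=
    (whiskerRightIso (isoOverMap m₀) z₀).symm ≪≫ (whiskerLeftIso m (_root_.FibCat.fpIso q z₀)).symm ≪≫
      whiskerRightIso (isoOverMap m₁) q
  obtain ⟨V, cV, l₀, hcf, hcp, hcs, ⟨j⟩⟩ := liftsFppf_of_repByAlgSpWith z₀ hf₀ hp₀ hs₀ Z y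
  haveI := hcf
  haveI := hcp
  let 𝒰 := V.left.affineCover
  obtain ⟨s, hs⟩ := isCompact_univ.elim_finite_subcover (fun i => Set.range (𝒰.f i ≫ cV.left))
    (fun i => (𝒰.f i ≫ cV.left).isOpenMap.isOpen_range) (fun x _ => by
      obtain ⟨x', rfl⟩ := hcs.surj x
      obtain ⟨i, v, rfl⟩ := 𝒰.exists_eq x'
      exact Set.mem_iUnion.2 ⟨i, v, rfl⟩)
  let V' : Over S := Over.mk ((Sigma.desc fun i : s => 𝒰.f i.1) ≫ V.hom)
  let d : V' ⟶ V := Over.homMk (Sigma.desc fun i : s => 𝒰.f i.1) rfl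
  haveI : IsAffine V'.left := inferInstanceAs (IsAffine (∐ fun i : s => 𝒰.X i.1 : Scheme.{u}))
  haveI : Flat d.left := IsZariskiLocalAtSource.sigmaDesc fun i => inferInstanceAs (Flat (𝒰.f i.1))
  haveI : Surjective (d.left ≫ cV.left) := ⟨fun x => by
    obtain ⟨i, hi, v, hv⟩ := Set.mem_iUnion₂.1 (hs (Set.mem_univ x))
    refine ⟨Sigma.ι (fun i : s => 𝒰.X i.1) ⟨i, hi⟩ v, ?_⟩
    change (Sigma.ι (fun i : s => 𝒰.X i.1) ⟨i, hi⟩ ≫ (Sigma.desc fun i : s => 𝒰.f i.1) ≫ cV.left) v = x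
    rw [Sigma.ι_desc_assoc]
    exact hv⟩
  let l' : V' ⟶ Over.mk a₀ := d ≫ sliceHom l₀
  let e₀ := sliceHom m₀
  have sqP := GrothLib.AlgSp.isPullback_left (IsPullback.of_hasPullback l' e₀)
  haveI : IsAffine (Over.mk a₀).left := inferInstanceAs (IsAffine (Spec (CommRingCat.of k₀)))
  haveI : IsAffine R.left := inferInstanceAs (IsAffine (Spec (CommRingCat.of r.K)))
  haveI : Flat e₀.left := GrothLib.DiagGrp.flat_of_field (L := k₀) e₀.left
  haveI : Surjective e₀.left := by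
    haveI : Subsingleton ↥(Over.mk a₀).left := inferInstanceAs (Subsingleton ↥(Spec (CommRingCat.of k₀)))
    exact ⟨fun x => ⟨(default : ↥(Spec (CommRingCat.of r.K))), Subsingleton.elim _ _⟩⟩
  let p₁ : pullback l' e₀ ⟶ V' := pullback.fst _ _
  let p₂ : pullback l' e₀ ⟶ R := pullback.snd _ _
  haveI : Flat p₁.left := MorphismProperty.of_isPullback sqP.flip (inferInstance : Flat e₀.left)
  haveI : Surjective p₁.left := MorphismProperty.of_isPullback sqP.flip (inferInstance : Surjective e₀.left)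
  haveI : IsAffine (pullback l' e₀).left := IsAffine.of_isIso sqP.isoPullback.hom
  let σ : BasedFunctor.comp (GrothLib.FibCat.overMap (p₁ ≫ d ≫ cV)) y ≅
      BasedFunctor.comp (GrothLib.FibCat.overMap (p₂ ≫ sliceHom m₁)) q :=
    whiskerRightIso ((overMapCompIso p₁ (d ≫ cV)).symm ≪≫
        whiskerLeftIso (GrothLib.FibCat.overMap p₁) (overMapCompIso d cV).symm) y ≪≫
      whiskerLeftIso (BasedFunctor.comp (GrothLib.FibCat.overMap p₁) (GrothLib.FibCat.overMap d)) j ≪≫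
      whiskerRightIso (whiskerLeftIso (GrothLib.FibCat.overMap p₁)
          (whiskerLeftIso (GrothLib.FibCat.overMap d) (isoOverMap l₀) ≪≫ overMapCompIso d (sliceHom l₀)) ≪≫
        overMapCompIso p₁ l' ≪≫ eqToIso (congrArg GrothLib.FibCat.overMap pullback.condition) ≪≫
        (overMapCompIso p₂ e₀).symm) z₀ ≪≫
      whiskerLeftIso (GrothLib.FibCat.overMap p₂) ρ ≪≫
      whiskerRightIso (overMapCompIso p₂ (sliceHom m₁)) q
  haveI : Flat (d.left ≫ cV.left) := inferInstance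
  refine ⟨pullback l' e₀, p₁ ≫ d ≫ cV, p₂ ≫ sliceHom m₁, ‹_›, ?_, ?_, ⟨σ⟩⟩ <;>
    (rw [Over.comp_left, Over.comp_left]; infer_instance)

/-- Triviality of the kernel along one field chart makes a morphism of one-point stacks fully faithful. -/
theorem full_faithful_of_fpToFp (h𝒵 : IsAlgStack Scheme.fppfPrecoverage 𝒵) (h𝒴 : IsAlgStack Scheme.fppfPrecoverage 𝒴)
    (hF : HasFieldChart 𝒵) (g : 𝒵 ⥤ᵇ 𝒴) {k : Type u} [Field k] {a : Spec (CommRingCat.of k) ⟶ S}
    (q : _root_.FibCat.overCat (Over.mk a) ⥤ᵇ 𝒵) (hq : _root_.FibCat.IsEquivOver (fpToFp q q g)) :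
    g.toFunctor.Full ∧ g.toFunctor.Faithful := by
  have hD : RepByAlgSpWith (MorphismProperty.isomorphisms (AlgSp.Sp S)) (_root_.FibCat.diag g) := by
    have hπ : RepByAlgSpWith (MorphismProperty.isomorphisms (AlgSp.Sp S))
        (_root_.FibCat.fpFst (fpPair q q g) (_root_.FibCat.diag g)) :=
      (repByAlgSpWith_iff_of_square (f' := fpToFp q q g) (f := _root_.FibCat.fpFst (fpPair q q g) (_root_.FibCat.diag g))
        (fpToFpLift q q g) (BasedFunctor.id _) (isEquivOver_fpToFpLift (isFibGrpd_overCat _) q q g)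
        (IsEquivOver.refl _) (Iso.refl _)).2 (repByAlgSpWith_iso_of_isEquivOver _ hq)
    intro U y
    obtain ⟨F, e, he⟩ := repByAlgSp1_diag h𝒵 h𝒴 g U y
    let b := spMapOfOver (BasedFunctor.comp e (_root_.FibCat.fpFst y (_root_.FibCat.diag g)))
    refine ⟨F, e, he, GrothLib.AlgSp.isIso_of_fpqcLoc F.property (AlgSp.IsAlgSpace.yon_obj U) (f := b) fun Z hZ g' => ?_⟩
    obtain ⟨g', rfl⟩ := (AlgSp.yon S).map_surjective g'
    haveI := hZ
    let yZ := BasedFunctor.comp (GrothLib.FibCat.overMap g') y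
    obtain ⟨W₁, c₁, l₁, hW₁, hf₁, hs₁, ⟨j₁⟩⟩ := exists_affine_flat_lift h𝒵 hF q
      (BasedFunctor.comp yZ (_root_.FibCat.fpFst g g))
    haveI := hW₁
    obtain ⟨W, c₂, l₂, hW₂, hf₂, hs₂, ⟨j₂⟩⟩ := exists_affine_flat_lift h𝒵 hF q
      (BasedFunctor.comp (GrothLib.FibCat.overMap c₁) (BasedFunctor.comp yZ (_root_.FibCat.fpSnd g g)))
    haveI := hf₁; haveI := hs₁; haveI := hf₂; haveI := hs₂
    let c := c₂ ≫ c₁
    haveI : Flat c.left := inferInstanceAs (Flat (c₂.left ≫ c₁.left))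
    haveI : Surjective c.left := inferInstanceAs (Surjective (c₂.left ≫ c₁.left))
    let y' := BasedFunctor.comp (GrothLib.FibCat.overMap (c ≫ g')) y
    let C : BasedFunctor.comp (GrothLib.FibCat.overMap c₂) (BasedFunctor.comp (GrothLib.FibCat.overMap c₁) yZ) ≅ y' :=
      whiskerRightIso (whiskerLeftIso (GrothLib.FibCat.overMap c₂) (overMapCompIso c₁ g') ≪≫
        overMapCompIso c₂ (c₁ ≫ g') ≪≫ eqToIso (congrArg GrothLib.FibCat.overMap (Category.assoc c₂ c₁ g').symm)) y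
    let α : BasedFunctor.comp y' (_root_.FibCat.fpFst g g) ≅
        BasedFunctor.comp (GrothLib.FibCat.overMap (c₂ ≫ l₁)) q :=
      whiskerRightIso C.symm (_root_.FibCat.fpFst g g) ≪≫ whiskerLeftIso (GrothLib.FibCat.overMap c₂) j₁ ≪≫
        whiskerRightIso (overMapCompIso c₂ l₁) q
    let β : BasedFunctor.comp y' (_root_.FibCat.fpSnd g g) ≅ BasedFunctor.comp (GrothLib.FibCat.overMap l₂) q :=
      whiskerRightIso C.symm (_root_.FibCat.fpSnd g g) ≪≫ j₂
    let γ : BasedFunctor.comp (GrothLib.FibCat.overMap (c₂ ≫ l₁)) (BasedFunctor.comp q g) ≅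
        BasedFunctor.comp (GrothLib.FibCat.overMap l₂) (BasedFunctor.comp q g) :=
      whiskerRightIso α.symm g ≪≫ whiskerLeftIso y' (_root_.FibCat.fpIso g g) ≪≫ whiskerRightIso β g
    let L := _root_.FibCat.fpLift (GrothLib.FibCat.overMap (c₂ ≫ l₁)) (GrothLib.FibCat.overMap l₂) γ
    let J : y' ≅ BasedFunctor.comp L (fpPair q q g) := isoFpLiftBoth y' α β
    have hR : HasRep (MorphismProperty.isomorphisms (AlgSp.Sp S))
        (_root_.FibCat.fpFst y' (_root_.FibCat.diag g)) :=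
      HasRep.of_equiv (BasedFunctor.comp (Fp.paste (_root_.FibCat.diag g) (fpPair q q g) L)
          (Fp.congr J.symm (Iso.refl _)))
        (IsEquivOver.comp (Fp.isEquivOver_paste _ _ _) (Fp.isEquivOver_congr _ _)) (Iso.refl _) (hπ W L)
    refine ⟨1, fun _ => W, fun _ => c, fun _ => hW₂, fun _ => inferInstance,
      fun x => ⟨0, c.left.surjective x⟩, fun _ P fst snd sq => ?_⟩
    rw [← Functor.map_comp] at sq
    let cm := (AlgSp.yon S).map (c ≫ g')
    obtain ⟨ic⟩ := iso_toOverCat_overMap (c ≫ g')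
    have := IsEquivOver.full (isEquivOver_toOverCat U)
    have := IsEquivOver.faithful (isEquivOver_toOverCat U)
    let sq' := IsPullback.of_hasPullback cm b
    let M := Fp.map (F := ofSpMap cm) (G := ofSpMap b) (toOverCat W) e (toOverCat U) ic
      (isoOfSpMapOfOver (BasedFunctor.comp e (_root_.FibCat.fpFst y (_root_.FibCat.diag g))))
    let E' := BasedFunctor.comp (spToFp sq'.w)
      (BasedFunctor.comp M (Fp.paste (_root_.FibCat.diag g) y (GrothLib.FibCat.overMap (c ≫ g'))))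
    have hE' : _root_.FibCat.IsEquivOver E' := IsEquivOver.comp (isEquivOver_spToFp sq') (IsEquivOver.comp
      (Fp.isEquivOver_map _ _ _ _ _ (isEquivOver_toOverCat W) he)
      (Fp.isEquivOver_paste (_root_.FibCat.diag g) y (GrothLib.FibCat.overMap (c ≫ g'))))
    haveI : IsIso (pullback.fst cm b) := spMapOfOver_toOverCat (pullback.fst cm b) ▸
      (hR.mem (fun _ _ _ _ _ φ _ t (ht : IsIso t) => (inferInstance : IsIso (φ ≫ t)))
        ⟨_, GrothLib.AlgSp.isAlgSpace_pullback' (AlgSp.IsAlgSpace.yon_obj U) (AlgSp.IsAlgSpace.yon_obj W)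
          F.property cm b⟩ E' hE' : IsIso _)
    rw [MorphismProperty.isomorphisms.iff, ← sq.flip.isoPullback_hom_fst]
    infer_instance
  have hfp := isAlgStack_fp h𝒴.isStack h𝒴.diag h𝒵 h𝒵 g g
  have hDe := isEquivOver_of_repByAlgSpWith_iso h𝒵.isStack.1 hfp.isStack.1 _ hD
  have := IsEquivOver.full hDe
  exact ⟨full_of_isEquivOver_diag h𝒵.isStack.1 h𝒴.isStack.1 hDe, faithful_of_full_diag⟩

/-- Transfer of the comparison along the inclusions of full substacks. -/
theorem isEquivOver_fpToFp_liftSub {T : Over S} (f : 𝒳 ⥤ᵇ 𝒴) (Q : 𝒳.obj → Prop) (Q' : 𝒴.obj → Prop)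
    (key : ∀ η, Q' ((BasedFunctor.comp (subIncl 𝒳 Q) f).obj η))
    (q : _root_.FibCat.overCat T ⥤ᵇ fullSub 𝒳 Q) (p : _root_.FibCat.overCat T ⥤ᵇ 𝒳)
    (κ : BasedFunctor.comp q (subIncl 𝒳 Q) ≅ p)
    (e : BasedFunctor.comp (_root_.FibCat.fpFst p p) (BasedFunctor.comp p f) ≅
      BasedFunctor.comp (_root_.FibCat.fpSnd p p) (BasedFunctor.comp p f))
    (he : ∀ c, e.hom.toNatTrans.app c = f.map c.obj.iso.hom)
    (hiso : _root_.FibCat.IsEquivOver (_root_.FibCat.fpLift (_root_.FibCat.fpFst p p) (_root_.FibCat.fpSnd p p) e)) :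
    _root_.FibCat.IsEquivOver (fpToFp q q (liftSub Q' (BasedFunctor.comp (subIncl 𝒳 Q) f) key)) := by
  let g := liftSub Q' (BasedFunctor.comp (subIncl 𝒳 Q) f) key
  let i := subIncl 𝒳 Q
  let i' := subIncl 𝒴 Q'
  haveI : i.toFunctor.Full := ⟨fun {a b} ψ => ⟨ObjectProperty.homMk ψ, rfl⟩⟩
  haveI : i.toFunctor.Faithful := ⟨fun h => ObjectProperty.hom_ext _ h⟩
  haveI : i'.toFunctor.Full := ⟨fun {a b} ψ => ⟨ObjectProperty.homMk ψ, rfl⟩⟩
  haveI : i'.toFunctor.Faithful := ⟨fun h => ObjectProperty.hom_ext _ h⟩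
  let κ' : BasedFunctor.comp (BasedFunctor.id _) (BasedFunctor.comp p f) ≅
      BasedFunctor.comp (BasedFunctor.comp q g) i' := (whiskerRightIso κ f).symm
  let A := Fp.map (F := q) (G := q) (F' := p) (G' := p) (BasedFunctor.id _) (BasedFunctor.id _) i κ.symm κ.symm
  let B := Fp.map (F := BasedFunctor.comp q g) (G := BasedFunctor.comp q g) (F' := BasedFunctor.comp p f)
    (G' := BasedFunctor.comp p f) (BasedFunctor.id _) (BasedFunctor.id _) i' κ' κ'
  have hA : _root_.FibCat.IsEquivOver A := Fp.isEquivOver_map _ _ _ _ _ (IsEquivOver.refl _) (IsEquivOver.refl _)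
  have hB : _root_.FibCat.IsEquivOver B := Fp.isEquivOver_map _ _ _ _ _ (IsEquivOver.refl _) (IsEquivOver.refl _)
  refine IsEquivOver.of_comp_right (IsEquivOver.of_iso ?_ (IsEquivOver.comp hA hiso)) hB
  refine natIsoOfComponents (fun o => Fp.isoMk (Iso.refl _) (Iso.refl _) ?_)
    (fun o => (Fp.isHomLift_iff _ _).2 (IsHomLift.id rfl))
    (fun {o o'} φ => Fp.hom_ext ((Category.comp_id _).trans (Category.id_comp _).symm)
      ((Category.comp_id _).trans (Category.id_comp _).symm))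
  change (BasedFunctor.comp p f).map (𝟙 _) ≫ (f.map (κ.inv.toNatTrans.app o.obj.fst) ≫
      f.map (i.map o.obj.iso.hom) ≫ f.map (κ.hom.toNatTrans.app o.obj.snd)) =
    e.hom.toNatTrans.app (A.obj o) ≫ (BasedFunctor.comp p f).map (𝟙 _)
  rw [CategoryTheory.Functor.map_id, CategoryTheory.Functor.map_id, he]
  refine (Category.id_comp _).trans (Eq.trans ?_ (Category.comp_id _).symm)
  change _ = f.map (κ.inv.toNatTrans.app o.obj.fst ≫ i.map o.obj.iso.hom ≫ κ.hom.toNatTrans.app o.obj.snd)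
  rw [f.map_comp, f.map_comp]

end GrothLib.AlgSt
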