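import Groth.Agent.Lib.AlgSt.InertiaDiag

/-!
# Properties detected after base change of a map along itself
-/

set_option backward.isDefEq.respectTransparency false
set_option backward.isDefEq.respectTransparency.types false

universe u

open CategoryTheory CategoryTheory.Limits AlgebraicGeometry Opposite

namespace GrothLib.AlgSt

open _root_.AlgSt GrothLib.FibCat

/-- A map is formally unramified if its base change along itself is. -/
theorem formallyUnramified_of_pullback_fst {X Y : Scheme.{u}} (h : X ⟶ Y) [LocallyOfFiniteType h]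
    (hfu : FormallyUnramified (pullback.fst h h)) : FormallyUnramified h := by
  let D := pullback.diagonalObj (pullback.fst h h)
  let γ : pullback h h ⟶ D := pullback.lift (pullback.lift (pullback.fst h h) (pullback.fst h h) rfl) (𝟙 _)
    (by simp)
  have := hfu
  have hs : ∀ (c : PullbackCone (pullback.diagonal (pullback.fst h h)) γ),
      c.snd ≫ pullback.fst h h = c.snd ≫ pullback.snd h h ∧ c.fst = c.snd := fun c => by
    have e1 := congrArg (fun t => t ≫ pullback.fst _ _) c.condition
    have e2 := congrArg (fun t => t ≫ pullback.snd _ _) c.condition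
    simp only [γ, Category.assoc, pullback.diagonal_fst, pullback.diagonal_snd, pullback.lift_fst,
      pullback.lift_snd, Category.comp_id] at e1 e2
    refine ⟨?_, e2⟩
    have e3 := congrArg (fun t => t ≫ pullback.snd h h) (e2.symm.trans e1)
    simp only [Category.assoc, pullback.lift_snd] at e3
    exact e3.symm
  have sq : IsPullback (pullback.diagonal h) (pullback.diagonal h) (pullback.diagonal (pullback.fst h h)) γ := by
    refine ⟨⟨?_⟩, ⟨PullbackCone.IsLimit.mk _ (fun c => c.snd ≫ pullback.fst h h) (fun c => ?_) (fun c => ?_)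
      (fun c m _ hm2 => ?_)⟩⟩
    · apply pullback.hom_ext <;> apply pullback.hom_ext <;> simp [γ]
    · rw [(hs c).2]
      apply pullback.hom_ext <;> simp [(hs c).1]
    · apply pullback.hom_ext <;> simp [(hs c).1]
    · rw [← hm2]; simp
  have : IsOpenImmersion (pullback.diagonal h) := MorphismProperty.of_isPullback (P := @IsOpenImmersion) sq
    inferInstance
  infer_instance

/-- A map locally of finite type is locally quasi-finite if its base change along itself is. -/
theorem locallyQuasiFinite_of_pullback_fst {X Y : Scheme.{u}} (h : X ⟶ Y) [LocallyOfFiniteType h]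
    (hq : LocallyQuasiFinite (pullback.fst h h)) : LocallyQuasiFinite h := by
  refine LocallyQuasiFinite.of_fiberToSpecResidueField h fun u => ?_
  rcases isEmpty_or_nonempty ↥(h.fiber u) with he | hne
  · exact LocallyQuasiFinite.of_injective fun a => (he.false a).elim
  · obtain ⟨z⟩ := hne
    obtain ⟨t, rfl⟩ : ∃ t, h t = u := by
      have : h.fiberι u z ∈ Set.range (h.fiberι u) := ⟨z, rfl⟩
      rw [Scheme.Hom.range_fiberι] at this
      exact ⟨_, this⟩
    let q := Spec.map (h.residueFieldMap t)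
    have hdesc := HasRingHomProperty.descendsAlong_flat (P := @LocallyQuasiFinite)
      GrothLib.AlgSp.codescendsAlong_quasiFinite
    have hQ : (@Surjective ⊓ @Flat ⊓ @QuasiCompact : MorphismProperty Scheme.{u}) q := by
      refine ⟨⟨⟨fun x => ⟨Nonempty.some inferInstance, ?_⟩⟩, ?_⟩, inferInstance⟩
      · exact @Subsingleton.elim _ (inferInstanceAs (Subsingleton (PrimeSpectrum (Y.residueField (h t))))) _ _
      · let := (h.residueFieldMap t).hom.toAlgebra
        rw [HasRingHomProperty.Spec_iff (P := @Flat)]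
        exact RingHom.flat_algebraMap_iff.2 (inferInstance : Module.Flat (Y.residueField (h t)) (X.residueField t))
    change LocallyQuasiFinite (pullback.snd h (Y.fromSpecResidueField (h t)))
    refine MorphismProperty.of_pullback_snd_of_descendsAlong (P := @LocallyQuasiFinite) hQ ?_
    have sq1 : IsPullback
        (pullback.fst (pullback.snd h (Y.fromSpecResidueField (h t))) q ≫ pullback.fst h (Y.fromSpecResidueField (h t)))
        (pullback.snd (pullback.snd h (Y.fromSpecResidueField (h t))) q) h (X.fromSpecResidueField t ≫ h) := by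
      rw [← h.SpecMap_residueFieldMap_fromSpecResidueField t]
      exact (IsPullback.of_hasPullback (pullback.snd h (Y.fromSpecResidueField (h t))) q).paste_horiz
        (IsPullback.of_hasPullback h (Y.fromSpecResidueField (h t)))
    have sqh : IsPullback (pullback.snd h h) (pullback.fst h h) h h := (IsPullback.of_hasPullback h h).flip
    have sq2 := (IsPullback.of_hasPullback (pullback.fst h h) (X.fromSpecResidueField t)).paste_horiz sqh
    rw [← sq1.isoIsPullback_hom_snd _ _ sq2]
    exact MorphismProperty.comp_mem _ _ _ (inferInstance : LocallyQuasiFinite _)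
      (MorphismProperty.pullback_snd _ _ hq)

variable {S : Scheme.{u}} {Q : MorphismProperty Scheme.{u}}

/-- Maps of algebraic spaces, read off their base change along themselves. -/
theorem locP_of_pullback_fst (hQ : GrothLib.AlgSp.EtLocal Q) [Q.RespectsIso]
    (hs : ∀ ⦃X Y : Scheme.{u}⦄ (h : X ⟶ Y), LocallyOfFiniteType h → Q (pullback.fst h h) → Q h)
    {F : AlgSp.Sp S} (hF : AlgSp.IsAlgSpace F) {U : Over S} (b : F ⟶ (AlgSp.yon S).obj U)
    (hl : AlgSp.LocP @LocallyOfFiniteType b) (h : AlgSp.LocP Q (pullback.fst b b)) : AlgSp.LocP Q b := by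
  obtain ⟨T, a, ae, as⟩ := hF.atlas
  obtain ⟨g, hg⟩ := (AlgSp.yon S).map_surjective (a ≫ b)
  have sq : IsPullback ((AlgSp.yon S).map (pullback.fst g g)) ((AlgSp.yon S).map (pullback.snd g g))
      (a ≫ b) (a ≫ b) := by
    rw [← hg]; exact GrothLib.AlgSp.isPullback_yon (IsPullback.of_hasPullback g g)
  have sq₁ := IsPullback.of_hasPullback (a ≫ b) b
  have sq₂ := IsPullback.of_hasPullback b b
  let m₁ : (AlgSp.yon S).obj (pullback g g) ⟶ pullback (a ≫ b) b :=
    sq₁.lift ((AlgSp.yon S).map (pullback.fst g g)) ((AlgSp.yon S).map (pullback.snd g g) ≫ a)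
      (by rw [Category.assoc]; exact sq.w)
  let m₂ : pullback (a ≫ b) b ⟶ pullback b b :=
    sq₂.lift (pullback.fst (a ≫ b) b ≫ a) (pullback.snd (a ≫ b) b) (by rw [Category.assoc]; exact sq₁.w)
  have b₁ : IsPullback ((AlgSp.yon S).map (pullback.snd g g)) m₁ a (pullback.snd (a ≫ b) b) := by
    refine IsPullback.of_bot ?_ (sq₁.lift_snd _ _ _).symm sq₁.flip
    simpa only [m₁, IsPullback.lift_fst] using sq.flip
  have b₂ : IsPullback (pullback.fst (a ≫ b) b) m₂ a (pullback.fst b b) := by
    refine IsPullback.of_bot ?_ (sq₂.lift_fst _ _ _).symm sq₂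
    simpa only [m₂, IsPullback.lift_snd] using sq₁
  have hm : AlgSp.RepWith @Etale (m₁ ≫ m₂) := GrothLib.AlgSp.repWith_comp
    (GrothLib.AlgSp.repWith_of_isPullback b₁ ae) (GrothLib.AlgSp.repWith_of_isPullback b₂ ae)
  have hq : Q (pullback.fst g g).left := h (m₁ ≫ m₂) a (pullback.fst g g) hm ae
    (by rw [Category.assoc, sq₂.lift_fst, sq₁.lift_fst_assoc])
  have sqs := GrothLib.AlgSp.isPullback_left (IsPullback.of_hasPullback g g)
  have hq' : Q (pullback.fst g.left g.left) := by
    rw [← sqs.isoPullback_inv_fst]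
    exact (Q.cancel_left_of_respectsIso _ _).2 hq
  have hgl : LocallyOfFiniteType g.left := hl a (𝟙 _) g ae (AlgSp.repWith_id _ U) (by rw [Category.comp_id, hg])
  exact GrothLib.AlgSp.EtLocal.locP_of_chart hQ ae as (AlgSp.repWith_id _ U) (h := g)
    (by rw [Category.comp_id, hg]) (hs g.left hgl hq')

/-- The base change of a base change of `fpFst D D` to the space of `y ×_𝒮 𝒳`. -/
theorem mem_pullback_fst {P : MorphismProperty (AlgSp.Sp S)} (hP : CompStable P) {𝒳 𝒮 : _root_.AlgSt.Cat S}
    (D : 𝒳 ⥤ᵇ 𝒮) (h : RepByAlgSpWith P (_root_.FibCat.fpFst D D)) {U : Over S}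
    (y : _root_.FibCat.overCat U ⥤ᵇ 𝒮) (F : AlgSp.Space S) (e : ofSp F.obj ⥤ᵇ _root_.FibCat.fp y D)
    (he : _root_.FibCat.IsEquivOver e) (b : F.obj ⟶ (AlgSp.yon S).obj U)
    (i : BasedFunctor.comp e (_root_.FibCat.fpFst y D) ≅ BasedFunctor.comp (ofSpMap b) (toOverCat U))
    (x : ofSp F.obj ⥤ᵇ 𝒳)
    (j : BasedFunctor.comp (BasedFunctor.comp (ofSpMap b) (toOverCat U)) y ≅ BasedFunctor.comp x D) :
    P (pullback.fst b b) := by
  have := IsEquivOver.full (isEquivOver_toOverCat U)
  have := IsEquivOver.faithful (isEquivOver_toOverCat U)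
  obtain ⟨G', hG', -, ⟨ε⟩⟩ := IsEquivOver.symm (Fp.isEquivOver_paste D D x)
  have w := (IsPullback.of_hasPullback b b).w
  have key : ∀ (c : ofSp F.obj ⥤ᵇ _root_.FibCat.overCat U) (iB : BasedFunctor.comp (BasedFunctor.id (ofSp F.obj)) c ≅
      BasedFunctor.comp (ofSpMap b) (toOverCat U)) (jc : BasedFunctor.comp c y ≅ BasedFunctor.comp x D),
      ∃ pre : ofSp (pullback b b) ⥤ᵇ _root_.FibCat.fp (BasedFunctor.comp x D) D, _root_.FibCat.IsEquivOver pre ∧
        BasedFunctor.comp pre (_root_.FibCat.fpFst (BasedFunctor.comp x D) D) = ofSpMap (pullback.fst b b) := by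
    intro c iB jc
    let M := Fp.map (BasedFunctor.id (ofSp F.obj)) e (toOverCat U) iB i
    refine ⟨BasedFunctor.comp (spToFp w) (BasedFunctor.comp M (BasedFunctor.comp (Fp.paste D y c)
        (Fp.congr jc (Iso.refl D)))), IsEquivOver.comp (isEquivOver_spToFp (IsPullback.of_hasPullback b b))
      (IsEquivOver.comp (Fp.isEquivOver_map _ _ _ _ _ (IsEquivOver.refl _) he)
        (IsEquivOver.comp (Fp.isEquivOver_paste D y c) (Fp.isEquivOver_congr jc (Iso.refl D)))), ?_⟩
    have eC : BasedFunctor.comp (Fp.congr jc (Iso.refl D)) (_root_.FibCat.fpFst (BasedFunctor.comp x D) D) =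
        _root_.FibCat.fpFst _ _ := rfl
    have eP : BasedFunctor.comp (Fp.paste D y c) (_root_.FibCat.fpFst _ _) = _root_.FibCat.fpFst _ _ :=
      Fp.paste_fst D y c
    have eM : BasedFunctor.comp M (_root_.FibCat.fpFst c (_root_.FibCat.fpFst y D)) =
        _root_.FibCat.fpFst _ _ := rfl
    have assoc : ∀ {A B C D : _root_.AlgSt.Cat S} (F₁ : A ⥤ᵇ B) (F₂ : B ⥤ᵇ C) (F₃ : C ⥤ᵇ D),
        BasedFunctor.comp (BasedFunctor.comp F₁ F₂) F₃ = BasedFunctor.comp F₁ (BasedFunctor.comp F₂ F₃) := fun _ _ _ => rfl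
    rw [assoc, assoc, assoc, eC, eP, eM]
    rfl
  obtain ⟨pre, hpre, e1⟩ := key (BasedFunctor.comp (ofSpMap b) (toOverCat U)) (Iso.refl _) j
  let h3 : BasedFunctor.comp G' (_root_.FibCat.fpFst x (_root_.FibCat.fpFst D D)) ≅
      _root_.FibCat.fpFst (BasedFunctor.comp x D) D :=
    whiskerLeftIso G' (eqToIso (Fp.paste_fst D D x).symm) ≪≫
      whiskerRightIso ε (_root_.FibCat.fpFst (BasedFunctor.comp x D) D)
  exact mem_of_repByAlgSpWith hP.detected hP.iso h x F (BasedFunctor.id _) (IsEquivOver.refl _)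
    ⟨_, GrothLib.AlgSp.isAlgSpace_pullback' (AlgSp.IsAlgSpace.yon_obj U) F.property F.property b b⟩
    (BasedFunctor.comp pre G') (IsEquivOver.comp hpre hG') (pullback.fst b b)
    (whiskerLeftIso pre h3 ≪≫ eqToIso e1)

/-- A property of the inertia passes to the diagonal. -/
theorem repByAlgSpWith_diag_of_inertia {P : MorphismProperty (AlgSp.Sp S)}
    (hP : CompStable P) {P' : MorphismProperty (AlgSp.Sp S)}
    (hPs : ∀ ⦃F : AlgSp.Sp S⦄ ⦃U : Over S⦄ (b : F ⟶ (AlgSp.yon S).obj U), AlgSp.IsAlgSpace F →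
      AlgSp.LocP @LocallyOfFiniteType b → P (pullback.fst b b) → P' b)
    {𝒳 𝒴 : _root_.AlgSt.Cat S} (h𝒳 : IsAlgStack Scheme.fppfPrecoverage 𝒳)
    (h𝒴 : IsAlgStack Scheme.fppfPrecoverage 𝒴) (f : 𝒳 ⥤ᵇ 𝒴)
    (h : RepByAlgSpWith P (_root_.FibCat.inertiaToBase f)) : RepByAlgSpWith P' (_root_.FibCat.diag f) := by
  intro U y
  obtain ⟨F, e, he, hl⟩ := repByAlgSpWith_lft_diag h𝒳 h𝒴 f U y
  let i := isoOfSpMapOfOver (BasedFunctor.comp e (_root_.FibCat.fpFst y (_root_.FibCat.diag f)))
  exact ⟨F, e, he, hPs _ F.property hl (mem_pullback_fst hP (_root_.FibCat.diag f)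
    ((repByAlgSpWith_inertiaToBase_iff f).1 h) y F e he _ i
    (BasedFunctor.comp e (_root_.FibCat.fpSnd y (_root_.FibCat.diag f)))
    ((whiskerRightIso i y).symm ≪≫ whiskerLeftIso e (_root_.FibCat.fpIso y (_root_.FibCat.diag f))))⟩

end GrothLib.AlgSt
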