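import Groth.Agent.Lib.AlgSt.LocQChart
import Groth.Agent.Lib.AlgSt.OpenSub
import Groth.Agent.Lib.AlgSt.Mono
import Groth.Agent.Lib.AlgSt.Gerbe.Props
import Groth.Agent.Lib.LocProp.BaseChangeDescent
import Groth.Agent.Lib.FppfSource.Scheme
import Groth.Agent.Lib.GrpSchField.Neron

/-!
# The largest open substack on which a morphism is smooth
-/

set_option backward.isDefEq.respectTransparency false
set_option backward.isDefEq.respectTransparency.types false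

universe u

open CategoryTheory CategoryTheory.Limits AlgebraicGeometry Opposite

namespace GrothLib.AlgSt

open _root_.AlgSt GrothLib.FibCat

/-- A morphism smooth near every point of an open is smooth on it. -/
theorem smooth_of_forall_nhd {X Y : Scheme.{u}} (h : X ⟶ Y) (O : X.Opens)
    (hO : ∀ x ∈ O, ∃ U : X.Opens, x ∈ U ∧ Smooth (U.ι ≫ h)) : Smooth (O.ι ≫ h) := by
  choose U hxU hU using hO
  have hsup : ⨆ x : ↥O, O.ι ⁻¹ᵁ U x.1 x.2 = ⊤ :=
    top_le_iff.1 fun z _ => TopologicalSpace.Opens.mem_iSup.2 ⟨z, hxU z.1 z.2⟩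
  refine (IsZariskiLocalAtSource.iff_of_iSup_eq_top (P := @Smooth) _ hsup).2 fun x => ?_
  have := hU x.1 x.2
  have e : (O.ι ⁻¹ᵁ U x.1 x.2).ι ≫ O.ι ≫ h = (O.ι ∣_ U x.1 x.2) ≫ (U x.1 x.2).ι ≫ h := by
    rw [morphismRestrict_ι_assoc]
  rw [e]
  infer_instance

/-- The open where a morphism of schemes is smooth. -/
def smoothOpen {X Y : Scheme.{u}} (h : X ⟶ Y) : X.Opens := ⨆ U : {U : X.Opens // Smooth (U.ι ≫ h)}, U.1

theorem mem_smoothOpen {X Y : Scheme.{u}} {h : X ⟶ Y} {x : X} :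
    x ∈ smoothOpen h ↔ ∃ U : X.Opens, x ∈ U ∧ Smooth (U.ι ≫ h) :=
  TopologicalSpace.Opens.mem_iSup.trans
    ⟨fun ⟨U, hU⟩ => ⟨U.1, hU, U.2⟩, fun ⟨U, hU, h⟩ => ⟨⟨U, h⟩, hU⟩⟩

theorem smooth_iff_le_smoothOpen {X Y : Scheme.{u}} (h : X ⟶ Y) (O : X.Opens) :
    Smooth (O.ι ≫ h) ↔ O ≤ smoothOpen h :=
  ⟨fun hO x hx => mem_smoothOpen.2 ⟨O, hx, hO⟩, fun hO => smooth_of_forall_nhd h O fun _ hx => mem_smoothOpen.1 (hO hx)⟩

theorem smoothOpen_eq_top {X Y : Scheme.{u}} (h : X ⟶ Y) [Smooth h] : smoothOpen h = ⊤ :=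
  top_le_iff.1 fun _ _ => mem_smoothOpen.2 ⟨⊤, trivial, inferInstance⟩

/-- Smooth points of a composite with a smooth map are the preimage of those of the second map. -/
theorem smoothOpen_comp {X' X Y : Scheme.{u}} (c : X' ⟶ X) [Smooth c] (h : X ⟶ Y) :
    smoothOpen (c ≫ h) = c ⁻¹ᵁ smoothOpen h := by
  refine le_antisymm (fun z hz => ?_) fun z hz => ?_
  · obtain ⟨O, hzO, hO⟩ := mem_smoothOpen.1 hz
    let I : X.Opens := ⟨_, (O.ι ≫ c).isOpenMap.isOpen_range⟩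
    let q := IsOpenImmersion.lift I.ι (O.ι ≫ c) (by rw [Scheme.Opens.range_ι]; exact subset_rfl)
    have hq : q ≫ I.ι = O.ι ≫ c := IsOpenImmersion.lift_fac _ _ _
    have : Smooth q := by
      have : Smooth (q ≫ I.ι) := hq ▸ inferInstance
      exact GrothLib.GrpSchField.smooth_of_comp_etale q I.ι ‹_›
    have : Surjective q := ⟨fun w => by
      obtain ⟨o, ho⟩ := w.2
      refine ⟨o, I.ι.injective ?_⟩
      rw [← Scheme.Hom.comp_apply, hq]
      exact ho⟩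
    refine mem_smoothOpen.2 ⟨I, ⟨⟨z, hzO⟩, rfl⟩, GrothLib.FppfSource.fppfSourceDescends_smooth q _
      inferInstance inferInstance inferInstance ?_⟩
    rw [reassoc_of% hq]
    exact hO
  · obtain ⟨O, hzO, hO⟩ := mem_smoothOpen.1 hz
    refine mem_smoothOpen.2 ⟨c ⁻¹ᵁ O, hzO, ?_⟩
    rw [← morphismRestrict_ι_assoc]
    infer_instance

/-- The smooth points of a flat base change lie over smooth points. -/
theorem fst_mem_smoothOpen {X Y Y' : Scheme.{u}} (h : X ⟶ Y) (c : Y' ⟶ Y) [Flat c]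
    (hfp : LocallyOfFinitePresentation c ∨ LocallyOfFinitePresentation h) (z : ↑(pullback h c))
    (hz : z ∈ smoothOpen (pullback.snd h c)) : pullback.fst h c z ∈ smoothOpen h := by
  obtain ⟨O, hzO, hO⟩ := mem_smoothOpen.1 hz
  rcases hfp with hc | hh
  · let I : X.Opens := ⟨_, (O.ι ≫ pullback.fst h c).isOpenMap.isOpen_range⟩
    let q := IsOpenImmersion.lift I.ι (O.ι ≫ pullback.fst h c) (by rw [Scheme.Opens.range_ι]; exact subset_rfl)
    have hq : q ≫ I.ι = O.ι ≫ pullback.fst h c := IsOpenImmersion.lift_fac _ _ _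
    have sqq : IsPullback q (𝟙 _) I.ι (O.ι ≫ pullback.fst h c) :=
      IsPullback.of_isLimit' ⟨by rw [hq, Category.id_comp]⟩ (PullbackCone.IsLimit.mk _ (fun s => s.snd)
        (fun s => by rw [← cancel_mono I.ι, Category.assoc, hq]; exact s.condition.symm)
        (fun s => Category.comp_id _) (fun s w _ h => by rw [← h, Category.comp_id]))
    have : Flat q := MorphismProperty.of_isPullback sqq.flip (inferInstance : Flat (O.ι ≫ pullback.fst h c))
    have : LocallyOfFinitePresentation q := MorphismProperty.of_isPullback sqq.flip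
      (inferInstance : LocallyOfFinitePresentation (O.ι ≫ pullback.fst h c))
    have : Surjective q := ⟨fun w => by
      obtain ⟨o, ho⟩ := w.2
      refine ⟨o, I.ι.injective ?_⟩
      rw [← Scheme.Hom.comp_apply, hq]
      exact ho⟩
    have he : q ≫ I.ι ≫ h = (O.ι ≫ pullback.snd h c) ≫ c := by
      rw [reassoc_of% hq, Category.assoc, pullback.condition]
    have : LocallyOfFinitePresentation (I.ι ≫ h) :=
      GrothLib.FppfSource.fppfSourceDescends_lfp q _ inferInstance inferInstance inferInstance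
        (he ▸ inferInstance)
    let j : pullback (I.ι ≫ h) c ⟶ pullback h c := pullback.map _ _ _ _ I.ι (𝟙 _) (𝟙 _) (by simp) (by simp)
    let ε : (O : Scheme.{u}) ⟶ pullback (I.ι ≫ h) c := pullback.lift q (O.ι ≫ pullback.snd h c) he
    have hej : ε ≫ j = O.ι := by apply pullback.hom_ext <;> simp [ε, j, hq]
    have : IsOpenImmersion ε := by
      have : IsOpenImmersion (ε ≫ j) := hej ▸ inferInstance
      exact IsOpenImmersion.of_comp ε j
    obtain ⟨O₁, h₁, h₂⟩ := GrothLib.LocProp.smooth_nhd_of_baseChange (I.ι ≫ h) c (ε ⟨z, hzO⟩)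
      (Flat.stalkMap c _) ⟨ε.opensRange, ⟨_, rfl⟩, by
        rw [← ε.isoOpensRange_inv_comp, Category.assoc,
          show ε ≫ pullback.snd _ _ = O.ι ≫ pullback.snd h c from pullback.lift_snd _ _ _]
        infer_instance⟩
    refine mem_smoothOpen.2 ⟨I.ι ''ᵁ O₁, ⟨_, h₁, ?_⟩, ?_⟩
    · rw [← Scheme.Hom.comp_apply, show ε ≫ pullback.fst _ _ = q from pullback.lift_fst _ _ _]
      exact congrArg (fun k : (O : Scheme.{u}) ⟶ X => k ⟨z, hzO⟩) hq
    · rw [← Scheme.Hom.isoImage_inv_ι, Category.assoc, Category.assoc]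
      infer_instance
  · exact mem_smoothOpen.2 (GrothLib.LocProp.smooth_nhd_of_baseChange h c z (Flat.stalkMap c _) ⟨O, hzO, hO⟩)

variable {S : Scheme.{u}} {𝒳 𝒴 : _root_.AlgSt.Cat S}

theorem mem_range_of_smooth_restrict_aux (h𝒳 : IsAlgStack Scheme.fppfPrecoverage 𝒳) {Q : 𝒳.obj → Prop}
    (hQ : IsOpenSubstack 𝒳 Q Scheme.fppfPrecoverage) {U : Over S} (x : _root_.FibCat.overCat U ⥤ᵇ 𝒳)
    (O : U.left.Opens) (hO : ∀ u ∈ O, Points.ofChart x u ∈ Set.range (Points.map (subIncl 𝒳 Q)))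
    (a : (_root_.FibCat.overCat (Over.mk (O.ι ≫ U.hom))).obj) :
    Q ((BasedFunctor.comp (GrothLib.FibCat.overMap (Over.homMk O.ι rfl : Over.mk (O.ι ≫ U.hom) ⟶ U)) x).obj a) :=
  (openPred_range_iff h𝒳 hQ _).1
    ((openPred_obj_iff h𝒳.isStack.1 x _).2 fun t => hO _ (a.hom.left t).2)

section Square

variable (h𝒳 : IsAlgStack Scheme.fppfPrecoverage 𝒳) (h𝒴 : IsAlgStack Scheme.fppfPrecoverage 𝒴) {f : 𝒳 ⥤ᵇ 𝒴}
  {U V : Over S} {y : _root_.FibCat.overCat V ⥤ᵇ 𝒴} (hy : RepByAlgSpWith (AlgSp.LocP @Smooth) y)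
  {l : _root_.FibCat.overCat U ⥤ᵇ _root_.FibCat.fp f y} (hl : RepByAlgSpWith (AlgSp.LocP @Smooth) l)
  {h : U ⟶ V} (β : BasedFunctor.comp l (_root_.FibCat.fpSnd f y) ≅ _root_.AlgSt.overMap h)
  {Q : 𝒳.obj → Prop} (hQ : IsOpenSubstack 𝒳 Q Scheme.fppfPrecoverage)
include h𝒳 h𝒴 hy hl β hQ

theorem repByAlgSpWith_smooth_liftSub (O : U.left.Opens)
    (hO : ∀ u ∈ O, Points.ofChart (BasedFunctor.comp l (_root_.FibCat.fpFst f y)) u ∈
      Set.range (Points.map (subIncl 𝒳 Q))) :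
    RepByAlgSpWith (AlgSp.LocP @Smooth) (liftSub Q
      (BasedFunctor.comp (GrothLib.FibCat.overMap (Over.homMk O.ι rfl : Over.mk (O.ι ≫ U.hom) ⟶ U))
        (BasedFunctor.comp l (_root_.FibCat.fpFst f y)))
      (mem_range_of_smooth_restrict_aux h𝒳 hQ _ O hO)) := by
  let j : Over.mk (O.ι ≫ U.hom) ⟶ U := Over.homMk O.ι rfl
  have : Etale j.left := inferInstanceAs (Etale O.ι)
  have := IsEquivOver.full (IsEquivOver.refl 𝒳)
  exact repByAlgSpWith_of_square (f := BasedFunctor.comp (GrothLib.FibCat.overMap j) _) (BasedFunctor.id _)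
    (subIncl 𝒳 Q) (IsEquivOver.refl _) (Iso.refl _)
    (repByAlgSpWith_etale_comp_chart (fun _ _ _ b a hb ha => locP_etale_comp b a hb ha) j
      (repByAlgSpWith_smooth_comp (isFibGrpd_overCat U)
        (Fp.isFibGrpd (F := f) (G := y) h𝒳.isStack.1 (isFibGrpd_overCat V) h𝒴.isStack.1) l _ hl
        (repByAlgSpWith_fpFst f hy)))

/-- A morphism smooth on an open substack is smooth at the points of an atlas square over it. -/
theorem mem_smoothOpen_of_locQ_restrict (hq : LocQ (AlgSp.LocP @Smooth) (BasedFunctor.comp (subIncl 𝒳 Q) f))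
    {u : ↥U.left} (hu : Points.ofChart (BasedFunctor.comp l (_root_.FibCat.fpFst f y)) u ∈
      Set.range (Points.map (subIncl 𝒳 Q))) : u ∈ smoothOpen h.left := by
  have g𝒳 := h𝒳.isStack.1
  let x := BasedFunctor.comp l (_root_.FibCat.fpFst f y)
  let O : U.left.Opens := ⟨_, (isOpen_range_of_isOpenSubstack h𝒳 hQ).preimage (continuous_ofChart g𝒳 h𝒳.atlas x)⟩
  let U₀ : Over S := Over.mk (O.ι ≫ U.hom)
  let j : U₀ ⟶ U := Over.homMk O.ι rfl
  have : Etale j.left := inferInstanceAs (Etale O.ι)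
  let x₀ : _root_.FibCat.overCat U₀ ⥤ᵇ fullSub 𝒳 Q :=
    liftSub Q (BasedFunctor.comp (GrothLib.FibCat.overMap j) x)
      (mem_range_of_smooth_restrict_aux h𝒳 hQ x O fun u hu => hu)
  let α₀ : BasedFunctor.comp x₀ (BasedFunctor.comp (subIncl 𝒳 Q) f) ≅
      BasedFunctor.comp (_root_.AlgSt.overMap (j ≫ h)) y :=
    whiskerLeftIso (GrothLib.FibCat.overMap j) (whiskerLeftIso l (_root_.FibCat.fpIso f y) ≪≫ whiskerRightIso β y) ≪≫
      whiskerRightIso (overMapCompIso j h) y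
  let M := leftMap (subIncl 𝒳 Q) f y
  let l₀ := _root_.FibCat.fpLift x₀ (_root_.AlgSt.overMap (j ≫ h)) α₀
  have gP := Fp.isFibGrpd (F := f) (G := y) g𝒳 (isFibGrpd_overCat V) h𝒴.isStack.1
  have gP₀ := Fp.isFibGrpd (F := BasedFunctor.comp (subIncl 𝒳 Q) f) (G := y) hQ.2.1.isStack.1
    (isFibGrpd_overCat V) h𝒴.isStack.1
  obtain ⟨hMf, hMf'⟩ := full_faithful_of_isMono gP₀ gP M
    (isMono_of_isImm (repByAlgSpWith_mono (fun _ _ a _ _ ha =>
      GrothLib.AlgSp.repWith_mono ha fun _ _ t (ht : IsOpenImmersion t) => (inferInstance : IsImmersion t))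
      (repByAlgSpWith_leftMap hQ.2.2 f y)))
  let γ : BasedFunctor.comp (GrothLib.FibCat.overMap j) l ≅ BasedFunctor.comp l₀ M :=
    natIsoOfComponents
      (fun a => Fp.isoMk (a := (BasedFunctor.comp (GrothLib.FibCat.overMap j) l).obj a)
        (b := (BasedFunctor.comp l₀ M).obj a) (Iso.refl _)
        (((BasedNatTrans.forgetful _ _).mapIso
          (whiskerLeftIso (GrothLib.FibCat.overMap j) β ≪≫ overMapCompIso j h)).app a) (by
        erw [map_refl_iso (F' := f) (G' := y) (subIncl 𝒳 Q) (BasedFunctor.id _) (l₀.obj a)]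
        change f.map (𝟙 _) ≫ α₀.hom.app a = _
        rw [f.map_id]
        refine (Category.id_comp _).trans ?_
        change ((l.obj _).obj.iso.hom ≫ y.map (β.hom.app _)) ≫ y.map _ = _ ≫ y.map (_ ≫ _)
        rw [y.map_comp, Category.assoc]
        rfl))
      (fun a => (Fp.isHomLift_iff _ _).2 (IsHomLift.id ((BasedFunctor.comp (GrothLib.FibCat.overMap j) l).w_obj a)))
      (fun {a b} φ => Fp.hom_ext ((Category.comp_id _).trans (Category.id_comp _).symm)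
        ((whiskerLeftIso (GrothLib.FibCat.overMap j) β ≪≫ overMapCompIso j h).hom.toNatTrans.naturality φ))
  have hl₀ : RepByAlgSpWith (AlgSp.LocP @Smooth) l₀ :=
    repByAlgSpWith_of_square (f := BasedFunctor.comp (GrothLib.FibCat.overMap j) l) (BasedFunctor.id _) M
      (IsEquivOver.refl _) γ.symm (repByAlgSpWith_etale_comp_chart (fun _ _ _ b a hb ha => locP_etale_comp b a hb ha) j hl)
  have := left_of_locP_yon (mem_of_locQ Section.isSmoothLocalST_smooth hq hQ.2.1 h𝒴 y hy l₀ hl₀ (j ≫ h) (Iso.refl _))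
  exact mem_smoothOpen.2 ⟨O, hu, this⟩

/-- A morphism is smooth on an open substack covered by smooth points of an atlas square. -/
theorem locQ_smooth_restrict
    (hsub : Set.range (Points.map (subIncl 𝒳 Q)) ⊆
      Points.ofChart (BasedFunctor.comp l (_root_.FibCat.fpFst f y)) '' smoothOpen h.left) :
    LocQ (AlgSp.LocP @Smooth) (BasedFunctor.comp (subIncl 𝒳 Q) f) := by
  have g𝒳 := h𝒳.isStack.1
  let x := BasedFunctor.comp l (_root_.FibCat.fpFst f y)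
  let O₁ : U.left.Opens := ⟨_, (isOpen_range_of_isOpenSubstack h𝒳 hQ).preimage (continuous_ofChart g𝒳 h𝒳.atlas x)⟩
  let O := O₁ ⊓ smoothOpen h.left
  let U₀ : Over S := Over.mk (O.ι ≫ U.hom)
  let j : U₀ ⟶ U := Over.homMk O.ι rfl
  have hx₀ := repByAlgSpWith_smooth_liftSub h𝒳 h𝒴 hy hl β hQ O fun u hu => hu.1
  refine ⟨U₀, V, _, y, j ≫ h,
    whiskerLeftIso (GrothLib.FibCat.overMap j) (whiskerLeftIso l (_root_.FibCat.fpIso f y) ≪≫ whiskerRightIso β y) ≪≫
      whiskerRightIso (overMapCompIso j h) y, hx₀,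
    (isSurjective_iff_repByAlgSpWith (isFibGrpd_overCat U₀) hQ.2.1.isStack.1 _
      (repByAlgSp1_of_repByAlgSpWith hx₀)).1 fun q => ?_, hy,
    locP_yon_of_left GrothLib.AlgSp.EtLocal.smooth ((smooth_iff_le_smoothOpen _ O).2 inf_le_right)⟩
  obtain ⟨u, hu, hxu⟩ := hsub ⟨q, rfl⟩
  refine ⟨Points.ofChart (BasedFunctor.id _) (⟨u, ⟨q, hxu.symm⟩, hu⟩ : ↥U₀.left), ?_⟩
  refine points_map_injective_of_full hQ.2.1.isStack.1 g𝒳 (subIncl 𝒳 Q) ?_
  rw [← ofChart_eq_map, ← ofChart_comp]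
  exact (ofChart_overMap j x _).trans hxu

omit hQ

/-- The largest open substack on which `f` is smooth meets an atlas square in its smooth points. -/
theorem mem_range_iff_of_largest (hQ₁ : IsOpenSubstack 𝒳 Q Scheme.fppfPrecoverage)
    (hQ₂ : LocQ (AlgSp.LocP @Smooth) (BasedFunctor.comp (subIncl 𝒳 Q) f))
    (hQ₃ : ∀ Q' : 𝒳.obj → Prop, IsOpenSubstack 𝒳 Q' Scheme.fppfPrecoverage →
      LocQ (AlgSp.LocP @Smooth) (BasedFunctor.comp (subIncl 𝒳 Q') f) → ∀ a, Q' a → Q a) (u : ↥U.left) :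
    Points.ofChart (BasedFunctor.comp l (_root_.FibCat.fpFst f y)) u ∈ Set.range (Points.map (subIncl 𝒳 Q)) ↔
      u ∈ smoothOpen h.left := by
  refine ⟨mem_smoothOpen_of_locQ_restrict h𝒳 h𝒴 hy hl β hQ₁ hQ₂, fun hu => ?_⟩
  have g𝒳 := h𝒳.isStack.1
  have hW := isOpenMap_ofChart g𝒳 (repByAlgSpWith_smooth_comp (isFibGrpd_overCat U)
    (Fp.isFibGrpd (F := f) (G := y) g𝒳 (isFibGrpd_overCat V) h𝒴.isStack.1) l _ hl
    (repByAlgSpWith_fpFst f hy)) _ (smoothOpen h.left).2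
  have hQW := isOpenSubstack_openPred h𝒳 hW
  have hle := hQ₃ _ hQW (locQ_smooth_restrict h𝒳 h𝒴 hy hl β hQW
    (range_points_map_subIncl_openPred g𝒳).subset)
  exact (openSubstack_le_iff h𝒳 hQW hQ₁).1 hle ((range_points_map_subIncl_openPred g𝒳).superset ⟨u, hu, rfl⟩)

/-- An open substack meeting an atlas square in its smooth points is the largest one. -/
theorem largest_of_mem_range_iff
    (hxs : RepByAlgSpWith AlgSp.IsSurjectiveMor (BasedFunctor.comp l (_root_.FibCat.fpFst f y)))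
    (hQ₁ : IsOpenSubstack 𝒳 Q Scheme.fppfPrecoverage)
    (hiff : ∀ u : ↥U.left, Points.ofChart (BasedFunctor.comp l (_root_.FibCat.fpFst f y)) u ∈
      Set.range (Points.map (subIncl 𝒳 Q)) ↔ u ∈ smoothOpen h.left) :
    LocQ (AlgSp.LocP @Smooth) (BasedFunctor.comp (subIncl 𝒳 Q) f) ∧
      ∀ Q' : 𝒳.obj → Prop, IsOpenSubstack 𝒳 Q' Scheme.fppfPrecoverage →
        LocQ (AlgSp.LocP @Smooth) (BasedFunctor.comp (subIncl 𝒳 Q') f) → ∀ a, Q' a → Q a := by
  have hsurj := surjective_ofChart h𝒳.isStack.1 hxs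
  refine ⟨locQ_smooth_restrict h𝒳 h𝒴 hy hl β hQ₁ fun p hp => ?_,
    fun Q' hQ' hsm => (openSubstack_le_iff h𝒳 hQ' hQ₁).2 fun p hp => ?_⟩
  · obtain ⟨u, rfl⟩ := hsurj p
    exact ⟨u, (hiff u).1 hp, rfl⟩
  · obtain ⟨u, rfl⟩ := hsurj p
    exact (hiff u).2 (mem_smoothOpen_of_locQ_restrict h𝒳 h𝒴 hy hl β hQ' hsm hp)

end Square

/-- There is a largest open substack on which a morphism is smooth. -/
theorem exists_largest_locQ_smooth (h𝒳 : IsAlgStack Scheme.fppfPrecoverage 𝒳)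
    (h𝒴 : IsAlgStack Scheme.fppfPrecoverage 𝒴) (f : 𝒳 ⥤ᵇ 𝒴) :
    ∃ Q : 𝒳.obj → Prop, IsOpenSubstack 𝒳 Q Scheme.fppfPrecoverage ∧
      LocQ (AlgSp.LocP @Smooth) (BasedFunctor.comp (subIncl 𝒳 Q) f) ∧
      ∀ Q' : 𝒳.obj → Prop, IsOpenSubstack 𝒳 Q' Scheme.fppfPrecoverage →
        LocQ (AlgSp.LocP @Smooth) (BasedFunctor.comp (subIncl 𝒳 Q') f) → ∀ a, Q' a → Q a := by
  have g𝒳 := h𝒳.isStack.1
  obtain ⟨V, y, hy, hys⟩ := h𝒴.atlas
  obtain ⟨U, l, h, hl, ⟨β⟩, hx, hxs, -⟩ := exists_atlas_over h𝒳 h𝒴 f y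
  have hW := isOpenMap_ofChart g𝒳 (hx hy) _ (smoothOpen h.left).2
  have hQ := isOpenSubstack_openPred h𝒳 hW
  refine ⟨_, hQ, locQ_smooth_restrict h𝒳 h𝒴 hy hl.1 β hQ (range_points_map_subIncl_openPred g𝒳).subset,
    fun Q' hQ' hsm => (openSubstack_le_iff h𝒳 hQ' hQ).2 fun p hp => ?_⟩
  obtain ⟨u, rfl⟩ := surjective_ofChart g𝒳 (hxs hys) p
  exact (range_points_map_subIncl_openPred g𝒳).superset
    ⟨u, mem_smoothOpen_of_locQ_restrict h𝒳 h𝒴 hy hl.1 β hQ' hsm hp, rfl⟩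

end GrothLib.AlgSt
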