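import Groth.Agent.Lib.AlgSt.SmoothLocus
import Groth.Agent.Lib.AlgSt.FpStack

/-!
# The largest open substack of smoothness and smooth precomposition, flat base change
-/

set_option backward.isDefEq.respectTransparency false
set_option backward.isDefEq.respectTransparency.types false

universe u

open CategoryTheory CategoryTheory.Limits AlgebraicGeometry Opposite

namespace GrothLib.AlgSt

open _root_.AlgSt GrothLib.FibCat

variable {S : Scheme.{u}} {𝒳' 𝒳 𝒴 𝒴' : _root_.AlgSt.Cat S}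

/-- The preimage of an open substack, as a set of points. -/
theorem openSubstack_preimage (h𝒳' : IsAlgStack Scheme.fppfPrecoverage 𝒳') (h𝒳 : IsAlgStack Scheme.fppfPrecoverage 𝒳)
    (g : 𝒳' ⥤ᵇ 𝒳) {Q : 𝒳.obj → Prop} (hQ : IsOpenSubstack 𝒳 Q Scheme.fppfPrecoverage) :
    IsOpenSubstack 𝒳' (fun a => Q (g.obj a)) Scheme.fppfPrecoverage ∧
      Set.range (Points.map (subIncl 𝒳' (fun a => Q (g.obj a)))) =
        Points.map g ⁻¹' Set.range (Points.map (subIncl 𝒳 Q)) := by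
  have g' := h𝒳'.isStack.1
  have hW := (isOpen_range_of_isOpenSubstack h𝒳 hQ).preimage (continuous_points_map h𝒳' h𝒳 g)
  have e : (fun a => Q (g.obj a)) = openPred (Points.map g ⁻¹' Set.range (Points.map (subIncl 𝒳 Q))) := by
    funext a
    obtain ⟨y, ey, -⟩ := Yon.exists_functor g' (U := 𝒳'.p.obj a) a rfl
    let b : (_root_.FibCat.overCat (𝒳'.p.obj a)).obj := Yon.idObj _
    refine propext ⟨fun h => openPred_of_hom ey.inv ((openPred_obj_iff g' y b).2 fun t => ?_), fun h => ?_⟩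
    · exact (openPred_obj_iff h𝒳.isStack.1 (BasedFunctor.comp y g) b).1
        (openPred_of_hom (g.map ey.hom) ((openPred_range_iff h𝒳 hQ _).2 h)) t
    · exact (openPred_range_iff h𝒳 hQ _).1 (openPred_of_hom (g.map ey.inv)
        ((openPred_obj_iff h𝒳.isStack.1 (BasedFunctor.comp y g) b).2 fun t =>
          (openPred_obj_iff g' y b).1 (openPred_of_hom ey.hom h) t))
  rw [e]
  exact ⟨isOpenSubstack_openPred h𝒳' hW, range_points_map_subIncl_openPred g'⟩

/-- Formation of the largest open of smoothness commutes with smooth morphisms. -/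
theorem largest_locQ_smooth_comp (h𝒳' : IsAlgStack Scheme.fppfPrecoverage 𝒳')
    (h𝒳 : IsAlgStack Scheme.fppfPrecoverage 𝒳) (h𝒴 : IsAlgStack Scheme.fppfPrecoverage 𝒴)
    (g : 𝒳' ⥤ᵇ 𝒳) (hg : LocQ (AlgSp.LocP @Smooth) g) (f : 𝒳 ⥤ᵇ 𝒴) {Q : 𝒳.obj → Prop}
    (hQ₁ : IsOpenSubstack 𝒳 Q Scheme.fppfPrecoverage)
    (hQ₂ : LocQ (AlgSp.LocP @Smooth) (BasedFunctor.comp (subIncl 𝒳 Q) f))
    (hQ₃ : ∀ Q' : 𝒳.obj → Prop, IsOpenSubstack 𝒳 Q' Scheme.fppfPrecoverage →
      LocQ (AlgSp.LocP @Smooth) (BasedFunctor.comp (subIncl 𝒳 Q') f) → ∀ a, Q' a → Q a) :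
    IsOpenSubstack 𝒳' (fun a => Q (g.obj a)) Scheme.fppfPrecoverage ∧
      LocQ (AlgSp.LocP @Smooth)
        (BasedFunctor.comp (subIncl 𝒳' (fun a => Q (g.obj a))) (BasedFunctor.comp g f)) ∧
      ∀ Q' : 𝒳'.obj → Prop, IsOpenSubstack 𝒳' Q' Scheme.fppfPrecoverage →
        LocQ (AlgSp.LocP @Smooth) (BasedFunctor.comp (subIncl 𝒳' Q') (BasedFunctor.comp g f)) →
        ∀ a, Q' a → Q (g.obj a) := by
  obtain ⟨hopen, hrange⟩ := openSubstack_preimage h𝒳' h𝒳 g hQ₁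
  refine ⟨hopen, ?_⟩
  obtain ⟨W, z, hz, hzs⟩ := h𝒴.atlas
  obtain ⟨V, l₀, k, hl₀, ⟨βk⟩, hy, hys, -⟩ := exists_atlas_over h𝒳 h𝒴 f z
  let y := BasedFunctor.comp l₀ (_root_.FibCat.fpFst f z)
  obtain ⟨U, l, h, hl, ⟨βh⟩, hx, hxs, -⟩ := exists_atlas_over h𝒳' h𝒳 g y
  let M := Fp.map (F := _root_.FibCat.fpFst f z) (G := g) (F' := _root_.FibCat.fpSnd z f) (G' := g)
    (Fp.symm f z) (BasedFunctor.id 𝒳') (BasedFunctor.id 𝒳) (Iso.refl _) (Iso.refl _)
  let E := BasedFunctor.comp (BasedFunctor.comp (Fp.symm g (_root_.FibCat.fpFst f z)) M)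
    (BasedFunctor.comp (Fp.pasteComp g f z) (Fp.symm z (BasedFunctor.comp g f)))
  have := IsEquivOver.full (IsEquivOver.refl 𝒳)
  have := IsEquivOver.faithful (IsEquivOver.refl 𝒳)
  have hE : _root_.FibCat.IsEquivOver E := IsEquivOver.comp
    (IsEquivOver.comp (Fp.isEquivOver_symm _ _)
      (Fp.isEquivOver_map _ _ _ _ _ (Fp.isEquivOver_symm f z) (IsEquivOver.refl _)))
    (IsEquivOver.comp (Fp.isEquivOver_pasteComp g f z) (Fp.isEquivOver_symm _ _))
  let l' := BasedFunctor.comp (BasedFunctor.comp l (rightMap l₀ g (_root_.FibCat.fpFst f z))) E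
  have hl' : RepByAlgSpWith (AlgSp.LocP @Smooth) l' :=
    repByAlgSpWith_comp_equiv E hE (repByAlgSpWith_smooth_comp (isFibGrpd_overCat U)
      (Fp.isFibGrpd (F := g) (G := y) h𝒳'.isStack.1 (isFibGrpd_overCat V) h𝒳.isStack.1) l _ hl.1
      (repByAlgSpWith_rightMap hl₀.1 g _))
  let β' : BasedFunctor.comp l' (_root_.FibCat.fpSnd (BasedFunctor.comp g f) z) ≅ _root_.AlgSt.overMap (h ≫ k) :=
    whiskerRightIso βh (BasedFunctor.comp l₀ (_root_.FibCat.fpSnd f z)) ≪≫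
      whiskerLeftIso (_root_.AlgSt.overMap h) βk ≪≫ overMapCompIso h k
  have : Smooth h.left :=
    left_of_locP_yon (mem_of_locQ Section.isSmoothLocalST_smooth hg h𝒳' h𝒳 y (hy hz) l hl.1 h βh)
  refine largest_of_mem_range_iff h𝒳' h𝒴 hz hl' β' (hxs (hys hzs)) hopen fun u => ?_
  change Points.ofChart (BasedFunctor.comp l (_root_.FibCat.fpFst g y)) u ∈ _ ↔ _
  have e : Points.map g (Points.ofChart (BasedFunctor.comp l (_root_.FibCat.fpFst g y)) u) =
      Points.ofChart y (h.left u) :=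
    (ofChart_congr (whiskerLeftIso l (_root_.FibCat.fpIso g y) ≪≫ whiskerRightIso βh y) u).trans
      (ofChart_overMap h y u)
  rw [hrange, Set.mem_preimage, e]
  rw [mem_range_iff_of_largest h𝒳 h𝒴 hz hl₀.1 βk hQ₁ hQ₂ hQ₃, Over.comp_left, smoothOpen_comp]
  rfl

/-- An atlas square of a base change, over an atlas square of the morphism. -/
theorem exists_baseChange_square (h𝒳 : IsAlgStack Scheme.fppfPrecoverage 𝒳) (h𝒴 : IsAlgStack Scheme.fppfPrecoverage 𝒴)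
    (h𝒴' : IsAlgStack Scheme.fppfPrecoverage 𝒴') (f : 𝒳 ⥤ᵇ 𝒴) (z : 𝒴' ⥤ᵇ 𝒴) :
    ∃ (U V R : Over S) (y : _root_.FibCat.overCat V ⥤ᵇ 𝒴) (l : _root_.FibCat.overCat U ⥤ᵇ _root_.FibCat.fp f y)
      (h : U ⟶ V) (_ : BasedFunctor.comp l (_root_.FibCat.fpSnd f y) ≅ _root_.AlgSt.overMap h)
      (c : R ⟶ V) (v : _root_.FibCat.overCat R ⥤ᵇ 𝒴')
      (l' : _root_.FibCat.overCat (pullback c h) ⥤ᵇ _root_.FibCat.fp (_root_.FibCat.fpFst z f) v)
      (_ : BasedFunctor.comp l' (_root_.FibCat.fpSnd (_root_.FibCat.fpFst z f) v) ≅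
        _root_.AlgSt.overMap (pullback.fst c h)),
      RepByAlgSpWith (AlgSp.LocP @Smooth) y ∧ RepByAlgSpWith (AlgSp.LocP @Smooth) l ∧
      RepByAlgSpWith (AlgSp.LocP @Smooth) v ∧ RepByAlgSpWith (AlgSp.LocP @Smooth) l' ∧
      RepByAlgSpWith AlgSp.IsSurjectiveMor
        (BasedFunctor.comp l' (_root_.FibCat.fpFst (_root_.FibCat.fpFst z f) v)) ∧
      (∀ ⦃P : MorphismProperty (AlgSp.Sp S)⦄, AlgSp.IsSmoothLocalST P →
        (LocQ P z → P ((AlgSp.yon S).map c)) ∧ (LocQ P f → P ((AlgSp.yon S).map h))) ∧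
      Nonempty (BasedFunctor.comp (BasedFunctor.comp l' (_root_.FibCat.fpFst (_root_.FibCat.fpFst z f) v))
          (_root_.FibCat.fpSnd z f) ≅
        BasedFunctor.comp (_root_.AlgSt.overMap (pullback.snd c h)) (BasedFunctor.comp l (_root_.FibCat.fpFst f y))) := by
  obtain ⟨V, y, hy, hys⟩ := h𝒴.atlas
  obtain ⟨U, l, h, hl, ⟨β⟩, hx, hxs, -⟩ := exists_atlas_over h𝒳 h𝒴 f y
  obtain ⟨R, lz, c, hlz, ⟨βz⟩, hv, hvj, -⟩ := exists_atlas_over h𝒴' h𝒴 z y
  let v := BasedFunctor.comp lz (_root_.FibCat.fpFst z y)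
  have hvs := hv hy
  let γ : BasedFunctor.comp (_root_.AlgSt.overMap c) y ≅ BasedFunctor.comp v z :=
    whiskerRightIso βz.symm y ≪≫ (whiskerLeftIso lz (_root_.FibCat.fpIso z y)).symm
  let cm := (AlgSp.yon S).map c
  let hm := (AlgSp.yon S).map h
  have sq : IsPullback ((AlgSp.yon S).map (pullback.fst c h)) ((AlgSp.yon S).map (pullback.snd c h)) cm hm :=
    GrothLib.AlgSp.isPullback_yon (IsPullback.of_hasPullback c h)
  obtain ⟨ic⟩ := iso_toOverCat_overMap c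
  obtain ⟨ih⟩ := iso_toOverCat_overMap h
  have := IsEquivOver.full (isEquivOver_toOverCat V)
  have := IsEquivOver.faithful (isEquivOver_toOverCat V)
  let E := BasedFunctor.comp (ofOverCat (pullback c h)) (BasedFunctor.comp (spToFp sq.w)
    (Fp.map (F := ofSpMap cm) (G := ofSpMap hm) (toOverCat R) (toOverCat U) (toOverCat V) ic ih))
  have hE : _root_.FibCat.IsEquivOver E := IsEquivOver.comp (isEquivOver_ofOverCat _)
    (IsEquivOver.comp (isEquivOver_spToFp sq)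
      (Fp.isEquivOver_map _ _ _ _ _ (isEquivOver_toOverCat R) (isEquivOver_toOverCat U)))
  let π := _root_.FibCat.fpFst y f
  let E₁ := Fp.congr (Iso.refl (_root_.AlgSt.overMap c))
    (show _root_.AlgSt.overMap h ≅ BasedFunctor.comp (BasedFunctor.comp l (Fp.symm f y)) π from β.symm)
  let M := rightMap (BasedFunctor.comp l (Fp.symm f y)) (_root_.AlgSt.overMap c) π
  let E₂ := BasedFunctor.comp (Fp.paste f y (_root_.AlgSt.overMap c)) (Fp.congr γ (Iso.refl f))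
  obtain ⟨P', hP', -, ⟨ε⟩⟩ := IsEquivOver.symm (Fp.isEquivOver_paste f z v)
  let E₃ := BasedFunctor.comp P' (Fp.symm v (_root_.FibCat.fpFst z f))
  let K := BasedFunctor.comp (BasedFunctor.comp (BasedFunctor.comp E E₁) M) E₂
  let l' := BasedFunctor.comp (BasedFunctor.comp (BasedFunctor.comp E E₁) M) (BasedFunctor.comp E₂ E₃)
  have hsl := repByAlgSpWith_rightMap (repByAlgSpWith_comp_equiv _ (Fp.isEquivOver_symm f y) hl.1)
    (_root_.AlgSt.overMap c) π
  have hjl := repByAlgSpWith_rightMap (repByAlgSpWith_comp_equiv _ (Fp.isEquivOver_symm f y) hl.2)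
    (_root_.AlgSt.overMap c) π
  have hl' : RepByAlgSpWith (AlgSp.LocP @Smooth) l' :=
    repByAlgSpWith_comp_equiv _ (IsEquivOver.comp
        (IsEquivOver.comp (Fp.isEquivOver_paste _ _ _) (Fp.isEquivOver_congr _ _))
        (IsEquivOver.comp hP' (Fp.isEquivOver_symm _ _)))
      (repByAlgSpWith_equiv_comp _ (IsEquivOver.comp hE (Fp.isEquivOver_congr _ _)) hsl)
  have hjl' : RepByAlgSpWith AlgSp.IsSurjectiveMor l' :=
    repByAlgSpWith_comp_equiv _ (IsEquivOver.comp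
        (IsEquivOver.comp (Fp.isEquivOver_paste _ _ _) (Fp.isEquivOver_congr _ _))
        (IsEquivOver.comp hP' (Fp.isEquivOver_symm _ _)))
      (repByAlgSpWith_equiv_comp _ (IsEquivOver.comp hE (Fp.isEquivOver_congr _ _)) hjl)
  let ib : BasedFunctor.comp P' (_root_.FibCat.fpFst v (_root_.FibCat.fpFst z f)) ≅
      _root_.FibCat.fpFst (BasedFunctor.comp v z) f :=
    whiskerRightIso ε (_root_.FibCat.fpFst (BasedFunctor.comp v z) f)
  obtain ⟨i₀⟩ := iso_toOverCat_overMap (pullback.fst c h)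
  obtain ⟨i₁⟩ := iso_toOverCat_overMap (pullback.snd c h)
  let β' : BasedFunctor.comp l' (_root_.FibCat.fpSnd (_root_.FibCat.fpFst z f) v) ≅
      _root_.AlgSt.overMap (pullback.fst c h) :=
    whiskerLeftIso K ib ≪≫
      whiskerLeftIso (ofOverCat (pullback c h)) i₀.symm ≪≫
      whiskerRightIso (ofOverCatCompIso (pullback c h)) (_root_.AlgSt.overMap (pullback.fst c h))
  let ic' : BasedFunctor.comp P' (BasedFunctor.comp (_root_.FibCat.fpSnd v (_root_.FibCat.fpFst z f))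
        (_root_.FibCat.fpSnd z f)) ≅
      _root_.FibCat.fpSnd (BasedFunctor.comp v z) f :=
    whiskerRightIso ε (_root_.FibCat.fpSnd (BasedFunctor.comp v z) f)
  let δ : BasedFunctor.comp (BasedFunctor.comp l' (_root_.FibCat.fpFst (_root_.FibCat.fpFst z f) v))
      (_root_.FibCat.fpSnd z f) ≅
      BasedFunctor.comp (_root_.AlgSt.overMap (pullback.snd c h)) (BasedFunctor.comp l (_root_.FibCat.fpFst f y)) :=
    whiskerLeftIso K ic' ≪≫
      whiskerLeftIso (ofOverCat (pullback c h)) (whiskerRightIso i₁.symm (BasedFunctor.comp l (_root_.FibCat.fpFst f y))) ≪≫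
      whiskerRightIso (whiskerRightIso (ofOverCatCompIso (pullback c h)) (_root_.AlgSt.overMap (pullback.snd c h)))
        (BasedFunctor.comp l (_root_.FibCat.fpFst f y))
  exact ⟨U, V, R, y, l, h, β, c, v, l', β', hy, hl.1, hvs, hl',
    repByAlgSpWith_surjective_comp (isFibGrpd_overCat _)
      (Fp.isFibGrpd (F := _root_.FibCat.fpFst z f) (G := v) (Fp.isFibGrpd h𝒴'.isStack.1 h𝒳.isStack.1 h𝒴.isStack.1)
        (isFibGrpd_overCat R) h𝒴'.isStack.1) l' _ hjl' (repByAlgSpWith_fpFst _ (hvj hys)),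
    fun P hP => ⟨fun hq => mem_of_locQ hP hq h𝒴' h𝒴 y hy lz hlz.1 c βz,
      fun hq => mem_of_locQ hP hq h𝒳 h𝒴 y hy l hl.1 h β⟩, ⟨δ⟩⟩

/-- Formation of the largest open of smoothness commutes with flat base change. -/
theorem largest_locQ_smooth_fp (h𝒳 : IsAlgStack Scheme.fppfPrecoverage 𝒳)
    (h𝒴 : IsAlgStack Scheme.fppfPrecoverage 𝒴) (h𝒴' : IsAlgStack Scheme.fppfPrecoverage 𝒴')
    (f : 𝒳 ⥤ᵇ 𝒴) (y : 𝒴' ⥤ᵇ 𝒴) (hy : LocQ (AlgSp.LocP @Flat) y)
    (hfp : LocQ (AlgSp.LocP @LocallyOfFinitePresentation) y ∨ LocQ (AlgSp.LocP @LocallyOfFinitePresentation) f)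
    {Q : 𝒳.obj → Prop} (hQ₁ : IsOpenSubstack 𝒳 Q Scheme.fppfPrecoverage)
    (hQ₂ : LocQ (AlgSp.LocP @Smooth) (BasedFunctor.comp (subIncl 𝒳 Q) f))
    (hQ₃ : ∀ Q' : 𝒳.obj → Prop, IsOpenSubstack 𝒳 Q' Scheme.fppfPrecoverage →
      LocQ (AlgSp.LocP @Smooth) (BasedFunctor.comp (subIncl 𝒳 Q') f) → ∀ a, Q' a → Q a) :
    IsOpenSubstack (_root_.FibCat.fp y f) (fun b ↦ Q b.obj.snd) Scheme.fppfPrecoverage ∧
      LocQ (AlgSp.LocP @Smooth)
        (BasedFunctor.comp (subIncl (_root_.FibCat.fp y f) fun b ↦ Q b.obj.snd) (_root_.FibCat.fpFst y f)) ∧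
      ∀ Q' : (_root_.FibCat.fp y f).obj → Prop, IsOpenSubstack (_root_.FibCat.fp y f) Q' Scheme.fppfPrecoverage →
        LocQ (AlgSp.LocP @Smooth) (BasedFunctor.comp (subIncl (_root_.FibCat.fp y f) Q') (_root_.FibCat.fpFst y f)) →
        ∀ b, Q' b → Q b.obj.snd := by
  have hfpst := isAlgStack_fp h𝒴.isStack h𝒴.diag h𝒴' h𝒳 y f
  obtain ⟨hopen, hrange⟩ := openSubstack_preimage hfpst h𝒳 (_root_.FibCat.fpSnd y f) hQ₁
  refine ⟨hopen, ?_⟩
  obtain ⟨U, V, R, y₀, l, h, β, c, v, l', β', hy₀, hl, hv, hl', hj', hm, ⟨δ⟩⟩ :=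
    exists_baseChange_square h𝒳 h𝒴 h𝒴' f y
  have : Flat c.left := left_of_locP_yon ((hm GrothLib.AlgSp.isSmoothLocalST_flat).1 hy)
  have hfp' : LocallyOfFinitePresentation c.left ∨ LocallyOfFinitePresentation h.left :=
    hfp.imp (fun hh => left_of_locP_yon ((hm GrothLib.AlgSp.isSmoothLocalST_lfp).1 hh))
      fun hh => left_of_locP_yon ((hm GrothLib.AlgSp.isSmoothLocalST_lfp).2 hh)
  have sq := (GrothLib.AlgSp.isPullback_left (IsPullback.of_hasPullback c h)).flip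
  have hrange' : Set.range (Points.map (subIncl (_root_.FibCat.fp y f) fun b ↦ Q b.obj.snd)) = _ := hrange
  refine largest_of_mem_range_iff hfpst h𝒴' hv hl' β' hj' hopen fun u => ?_
  have e : Points.map (_root_.FibCat.fpSnd y f)
      (Points.ofChart (BasedFunctor.comp l' (_root_.FibCat.fpFst (_root_.FibCat.fpFst y f) v)) u) =
      Points.ofChart (BasedFunctor.comp l (_root_.FibCat.fpFst f y₀)) ((pullback.snd c h).left u) :=
    (ofChart_congr δ u).trans (ofChart_overMap (pullback.snd c h) _ u)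
  rw [hrange', Set.mem_preimage, e]
  rw [mem_range_iff_of_largest h𝒳 h𝒴 hy₀ hl β hQ₁ hQ₂ hQ₃]
  constructor
  · intro hu
    obtain ⟨O, huO, hO⟩ := mem_smoothOpen.1 hu
    refine mem_smoothOpen.2 ⟨(pullback.snd c h).left ⁻¹ᵁ O, huO, ?_⟩
    exact MorphismProperty.of_isPullback ((isPullback_morphismRestrict _ O).paste_vert sq) hO
  · intro hu
    have e₁ : (pullback.snd c h).left = sq.isoPullback.hom ≫ Limits.pullback.fst h.left c.left :=
      sq.isoPullback_hom_fst.symm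
    have e₂ : (pullback.fst c h).left = sq.isoPullback.hom ≫ Limits.pullback.snd h.left c.left :=
      sq.isoPullback_hom_snd.symm
    rw [e₂, smoothOpen_comp] at hu
    rw [e₁, Scheme.Hom.comp_apply]
    exact fst_mem_smoothOpen h.left c.left hfp' _ hu

end GrothLib.AlgSt
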