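import Groth.Agent.Lib.AlgSt.Diag
import Groth.Agent.Lib.AlgSt.Stack

/-!
# Algebraic stacks: invariance, spaces, descent of the conditions
-/

set_option backward.isDefEq.respectTransparency false
set_option backward.isDefEq.respectTransparency.types false

universe v₃ u₃ v₂ u₂ u

open CategoryTheory CategoryTheory.Limits AlgebraicGeometry Opposite

namespace GrothLib.AlgSt

open _root_.AlgSt GrothLib.FibCat

variable {S : Scheme.{u}} {P : MorphismProperty (AlgSp.Sp S)}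

section Invariance

variable {𝒳 : BasedCategory.{v₂, u₂} (Over S)} {𝒴 : BasedCategory.{v₃, u₃} (Over S)}

/-- Structure functors commute with functors over the base. -/
def toSelfIso (e : 𝒳 ⥤ᵇ 𝒴) :
    BasedFunctor.comp e (_root_.FibCat.toSelf 𝒴) ≅
      BasedFunctor.comp (_root_.FibCat.toSelf 𝒳) (BasedFunctor.id (_root_.FibCat.selfOver (Over S))) :=
  natIsoOfComponents (fun a => eqToIso (e.w_obj a))
    (fun a => IsHomLift.of_fac' _ _ _ (e.w_obj a) rfl (by simp; rfl))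
    (fun {a b} f => by
      change 𝒴.p.map (e.map f) ≫ eqToHom (e.w_obj b) = eqToHom (e.w_obj a) ≫ 𝒳.p.map f
      rw [p_map_map]
      simp)

theorem repByAlgSp1_diag_of_isEquivOver (e : 𝒳 ⥤ᵇ 𝒴) (he : _root_.FibCat.IsEquivOver e)
    (h : RepByAlgSp1 (_root_.FibCat.diag (_root_.FibCat.toSelf 𝒴))) :
    RepByAlgSp1 (_root_.FibCat.diag (_root_.FibCat.toSelf 𝒳)) := by
  let M : _root_.FibCat.fp (_root_.FibCat.toSelf 𝒳) (_root_.FibCat.toSelf 𝒳) ⥤ᵇ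
      _root_.FibCat.fp (_root_.FibCat.toSelf 𝒴) (_root_.FibCat.toSelf 𝒴) :=
    Fp.map e e (BasedFunctor.id _) (toSelfIso e) (toSelfIso e)
  have := IsEquivOver.full (IsEquivOver.refl (_root_.FibCat.selfOver (Over S)))
  have := IsEquivOver.faithful (IsEquivOver.refl (_root_.FibCat.selfOver (Over S)))
  have hM : _root_.FibCat.IsEquivOver M := Fp.isEquivOver_map _ _ _ _ _ he he
  have := IsEquivOver.full hM
  have := IsEquivOver.faithful hM
  refine repByAlgSp1_of_square e M he (natIsoOfComponents (fun a => Fp.isoMk (Iso.refl _) (Iso.refl _) ?_)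
    (fun a => (Fp.isHomLift_iff _ _).2 (by exact IsHomLift.id (e.w_obj a)))
    (fun f => Fp.hom_ext ((Category.comp_id _).trans (Category.id_comp _).symm)
      ((Category.comp_id _).trans (Category.id_comp _).symm))) h
  have hl := Fp.iso_lift ((_root_.FibCat.diag (_root_.FibCat.toSelf 𝒴)).obj (e.obj a))
  have hr := Fp.iso_lift ((BasedFunctor.comp (_root_.FibCat.diag (_root_.FibCat.toSelf 𝒳)) M).obj a)
  refine selfOver_hom_ext (R := 𝒳.p.obj a) _ _ ?_ ?_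
  · exact IsHomLift.of_fac' _ _ _ (e.w_obj a) (e.w_obj a) (by
      change 𝒴.p.map (𝟙 (e.obj a)) ≫ 𝟙 _ = _
      simp; rfl)
  · have h' : (_root_.FibCat.selfOver (Over S)).p.IsHomLift (𝟙 (𝒳.p.obj a))
        ((BasedFunctor.comp (_root_.FibCat.diag (_root_.FibCat.toSelf 𝒳)) M).obj a).obj.iso.hom :=
      isHomLift_id_of_eq (_root_.FibCat.selfOver (Over S)).p (R := 𝒴.p.obj (e.obj a)) _ (Or.inl (e.w_obj a))
        (h := hr)
    have h1 : (_root_.FibCat.selfOver (Over S)).p.IsHomLift (𝟙 (𝒳.p.obj a)) (𝒴.p.map (𝟙 (e.obj a))) :=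
      IsHomLift.of_fac' _ _ _ (e.w_obj a) (e.w_obj a) (by
        change 𝒴.p.map (𝟙 (e.obj a)) = _
        simp; rfl)
    exact inferInstanceAs ((_root_.FibCat.selfOver (Over S)).p.IsHomLift (𝟙 (𝒳.p.obj a))
      (((BasedFunctor.comp (_root_.FibCat.diag (_root_.FibCat.toSelf 𝒳)) M).obj a).obj.iso.hom ≫ 𝒴.p.map (𝟙 (e.obj a))))

theorem hasAtlas_of_isEquivOver (e : 𝒳 ⥤ᵇ 𝒴) (he : _root_.FibCat.IsEquivOver e) (h : HasAtlas P 𝒳) :
    HasAtlas P 𝒴 := by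
  obtain ⟨U, x, h1, h2⟩ := h
  exact ⟨U, BasedFunctor.comp x e,
    (repByAlgSpWith_iff_of_square (f := BasedFunctor.comp x e) (BasedFunctor.id _) e (IsEquivOver.refl _) he (Iso.refl _)).2 h1,
    (repByAlgSpWith_iff_of_square (f := BasedFunctor.comp x e) (BasedFunctor.id _) e (IsEquivOver.refl _) he (Iso.refl _)).2 h2⟩

theorem isAlgStack_of_isEquivOver {K : Precoverage Scheme.{u}} (e : 𝒳 ⥤ᵇ 𝒴) (he : _root_.FibCat.IsEquivOver e)
    (h : IsAlgStack K 𝒳) : IsAlgStack K 𝒴 := by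
  obtain ⟨e', he', -, -⟩ := IsEquivOver.symm he
  exact ⟨(GrothLib.Stk.isStack_iff_of_isEquivOver _ e he).1 h.isStack,
    repByAlgSp1_diag_of_isEquivOver e' he' h.diag, hasAtlas_of_isEquivOver e he h.atlas⟩

theorem isAlgStack_iff_of_isEquivOver {K : Precoverage Scheme.{u}} (e : 𝒳 ⥤ᵇ 𝒴)
    (he : _root_.FibCat.IsEquivOver e) : IsAlgStack K 𝒳 ↔ IsAlgStack K 𝒴 := by
  obtain ⟨e', he', -, -⟩ := IsEquivOver.symm he
  exact ⟨isAlgStack_of_isEquivOver e he, isAlgStack_of_isEquivOver e' he'⟩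

theorem isDM_iff_of_isEquivOver {K : Precoverage Scheme.{u}} (e : 𝒳 ⥤ᵇ 𝒴)
    (he : _root_.FibCat.IsEquivOver e) : IsDM K 𝒳 ↔ IsDM K 𝒴 := by
  obtain ⟨e', he', -, -⟩ := IsEquivOver.symm he
  exact and_congr (isAlgStack_iff_of_isEquivOver e he)
    ⟨hasAtlas_of_isEquivOver e he, hasAtlas_of_isEquivOver e' he'⟩

end Invariance

section Chart

variable {𝒳 : BasedCategory.{v₂, u₂} (Over S)} {𝒴 : BasedCategory.{v₃, u₃} (Over S)}

/-- Composition with a chart of an algebraic space. -/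
theorem repByAlgSpWith_comp_chart
    (hQ : ∀ ⦃F₂ F₁ : AlgSp.Sp S⦄ ⦃U : Over S⦄, AlgSp.IsAlgSpace F₂ → AlgSp.IsAlgSpace F₁ →
      ∀ (b : F₂ ⟶ F₁) (a : F₁ ⟶ (AlgSp.yon S).obj U),
        AlgSp.RepWith @Etale b → AlgSp.RepWith @Surjective b → P a → P (b ≫ a))
    {f : 𝒳 ⥤ᵇ 𝒴} (hf : RepByAlgSpWith P f) {Z : AlgSp.Space S} (eZ : ofSp Z.obj ⥤ᵇ 𝒳)
    (hZ : _root_.FibCat.IsEquivOver eZ) {V : Over S} {p : (AlgSp.yon S).obj V ⟶ Z.obj}
    (pe : AlgSp.RepWith @Etale p) (ps : AlgSp.RepWith @Surjective p) :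
    RepByAlgSpWith P (BasedFunctor.comp (BasedFunctor.comp (BasedFunctor.comp (ofOverCat V) (ofSpMap p)) eZ) f) := by
  have := IsEquivOver.full (IsEquivOver.refl 𝒴)
  have := IsEquivOver.faithful (IsEquivOver.refl 𝒴)
  refine repByAlgSpWith_of_square (f := BasedFunctor.comp (BasedFunctor.comp (ofSpMap p) eZ) f) (ofOverCat V)
    (BasedFunctor.id 𝒴) (isEquivOver_ofOverCat V) (Iso.refl _) (fun U y => ?_)
  obtain ⟨F₁, e₁, he₁, ha⟩ := hf U y
  obtain ⟨eZ', hZ', ⟨η⟩, ⟨ε⟩⟩ := IsEquivOver.symm hZ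
  have := IsEquivOver.full hZ
  have := IsEquivOver.faithful hZ
  let Φ := BasedFunctor.comp (BasedFunctor.comp e₁ (_root_.FibCat.fpSnd y f)) eZ'
  let g := spHom Φ
  let iF : BasedFunctor.comp e₁ (_root_.FibCat.fpSnd y f) ≅ BasedFunctor.comp (ofSpMap g) eZ :=
    (whiskerLeftIso (BasedFunctor.comp e₁ (_root_.FibCat.fpSnd y f)) ε).symm ≪≫ whiskerRightIso (isoOfSpHom Φ) eZ
  let sq := IsPullback.of_hasPullback g p
  have hL : AlgSp.IsAlgSpace (pullback g p) :=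
    GrothLib.AlgSp.isAlgSpace_pullback' Z.property F₁.property (AlgSp.IsAlgSpace.yon_obj V) g p
  let E := BasedFunctor.comp (spToFp sq.w) (BasedFunctor.comp
    (Fp.map (F' := _root_.FibCat.fpSnd y f) (G' := BasedFunctor.comp (ofSpMap p) eZ) e₁ (BasedFunctor.id (ofSch V)) eZ iF (Iso.refl _))
    (Fp.pasteComp (BasedFunctor.comp (ofSpMap p) eZ) f y))
  refine ⟨⟨_, hL⟩, E, IsEquivOver.comp (isEquivOver_spToFp sq) (IsEquivOver.comp
    (Fp.isEquivOver_map _ _ _ _ _ he₁ (IsEquivOver.refl _)) (Fp.isEquivOver_pasteComp _ f y)), ?_⟩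
  have h2 := spMapOfOver_comp (ofSpMap (pullback.fst g p)) (BasedFunctor.comp e₁ (_root_.FibCat.fpFst y f))
  rw [spHom_ofSpMap] at h2
  exact h2.symm ▸ hQ hL F₁.property (pullback.fst g p) _ (GrothLib.AlgSp.repWith_of_isPullback sq.flip pe)
    (GrothLib.AlgSp.repWith_of_isPullback sq.flip ps) ha

theorem repByAlgSpWith_id (hid : ∀ U : Over S, P (𝟙 ((AlgSp.yon S).obj U))) (𝒳 : BasedCategory.{v₂, u₂} (Over S)) :
    RepByAlgSpWith P (BasedFunctor.id 𝒳) := fun U y => by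
  have hπ := Fp.isEquivOver_fpFst_of_isEquivOver y (IsEquivOver.refl 𝒳)
  refine HasRep.of_equiv' (π' := BasedFunctor.id _) (_root_.FibCat.fpFst y (BasedFunctor.id 𝒳)) hπ (Iso.refl _) ?_
  refine ⟨⟨_, AlgSp.IsAlgSpace.yon_obj U⟩, toOverCat U, isEquivOver_toOverCat U, ?_⟩
  rw [show spMapOfOver (BasedFunctor.comp (toOverCat U) (BasedFunctor.id _)) = 𝟙 _ from rfl]
  exact hid U

/-- Etale-local-on-source compatibility of `LocP`. -/
theorem locP_etale_comp {Q : MorphismProperty Scheme.{u}} {F₂ F₁ G : AlgSp.Sp S} (b : F₂ ⟶ F₁) (a : F₁ ⟶ G)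
    (hb : AlgSp.RepWith @Etale b) (ha : AlgSp.LocP Q a) : AlgSp.LocP Q (b ≫ a) := fun _ _ a' c h ha' hc e =>
  ha (a' ≫ b) c h (GrothLib.AlgSp.repWith_comp ha' hb) hc (by rw [Category.assoc, e])

theorem isEtaleMor_etale_comp {F₂ F₁ G : AlgSp.Sp S} (b : F₂ ⟶ F₁) (a : F₁ ⟶ G)
    (hb : AlgSp.RepWith @Etale b) (ha : AlgSp.IsEtaleMor a) : AlgSp.IsEtaleMor (b ≫ a) := fun _ φ hφ => by
  rw [← Category.assoc]
  exact ha (φ ≫ b) (GrothLib.AlgSp.repWith_comp hφ hb)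

theorem isSurjectiveMor_etale_comp {F₂ F₁ G : AlgSp.Sp S} (b : F₂ ⟶ F₁) (a : F₁ ⟶ G)
    (hb : AlgSp.RepWith @Surjective b) (ha : AlgSp.IsSurjectiveMor a) : AlgSp.IsSurjectiveMor (b ≫ a) := fun z => by
  obtain ⟨w, rfl⟩ := ha z
  obtain ⟨v, rfl⟩ := GrothLib.AlgSp.surjective_map_of_repWith hb w
  exact ⟨v, AlgSp.Points.map_comp b a v⟩

theorem isEtaleMor_id (U : Over S) : AlgSp.IsEtaleMor (𝟙 ((AlgSp.yon S).obj U)) := fun _ φ hφ => by
  rw [Category.comp_id]; exact hφ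

theorem locP_smooth_id (U : Over S) : AlgSp.LocP @Smooth (𝟙 ((AlgSp.yon S).obj U)) :=
  locP_of_repWith_etale (fun _ _ t (_ : Etale t) => (inferInstance : Smooth t)) (AlgSp.repWith_id _ U)

theorem isSurjectiveMor_id (F : AlgSp.Sp S) : AlgSp.IsSurjectiveMor (𝟙 F) := fun z => ⟨z, AlgSp.Points.map_id z⟩

end Chart

section AlgStack

variable {𝒳 𝒴 : _root_.AlgSt.Cat S}

/-- A category representable by an algebraic space is a Deligne-Mumford stack. -/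
theorem isDM_of_repByAlgSp (h : RepByAlgSp 𝒳) : IsDM Scheme.fppfPrecoverage 𝒳 := by
  have h𝒳 := (isFibSetoid_of_repByAlgSp h).1
  obtain ⟨Z, eZ, hZ⟩ := h
  obtain ⟨V, p, pe, ps⟩ := Z.property.atlas
  have aS := repByAlgSpWith_comp_chart (fun _ _ _ _ _ b a hb _ ha => locP_etale_comp b a hb ha)
    (repByAlgSpWith_id (P := AlgSp.LocP @Smooth) locP_smooth_id 𝒳) eZ hZ pe ps
  have aJ := repByAlgSpWith_comp_chart (fun _ _ _ _ _ b a _ hb ha => isSurjectiveMor_etale_comp b a hb ha)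
    (repByAlgSpWith_id (P := AlgSp.IsSurjectiveMor) (fun U => isSurjectiveMor_id _) 𝒳) eZ hZ pe ps
  have aE := repByAlgSpWith_comp_chart (fun _ _ _ _ _ b a hb _ ha => isEtaleMor_etale_comp b a hb ha)
    (repByAlgSpWith_id (P := AlgSp.IsEtaleMor) isEtaleMor_id 𝒳) eZ hZ pe ps
  exact ⟨⟨isStack_of_repByAlgSp ⟨Z, eZ, hZ⟩,
    repByAlgSp1_diag_of (fun U G => repByAlgSp1_of_repByAlgSp (repByAlgSp_overCat U) ⟨Z, eZ, hZ⟩ G) h𝒳,
    V, _, aS, aJ⟩, V, _, aE, aJ⟩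

/-- The diagonal condition descends along a functor representable by algebraic spaces. -/
theorem repByAlgSp1_diag_of_repByAlgSp1 (h𝒳 : _root_.FibCat.IsFibGrpd 𝒳.p) (h𝒴 : _root_.FibCat.IsFibGrpd 𝒴.p)
    (hΔ : RepByAlgSp1 (_root_.FibCat.diag (_root_.FibCat.toSelf 𝒴)))
    (j : 𝒳 ⥤ᵇ 𝒴) (hj : RepByAlgSp1 j) : RepByAlgSp1 (_root_.FibCat.diag (_root_.FibCat.toSelf 𝒳)) := by
  refine repByAlgSp1_diag_of (fun U G => ?_) h𝒳
  let Gj := BasedFunctor.comp G j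
  let z : _root_.FibCat.overCat U ⥤ᵇ _root_.FibCat.fp Gj j :=
    _root_.FibCat.fpLift (BasedFunctor.id _) G (Iso.refl _)
  have hU := repByAlgSp_overCat U
  have hz : RepByAlgSp1 z := repByAlgSp1_of_repByAlgSp hU (hj U Gj) z
  have hs : RepByAlgSp1 (_root_.FibCat.fpSnd Gj j) := repByAlgSp1_fpSnd j (repByAlgSp1_of_diag hΔ h𝒴 Gj)
  exact repByAlgSp1_comp (isFibSetoid_of_repByAlgSp hU).1 (Fp.isFibGrpd (isFibSetoid_of_repByAlgSp hU).1 h𝒳 h𝒴)
    z (_root_.FibCat.fpSnd Gj j) hz hs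

/-- A category fibred in groupoids with a functor to an algebraic stack representable by algebraic spaces is an
algebraic stack. -/
theorem isAlgStack_of_repByAlgSp1 (h𝒳 : _root_.FibCat.IsFibGrpd 𝒳.p)
    (h𝒴 : IsAlgStack Scheme.fppfPrecoverage 𝒴) (j : 𝒳 ⥤ᵇ 𝒴) (hj : RepByAlgSp1 j) :
    IsAlgStack Scheme.fppfPrecoverage 𝒳 := by
  obtain ⟨U, x, hS, hJ⟩ := h𝒴.atlas
  obtain ⟨Z, eZ, hZ⟩ := hj U x
  obtain ⟨V, p, pe, ps⟩ := Z.property.atlas
  exact ⟨isStack_of_repByAlgSp1 h𝒳 h𝒴.isStack j hj,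
    repByAlgSp1_diag_of_repByAlgSp1 h𝒳 h𝒴.isStack.1 h𝒴.diag j hj, V, _,
    repByAlgSpWith_comp_chart (fun _ _ _ _ _ b a hb _ ha => locP_etale_comp b a hb ha)
      (repByAlgSpWith_fpSnd j hS) eZ hZ pe ps,
    repByAlgSpWith_comp_chart (fun _ _ _ _ _ b a _ hb ha => isSurjectiveMor_etale_comp b a hb ha)
      (repByAlgSpWith_fpSnd j hJ) eZ hZ pe ps⟩

end AlgStack

end GrothLib.AlgSt
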