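import Groth.Prelude.Def_TwSh
import Groth.Agent.Lib.LimExact8.Basic
import Groth.Agent.Lib.AlgSp.LocP

/-!
# Being twisted is local on the base for the flat topology
-/

set_option backward.isDefEq.respectTransparency false
set_option backward.isDefEq.respectTransparency.types false

universe u v w

open CategoryTheory CategoryTheory.Limits AlgebraicGeometry Opposite

noncomputable section

namespace GrothLib.AlgSt.TwistedLocal

variable {S : Scheme.{u}}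

/-- An object over the fibre product of the base point of `ξ` with a given point of the target. -/
theorem exists_obj_over {𝒳 : _root_.AlgSt.Cat S} (hG : _root_.FibCat.IsFibGrpd 𝒳.p) {X : Over S}
    (π : 𝒳 ⥤ᵇ _root_.AlgSt.ofSch X) (ξ : 𝒳.obj) (η : (_root_.AlgSt.ofSch X).obj) :
    ∃ (ξ' : 𝒳.obj) (ψ : ξ' ⟶ ξ) (_ : π.obj ξ' ⟶ η), (Flat η.sec.down.left → Flat (StMod.bmap 𝒳 ψ)) ∧
      ∀ t : StMod.sch 𝒳 ξ, (eqToHom (π.w_obj ξ).symm ≫ (π.obj ξ).sec.down).left t ∈ Set.range η.sec.down.left →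
        t ∈ Set.range (StMod.bmap 𝒳 ψ) := by
  let f : 𝒳.p.obj ξ ⟶ X := eqToHom (π.w_obj ξ).symm ≫ (π.obj ξ).sec.down
  obtain ⟨ξ', ψ, hψ⟩ := hG.exists_lift (pullback.fst f η.sec.down)
  have hd : 𝒳.p.obj ξ' = pullback f η.sec.down := IsHomLift.domain_eq 𝒳.p (pullback.fst f η.sec.down) ψ
  have hp : 𝒳.p.map ψ = eqToHom hd ≫ pullback.fst f η.sec.down := by
    rw [IsHomLift.fac' 𝒳.p (pullback.fst f η.sec.down) ψ]
    simp
  have hm : (π.map ψ).hom = eqToHom (π.w_obj ξ') ≫ 𝒳.p.map ψ ≫ eqToHom (π.w_obj ξ).symm :=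
    Functor.congr_hom π.w ψ
  refine ⟨ξ', ψ, ⟨eqToHom ((π.w_obj ξ').trans hd) ≫ pullback.snd f η.sec.down, ?_⟩, fun hfl => ?_, fun t ht => ?_⟩
  · refine ULift.ext _ _ ?_
    refine Eq.trans ?_ (congrArg ULift.down (π.map ψ).map_sec)
    change (eqToHom _ ≫ pullback.snd f η.sec.down) ≫ η.sec.down = (π.map ψ).hom ≫ (π.obj ξ).sec.down
    rw [hm, hp, Category.assoc, ← pullback.condition]
    simp [f]
  · have sq := GrothLib.AlgSp.isPullback_left (IsPullback.of_hasPullback f η.sec.down)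
    have : Flat (pullback.fst f η.sec.down).left := MorphismProperty.of_isPullback sq.flip hfl
    have : IsIso (eqToHom hd).left := inferInstanceAs (IsIso ((Over.forget S).map (eqToHom hd)))
    rw [StMod.bmap, hp, Over.comp_left]
    infer_instance
  · obtain ⟨b, hb⟩ := ht
    have sq := GrothLib.AlgSp.isPullback_left (IsPullback.of_hasPullback f η.sec.down)
    obtain ⟨c₀, hc₀, -⟩ := Scheme.Pullback.exists_preimage_pullback t b hb.symm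
    have hc : (pullback.fst f η.sec.down).left (sq.isoPullback.inv c₀) = t := by
      rw [← Scheme.Hom.comp_apply, sq.isoPullback_inv_fst]
      exact hc₀
    obtain ⟨c, hc'⟩ : ∃ c, c = sq.isoPullback.inv c₀ := ⟨_, rfl⟩
    rw [← hc'] at hc
    have : IsIso (eqToHom hd).left := inferInstanceAs (IsIso ((Over.forget S).map (eqToHom hd)))
    obtain ⟨c', rfl⟩ := (eqToHom hd).left.surjective c
    exact ⟨c', by rw [StMod.bmap, hp, Over.comp_left, Scheme.Hom.comp_apply]; exact hc⟩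

variable {𝒳 : BasedCategory.{v, w} (Over S)} {A : (Over S)ᵒᵖ ⥤ GrpCat.{u}}

/-- The inertial action commutes with the comparison maps. -/
theorem map_inert (F : StMod.Mod 𝒳) (ι : TwSh.BandHom 𝒳 A) {ξ' ξ : 𝒳.obj} (ψ : ξ' ⟶ ξ)
    (a : A.obj (op (𝒳.p.obj ξ))) (U : (StMod.sch 𝒳 ξ).Opens) (s : Γ(F.obj ξ, U)) :
    (F.map ψ rfl).app U ((TwSh.inert F ξ (ι.hom ξ a)).app U s) =
      (TwSh.inert F ξ' (ι.hom ξ' (A.map (𝒳.p.map ψ).op a))).app (StMod.bmap 𝒳 ψ ⁻¹ᵁ U) ((F.map ψ rfl).app U s) := by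
  have hh : ∀ (φ φ' : ξ' ⟶ ξ) {g g' : StMod.sch 𝒳 ξ' ⟶ StMod.sch 𝒳 ξ} (hg : StMod.bmap 𝒳 φ = g)
      (hg' : StMod.bmap 𝒳 φ' = g'), φ = φ' → HEq ((F.map φ hg).app U s) ((F.map φ' hg').app U s) := by
    intro φ φ' g g' hg hg' e
    subst e
    exact TwSh.map_app_heq F φ hg hg' U s
  let α := (ι.hom ξ a).hom.1
  let α' := (ι.hom ξ' (A.map (𝒳.p.map ψ).op a)).hom.1
  have hα : StMod.bmap 𝒳 α = 𝟙 _ := TwSh.bmap_autO ξ (ι.hom ξ a)
  have hα' : StMod.bmap 𝒳 α' = 𝟙 _ := TwSh.bmap_autO ξ' (ι.hom ξ' (A.map (𝒳.p.map ψ).op a))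
  have e1 := congrArg (fun f => (ConcreteCategory.hom f) s) (StMod.Mod.map_comp_app F ψ α rfl hα U)
  have e2 := congrArg (fun f => (ConcreteCategory.hom f) s) (StMod.Mod.map_comp_app F α' ψ hα' rfl U)
  have h := hh (ψ ≫ α) (α' ≫ ψ) (g := StMod.bmap 𝒳 ψ ≫ 𝟙 _) (g' := 𝟙 _ ≫ StMod.bmap 𝒳 ψ)
    (by rw [StMod.bmap_comp, hα]) (by rw [StMod.bmap_comp, hα']) (ι.natural ψ a).symm
  rw [TwSh.inert_app_apply, TwSh.inert_app_apply]
  exact e1.symm.trans ((eq_of_heq h).trans e2)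

/-- The character is compatible with restriction. -/
theorem charUnit_map (χ : A ⟶ TwSh.GmPsh S) {ξ' ξ : 𝒳.obj} (ψ : ξ' ⟶ ξ) (a : A.obj (op (𝒳.p.obj ξ))) (d : ℤ) :
    ((TwSh.charUnit χ ξ' (A.map (𝒳.p.map ψ).op a) ^ d)⁻¹).val =
      (StMod.bmap 𝒳 ψ).appTop ((TwSh.charUnit χ ξ a ^ d)⁻¹).val := by
  have h : TwSh.charUnit χ ξ' (A.map (𝒳.p.map ψ).op a) =
      Units.map ((StMod.bmap 𝒳 ψ).appTop.hom.toMonoidHom :
        Γ(StMod.sch 𝒳 ξ, ⊤) →* Γ(StMod.sch 𝒳 ξ', ⊤)) (TwSh.charUnit χ ξ a) :=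
    ConcreteCategory.congr_hom (χ.naturality (𝒳.p.map ψ).op) a
  rw [h, ← map_zpow, ← map_inv]
  rfl

/-- The comparison maps are semilinear. -/
theorem map_smul (F : StMod.Mod 𝒳) {ξ' ξ : 𝒳.obj} (ψ : ξ' ⟶ ξ) (U : (StMod.sch 𝒳 ξ).Opens)
    (r : Γ(StMod.sch 𝒳 ξ, ⊤)) (s : Γ(F.obj ξ, U)) :
    (F.map ψ rfl).app U (TwSh.resTop (StMod.sch 𝒳 ξ) U r • s) =
      TwSh.resTop (StMod.sch 𝒳 ξ') (StMod.bmap 𝒳 ψ ⁻¹ᵁ U) ((StMod.bmap 𝒳 ψ).appTop r) •
        (show Γ(F.obj ξ', StMod.bmap 𝒳 ψ ⁻¹ᵁ U) from (F.map ψ rfl).app U s) := by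
  refine (Scheme.Modules.Hom.app_smul _ _ _).trans ?_
  change (StMod.bmap 𝒳 ψ).app U (TwSh.resTop (StMod.sch 𝒳 ξ) U r) •
    (show Γ(F.obj ξ', StMod.bmap 𝒳 ψ ⁻¹ᵁ U) from (F.map ψ rfl).app U s) = _
  congr 1
  exact ConcreteCategory.congr_hom ((StMod.bmap 𝒳 ψ).naturality (homOfLE (le_top : U ≤ ⊤)).op) r

end GrothLib.AlgSt.TwistedLocal

namespace GrothLib.AlgSt.TwistedLocal

variable {S : Scheme.{u}} {𝒳 : _root_.AlgSt.Cat S} {A : (Over S)ᵒᵖ ⥤ GrpCat.{u}}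

/-- Being twisted can be checked after restriction to a jointly surjective flat family. -/
theorem isTwisted_of_restrict (hG : _root_.FibCat.IsFibGrpd 𝒳.p) {X : Over S} (π : 𝒳 ⥤ᵇ _root_.AlgSt.ofSch X)
    (ι : TwSh.BandHom 𝒳 A) (hι : ∀ (ξ : 𝒳.obj) (a : A.obj (op (𝒳.p.obj ξ))), π.map (ι.hom ξ a).hom.1 = 𝟙 _)
    (χ : A ⟶ TwSh.GmPsh S) (d : ℤ) {I : Type u} (η : I → (_root_.AlgSt.ofSch X).obj)
    (hfl : ∀ i, Flat (η i).sec.down.left) (hcov : ∀ x : X.left, ∃ i, x ∈ Set.range (η i).sec.down.left)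
    (F : StMod.Mod 𝒳) (hF : F.IsCartesian)
    (h : ∀ i, TwSh.IsTwisted (StMod.Mod.comap (StMod.fibFst π (η i)) F) (TwSh.BandHom.fib π (η i) ι hι) χ d) :
    TwSh.IsTwisted F ι χ d := by
  rw [TwSh.isTwisted_iff_inert_eq]
  intro ξ a
  rw [← sub_eq_zero, GrothLib.OX.eq_zero_iff]
  intro t
  obtain ⟨i, hi⟩ := hcov ((eqToHom (π.w_obj ξ).symm ≫ (π.obj ξ).sec.down).left t)
  obtain ⟨ξ', ψ, k, hq, ht⟩ := exists_obj_over hG π ξ (η i)
  have : Flat (StMod.bmap 𝒳 ψ) := hq (hfl i)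
  obtain ⟨y, rfl⟩ := ht t hi
  rw [← GrothLib.LimExact8.stalk_map_pullback_eq_zero_iff (StMod.bmap 𝒳 ψ) y]
  have hlin : (TwSh.inert F ξ (ι.hom ξ a) - TwSh.scalarEnd (F.obj ξ) ((TwSh.charUnit χ ξ a ^ d)⁻¹).val) ≫
      F.map ψ rfl = 0 := by
    rw [Preadditive.sub_comp, sub_eq_zero]
    apply Scheme.Modules.hom_ext
    intro U
    ext s
    change (F.map ψ rfl).app U ((TwSh.inert F ξ (ι.hom ξ a)).app U s) =
      (F.map ψ rfl).app U (TwSh.resTop (StMod.sch 𝒳 ξ) U ((TwSh.charUnit χ ξ a ^ d)⁻¹).val • s)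
    rw [map_inert, map_smul, ← charUnit_map]
    have := h i (CostructuredArrow.mk k : (StMod.fibCat π (η i)).obj) (A.map (𝒳.p.map ψ).op a)
      (StMod.bmap 𝒳 ψ ⁻¹ᵁ U) ((F.map ψ rfl).app U s)
    rw [show (TwSh.BandHom.fib π (η i) ι hι).hom (CostructuredArrow.mk k : (StMod.fibCat π (η i)).obj)
        (A.map (𝒳.p.map ψ).op a) = TwSh.autOFib π (η i) (CostructuredArrow.mk k)
          (ι.hom ξ' (A.map (𝒳.p.map ψ).op a)) (hι _ _) from rfl, TwSh.inert_comap_fibFst] at this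
    exact this
  let adj := Scheme.Modules.pullbackPushforwardAdjunction (StMod.bmap 𝒳 ψ)
  have := hF ψ (rfl : StMod.bmap 𝒳 ψ = _)
  have h0 := congrArg (adj.homEquiv (F.obj ξ) (F.obj ξ')).symm hlin
  rw [Adjunction.homEquiv_naturality_left_symm] at h0
  have hz : (adj.homEquiv (F.obj ξ) (F.obj ξ')).symm 0 = 0 := by
    rw [Adjunction.homEquiv_counit]
    haveI : (Scheme.Modules.pullback (StMod.bmap 𝒳 ψ)).IsLeftAdjoint := adj.isLeftAdjoint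
    haveI : PreservesColimitsOfSize.{0, 0} (Scheme.Modules.pullback (StMod.bmap 𝒳 ψ)) :=
      adj.leftAdjoint_preservesColimits
    haveI : (Scheme.Modules.pullback (StMod.bmap 𝒳 ψ)).Additive :=
      Functor.additive_of_preserves_binary_products _
    rw [Functor.map_zero, zero_comp]
  rw [hz] at h0
  have h1 : (Scheme.Modules.pullback (StMod.bmap 𝒳 ψ)).map
      (TwSh.inert F ξ (ι.hom ξ a) - TwSh.scalarEnd (F.obj ξ) ((TwSh.charUnit χ ξ a ^ d)⁻¹).val) = 0 := by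
    rw [← cancel_mono ((adj.homEquiv (F.obj ξ) (F.obj ξ')).symm (F.map ψ rfl)), h0, zero_comp]
  rw [h1, Functor.map_zero]

end GrothLib.AlgSt.TwistedLocal
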