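import Groth.Prelude.Def_W4stkstmodspWNA
import Groth.Agent.S7488
import Groth.Agent.Lib.AlgSt.DiagRep
import Groth.Agent.Lib.AlgSt.AffineStk
import Groth.Agent.Lib.AlgSt.LocQ
import Groth.Agent.Lib.AlgSt.FpStack
import Groth.Agent.Lib.AlgSp.KernelGrpd
import Groth.Agent.Lib.AlgSp.QuotRestrict

/-!
# Well-nigh affine algebraic stacks
-/

set_option autoImplicit false
set_option linter.style.haveILetI false
set_option backward.isDefEq.respectTransparency false
set_option backward.isDefEq.respectTransparency.types false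

universe u

open CategoryTheory CategoryTheory.Limits AlgebraicGeometry Opposite

namespace GrothLib.AlgSt.WellNigh

open _root_.AlgSt GrothLib.FibCat

variable {S : Scheme.{u}}

/-- The four properties of a well-nigh affine chart. -/
abbrev P4 (S : Scheme.{u}) : MorphismProperty (AlgSp.Sp S) :=
  AlgSp.IsSurjectiveMor ⊓ AlgSp.LocP @Flat ⊓ AlgSp.IsFiniteMor ⊓ AlgSp.LocP @LocallyOfFinitePresentation

/-- Being affine over a well-nigh affine stack. -/
theorem of_affine {𝒳 𝒳' : _root_.AlgSt.Cat S} (hw : IsWellNighAffine 𝒳) (f : 𝒳' ⥤ᵇ 𝒳)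
    (hf : RepByAlgSpWith AlgSp.IsAffineMor f) : IsWellNighAffine 𝒳' := by
  obtain ⟨U, x, hU, hx⟩ := hw
  obtain ⟨F, e, he, ha⟩ := hf U x
  obtain ⟨W, i, fst, sq, hW⟩ := ha hU (𝟙 _)
  haveI : IsIso fst := sq.isIso_fst_of_isIso
  exact ⟨W, BasedFunctor.comp (ofOverCat W) (BasedFunctor.comp (ofSpMap fst)
    (BasedFunctor.comp e (_root_.FibCat.fpSnd x f))), hW, repByAlgSpWith_equiv_comp _ (isEquivOver_ofOverCat W)
      (repByAlgSpWith_equiv_comp _ (isEquivOver_ofSpMap fst)
        (repByAlgSpWith_equiv_comp e he (repByAlgSpWith_fpSnd f hx)))⟩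

/-- The quotient of an affine scheme by a finite locally free kernel pair is affine. -/
theorem exists_affine_iso {F : AlgSp.Sp S} (hF : AlgSp.IsAlgSpace F) {U : Over S} [IsAffine U.left]
    (a : (AlgSp.yon S).obj U ⟶ F) (hfin : AlgSp.IsFiniteMor a) (hfl : AlgSp.LocP @Flat a)
    (hfp : AlgSp.LocP @LocallyOfFinitePresentation a) (hs : AlgSp.IsSurjectiveMor a) :
    ∃ (T : Over S), IsAffine T.left ∧ Nonempty ((AlgSp.yon S).obj T ≅ F) := by
  have hfin' : AlgSp.RepWith @IsFinite a := GrothLib.AlgSp.isFiniteMor_iff.1 hfin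
  have rfl' : AlgSp.RepWith @Flat a :=
    GrothLib.AlgSp.EtLocal.repWith_of_locP GrothLib.AlgSp.EtLocal.flat hF hfin'.1 hfl
  have rfp : AlgSp.RepWith @LocallyOfFinitePresentation a :=
    GrothLib.AlgSp.EtLocal.repWith_of_locP GrothLib.AlgSp.EtLocal.lfp hF hfin'.1 hfp
  have rs : AlgSp.RepWith @Surjective a := (GrothLib.AlgSp.repWith_surjective_iff hfin'.1).2 hs
  obtain ⟨R, s, fst, sq, hR, -⟩ := hfin (Z := U) inferInstance a
  obtain ⟨t, rfl⟩ := (AlgSp.yon S).map_surjective fst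
  haveI : IsFinite s.left := hfin'.2 a _ s sq
  haveI : IsFinite t.left := hfin'.2 a _ t sq.flip
  haveI : Flat s.left := rfl'.2 a _ s sq
  haveI : Flat t.left := rfl'.2 a _ t sq.flip
  haveI : LocallyOfFinitePresentation s.left := rfp.2 a _ s sq
  haveI : LocallyOfFinitePresentation t.left := rfp.2 a _ t sq.flip
  let G := GrothLib.AlgSp.kerGrpd sq
  haveI : IsAffine G.U := ‹IsAffine U.left›
  haveI : IsAffine G.R := hR
  haveI : IsFinite G.s := ‹IsFinite s.left›
  haveI : IsFinite G.t := ‹IsFinite t.left›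
  haveI : Flat G.s := ‹Flat s.left›
  haveI : Flat G.t := ‹Flat t.left›
  haveI : LocallyOfFinitePresentation G.s := ‹LocallyOfFinitePresentation s.left›
  haveI : LocallyOfFinitePresentation G.t := ‹LocallyOfFinitePresentation t.left›
  haveI : Mono G.j := GrothLib.GrpdQuot.mono_j_of_ext G fun _ _ h₁ h₂ => GrothLib.AlgSp.ker_ext sq h₁ h₂
  obtain ⟨⟨hqfin, hqfl, hqfp⟩, φ, hφ₁, hφ₂⟩ := GrothLib.GrpdQuot.finite_flat_toQuot G
  obtain ⟨m, ⟨hm, -⟩, -⟩ := Groth.Agent.S7488.result S G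
  let M : Over S := Over.mk m
  let q : U ⟶ M := Over.homMk G.toQuot hm
  haveI : Surjective q.left := ⟨GrothLib.GrpdQuot.surjective_toQuot G⟩
  haveI := GrothLib.AlgSp.isLocallySurjective_yon_map q hqfl hqfp inferInstance
  haveI : Sheaf.IsLocallySurjective a := GrothLib.AlgSp.isLocallySurjective_of_repWith rfl' rfp rs
  have hpb : IsPullback G.t G.s G.toQuot G.toQuot :=
    IsPullback.of_iso (IsPullback.of_hasPullback G.toQuot G.toQuot) φ.symm (Iso.refl _) (Iso.refl _) (Iso.refl _)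
      (by simp [← hφ₁]) (by simp [← hφ₂]) (by simp) (by simp)
  have hpb' : IsPullback t s q q := IsPullback.of_map (Over.forget S) (Over.OverMorphism.ext hpb.w) hpb
  obtain ⟨e, -⟩ := GrothLib.AlgSp.exists_iso_of_kernelPair ((AlgSp.yon S).map q) a
    (GrothLib.AlgSp.isPullback_yon hpb') sq
  exact ⟨M, inferInstanceAs (IsAffine (Spec (CommRingCat.of G.invariants))), ⟨e⟩⟩

/-- A well-nigh affine space is an affine scheme. -/
theorem exists_affine_equivOver {𝒳 : _root_.AlgSt.Cat S} (hw : IsWellNighAffine 𝒳) (hsp : RepByAlgSp 𝒳) :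
    ∃ (U : Over S) (e : ofSch U ⥤ᵇ 𝒳), IsAffine U.left ∧ _root_.FibCat.IsEquivOver e := by
  obtain ⟨U, x, hU, hx⟩ := hw
  haveI := hU
  obtain ⟨F, e, he⟩ := hsp
  obtain ⟨e', he', -, -⟩ := IsEquivOver.symm he
  let a := spHom (BasedFunctor.comp (BasedFunctor.comp (toOverCat U) x) e')
  have ha : RepByAlgSpWith (P4 S) (ofSpMap a) :=
    repByAlgSpWith_of_iso (isoOfSpHom _)
      (repByAlgSpWith_comp_equiv e' he' (repByAlgSpWith_equiv_comp _ (isEquivOver_toOverCat U) hx))
  have get : ∀ {Q : MorphismProperty (AlgSp.Sp S)}, IsoInvariant Q → DetectedBySchemes Q → P4 S ≤ Q → Q a :=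
    fun {Q} hi hd hle => mem_of_repByAlgSpWith_ofSpMap hi hd (AlgSp.IsAlgSpace.yon_obj U) F.property a
      (repByAlgSpWith_mono (fun _ _ b _ _ hb => hle _ hb) ha)
  obtain ⟨T, hT, ⟨i⟩⟩ := exists_affine_iso F.property a
    (get compStable_isFiniteMor.iso compStable_isFiniteMor.detected fun _ _ _ h => h.1.2)
    (get isoInvariant_locP (detectedBySchemes_locP fun _ _ t (_ : Etale t) => inferInstance) fun _ _ _ h => h.1.1.2)
    (get isoInvariant_locP (detectedBySchemes_locP fun _ _ t (_ : Etale t) => inferInstance) fun _ _ _ h => h.2)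
    (get isoInvariant_surjective detectedBySchemes_surjective fun _ _ _ h => h.1.1.1)
  exact ⟨T, BasedFunctor.comp (ofSpMap i.hom) e, hT, IsEquivOver.comp (isEquivOver_ofSpMap i.hom) he⟩

end GrothLib.AlgSt.WellNigh
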