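import Groth.Agent.Lib.AlgSt.WellNigh
import Groth.Agent.Lib.AlgSt.GenericIsom
import Groth.Agent.Lib.AlgSt.Graph
import Groth.Agent.Lib.AlgSt.DiagFpMap
import Groth.Agent.Lib.AlgSt.SepComp
import Groth.Agent.Lib.AlgSt.DiagLFT
import Groth.Agent.Lib.AlgSp.ProperUnion
import Groth.Agent.Lib.AlgSp.ThickGlobal

/-!
# Well-nigh affine stacks are quasi-compact, quasi-DM and separated
-/

set_option autoImplicit false
set_option linter.style.haveILetI false
set_option backward.isDefEq.respectTransparency false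
set_option backward.isDefEq.respectTransparency.types false

universe u

open CategoryTheory CategoryTheory.Limits AlgebraicGeometry Opposite Topology

namespace GrothLib.AlgSt.WellNigh

open _root_.AlgSt GrothLib.FibCat GrothLib.GenIsom

/-- Local quasi-finiteness descends along open surjections of the source. -/
theorem locallyQuasiFinite_of_comp_open {P W Y : Scheme.{u}} (p : P ⟶ W) (g : W ⟶ Y) [LocallyOfFiniteType g]
    [Flat p] [LocallyOfFinitePresentation p] [Surjective p] (h : LocallyQuasiFinite (p ≫ g)) :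
    LocallyQuasiFinite g := by
  rw [locallyQuasiFinite_iff_isDiscrete_preimage_singleton]
  intro y
  have hd : _root_.IsDiscrete ((p ≫ g) ⁻¹' {y}) := (p ≫ g).isDiscrete_preimage_singleton y
  rw [isDiscrete_iff_forall_mem_exists_isOpen] at hd ⊢
  intro w hw
  obtain ⟨w', rfl⟩ := p.surjective w
  obtain ⟨V, hV, hV'⟩ := hd w' (by simpa using hw)
  refine ⟨p '' V, p.isOpenMap _ hV, Set.ext fun z => ⟨?_, ?_⟩⟩
  · rintro ⟨⟨v, hv, rfl⟩, hz⟩
    have : v ∈ V ∩ (p ≫ g) ⁻¹' {y} := ⟨hv, by simpa using hz⟩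
    rw [hV'] at this
    exact congrArg p this
  · rintro rfl
    refine ⟨⟨w', ?_, rfl⟩, hw⟩
    exact (hV'.symm.subset (Set.mem_singleton w')).1

variable {S : Scheme.{u}}

/-- A cover of the base change of a functor along which it becomes a composite. -/
theorem exists_cover_of_comp {𝒳 𝒴 𝒵 : _root_.AlgSt.Cat S} (h𝒳 : _root_.FibCat.IsFibGrpd 𝒳.p)
    (h𝒴 : _root_.FibCat.IsFibGrpd 𝒴.p) {P Q : MorphismProperty (AlgSp.Sp S)} (hP : IsoInvariant P)
    (hdet : DetectedBySchemes P) (hQ : IsoInvariant Q) (f : 𝒳 ⥤ᵇ 𝒴) (g : 𝒴 ⥤ᵇ 𝒵) (hf : RepByAlgSpWith P f)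
    (hfg : RepByAlgSpWith Q (BasedFunctor.comp f g)) {U : Over S} (z : _root_.FibCat.overCat U ⥤ᵇ 𝒵)
    (F₁ : AlgSp.Space S) (e₁ : ofSp F₁.obj ⥤ᵇ _root_.FibCat.fp z g) (he₁ : _root_.FibCat.IsEquivOver e₁) :
    ∃ (F₂ : AlgSp.Space S) (q : F₂.obj ⟶ F₁.obj),
      P q ∧ Q (q ≫ spMapOfOver (BasedFunctor.comp e₁ (_root_.FibCat.fpFst z g))) := by
  obtain ⟨F₂, e₂, he₂⟩ := repByAlgSp_fp_of_repByAlgSp1 h𝒳 h𝒴 f (_root_.FibCat.fpSnd z g)
    (repByAlgSp1_of_repByAlgSpWith hf) ⟨F₁, e₁, he₁⟩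
  obtain ⟨e₁', he₁', -, ⟨ε⟩⟩ := IsEquivOver.symm he₁
  let Φ := BasedFunctor.comp (BasedFunctor.comp e₂ (_root_.FibCat.fpFst (_root_.FibCat.fpSnd z g) f)) e₁'
  let iG : BasedFunctor.comp e₂ (_root_.FibCat.fpFst (_root_.FibCat.fpSnd z g) f) ≅
      BasedFunctor.comp (ofSpMap (spHom Φ)) e₁ :=
    (whiskerLeftIso (BasedFunctor.comp e₂ (_root_.FibCat.fpFst (_root_.FibCat.fpSnd z g) f)) ε).symm ≪≫
      whiskerRightIso (isoOfSpHom Φ) e₁
  have hb : P (spHom Φ) := mem_of_repByAlgSpWith hdet hP hf _ F₁ e₁ he₁ F₂ e₂ he₂ _ iG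
  have h := HasRep.mem (hfg U z) hQ F₂ (BasedFunctor.comp e₂ (Fp.pasteComp f g z))
    (IsEquivOver.comp he₂ (Fp.isEquivOver_pasteComp f g z))
  refine ⟨F₂, spHom Φ, hb, ?_⟩
  have eq : spMapOfOver (BasedFunctor.comp (BasedFunctor.comp e₂ (Fp.pasteComp f g z))
      (_root_.FibCat.fpFst z (BasedFunctor.comp f g))) =
      spHom Φ ≫ spMapOfOver (BasedFunctor.comp e₁ (_root_.FibCat.fpFst z g)) := by
    have h1 := spMapOfOver_congr (whiskerRightIso iG (_root_.FibCat.fpFst z g))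
    have h2 := spMapOfOver_comp (ofSpMap (spHom Φ)) (BasedFunctor.comp e₁ (_root_.FibCat.fpFst z g))
    rw [spHom_ofSpMap] at h2
    exact h1.trans h2
  exact eq ▸ h

/-- The diagonal of an affine scheme over the base is finite. -/
theorem repByAlgSpWith_isFiniteMor_diag_overCat (B : Over S) [IsAffine B.left] :
    RepByAlgSpWith AlgSp.IsFiniteMor (_root_.FibCat.diag (_root_.FibCat.toSelf (_root_.FibCat.overCat B))) := by
  let T₁ : Over S := Over.mk (𝟙 S)
  let c : B ⟶ T₁ := Over.homMk B.hom (Category.comp_id _)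
  let π := _root_.AlgSt.overMap c
  let t := _root_.FibCat.toSelf (_root_.FibCat.overCat B)
  let t₁ := _root_.FibCat.toSelf (_root_.FibCat.overCat T₁)
  have : t₁.toFunctor.Faithful := ⟨fun {a b φ ψ} h => Over.OverMorphism.ext h⟩
  have : t₁.toFunctor.Full := ⟨fun {a b} ψ => ⟨Over.homMk ψ (Over.mkIdTerminal.hom_ext _ _), rfl⟩⟩
  have hπ : RepByAlgSpWith AlgSp.IsFiniteMor (_root_.FibCat.diag π) := by
    refine (repByAlgSpWith_diag_iff_of_rep π (toOverCat B) (isEquivOver_toOverCat B)).2 ?_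
    have ea : spMapOfOver (BasedFunctor.comp (toOverCat B) π) = (AlgSp.yon S).map c := spMapOfOver_overMap c
    rw [ea, repByAlgSpWith_diag_ofSpMap_iff]
    have hqs : AlgSp.RepWith @IsFinite (pullback.diagonal ((AlgSp.yon S).map c)) := by
      have sq0 := IsPullback.of_hasPullback c c
      have sq1 := GrothLib.AlgSp.isPullback_yon sq0
      have hd : pullback.diagonal ((AlgSp.yon S).map c) =
          (AlgSp.yon S).map (pullback.diagonal c) ≫ sq1.isoPullback.hom := by
        apply pullback.hom_ext <;>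
          simp only [Category.assoc, IsPullback.isoPullback_hom_fst, IsPullback.isoPullback_hom_snd,
            pullback.diagonal_fst, pullback.diagonal_snd, ← Functor.map_comp] <;>
          exact ((AlgSp.yon S).map_id _).symm
      rw [hd]
      refine GrothLib.AlgSp.repWith_comp ((AlgSp.repWith_yon_map_iff @IsFinite _).2 ?_)
        (GrothLib.AlgSp.repWith_iso _)
      have sqL : IsPullback (pullback.fst c c).left (pullback.snd c c).left c.left c.left :=
        GrothLib.AlgSp.isPullback_left sq0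
      have e : (pullback.diagonal c).left ≫ sqL.isoPullback.hom = pullback.diagonal c.left := by
        apply pullback.hom_ext <;>
          simp only [Category.assoc, IsPullback.isoPullback_hom_fst, IsPullback.isoPullback_hom_snd,
            pullback.diagonal_fst, pullback.diagonal_snd, ← Over.comp_left, Over.id_left]
      have hq : IsFinite (pullback.diagonal c.left) := by
        have : IsSeparated c.left := inferInstance
        infer_instance
      rw [← e] at hq
      exact (MorphismProperty.cancel_right_of_respectsIso @IsFinite _ sqL.isoPullback.hom).1 hq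
    exact repByAlgSpWith_ofSpMap (AlgSp.IsAlgSpace.yon_obj B)
      (GrothLib.AlgSp.isAlgSpace_pullback' (AlgSp.IsAlgSpace.yon_obj T₁) (AlgSp.IsAlgSpace.yon_obj B)
        (AlgSp.IsAlgSpace.yon_obj B) _ _) _ fun U d =>
      GrothLib.AlgSp.isFiniteMor_iff.2
        (GrothLib.AlgSp.repWith_of_isPullback (IsPullback.of_hasPullback d _).flip hqs)
  let M := Fp.map (F := π) (G := π) (F' := t) (G' := t) (BasedFunctor.id _) (BasedFunctor.id _) t₁
    (isoSelf (BasedFunctor.comp (BasedFunctor.id _) t) (BasedFunctor.comp π t₁))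
    (isoSelf (BasedFunctor.comp (BasedFunctor.id _) t) (BasedFunctor.comp π t₁))
  exact (repByAlgSpWith_iff_of_square (f := _root_.FibCat.diag t) (f' := _root_.FibCat.diag π) (BasedFunctor.id _) M
    (IsEquivOver.refl _) (Fp.isEquivOver_map _ _ _ _ _ (IsEquivOver.refl _) (IsEquivOver.refl _))
    (isoFpSelf (Iso.refl _) (Iso.refl _))).2 hπ

variable {𝒳 : _root_.AlgSt.Cat S}

/-- The composite of a finite chart with the diagonal is finite. -/
theorem repByAlgSpWith_chart_comp_diag (h𝒳 : IsAlgStack Scheme.fppfPrecoverage 𝒳) {U : Over S} [IsAffine U.left]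
    (x : _root_.FibCat.overCat U ⥤ᵇ 𝒳) (hx : RepByAlgSpWith AlgSp.IsFiniteMor x) :
    RepByAlgSpWith AlgSp.IsFiniteMor (BasedFunctor.comp x (_root_.FibCat.diag (_root_.FibCat.toSelf 𝒳))) := by
  let t := _root_.FibCat.toSelf 𝒳
  let s := BasedFunctor.comp x t
  let L := fpMapLeft x t s
  let R := fpMapRight x t t
  have gU := isFibGrpd_overCat U
  have gX := h𝒳.isStack.1
  have gS := isFibGrpd_selfOver (C := Over S)
  have hD : RepByAlgSpWith AlgSp.IsFiniteMor (_root_.FibCat.diag s) :=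
    (repByAlgSpWith_diag_of_equiv (BasedFunctor.id _) (IsEquivOver.refl _)
      (isoSelf (BasedFunctor.comp (BasedFunctor.id _) (_root_.FibCat.toSelf (_root_.FibCat.overCat U))) s)).1
      (repByAlgSpWith_isFiniteMor_diag_overCat U)
  have hL : RepByAlgSpWith AlgSp.IsFiniteMor L := repByAlgSpWith_fpMapLeft x t s hx
  have hR : RepByAlgSpWith AlgSp.IsFiniteMor R := repByAlgSpWith_fpMapRight x t t hx
  have hc := compStable_isFiniteMor (S := S)
  have h1 := hc.repByAlgSpWith_comp gU (Fp.isFibGrpd gU gU gS) (_root_.FibCat.diag s) L hD hL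
  have h2 := hc.repByAlgSpWith_comp gU (Fp.isFibGrpd gX gU gS) _ R h1 hR
  exact repByAlgSpWith_of_iso (isoFpSelf (Iso.refl _) (Iso.refl _)) h2

/-- A well-nigh affine stack has proper, locally quasi-finite diagonal. -/
theorem repByAlgSpWith_diag (h𝒳 : IsAlgStack Scheme.fppfPrecoverage 𝒳) (hw : IsWellNighAffine 𝒳) :
    RepByAlgSpWith (AlgSp.IsProperMor ⊓ AlgSp.LocP (@LocallyQuasiFinite ⊓ @LocallyOfFiniteType))
      (_root_.FibCat.diag (_root_.FibCat.toSelf 𝒳)) := by
  obtain ⟨U, x, hU, hx⟩ := hw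
  haveI := hU
  have get : ∀ {Q : MorphismProperty (AlgSp.Sp S)}, P4 S ≤ Q → RepByAlgSpWith Q x := fun {Q} hle =>
    repByAlgSpWith_mono (fun _ _ b _ _ hb => hle _ hb) hx
  have hfin : RepByAlgSpWith AlgSp.IsFiniteMor x := get fun _ _ _ h => h.1.2
  have hD := repByAlgSpWith_chart_comp_diag h𝒳 x hfin
  intro T w
  obtain ⟨F, e, he⟩ := h𝒳.diag T w
  let b := spMapOfOver (BasedFunctor.comp e (_root_.FibCat.fpFst w (_root_.FibCat.diag (_root_.FibCat.toSelf 𝒳))))
  refine ⟨F, e, he, ?_⟩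
  have hT : AlgSp.IsAlgSpace ((AlgSp.yon S).obj T) := AlgSp.IsAlgSpace.yon_obj T
  have hbl : AlgSp.LocP @LocallyOfFiniteType b :=
    HasRep.mem (repByAlgSpWith_lft_diag_toSelf h𝒳 T w)
      isoInvariant_locP F e he
  have hiso : IsoInvariant (P4 S) := fun _ _ _ hF hG φ _ a ha =>
    ⟨⟨⟨isoInvariant_surjective hF hG φ a ha.1.1.1, isoInvariant_locP hF hG φ a ha.1.1.2⟩,
      compStable_isFiniteMor.iso hF hG φ a ha.1.2⟩, isoInvariant_locP hF hG φ a ha.2⟩
  have hdet : DetectedBySchemes (P4 S) := fun F₂ F₁ h₂ h₁ c hc =>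
    ⟨⟨⟨detectedBySchemes_surjective h₂ h₁ c fun V p => (hc V p).1.1.1,
      detectedBySchemes_locP (Q := @Flat) (fun _ _ t (_ : Etale t) => inferInstance) h₂ h₁ c fun V p => (hc V p).1.1.2⟩,
      compStable_isFiniteMor.detected h₂ h₁ c fun V p => (hc V p).1.2⟩,
      detectedBySchemes_locP (Q := @LocallyOfFinitePresentation) (fun _ _ t (_ : Etale t) => inferInstance) h₂ h₁ c fun V p => (hc V p).2⟩
  obtain ⟨F₂, q, hq, hqb⟩ := exists_cover_of_comp (isFibGrpd_overCat U) h𝒳.isStack.1 hiso hdet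
    compStable_isFiniteMor.iso x _ hx hD w F e he
  have hqb' : AlgSp.RepWith @IsFinite (q ≫ b) := GrothLib.AlgSp.isFiniteMor_iff.1 hqb
  have hq' : AlgSp.RepWith @IsFinite q := GrothLib.AlgSp.isFiniteMor_iff.1 hq.1.2
  refine ⟨?_, ?_⟩
  · exact GrothLib.AlgSp.isProperMor_of_family (ι := PUnit.{1}) F.property hT (fun _ => F₂.property)
      (fun _ => q) (fun p => ⟨PUnit.unit, hq.1.1.1 p⟩)
      (fun _ => (GrothLib.AlgSp.isProperMor_of_finite F.property hq').2.2) hbl
      (fun _ => GrothLib.AlgSp.isProperMor_of_finite hT hqb')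
  · obtain ⟨V, a, ae, as⟩ := F.property.atlas
    obtain ⟨g, hg⟩ := (AlgSp.yon S).map_surjective (a ≫ b)
    obtain ⟨W, l, r, sqW⟩ := GrothLib.AlgSp.exists_isPullback_of_representable hq'.1 a
    obtain ⟨W', p, r', sqp⟩ : ∃ (W' : Over S) (p : W' ⟶ V) (r' : (AlgSp.yon S).obj W' ⟶ F₂.obj),
        IsPullback r' ((AlgSp.yon S).map p) q a := ⟨W, r, l, sqW⟩
    haveI : Flat p.left := (GrothLib.AlgSp.EtLocal.repWith_of_locP GrothLib.AlgSp.EtLocal.flat F.property hq'.1
      hq.1.1.2).2 a r' p sqp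
    haveI : LocallyOfFinitePresentation p.left := (GrothLib.AlgSp.EtLocal.repWith_of_locP
      GrothLib.AlgSp.EtLocal.lfp F.property hq'.1 hq.2).2 a r' p sqp
    haveI : Surjective p.left := ((GrothLib.AlgSp.repWith_surjective_iff hq'.1).2 hq.1.1.1).2 a r' p sqp
    have re : AlgSp.RepWith @Etale r' := GrothLib.AlgSp.repWith_of_isPullback sqp.flip ae
    have hl : AlgSp.LocP (@LocallyQuasiFinite ⊓ @LocallyOfFiniteType) (q ≫ b) :=
      GrothLib.AlgSp.EtLocal.locP_of_repWith (GrothLib.AlgSp.EtLocal.lqf.inf GrothLib.AlgSp.EtLocal.lft) hT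
        (GrothLib.AlgSp.repWith_mono hqb' fun _ _ t (_ : IsFinite t) => ⟨inferInstance, inferInstance⟩)
    have hpg : LocallyQuasiFinite (p.left ≫ g.left) := by
      have := (hl r' (𝟙 _) (p ≫ g) re (AlgSp.repWith_id _ T) (by
        rw [Category.comp_id, Functor.map_comp, hg, reassoc_of% sqp.w])).1
      rwa [Over.comp_left] at this
    haveI : LocallyOfFiniteType g.left := hbl a (𝟙 _) g ae (AlgSp.repWith_id _ T) (by rw [Category.comp_id, hg])
    exact GrothLib.AlgSp.EtLocal.locP_of_chart (GrothLib.AlgSp.EtLocal.lqf.inf GrothLib.AlgSp.EtLocal.lft) ae as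
      (AlgSp.repWith_id _ T) (h := g) (by rw [Category.comp_id, hg])
      ⟨locallyQuasiFinite_of_comp_open p.left g.left hpg, inferInstance⟩

/-- Well-nigh affine stacks are quasi-compact, quasi-DM and separated. -/
theorem isQuasiCompact_isQuasiDMOver_isSeparatedOver (h𝒳 : IsAlgStack Scheme.fppfPrecoverage 𝒳)
    (hw : IsWellNighAffine 𝒳) : IsQuasiCompact 𝒳 ∧ IsQuasiDMOver 𝒳 ∧ IsSeparatedOver 𝒳 := by
  have hd := repByAlgSpWith_diag h𝒳 hw
  refine ⟨?_, repByAlgSpWith_mono (fun _ _ b _ _ hb => hb.2) hd,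
    repByAlgSpWith_mono (fun _ _ b _ _ hb => hb.1) hd⟩
  obtain ⟨U, x, hU, hx⟩ := hw
  haveI := hU
  have hA : IsAlgStack Scheme.fppfPrecoverage (_root_.FibCat.overCat U) :=
    (isDM_of_repByAlgSp (repByAlgSp_overCat U)).1
  let c := Points.ofChart (BasedFunctor.id (_root_.FibCat.overCat U))
  have hc : Function.Surjective c := fun p =>
    ⟨pointOf p, (pointOf_bijective U).1 (pointOf_ofChart_id _)⟩
  haveI : CompactSpace (Points (_root_.FibCat.overCat U)) :=
    hc.compactSpace (continuous_ofChart hA.isStack.1 hA.atlas _)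
  refine isQuasiCompact_of_surjective_continuous h𝒳 x (continuous_points_map hA h𝒳 x) ?_
  exact (isSurjective_iff_repByAlgSpWith hA.isStack.1 h𝒳.isStack.1 x
    (repByAlgSp1_of_repByAlgSpWith hx)).2 (repByAlgSpWith_mono (fun _ _ b _ _ hb => hb.1.1.1) hx)

end GrothLib.AlgSt.WellNigh
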